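import Mathlib
import Cfsg.Agent.S0120
import Cfsg.Agent.S5185

/-!
# Inversion automorphisms (helper86)

* `comm_of_aut_inverts_omega`: a finite `p`-group (`p` odd) with an automorphism inverting every element of order dividing
  `p` is abelian.
* `inv_mem_of_two_subgroups`: a group of automorphisms of `C_p × C_p` containing two elements of `p`-power order generating
  different nontrivial cyclic subgroups contains the inversion.
-/

set_option autoImplicit false

namespace Cfsg.Agent.Helper86

open Matrix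

section fpf

variable {P : Type*} [Group P]

/-- A finite `p`-group (`p` odd) with an automorphism inverting every element `x` with `x ^ p = 1` is abelian. -/
theorem comm_of_aut_inverts_omega [Finite P] {p : ℕ} [hp : Fact p.Prime] (hp2 : p ≠ 2) (hP : IsPGroup p P)
    (σ : MulAut P) (hσ : ∀ x : P, x ^ p = 1 → σ x = x⁻¹) : ∀ x y : P, x * y = y * x := by
  haveI : Finite (MulAut P) := MulEquiv.finite_left
  have ho : orderOf σ ≠ 0 := (orderOf_pos σ).ne'
  obtain ⟨e, r, hr, hor⟩ := Nat.exists_eq_pow_mul_and_not_dvd ho p hp.out.ne_one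
  set τ := σ ^ p ^ e with hτ
  have hτr : τ ^ r = 1 := by rw [hτ, ← pow_mul, ← hor, pow_orderOf_eq_one]
  have hcop : r.Coprime p := ((Nat.Prime.coprime_iff_not_dvd hp.out).2 hr).symm
  have hodd : Odd (p ^ e) := (hp.out.odd_of_ne_two hp2).pow
  -- `σ ^ 2` fixes the elements of order `p`
  have h2 : ∀ x : P, x ^ p = 1 → (σ ^ 2) x = x := by
    intro x hx
    rw [pow_two, MulAut.mul_apply, hσ x hx, map_inv, hσ x hx, inv_inv]
  have h2j : ∀ (j : ℕ) (x : P), x ^ p = 1 → ((σ ^ 2) ^ j) x = x := by
    intro j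
    induction j with
    | zero => intro x _; simp
    | succ j ih =>
      intro x hx
      rw [pow_succ', MulAut.mul_apply, ih x hx, h2 x hx]
  have hτinv : ∀ x : P, x ^ p = 1 → τ x = x⁻¹ := by
    intro x hx
    obtain ⟨j, hj⟩ := hodd
    rw [hτ, hj, pow_succ', pow_mul, MulAut.mul_apply, h2j j x hx, hσ x hx]
  -- `τ ^ 2 = 1`
  have hτ2 : τ ^ 2 = 1 := by
    apply Cfsg.Agent.S0120.result hp2 hP
    · have h1 : (τ ^ 2) ^ r = 1 := by rw [← pow_mul, mul_comm, pow_mul, hτr, one_pow]
      exact Nat.Coprime.coprime_dvd_left (orderOf_dvd_of_pow_eq_one h1) hcop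
    · intro x hx
      rw [pow_two, MulAut.mul_apply, hτinv x hx, map_inv, hτinv x hx, inv_inv]
  -- `τ` has no nontrivial fixed points
  have hfix : ∀ x : P, τ x = x → x = 1 := by
    intro x hx
    by_contra hx1
    obtain ⟨j, hj⟩ := (IsPGroup.iff_orderOf.mp hP) x
    have hj0 : j ≠ 0 := by
      intro h0
      rw [h0, pow_zero, orderOf_eq_one_iff] at hj
      exact hx1 hj
    obtain ⟨j', rfl⟩ := Nat.exists_eq_succ_of_ne_zero hj0
    set y := x ^ p ^ j' with hy
    have hyp : y ^ p = 1 := by
      rw [hy, ← pow_mul, ← pow_succ, ← hj, pow_orderOf_eq_one]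
    have hy1 : y ≠ 1 := by
      rw [hy]
      apply pow_ne_one_of_lt_orderOf (pow_ne_zero _ hp.out.ne_zero)
      rw [hj]
      exact Nat.pow_lt_pow_right hp.out.one_lt (Nat.lt_succ_self j')
    have hτy : τ y = y := by rw [hy, map_pow, hx]
    have hyy : y = y⁻¹ := by rw [← hτinv y hyp, hτy]
    have hy2 : y ^ 2 = 1 := by
      rw [pow_two]
      nth_rewrite 2 [hyy]
      exact mul_inv_cancel y
    have hd1 : orderOf y ∣ 2 := orderOf_dvd_of_pow_eq_one hy2
    have hd2 : orderOf y ∣ p := orderOf_dvd_of_pow_eq_one hyp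
    have hc : Nat.Coprime 2 p := ((Nat.coprime_primes Nat.prime_two hp.out).mpr (Ne.symm hp2))
    exact hy1 (orderOf_eq_one_iff.mp (Nat.eq_one_of_dvd_coprimes hc hd1 hd2))
  -- every element has the form `x⁻¹ τ(x)`
  have hinj : Function.Injective (fun x : P => x⁻¹ * τ x) := by
    intro x y hxy
    have hxy' : x⁻¹ * τ x = y⁻¹ * τ y := hxy
    have h1 : τ (x * y⁻¹) = x * y⁻¹ := by
      rw [map_mul, map_inv]
      have e1 : τ x = x * (y⁻¹ * τ y) := by rw [← hxy']; group
      rw [e1]
      group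
    have := hfix _ h1
    exact mul_inv_eq_one.mp this
  have hsurj := Finite.injective_iff_surjective.mp hinj
  have hall : ∀ g : P, τ g = g⁻¹ := by
    intro g
    obtain ⟨x, rfl⟩ := hsurj g
    show τ (x⁻¹ * τ x) = (x⁻¹ * τ x)⁻¹
    have h22 : τ (τ x) = x := by
      have := congrArg (fun α : MulAut P => α x) hτ2
      simpa [pow_two, MulAut.mul_apply] using this
    rw [map_mul, map_inv, h22, _root_.mul_inv_rev, inv_inv]
  intro x y
  have h1 := hall (x * y)
  rw [map_mul, hall x, hall y] at h1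
  have h2 := congrArg (fun z => z⁻¹) h1
  simp only [_root_.mul_inv_rev, inv_inv] at h2
  exact h2.symm

end fpf

section inversion

/-- Inversion as an automorphism of a group with a proof of commutativity. -/
def invAut {V : Type*} [Group V] (hcomm : ∀ a b : V, a * b = b * a) : MulAut V where
  toFun x := x⁻¹
  invFun x := x⁻¹
  left_inv x := inv_inv x
  right_inv x := inv_inv x
  map_mul' x y := by rw [_root_.mul_inv_rev, hcomm]

@[simp] theorem invAut_apply {V : Type*} [Group V] (hcomm : ∀ a b : V, a * b = b * a) (x : V) :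
    invAut hcomm x = x⁻¹ := rfl

/-- The embedding of `Aut(C_p × C_p)` into `GL₂(𝔽_p)` sending inversion to `-1`; version with the module structure as
an instance. -/
theorem exists_embedding_GL2_inv_aux {A : Type*} [CommGroup A] [Finite A] (p : ℕ) [hp : Fact p.Prime]
    [Module (ZMod p) (Additive A)] (hcard : Nat.card A = p ^ 2) :
    ∃ Θ : MulAut A →* GL (Fin 2) (ZMod p), Function.Injective Θ ∧
      ((Θ (MulEquiv.inv A) : GL (Fin 2) (ZMod p)) : Matrix (Fin 2) (Fin 2) (ZMod p)) = -1 := by
  classical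
  have : Finite (Additive A) := inferInstanceAs (Finite A)
  have : Module.Finite (ZMod p) (Additive A) := Module.Finite.of_finite
  have hfin : Module.finrank (ZMod p) (Additive A) = 2 := by
    have h1 : Nat.card (Additive A) = Nat.card (ZMod p) ^ Module.finrank (ZMod p) (Additive A) :=
      Module.natCard_eq_pow_finrank (K := ZMod p) (V := Additive A)
    have h2 : Nat.card (Additive A) = p ^ 2 := hcard
    rw [h2, Nat.card_eq_fintype_card, ZMod.card] at h1
    exact (Nat.pow_right_injective hp.out.two_le h1).symm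
  let b : Module.Basis (Fin 2) (ZMod p) (Additive A) :=
    Module.finBasisOfFinrankEq (ZMod p) (Additive A) hfin
  let f1 : MulAut A →* Module.End (ZMod p) (Additive A) :=
    { toFun := fun α => (MulEquiv.toAdditive α : Additive A ≃+ Additive A).toAddMonoidHom.toZModLinearMap p
      map_one' := LinearMap.ext fun x => rfl
      map_mul' := fun α β => LinearMap.ext fun x => rfl }
  have hf1 : Function.Injective f1 := by
    intro α β h
    ext a
    exact LinearMap.congr_fun h (Additive.ofMul a)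
  let f2 : MulAut A →* (Module.End (ZMod p) (Additive A))ˣ := f1.toHomUnits
  have hf2 : Function.Injective f2 := by
    intro α β h
    apply hf1
    have := congrArg Units.val h
    simpa [f2] using this
  let e3 : (Module.End (ZMod p) (Additive A))ˣ ≃* (Matrix (Fin 2) (Fin 2) (ZMod p))ˣ :=
    Units.mapEquiv (LinearMap.toMatrixAlgEquiv b).toMulEquiv
  refine ⟨e3.toMonoidHom.comp f2, e3.injective.comp hf2, ?_⟩
  have hinv : f1 (MulEquiv.inv A) = -1 := by
    apply LinearMap.ext
    intro x
    rfl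
  show (LinearMap.toMatrixAlgEquiv b) (f1 (MulEquiv.inv A)) = -1
  rw [hinv, map_neg, map_one]

theorem exists_embedding_GL2_inv {A : Type*} [CommGroup A] [Finite A] (p : ℕ) [hp : Fact p.Prime]
    (hexp : ∀ a : A, a ^ p = 1) (hcard : Nat.card A = p ^ 2) :
    ∃ Θ : MulAut A →* GL (Fin 2) (ZMod p), Function.Injective Θ ∧
      ((Θ (MulEquiv.inv A) : GL (Fin 2) (ZMod p)) : Matrix (Fin 2) (Fin 2) (ZMod p)) = -1 := by
  have hV : ∀ x : Additive A, p • x = 0 := fun x => hexp (Additive.toMul x)
  exact @exists_embedding_GL2_inv_aux A _ _ p hp (AddCommGroup.zmodModule hV) hcard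

open Cfsg.Agent.S5185 in
/-- A group `A` of automorphisms of an elementary abelian group of order `p ^ 2` containing two elements of `p`-power
order that generate different nontrivial cyclic subgroups contains the inversion. -/
theorem inv_mem_of_two_subgroups {V : Type*} [Group V] [Finite V] {p : ℕ} [hp : Fact p.Prime]
    (hcomm : ∀ a b : V, a * b = b * a) (hexp : ∀ a : V, a ^ p = 1) (hcard : Nat.card V = p ^ 2)
    (A : Subgroup (MulAut V)) (t t' : MulAut V) (ht : t ∈ A) (ht' : t' ∈ A) (k : ℕ)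
    (htk : t ^ p ^ k = 1) (ht'k : t' ^ p ^ k = 1) (ht1 : t ≠ 1) (ht'1 : t' ≠ 1)
    (hne : t' ∉ Subgroup.zpowers t) : invAut hcomm ∈ A := by
  classical
  let _ : CommGroup V := { (inferInstance : Group V) with mul_comm := hcomm }
  obtain ⟨Θ, hΘ, hΘinv⟩ := exists_embedding_GL2_inv (A := V) p hexp hcard
  have hpow : ∀ s : MulAut V, s ^ p ^ k = 1 → (Θ s) ^ p = 1 := by
    intro s hs
    have h1 : (Θ s) ^ p ^ k = 1 := by rw [← map_pow, hs, map_one]
    obtain ⟨j, -, hj⟩ := (Nat.dvd_prime_pow hp.out).1 (orderOf_dvd_of_pow_eq_one h1)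
    have hjle : j ≤ 1 := by
      by_contra hcon
      push Not at hcon
      apply not_sq_dvd_card_GL2 p
      have h2 : p ^ 2 ∣ p ^ j := pow_dvd_pow p hcon
      rw [← hj] at h2
      exact h2.trans (orderOf_dvd_natCard _)
    have : orderOf (Θ s) ∣ p := by
      rw [hj]
      exact (pow_dvd_pow p hjle).trans (by rw [pow_one])
    exact orderOf_dvd_iff_pow_eq_one.mp this
  have hg1 : Θ t ≠ 1 := fun h => ht1 (hΘ (by rw [h, map_one]))
  have hg2 : Θ t' ≠ 1 := fun h => ht'1 (hΘ (by rw [h, map_one]))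
  have hg : Θ t' ∉ Subgroup.zpowers (Θ t) := by
    rintro ⟨i, hi⟩
    apply hne
    refine ⟨i, ?_⟩
    apply hΘ
    rw [map_zpow]
    exact hi
  obtain ⟨B, a, b, ha, hb, e1, e2⟩ := exists_adapted_basis p (Θ t) (Θ t') (hpow t htk) (hpow t' ht'k) hg1 hg2 hg
  have hle := sl2_le_of_adapted p (A.map Θ) (Θ t) (Θ t') B a b ha hb ⟨t, ht, rfl⟩ ⟨t', ht', rfl⟩ e1 e2
  let M : SpecialLinearGroup (Fin 2) (ZMod p) := ⟨!![-1, 0; 0, -1], by simp [det_fin_two_of]⟩
  obtain ⟨α, hαA, hα⟩ := hle ⟨M, rfl⟩
  have hαinv : α = MulEquiv.inv V := by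
    apply hΘ
    apply Units.ext
    rw [hα, hΘinv]
    show (M : Matrix (Fin 2) (Fin 2) (ZMod p)) = -1
    ext i j
    fin_cases i <;> fin_cases j <;> simp [M]
  have : invAut hcomm = α := by
    rw [hαinv]
    ext x
    rfl
  rw [this]
  exact hαA

end inversion

end Cfsg.Agent.Helper86
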