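import Mathlib
import Cfsg.Agent.Helper24.OddOmega

/-!
# `Ω₁` of a metacyclic `p`-group, `p` odd (helper86)

For a finite `p`-group `P` (`p` odd) with a cyclic normal subgroup `N` and cyclic quotient `P ⧸ N`, the elements of order
dividing `p` form a subgroup of order at most `p ^ 2`.
-/

set_option autoImplicit false

namespace Cfsg.Agent.Helper86

section numtheory

/-- Lifting the exponent, in the form needed: if `p ^ m ∣ k ^ p - 1` with `p` an odd prime and `1 ≤ m`, then `p ∣ k - 1`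
and `p ^ m ∣ p * (k - 1)`. -/
theorem dvd_of_pow_prime_sub_one {p : ℕ} (hp : p.Prime) (hp2 : p ≠ 2) {m : ℕ} (hm : 1 ≤ m) {k : ℤ}
    (h : (p : ℤ) ^ m ∣ k ^ p - 1) : (p : ℤ) ∣ k - 1 ∧ (p : ℤ) ^ m ∣ p * (k - 1) := by
  haveI : Fact p.Prime := ⟨hp⟩
  have hpodd : Odd p := hp.odd_of_ne_two hp2
  have h1 : (p : ℤ) ∣ k ^ p - 1 := (dvd_pow_self (p : ℤ) (by omega : m ≠ 0)).trans h
  have hk1 : (p : ℤ) ∣ k - 1 := by
    have e1 : ((k ^ p - 1 : ℤ) : ZMod p) = 0 := (ZMod.intCast_zmod_eq_zero_iff_dvd _ p).mpr h1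
    have e2 : ((k : ℤ) : ZMod p) ^ p = (k : ZMod p) := ZMod.pow_card _
    rw [← ZMod.intCast_zmod_eq_zero_iff_dvd]
    push_cast at e1 ⊢
    rw [e2] at e1
    exact e1
  refine ⟨hk1, ?_⟩
  have hnk : ¬ (p : ℤ) ∣ k := by
    intro hk
    have : (p : ℤ) ∣ 1 := by
      have := dvd_sub hk hk1
      simpa using this
    have hp1 : (p : ℤ) = 1 ∨ (p : ℤ) = -1 := Int.isUnit_iff.mp (isUnit_of_dvd_one this)
    have := hp.one_lt
    omega
  have hlte := Int.emultiplicity_pow_sub_pow hp hpodd (x := k) (y := 1) (by simpa using hk1) hnk p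
  rw [one_pow] at hlte
  have hpp : emultiplicity p p = 1 := by
    have := hp.emultiplicity_self
    simpa using this
  rw [hpp] at hlte
  rw [pow_dvd_iff_le_emultiplicity] at h ⊢
  have hprime : Prime (p : ℤ) := Nat.prime_iff_prime_int.mp hp
  rw [emultiplicity_mul hprime]
  have hself : emultiplicity (p : ℤ) (p : ℤ) = 1 := by
    have hfin : FiniteMultiplicity (p : ℤ) (p : ℤ) :=
      Int.finiteMultiplicity_iff.mpr ⟨by simpa using hp.ne_one, by exact_mod_cast hp.ne_zero⟩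
    rw [hfin.emultiplicity_eq_multiplicity, multiplicity_self]
    rfl
  rw [hself, add_comm]
  rw [hlte] at h
  exact h

end numtheory

section group

variable {G : Type*} [Group G]

theorem conj_zpow_of_conj {a x : G} {k : ℤ} (hk : x * a * x⁻¹ = a ^ k) (j : ℕ) :
    x ^ j * a * (x ^ j)⁻¹ = a ^ (k ^ j) := by
  induction j with
  | zero => simp
  | succ j ih =>
    have h1 : x ^ (j + 1) * a * (x ^ (j + 1))⁻¹ = x * (x ^ j * a * (x ^ j)⁻¹) * x⁻¹ := by
      rw [pow_succ']; group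
    rw [h1, ih]
    have h2 : x * a ^ (k ^ j) * x⁻¹ = (x * a * x⁻¹) ^ (k ^ j) := by
      have := map_zpow (MulAut.conj x) a (k ^ j)
      simpa [MulAut.conj_apply] using this
    rw [h2, hk, ← zpow_mul, pow_succ']

theorem conj_zpow_eq {a x : G} {k : ℤ} (hk : x * a * x⁻¹ = a ^ k) (i : ℤ) :
    x * a ^ i * x⁻¹ = (a ^ i) ^ k := by
  have h2 : x * a ^ i * x⁻¹ = (x * a * x⁻¹) ^ i := by
    have := map_zpow (MulAut.conj x) a i
    simpa [MulAut.conj_apply] using this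
  rw [h2, hk, ← zpow_mul, ← zpow_mul, mul_comm]

/-- The key fact: if `x` normalizes `⟨a⟩` (`a` a `p`-element, `p` odd) and `x ^ p` centralizes `a`, then `x` acts on
`⟨a⟩` as `n ↦ n ^ k` with `(a ^ (k - 1)) ^ p = 1`, and `p ∣ k - 1` unless `a = 1`. -/
theorem key_conj {p : ℕ} (hp : p.Prime) (hp2 : p ≠ 2) {a x : G} {m : ℕ} (ha : a ^ p ^ m = 1) {k : ℤ}
    (hk : x * a * x⁻¹ = a ^ k) (hx : Commute (x ^ p) a) :
    (a ^ (k - 1)) ^ p = 1 ∧ (a = 1 ∨ (p : ℤ) ∣ k - 1) := by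
  have h1 := conj_zpow_of_conj hk p
  have h2 : x ^ p * a * (x ^ p)⁻¹ = a := by rw [hx.eq, mul_inv_cancel_right]
  rw [h2] at h1
  have h3 : a ^ (k ^ p - 1) = 1 := by
    rw [zpow_sub_one, ← h1, mul_inv_cancel]
  have h4 : (orderOf a : ℤ) ∣ k ^ p - 1 := orderOf_dvd_iff_zpow_eq_one.mpr h3
  obtain ⟨m', -, hm'⟩ := (Nat.dvd_prime_pow hp).1 (orderOf_dvd_of_pow_eq_one ha)
  rcases Nat.eq_zero_or_pos m' with h0 | hpos
  · rw [h0, pow_zero, orderOf_eq_one_iff] at hm'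
    refine ⟨?_, Or.inl hm'⟩
    rw [hm', one_zpow, one_pow]
  · rw [hm'] at h4
    push_cast at h4
    obtain ⟨hd1, hd2⟩ := dvd_of_pow_prime_sub_one hp hp2 hpos h4
    refine ⟨?_, Or.inr hd1⟩
    rw [← zpow_natCast, ← zpow_mul, mul_comm]
    apply orderOf_dvd_iff_zpow_eq_one.mp
    rw [hm']
    push_cast
    exact hd2

end group

section main

theorem card_pow_eq_one_le' {α : Type*} [Group α] [Finite α] [IsCyclic α] {n : ℕ} (hn : 0 < n) :
    Nat.card {a : α // a ^ n = 1} ≤ n := by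
  classical
  haveI : Fintype α := Fintype.ofFinite α
  rw [Nat.card_eq_fintype_card, Fintype.card_subtype]
  exact IsCyclic.card_pow_eq_one_le hn

variable {P : Type*} [Group P]

/-- In a finite `p`-group (`p` odd) with a cyclic normal subgroup `N` and cyclic quotient, the elements `x` with
`x ^ p = 1` form a subgroup of order at most `p ^ 2`. -/
theorem exists_omega_subgroup [Finite P] {p : ℕ} [hp : Fact p.Prime] (hp2 : p ≠ 2) (hP : IsPGroup p P)
    (N : Subgroup P) [hN : N.Normal] (hNc : IsCyclic N) (hQc : IsCyclic (P ⧸ N)) :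
    ∃ W : Subgroup P, (∀ x, x ∈ W ↔ x ^ p = 1) ∧ Nat.card W ≤ p ^ 2 := by
  classical
  obtain ⟨⟨a, haN⟩, hgen⟩ := hNc.exists_generator
  have hNa : ∀ n ∈ N, ∃ i : ℤ, a ^ i = n := by
    intro n hn
    obtain ⟨i, hi⟩ := Subgroup.mem_zpowers_iff.mp (hgen ⟨n, hn⟩)
    exact ⟨i, by simpa using congrArg Subtype.val hi⟩
  obtain ⟨m, ham⟩ := hP a
  have hNcomm : ∀ n₁ ∈ N, ∀ n₂ ∈ N, n₁ * n₂ = n₂ * n₁ := by
    intro n₁ h₁ n₂ h₂
    obtain ⟨i, rfl⟩ := hNa n₁ h₁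
    obtain ⟨j, rfl⟩ := hNa n₂ h₂
    rw [← zpow_add, ← zpow_add, add_comm]
  obtain ⟨g₀bar, hg₀⟩ := hQc.exists_generator
  obtain ⟨g₀, rfl⟩ := QuotientGroup.mk_surjective g₀bar
  have hdecomp : ∀ x : P, ∃ n ∈ N, ∃ j : ℤ, x = n * g₀ ^ j := by
    intro x
    obtain ⟨j, hj⟩ := Subgroup.mem_zpowers_iff.mp (hg₀ (QuotientGroup.mk x))
    refine ⟨x * (g₀ ^ j)⁻¹, ?_, j, by group⟩
    rw [← QuotientGroup.eq_one_iff, QuotientGroup.mk_mul, QuotientGroup.mk_inv, QuotientGroup.mk_zpow, hj,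
      mul_inv_cancel]
  -- the action on `N` of elements whose `p`-th power lies in `N`
  have hK : ∀ x : P, x ^ p ∈ N →
      ∃ k : ℤ, x * a * x⁻¹ = a ^ k ∧ (a ^ (k - 1)) ^ p = 1 ∧ (a = 1 ∨ (p : ℤ) ∣ k - 1) := by
    intro x hx
    obtain ⟨k, hk⟩ := hNa _ (hN.conj_mem a haN x)
    have hc : Commute (x ^ p) a := hNcomm _ hx _ haN
    obtain ⟨h1, h2⟩ := key_conj hp.out hp2 ham hk.symm hc
    exact ⟨k, hk.symm, h1, h2⟩
  have hK2 : ∀ x : P, x ^ p ∈ N → ∀ n ∈ N, n ^ p = 1 → x * n = n * x := by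
    intro x hx n hn hnp
    obtain ⟨k, hk, hk1, hk2⟩ := hK x hx
    obtain ⟨i, rfl⟩ := hNa n hn
    have e1 : x * a ^ i * x⁻¹ = (a ^ i) ^ k := conj_zpow_eq hk i
    have e3 : (a ^ i) ^ (k - 1) = 1 := by
      rcases hk2 with h | ⟨c, hc⟩
      · rw [h, one_zpow, one_zpow]
      · rw [hc, zpow_mul, zpow_natCast, hnp, one_zpow]
    have e4 : x * a ^ i * x⁻¹ = a ^ i := by
      rw [e1]
      have : (a ^ i) ^ k = (a ^ i) ^ (k - 1) * a ^ i := by
        rw [← zpow_add_one, sub_add_cancel]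
      rw [this, e3, one_mul]
    calc x * a ^ i = x * a ^ i * x⁻¹ * x := by group
      _ = a ^ i * x := by rw [e4]
  -- commutators of such elements lie in `Ω₁(N)`
  have hZ : ∀ x y : P, x ^ p ∈ N → y ^ p ∈ N →
      (y * x * y⁻¹ * x⁻¹) ∈ N ∧ (y * x * y⁻¹ * x⁻¹) ^ p = 1 := by
    intro x y hx hy
    obtain ⟨n₁, hn₁, i, rfl⟩ := hdecomp x
    obtain ⟨n₂, hn₂, j, rfl⟩ := hdecomp y
    have hup : (g₀ ^ i) ^ p ∈ N := by
      rw [← QuotientGroup.eq_one_iff] at hx ⊢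
      rw [QuotientGroup.mk_pow] at hx ⊢
      rw [QuotientGroup.mk_mul, (QuotientGroup.eq_one_iff n₁).mpr hn₁, one_mul] at hx
      exact hx
    have hvp : (g₀ ^ j) ^ p ∈ N := by
      rw [← QuotientGroup.eq_one_iff] at hy ⊢
      rw [QuotientGroup.mk_pow] at hy ⊢
      rw [QuotientGroup.mk_mul, (QuotientGroup.eq_one_iff n₂).mpr hn₂, one_mul] at hy
      exact hy
    obtain ⟨ku, hku, hku1, -⟩ := hK _ hup
    obtain ⟨kv, hkv, hkv1, -⟩ := hK _ hvp
    obtain ⟨i₁, rfl⟩ := hNa n₁ hn₁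
    obtain ⟨i₂, rfl⟩ := hNa n₂ hn₂
    set u := g₀ ^ i with hu
    set v := g₀ ^ j with hv
    have huv : u * v = v * u := by rw [hu, hv, ← zpow_add, ← zpow_add, add_comm]
    have huv' : u * v⁻¹ = v⁻¹ * u := by
      calc u * v⁻¹ = v⁻¹ * (v * u) * v⁻¹ := by group
        _ = v⁻¹ * (u * v) * v⁻¹ := by rw [huv]
        _ = v⁻¹ * u := by group
    have ea : v * a ^ i₁ * v⁻¹ = (a ^ i₁) ^ kv := conj_zpow_eq hkv i₁
    have eb : u * a ^ i₂ * u⁻¹ = (a ^ i₂) ^ ku := conj_zpow_eq hku i₂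
    have e1 : a ^ i₂ * v * (a ^ i₁ * u) * (a ^ i₂ * v)⁻¹ * (a ^ i₁ * u)⁻¹ =
        a ^ i₂ * (v * a ^ i₁ * v⁻¹) * (u * a ^ i₂ * u⁻¹)⁻¹ * (a ^ i₁)⁻¹ := by
      calc a ^ i₂ * v * (a ^ i₁ * u) * (a ^ i₂ * v)⁻¹ * (a ^ i₁ * u)⁻¹
          = a ^ i₂ * v * a ^ i₁ * (u * v⁻¹) * (a ^ i₂)⁻¹ * u⁻¹ * (a ^ i₁)⁻¹ := by group
        _ = a ^ i₂ * v * a ^ i₁ * (v⁻¹ * u) * (a ^ i₂)⁻¹ * u⁻¹ * (a ^ i₁)⁻¹ := by rw [huv']
        _ = a ^ i₂ * (v * a ^ i₁ * v⁻¹) * (u * a ^ i₂ * u⁻¹)⁻¹ * (a ^ i₁)⁻¹ := by group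
    have e2 : a ^ i₂ * (v * a ^ i₁ * v⁻¹) * (u * a ^ i₂ * u⁻¹)⁻¹ * (a ^ i₁)⁻¹ =
        (a ^ (kv - 1)) ^ i₁ * ((a ^ (ku - 1)) ^ i₂)⁻¹ := by
      rw [ea, eb]
      simp only [← zpow_mul, ← zpow_neg, ← zpow_add]
      congr 1
      ring
    rw [e1, e2]
    constructor
    · exact N.mul_mem (N.zpow_mem (N.zpow_mem haN _) _) (N.inv_mem (N.zpow_mem (N.zpow_mem haN _) _))
    · have hcomm : Commute ((a ^ (kv - 1)) ^ i₁) (((a ^ (ku - 1)) ^ i₂)⁻¹) := by
        apply Commute.inv_right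
        exact ((Commute.refl a).zpow_zpow _ _).zpow_zpow _ _
      rw [hcomm.mul_pow, inv_pow]
      have h1 : ((a ^ (kv - 1)) ^ i₁) ^ p = 1 := by
        rw [← zpow_natCast, ← zpow_mul, mul_comm, zpow_mul, zpow_natCast, hkv1, one_zpow]
      have h2 : ((a ^ (ku - 1)) ^ i₂) ^ p = 1 := by
        rw [← zpow_natCast, ← zpow_mul, mul_comm, zpow_mul, zpow_natCast, hku1, one_zpow]
      rw [h1, h2, inv_one, mul_one]
  -- the power map is multiplicative on such elements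
  have hpow : ∀ x y : P, x ^ p ∈ N → y ^ p ∈ N → (x * y) ^ p = x ^ p * y ^ p := by
    intro x y hx hy
    obtain ⟨hcN, hcp⟩ := hZ x y hx hy
    set c := y * x * y⁻¹ * x⁻¹ with hc
    have h : y * x = c * x * y := by rw [hc]; group
    have hcx : Commute c x := (hK2 x hx c hcN hcp).symm
    have hcy : Commute c y := (hK2 y hy c hcN hcp).symm
    rw [Cfsg.Agent.Helper24.mul_pow_of_central h hcx hcy p]
    obtain ⟨d, hd⟩ := Cfsg.Agent.Helper24.prime_dvd_sum_range hp.out hp2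
    rw [hd, pow_mul, hcp, one_pow, mul_one]
  let W : Subgroup P :=
    { carrier := {x | x ^ p = 1}
      one_mem' := one_pow p
      mul_mem' := by
        intro x y hx hy
        have hx1 : x ^ p = 1 := hx
        have hy1 : y ^ p = 1 := hy
        have hx' : x ^ p ∈ N := by rw [hx1]; exact N.one_mem
        have hy' : y ^ p ∈ N := by rw [hy1]; exact N.one_mem
        show (x * y) ^ p = 1
        rw [hpow x y hx' hy', hx1, hy1, one_mul]
      inv_mem' := by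
        intro x hx
        have hx1 : x ^ p = 1 := hx
        show (x⁻¹) ^ p = 1
        rw [inv_pow, hx1, inv_one] }
  refine ⟨W, fun x => Iff.rfl, ?_⟩
  -- the order of `W`
  let f : W →* P ⧸ N := (QuotientGroup.mk' N).comp W.subtype
  have h1 : Nat.card W = Nat.card (W ⧸ f.ker) * Nat.card f.ker :=
    Subgroup.card_eq_card_quotient_mul_card_subgroup f.ker
  have h2 : Nat.card (W ⧸ f.ker) = Nat.card f.range :=
    Nat.card_congr (QuotientGroup.quotientKerEquivRange f).toEquiv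
  have h3 : Nat.card f.range ≤ p := by
    have hinj : Function.Injective (fun u : f.range => (⟨(u : P ⧸ N), by
        obtain ⟨x, hx⟩ := u.2
        rw [← hx, ← map_pow]
        have hx1 : (x : P) ^ p = 1 := x.2
        have : x ^ p = 1 := Subtype.ext hx1
        rw [this, map_one]⟩ : {u : P ⧸ N // u ^ p = 1})) := by
      intro u v huv
      exact Subtype.ext (congrArg (fun z : {u : P ⧸ N // u ^ p = 1} => (z : P ⧸ N)) huv)
    exact (Nat.card_le_card_of_injective _ hinj).trans (card_pow_eq_one_le' hp.out.pos)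
  have h4 : Nat.card f.ker ≤ p := by
    have hmem : ∀ x : f.ker, ((x : W) : P) ∈ N := by
      intro x
      have := x.2
      rw [MonoidHom.mem_ker] at this
      exact (QuotientGroup.eq_one_iff _).mp this
    have hinj : Function.Injective (fun x : f.ker => (⟨⟨((x : W) : P), hmem x⟩, by
        apply Subtype.ext
        exact (x : W).2⟩ : {n : N // n ^ p = 1})) := by
      intro u v huv
      apply Subtype.ext
      apply Subtype.ext
      exact congrArg (fun z : {n : N // n ^ p = 1} => ((z : N) : P)) huv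
    exact (Nat.card_le_card_of_injective _ hinj).trans (card_pow_eq_one_le' hp.out.pos)
  calc Nat.card W = Nat.card f.range * Nat.card f.ker := by rw [h1, h2]
    _ ≤ p * p := Nat.mul_le_mul h3 h4
    _ = p ^ 2 := (sq p).symm

end main

end Cfsg.Agent.Helper86
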