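import Cfsg.Agent.Helper87.StableAut
import Cfsg.Agent.Helper48.StronglyEmbedded
import Mathlib.GroupTheory.SpecificGroups.Cyclic

set_option autoImplicit false

/-!
# Automorphism groups centralizing a hyperplane, and subgroups of prime index

* `exists_mul_pow_mem_of_index_prime`, `pow_mem_of_index_prime`: a normal subgroup of prime index `p` and an element
  outside it.
* `index_eq_prime_of_gen`: a criterion for a normal subgroup to have index `p`.
* `card_lt_sq_of_hyperplane`: if a `p`-group `T` of automorphisms of an abelian `p`-group `H` centralizes a subgroup `Z₁`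
  of index `p` (and `[H, T] ≤ Z₁`), and `T` lies in a group of automorphisms with a strongly `p`-embedded subgroup,
  then `|T| < p²`.
-/

namespace Cfsg.Agent.Helper86

open Cfsg

section primeIndex

variable {G : Type*} [Group G]

/-- Modulo a normal subgroup of prime index, every element is a power of any element outside the subgroup. -/
theorem exists_mul_pow_mem_of_index_prime {p : ℕ} (hp : p.Prime) (N : Subgroup G) [N.Normal] (hN : N.index = p)
    {v : G} (hv : v ∉ N) (u : G) : ∃ i : ℕ, u * v ^ i ∈ N := by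
  haveI : Fact p.Prime := ⟨hp⟩
  have hcard : Nat.card (G ⧸ N) = p := by rw [← Subgroup.index_eq_card, hN]
  haveI : Finite (G ⧸ N) := Nat.finite_of_card_ne_zero (by rw [hcard]; exact hp.ne_zero)
  have hv1 : (QuotientGroup.mk' N v) ≠ 1 := by
    intro h
    exact hv ((QuotientGroup.eq_one_iff v).mp h)
  have htop := zpowers_eq_top_of_prime_card hcard hv1
  have hmem : (QuotientGroup.mk' N u)⁻¹ ∈ Subgroup.zpowers (QuotientGroup.mk' N v) := by
    rw [htop]; exact Subgroup.mem_top _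
  rw [← (isOfFinOrder_of_finite (QuotientGroup.mk' N v)).mem_powers_iff_mem_zpowers] at hmem
  obtain ⟨i, hi⟩ := hmem
  refine ⟨i, ?_⟩
  apply (QuotientGroup.eq_one_iff _).mp
  have : ((u * v ^ i : G) : G ⧸ N) = QuotientGroup.mk' N u * (QuotientGroup.mk' N v) ^ i := by
    simp
  rw [this]
  have hi' : (QuotientGroup.mk' N v) ^ i = (QuotientGroup.mk' N u)⁻¹ := hi
  rw [hi', mul_inv_cancel]

/-- Modulo a normal subgroup of prime index `p`, every `p`-th power is trivial. -/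
theorem pow_mem_of_index_prime {p : ℕ} (hp : p.Prime) (N : Subgroup G) [N.Normal] (hN : N.index = p) (v : G) :
    v ^ p ∈ N := by
  have hcard : Nat.card (G ⧸ N) = p := by rw [← Subgroup.index_eq_card, hN]
  haveI : Finite (G ⧸ N) := Nat.finite_of_card_ne_zero (by rw [hcard]; exact hp.ne_zero)
  apply (QuotientGroup.eq_one_iff _).mp
  have : ((v ^ p : G) : G ⧸ N) = (QuotientGroup.mk' N v) ^ p := by simp
  rw [this, ← hcard]
  exact pow_card_eq_one'

/-- A normal subgroup `N`, such that some `a ∉ N` with `a ^ p ∈ N` generates the group modulo `N`, has index `p`. -/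
theorem index_eq_prime_of_gen {p : ℕ} (hp : p.Prime) (N : Subgroup G) [N.Normal] {a : G} (ha : a ∉ N)
    (hap : a ^ p ∈ N) (hgen : ∀ g : G, ∃ i : ℕ, g * a ^ i ∈ N) : N.index = p := by
  haveI : Fact p.Prime := ⟨hp⟩
  rw [Subgroup.index_eq_card]
  set abar := QuotientGroup.mk' N a with habar
  have h1 : abar ≠ 1 := fun h => ha ((QuotientGroup.eq_one_iff a).mp h)
  have h2 : abar ^ p = 1 := by
    rw [habar, ← map_pow]
    exact (QuotientGroup.eq_one_iff _).mpr hap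
  have hord : orderOf abar = p := orderOf_eq_prime h2 h1
  have htop : Subgroup.zpowers abar = ⊤ := by
    rw [eq_top_iff]
    intro x _
    obtain ⟨g, rfl⟩ := QuotientGroup.mk'_surjective N x
    obtain ⟨i, hi⟩ := hgen g
    have h3 : QuotientGroup.mk' N (g * a ^ i) = 1 := (QuotientGroup.eq_one_iff _).mpr hi
    rw [map_mul, map_pow] at h3
    have h4 : QuotientGroup.mk' N g = (abar ^ i)⁻¹ := eq_inv_of_mul_eq_one_left h3
    rw [h4]
    exact Subgroup.inv_mem _ (Subgroup.pow_mem _ (Subgroup.mem_zpowers _) _)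
  rw [← hord, ← Nat.card_zpowers, htop]
  exact (Nat.card_congr (Equiv.Set.univ _)).symm

end primeIndex

section hyper

variable {H : Type*} [Group H]

/-- The chain `⊤ ≥ W ≥ ⊥ ≥ ⊥ ≥ ...`. -/
def hyperChain (W : Subgroup H) : ℕ → Subgroup H := fun k => if k = 0 then ⊤ else if k = 1 then W else ⊥

theorem hyperChain_antitone (W : Subgroup H) : Antitone (hyperChain W) := by
  intro i j hij
  unfold hyperChain
  by_cases hi0 : i = 0
  · simp [hi0]
  · have hj0 : j ≠ 0 := by omega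
    by_cases hi1 : i = 1
    · by_cases hj1 : j = 1
      · simp [hi1, hj1]
      · simp [hi1, hj0, hj1]
    · have hj1 : j ≠ 1 := by omega
      simp [hi0, hi1, hj0, hj1]

theorem mem_chainStab_hyperChain [Finite H] (W : Subgroup H) (β : MulAut H) (h0 : ∀ x : H, x⁻¹ * β x ∈ W)
    (h1 : ∀ x ∈ W, β x = x) : β ∈ Cfsg.Agent.Helper87.chainStab (hyperChain W) (hyperChain_antitone W) := by
  intro k x hx
  by_cases hk0 : k = 0
  · subst hk0
    simpa [hyperChain] using h0 x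
  · by_cases hk1 : k = 1
    · subst hk1
      have hxW : x ∈ W := by simpa [hyperChain] using hx
      rw [h1 x hxW]
      simp
    · have hx1 : x = 1 := by simpa [hyperChain, hk0, hk1] using hx
      subst hx1
      simp

theorem isPGroup_chainStab_hyperChain [Finite H] {p : ℕ} [Fact p.Prime] (hH : IsPGroup p H) (W : Subgroup H) :
    IsPGroup p (Cfsg.Agent.Helper87.chainStab (hyperChain W) (hyperChain_antitone W)) :=
  Cfsg.Agent.Helper87.isPGroup_chainStab hH _ _ (by simp [hyperChain]) 2 (by simp [hyperChain])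

/-- If a group `T` of at least `p²` automorphisms of an abelian group `H` centralizes the subgroup `Z₁` of index `p` and
`[H, T] ≤ Z₁`, then for every subgroup `Z₂` of index `p` some non-identity element of `T` stabilizes the chain
`H ≥ Z₁ ∩ Z₂ ≥ 1`. -/
theorem exists_mem_chainStab_of_card [Finite H] {p : ℕ} [hp : Fact p.Prime] (hcomm : ∀ a b : H, a * b = b * a)
    (T : Subgroup (MulAut H)) (Z₁ Z₂ : Subgroup H) (hZ₁ : Z₁.index = p) (hZ₂ : Z₂.index = p)
    (hfix : ∀ t ∈ T, ∀ z ∈ Z₁, t z = z) (hcm : ∀ t ∈ T, ∀ x : H, x⁻¹ * t x ∈ Z₁) (hcard : p ^ 2 ≤ Nat.card T) :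
    ∃ t ∈ T, t ≠ 1 ∧ (∀ x : H, x⁻¹ * t x ∈ Z₁ ⊓ Z₂) ∧ ∀ x ∈ Z₁ ⊓ Z₂, t x = x := by
  have : Finite (MulAut H) := MulEquiv.finite_left
  haveI hZ₁n : Z₁.Normal := ⟨fun n hn g => by rw [hcomm g n, mul_inv_cancel_right]; exact hn⟩
  obtain ⟨x₀, hx₀⟩ : ∃ x₀ : H, x₀ ∉ Z₁ := by
    by_contra hcon
    push Not at hcon
    have : Z₁ = ⊤ := eq_top_iff.mpr (fun x _ => hcon x)
    rw [this, Subgroup.index_top] at hZ₁
    exact hp.out.one_lt.ne hZ₁
  -- the homomorphism `t ↦ x₀⁻¹ t(x₀)`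
  let θ : T →* H :=
    { toFun := fun t => x₀⁻¹ * (t : MulAut H) x₀
      map_one' := by simp
      map_mul' := by
        intro t s
        have h1 : (s : MulAut H) x₀ = x₀ * (x₀⁻¹ * (s : MulAut H) x₀) := by group
        have h2 := hfix t t.2 _ (hcm s s.2 x₀)
        show x₀⁻¹ * ((t : MulAut H) * (s : MulAut H)) x₀ = _
        rw [MulAut.mul_apply, h1, map_mul, h2]
        group }
  have hθ : ∀ t : T, θ t = x₀⁻¹ * (t : MulAut H) x₀ := fun t => rfl
  have hrange : θ.range ≤ Z₁ := by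
    rintro _ ⟨t, rfl⟩
    exact hcm t t.2 x₀
  set L : Subgroup T := (Z₁ ⊓ Z₂).comap θ with hL
  have hidx : L.index ≤ p := by
    rw [hL, Subgroup.index_comap]
    have h1 : Z₁.relIndex θ.range = 1 := Subgroup.relIndex_eq_one.mpr hrange
    have h2 : Z₂.relIndex θ.range ≤ p := by
      have := Subgroup.relIndex_le_of_le_right (H := Z₂) (le_top : θ.range ≤ ⊤)
        (by rw [Subgroup.relIndex_top_right, hZ₂]; exact hp.out.ne_zero)
      rwa [Subgroup.relIndex_top_right, hZ₂] at this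
    calc (Z₁ ⊓ Z₂).relIndex θ.range ≤ Z₁.relIndex θ.range * Z₂.relIndex θ.range := Subgroup.relIndex_inf_le
      _ ≤ 1 * p := by rw [h1]; exact Nat.mul_le_mul_left 1 h2
      _ = p := one_mul p
  have hLcard : p ≤ Nat.card L := by
    have h1 := Subgroup.card_mul_index L
    have hpos : 0 < p := hp.out.pos
    have hidxpos : 0 < L.index := Nat.pos_of_ne_zero Subgroup.index_ne_zero_of_finite
    by_contra hlt
    push Not at hlt
    have : Nat.card L * L.index < p * p := by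
      calc Nat.card L * L.index ≤ Nat.card L * p := Nat.mul_le_mul_left _ hidx
        _ < p * p := Nat.mul_lt_mul_of_pos_right hlt hpos
    rw [h1] at this
    nlinarith
  have hLne : L ≠ ⊥ := by
    intro h
    rw [h, Subgroup.card_bot] at hLcard
    exact absurd hLcard (by have := hp.out.one_lt; omega)
  obtain ⟨⟨t, htL⟩, ht1'⟩ := (Subgroup.ne_bot_iff_exists_ne_one).mp hLne
  have ht1 : t ≠ 1 := fun h => ht1' (Subtype.ext h)
  have htW : θ t ∈ Z₁ ⊓ Z₂ := htL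
  refine ⟨(t : MulAut H), t.2, fun h => ht1 (Subtype.ext h), ?_, ?_⟩
  · intro x
    obtain ⟨i, hi⟩ := exists_mul_pow_mem_of_index_prime hp.out Z₁ hZ₁ hx₀ x
    have hx : x = (x * x₀ ^ i) * (x₀ ^ i)⁻¹ := by group
    have h3 := hfix t t.2 _ hi
    have h4 : x⁻¹ * (t : MulAut H) x = ((θ t) ^ i)⁻¹ := by
      have h5 : (t : MulAut H) x = (x * x₀ ^ i) * (((t : MulAut H) x₀) ^ i)⁻¹ := by
        conv_lhs => rw [hx]
        rw [map_mul, h3, map_inv, map_pow]
      rw [h5, hθ]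
      have h6 : (x₀⁻¹ * (t : MulAut H) x₀) ^ i = (x₀ ^ i)⁻¹ * ((t : MulAut H) x₀) ^ i := by
        rw [Commute.mul_pow (hcomm _ _), inv_pow]
      rw [h6, mul_inv_rev, inv_inv, hcomm ((t : MulAut H) x₀ ^ i)⁻¹ (x₀ ^ i)]
      group
    rw [h4]
    exact Subgroup.inv_mem _ (Subgroup.pow_mem _ htW _)
  · intro x hx
    exact hfix t t.2 x hx.1

/-- Transport of the hypotheses along conjugation by an automorphism. -/
theorem conj_hyp [Finite H] {p : ℕ} (T : Subgroup (MulAut H)) (Z₁ : Subgroup H) (hZ₁ : Z₁.index = p)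
    (hfix : ∀ t ∈ T, ∀ z ∈ Z₁, t z = z) (hcm : ∀ t ∈ T, ∀ x : H, x⁻¹ * t x ∈ Z₁) (g : MulAut H) :
    (Z₁.map (g : H ≃* H).toMonoidHom).index = p ∧
    (∀ t ∈ T.map (MulAut.conj g).toMonoidHom, ∀ z ∈ Z₁.map (g : H ≃* H).toMonoidHom, t z = z) ∧
    (∀ t ∈ T.map (MulAut.conj g).toMonoidHom, ∀ x : H, x⁻¹ * t x ∈ Z₁.map (g : H ≃* H).toMonoidHom) ∧
    Nat.card (T.map (MulAut.conj g).toMonoidHom) = Nat.card T := by
  refine ⟨?_, ?_, ?_, ?_⟩
  · rw [← hZ₁]
    exact Subgroup.index_map_equiv Z₁ (g : H ≃* H)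
  · rintro _ ⟨s, hs, rfl⟩ _ ⟨z, hz, rfl⟩
    show (g * s * g⁻¹) (g z) = g z
    rw [MulAut.mul_apply, MulAut.mul_apply, MulAut.inv_apply_self, hfix s hs z hz]
  · rintro _ ⟨s, hs, rfl⟩ x
    refine ⟨(g⁻¹ x)⁻¹ * s (g⁻¹ x), hcm s hs _, ?_⟩
    show g ((g⁻¹ x)⁻¹ * s (g⁻¹ x)) = x⁻¹ * (g * s * g⁻¹) x
    rw [map_mul, map_inv, MulAut.apply_inv_self, MulAut.mul_apply, MulAut.mul_apply]
  · exact Subgroup.card_map_of_injective (MulAut.conj g).injective

/-- Normalized form of `card_lt_sq_of_hyperplane`: the image of `T` lies in the strongly `p`-embedded subgroup. -/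
theorem card_lt_sq_of_hyperplane_aux [Finite H] {p : ℕ} [hp : Fact p.Prime] (hH : IsPGroup p H)
    (hcomm : ∀ a b : H, a * b = b * a) (A : Subgroup (MulAut H)) (I : Subgroup A) [I.Normal] (hI : I = ⊥)
    (M : Subgroup (A ⧸ I)) (hM : IsStronglyPEmbedded p M) (T : Subgroup (MulAut H)) (hTA : T ≤ A)
    (hTp : IsPGroup p T) (Z₁ : Subgroup H) (hZ₁ : Z₁.index = p)
    (hfix : ∀ t ∈ T, ∀ z ∈ Z₁, t z = z) (hcm : ∀ t ∈ T, ∀ x : H, x⁻¹ * t x ∈ Z₁)
    (hTM : ∀ t (ht : t ∈ T), QuotientGroup.mk' I ⟨t, hTA ht⟩ ∈ M) : Nat.card T < p ^ 2 := by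
  have : Finite (MulAut H) := MulEquiv.finite_left
  by_contra hcon
  push Not at hcon
  have hinj : ∀ a : A, QuotientGroup.mk' I a = 1 → a = 1 := by
    intro a ha
    have := (QuotientGroup.eq_one_iff a).mp ha
    rw [hI, Subgroup.mem_bot] at this
    exact this
  obtain ⟨gbar, hgbar⟩ : ∃ gbar : A ⧸ I, gbar ∉ M := by
    by_contra hc
    push Not at hc
    exact hM.2.1 (eq_top_iff.mpr (fun x _ => hc x))
  obtain ⟨⟨g, hgA⟩, rfl⟩ := QuotientGroup.mk'_surjective I gbar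
  obtain ⟨hZ₂, hfix₂, hcm₂, hcard₂⟩ := conj_hyp T Z₁ hZ₁ hfix hcm g
  set T₂ := T.map (MulAut.conj g).toMonoidHom with hT₂
  set Z₂ := Z₁.map (g : H ≃* H).toMonoidHom with hZ₂def
  obtain ⟨t₁, ht₁T, ht₁1, ht₁a, ht₁b⟩ := exists_mem_chainStab_of_card hcomm T Z₁ Z₂ hZ₁ hZ₂ hfix hcm hcon
  obtain ⟨t₂, ht₂T, ht₂1, ht₂a, ht₂b⟩ :=
    exists_mem_chainStab_of_card hcomm T₂ Z₂ Z₁ hZ₂ hZ₁ hfix₂ hcm₂ (by rw [hcard₂]; exact hcon)
  rw [inf_comm] at ht₂a ht₂b
  set K := Cfsg.Agent.Helper87.chainStab (hyperChain (Z₁ ⊓ Z₂)) (hyperChain_antitone _) with hK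
  have hKp : IsPGroup p K := isPGroup_chainStab_hyperChain hH _
  have ht₁K : t₁ ∈ K := mem_chainStab_hyperChain _ _ ht₁a ht₁b
  have ht₂K : t₂ ∈ K := mem_chainStab_hyperChain _ _ ht₂a ht₂b
  set Kbar : Subgroup (A ⧸ I) := (K.subgroupOf A).map (QuotientGroup.mk' I) with hKbar
  have hKbarp : IsPGroup p Kbar := (hKp.comap_subtype).map _
  have hKbarM : Kbar ≤ M := by
    apply Cfsg.Agent.Helper48.pSubgroup_le_of_inf_ne_bot hM hKbarp
    intro hbot
    have h1 : QuotientGroup.mk' I ⟨t₁, hTA ht₁T⟩ ∈ Kbar ⊓ M :=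
      ⟨⟨⟨t₁, hTA ht₁T⟩, Subgroup.mem_subgroupOf.mpr ht₁K, rfl⟩, hTM t₁ ht₁T⟩
    rw [hbot, Subgroup.mem_bot] at h1
    exact ht₁1 (congrArg Subtype.val (hinj _ h1))
  obtain ⟨s, hsT, hst₂⟩ := ht₂T
  have hsA : s ∈ A := hTA hsT
  have ht₂A : t₂ ∈ A := by
    rw [← hst₂]
    exact A.mul_mem (A.mul_mem hgA hsA) (A.inv_mem hgA)
  have ht₂M : QuotientGroup.mk' I ⟨t₂, ht₂A⟩ ∈ M :=
    hKbarM ⟨⟨t₂, ht₂A⟩, Subgroup.mem_subgroupOf.mpr ht₂K, rfl⟩
  have hs1 : s ≠ 1 := by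
    rintro rfl
    apply ht₂1
    rw [← hst₂]
    simp
  have hsM : QuotientGroup.mk' I ⟨s, hsA⟩ ∈ M := hTM s hsT
  have hsbar1 : QuotientGroup.mk' I ⟨s, hsA⟩ ≠ 1 := fun h => hs1 (congrArg Subtype.val (hinj _ h))
  have hconj : QuotientGroup.mk' I ⟨g, hgA⟩ * QuotientGroup.mk' I ⟨s, hsA⟩ * (QuotientGroup.mk' I ⟨g, hgA⟩)⁻¹ ∈ M := by
    have e : (⟨t₂, ht₂A⟩ : A) = ⟨g, hgA⟩ * ⟨s, hsA⟩ * (⟨g, hgA⟩ : A)⁻¹ := by
      apply Subtype.ext
      exact hst₂.symm
    rw [e, map_mul, map_mul, map_inv] at ht₂M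
    exact ht₂M
  have hQp : IsPGroup p (Subgroup.zpowers (QuotientGroup.mk' I ⟨s, hsA⟩)) := by
    have h1 : IsPGroup p ((T.subgroupOf A).map (QuotientGroup.mk' I)) := (hTp.comap_subtype).map _
    apply h1.to_le
    rw [Subgroup.zpowers_le]
    exact ⟨⟨s, hsA⟩, Subgroup.mem_subgroupOf.mpr hsT, rfl⟩
  have hQne : Subgroup.zpowers (QuotientGroup.mk' I ⟨s, hsA⟩) ≠ ⊥ := by
    intro h
    apply hsbar1
    have := Subgroup.mem_zpowers (QuotientGroup.mk' I ⟨s, hsA⟩)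
    rw [h, Subgroup.mem_bot] at this
    exact this
  exact hgbar (Cfsg.Agent.Helper48.mem_of_conjSub_le hM (by rw [Subgroup.zpowers_le]; exact hsM) hQp hQne
    (Cfsg.Agent.Helper48.conjSub_zpowers_le hconj))

/-- **Hyperplane lemma**: let `T` be a `p`-group of automorphisms of the abelian `p`-group `H` centralizing a subgroup `Z₁`
of index `p` with `[H, T] ≤ Z₁`. If `T` lies in a group `A` of automorphisms with a strongly `p`-embedded subgroup
(in `A / I` with `I` trivial), then `|T| < p²`. -/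
theorem card_lt_sq_of_hyperplane [Finite H] {p : ℕ} [hp : Fact p.Prime] (hH : IsPGroup p H)
    (hcomm : ∀ a b : H, a * b = b * a) (A : Subgroup (MulAut H)) (I : Subgroup A) [I.Normal] (hI : I = ⊥)
    (M : Subgroup (A ⧸ I)) (hM : IsStronglyPEmbedded p M) (T : Subgroup (MulAut H)) (hTA : T ≤ A)
    (hTp : IsPGroup p T) (Z₁ : Subgroup H) (hZ₁ : Z₁.index = p)
    (hfix : ∀ t ∈ T, ∀ z ∈ Z₁, t z = z) (hcm : ∀ t ∈ T, ∀ x : H, x⁻¹ * t x ∈ Z₁) : Nat.card T < p ^ 2 := by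
  have : Finite (MulAut H) := MulEquiv.finite_left
  set Tbar : Subgroup (A ⧸ I) := (T.subgroupOf A).map (QuotientGroup.mk' I) with hTbar
  have hTbarp : IsPGroup p Tbar := (hTp.comap_subtype).map _
  obtain ⟨Q, hQ⟩ := hTbarp.exists_le_sylow
  obtain ⟨P₀, hP₀M, -⟩ := Cfsg.Agent.Helper48.exists_sylow_le_of_stronglyPEmbedded hM
  obtain ⟨k, hk⟩ := MulAction.exists_smul_eq (A ⧸ I) Q P₀
  obtain ⟨⟨a, haA⟩, rfl⟩ := QuotientGroup.mk'_surjective I k
  obtain ⟨hZ', hfix', hcm', hcard'⟩ := conj_hyp T Z₁ hZ₁ hfix hcm a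
  have hT'A : T.map (MulAut.conj a).toMonoidHom ≤ A := by
    rintro _ ⟨s, hs, rfl⟩
    exact A.mul_mem (A.mul_mem haA (hTA hs)) (A.inv_mem haA)
  have hT'p : IsPGroup p (T.map (MulAut.conj a).toMonoidHom) := hTp.map _
  rw [← hcard']
  apply card_lt_sq_of_hyperplane_aux hH hcomm A I hI M hM _ hT'A hT'p _ hZ' hfix' hcm'
  rintro _ ⟨s, hs, rfl⟩
  apply hP₀M
  have hsQ : QuotientGroup.mk' I ⟨s, hTA hs⟩ ∈ (Q : Subgroup (A ⧸ I)) :=
    hQ ⟨⟨s, hTA hs⟩, Subgroup.mem_subgroupOf.mpr hs, rfl⟩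
  have e : (⟨(MulAut.conj a).toMonoidHom s, hT'A ⟨s, hs, rfl⟩⟩ : A) = ⟨a, haA⟩ * ⟨s, hTA hs⟩ * (⟨a, haA⟩ : A)⁻¹ := by
    apply Subtype.ext
    rfl
  rw [e, map_mul, map_mul, map_inv, ← hk, Sylow.coe_subgroup_smul]
  rw [Subgroup.mem_smul_pointwise_iff_exists]
  exact ⟨_, hsQ, rfl⟩

end hyper

end Cfsg.Agent.Helper86
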