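import Mathlib
import Cfsg.Agent.Helper86.Metacyclic
import Cfsg.Agent.Helper65.Metacyclic3
import Cfsg.Agent.Helper76.PGroup

/-!
# Coprime operator groups on metacyclic `p`-groups, `p` odd (helper86)

If a finite group `A` of order prime to `p` acts on a metacyclic `p`-group `K` (`p` odd) with `K = [K, A]`, then `K` is
abelian.  The action is given as a homomorphism `f : A →* MulAut K`, and `K = [K, A]` is expressed by saying that
the elements `f a r * r⁻¹` generate `K`.
-/

set_option autoImplicit false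

namespace Cfsg.Agent.Helper86

open scoped commutatorElement

section quot

variable {K : Type*} [Group K]

/-- The automorphism induced on the quotient by a characteristic subgroup. -/
noncomputable def charQuotAut (W : Subgroup K) [hW : W.Characteristic] (β : MulAut K) : MulAut (K ⧸ W) :=
  QuotientGroup.congr W W β (Subgroup.characteristic_iff_map_eq.mp hW β)

theorem charQuotAut_mk (W : Subgroup K) [W.Characteristic] (β : MulAut K) (a : K) :
    charQuotAut W β (QuotientGroup.mk a) = QuotientGroup.mk (β a) := rfl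

/-- The homomorphism `Aut K → Aut (K ⧸ W)` for a characteristic subgroup `W`. -/
noncomputable def charQuotAutHom (W : Subgroup K) [W.Characteristic] : MulAut K →* MulAut (K ⧸ W) where
  toFun := charQuotAut W
  map_one' := by
    ext x
    induction x using QuotientGroup.induction_on with
    | H a => rfl
  map_mul' := by
    intro β γ
    ext x
    induction x using QuotientGroup.induction_on with
    | H a => rfl

theorem charQuotAutHom_mk (W : Subgroup K) [W.Characteristic] (β : MulAut K) (a : K) :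
    charQuotAutHom W β (QuotientGroup.mk a) = QuotientGroup.mk (β a) := rfl

/-- A homomorphic image of a metacyclic group is metacyclic. -/
theorem isMetacyclic_of_surjective {R Q : Type*} [Group R] [Group Q] (f : R →* Q) (hf : Function.Surjective f)
    (h : Cfsg.IsMetacyclic R) : Cfsg.IsMetacyclic Q := by
  obtain ⟨N, hN, hcN, hcQ⟩ := h
  haveI : (N.map f).Normal := hN.map f hf
  refine ⟨N.map f, inferInstance, ?_, ?_⟩
  · exact isCyclic_of_surjective (f.subgroupMap N) (f.subgroupMap_surjective N)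
  · have hle : N ≤ (N.map f).comap f := Subgroup.le_comap_map f N
    refine isCyclic_of_surjective (QuotientGroup.map N (N.map f) f hle) ?_
    intro q
    obtain ⟨y, rfl⟩ := QuotientGroup.mk_surjective q
    obtain ⟨x, rfl⟩ := hf y
    exact ⟨QuotientGroup.mk x, rfl⟩

end quot

section norm

variable {K : Type*} [Group K] {A : Type*} [Group A] [Finite A]

/-- The norm argument: if `K` is generated by the elements `f a r * r⁻¹`, `K ⧸ Z` is abelian, and `v` is fixed by `A`
modulo `Z` with `v ^ m ∈ Z` for some `m` prime to `|A|`, then `v ∈ Z`. -/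
theorem mem_of_fixed_mod (f : A →* MulAut K) (Z : Subgroup K) [Z.Normal] (hZ : ∀ x y : K, ⁅x, y⁆ ∈ Z)
    (hgen : Subgroup.closure {x : K | ∃ (a : A) (r : K), x = f a r * r⁻¹} = ⊤)
    (v : K) (hv : ∀ a, f a v * v⁻¹ ∈ Z) {m : ℕ} (hm : v ^ m ∈ Z) (hcop : (Nat.card A).Coprime m) : v ∈ Z := by
  classical
  haveI := Fintype.ofFinite A
  have hcomm : ∀ a b : K ⧸ Z, a * b = b * a := by
    intro a b
    induction a using QuotientGroup.induction_on with
    | H a =>
      induction b using QuotientGroup.induction_on with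
      | H b =>
        have h1 := hZ a b
        rw [← QuotientGroup.eq_one_iff, commutatorElement_def] at h1
        simp only [QuotientGroup.mk_mul, QuotientGroup.mk_inv] at h1
        rw [mul_inv_eq_one, mul_inv_eq_iff_eq_mul] at h1
        exact h1
  let _ : CommGroup (K ⧸ Z) := { (inferInstance : Group (K ⧸ Z)) with mul_comm := hcomm }
  let n : K →* K ⧸ Z := ∏ a : A, (QuotientGroup.mk' Z).comp (f a).toMonoidHom
  have hn : ∀ r : K, n r = ∏ a : A, (QuotientGroup.mk (f a r) : K ⧸ Z) := by
    intro r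
    simp only [n, MonoidHom.finsetProd_apply]
    rfl
  have hker : ∀ r : K, n r = 1 := by
    have h1 : Subgroup.closure {x : K | ∃ (a : A) (r : K), x = f a r * r⁻¹} ≤ n.ker := by
      rw [Subgroup.closure_le]
      rintro x ⟨b, r, rfl⟩
      rw [SetLike.mem_coe, MonoidHom.mem_ker, map_mul, map_inv, mul_inv_eq_one, hn, hn]
      refine Fintype.prod_equiv (Equiv.mulRight b) _ _ ?_
      intro a
      simp only [Equiv.coe_mulRight, map_mul, MulAut.mul_apply]
    intro r
    have : r ∈ n.ker := h1 (by rw [hgen]; exact Subgroup.mem_top r)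
    exact this
  have h2 : n v = (QuotientGroup.mk v : K ⧸ Z) ^ Nat.card A := by
    rw [hn]
    have : ∀ a : A, (QuotientGroup.mk (f a v) : K ⧸ Z) = QuotientGroup.mk v := by
      intro a
      rw [QuotientGroup.eq]
      have h1 := Z.inv_mem (hv a)
      rw [mul_inv_rev, inv_inv] at h1
      exact (inferInstance : Z.Normal).mem_comm h1
    simp only [this, Finset.prod_const, Finset.card_univ, Nat.card_eq_fintype_card]
  have h3 : (QuotientGroup.mk v : K ⧸ Z) ^ Nat.card A = 1 := by rw [← h2, hker]
  have h4 : (QuotientGroup.mk v : K ⧸ Z) ^ m = 1 := by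
    rw [← QuotientGroup.mk_pow, QuotientGroup.eq_one_iff]
    exact hm
  have h5 : orderOf (QuotientGroup.mk v : K ⧸ Z) ∣ Nat.gcd (Nat.card A) m :=
    Nat.dvd_gcd (orderOf_dvd_of_pow_eq_one h3) (orderOf_dvd_of_pow_eq_one h4)
  rw [hcop, Nat.dvd_one, orderOf_eq_one_iff, QuotientGroup.eq_one_iff] at h5
  exact h5

end norm

section core

variable {K : Type*} [Group K]

/-- The map `d ↦ ⁅d, x⁆` is a homomorphism when commutators are central. -/
def commHomC (hcen : ∀ x y : K, ⁅x, y⁆ ∈ Subgroup.center K) (x : K) : K →* K :=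
  MonoidHom.mk' (fun d => ⁅d, x⁆) (by
    intro d₁ d₂
    have h2 := hcen d₂ x
    have e : ⁅d₁ * d₂, x⁆ = d₁ * ⁅d₂, x⁆ * d₁⁻¹ * ⁅d₁, x⁆ := by
      simp only [commutatorElement_def]; group
    rw [e, Subgroup.mem_center_iff.mp h2 d₁]
    have h3 : ⁅d₂, x⁆ * d₁ * d₁⁻¹ * ⁅d₁, x⁆ = ⁅d₂, x⁆ * ⁅d₁, x⁆ := by group
    rw [h3]
    exact (Subgroup.mem_center_iff.mp h2 ⁅d₁, x⁆).symm)

theorem commHomC_apply (hcen : ∀ x y : K, ⁅x, y⁆ ∈ Subgroup.center K) (x d : K) :
    commHomC hcen x d = ⁅d, x⁆ := rfl

/-- In a group of class two whose commutators have order dividing the odd prime `p`, the `p`-th power map is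
multiplicative. -/
theorem mul_pow_prime_of_class_two {p : ℕ} (hp : p.Prime) (hp2 : p ≠ 2)
    (hcen : ∀ x y : K, ⁅x, y⁆ ∈ Subgroup.center K) (hexp : ∀ x y : K, ⁅x, y⁆ ^ p = 1) (x y : K) :
    (x * y) ^ p = x ^ p * y ^ p := by
  have hc := hcen y x
  have h : y * x = ⁅y, x⁆ * x * y := by rw [commutatorElement_def]; group
  have hcu : Commute ⁅y, x⁆ x := (Subgroup.mem_center_iff.mp hc x).symm
  have hcv : Commute ⁅y, x⁆ y := (Subgroup.mem_center_iff.mp hc y).symm
  rw [Cfsg.Agent.Helper24.mul_pow_of_central h hcu hcv p]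
  obtain ⟨t, ht⟩ := Cfsg.Agent.Helper24.prime_dvd_sum_range hp hp2
  rw [ht, pow_mul, hexp, one_pow, mul_one]

theorem mul_pow_prime_pow_of_class_two {p : ℕ} (hp : p.Prime) (hp2 : p ≠ 2)
    (hcen : ∀ x y : K, ⁅x, y⁆ ∈ Subgroup.center K) (hexp : ∀ x y : K, ⁅x, y⁆ ^ p = 1) (k : ℕ) (x y : K) :
    (x * y) ^ p ^ k = x ^ p ^ k * y ^ p ^ k := by
  induction k with
  | zero => simp
  | succ k ih =>
    rw [pow_succ, pow_mul, pow_mul, pow_mul, ih, mul_pow_prime_of_class_two hp hp2 hcen hexp]

/-- Between a subgroup `Z` of index `p ^ 2` and the whole group there is at most one step. -/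
theorem le_of_index_sq {G : Type*} [Group G] [Finite G] {p : ℕ} (hp : p.Prime) {Z M N : Subgroup G}
    (hZ : Z.index = p ^ 2) (hZM : Z ≤ M) (hMN : M ≤ N) (hMZ : ¬ M ≤ Z) (hN : N ≠ ⊤) : N ≤ M := by
  have h1 := Subgroup.relIndex_mul_index hZM
  have h3 := Subgroup.relIndex_mul_index hMN
  rw [hZ] at h1
  obtain ⟨k, hk2, hk⟩ := (Nat.dvd_prime_pow hp).mp (Dvd.intro_left _ h1)
  have hNdvd : N.index ∣ M.index := Dvd.intro_left _ h3
  rw [hk] at hNdvd
  obtain ⟨k', hk'k, hk'⟩ := (Nat.dvd_prime_pow hp).mp hNdvd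
  have hk'0 : k' ≠ 0 := by
    rintro rfl
    rw [pow_zero] at hk'
    exact hN (Subgroup.index_eq_one.mp hk')
  have hkne2 : k ≠ 2 := by
    rintro rfl
    rw [hk] at h1
    have : Z.relIndex M = 1 :=
      Nat.eq_of_mul_eq_mul_right (pow_pos hp.pos 2) (by rw [h1, one_mul])
    exact hMZ (Subgroup.relIndex_eq_one.mp this)
  have hk1 : k = 1 := by omega
  have hk'1 : k' = 1 := by omega
  rw [hk, hk', hk1, hk'1] at h3
  have : M.relIndex N = 1 := Nat.eq_of_mul_eq_mul_right (pow_pos hp.pos 1) (by rw [h3, one_mul])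
  exact Subgroup.relIndex_eq_one.mp this

/-- The core case: the derived subgroup has order `p`. -/
theorem false_of_card_commutator_eq_prime [Finite K] {p : ℕ} [hp : Fact p.Prime] (hp2 : p ≠ 2)
    (hK : IsPGroup p K) (hmc : Cfsg.IsMetacyclic K) {A : Type*} [Group A] [Finite A] (f : A →* MulAut K)
    (hcop : (Nat.card A).Coprime p)
    (hgen : Subgroup.closure {x : K | ∃ (a : A) (r : K), x = f a r * r⁻¹} = ⊤)
    (hc : Nat.card (commutator K) = p) : False := by
  classical
  have hpp := hp.out
  have hle : commutator K ≤ Subgroup.center K :=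
    Cfsg.Agent.Helper76.normal_le_center_of_card_prime hK (commutator K) hc
  have hmemc : ∀ x y : K, ⁅x, y⁆ ∈ commutator K := fun x y => by
    rw [commutator_def]
    exact Subgroup.commutator_mem_commutator (Subgroup.mem_top x) (Subgroup.mem_top y)
  have hcen : ∀ x y : K, ⁅x, y⁆ ∈ Subgroup.center K := fun x y => hle (hmemc x y)
  have hexpc : ∀ c ∈ commutator K, c ^ p = 1 := by
    intro c hc'
    have h1 := pow_card_eq_one' (G := commutator K) (x := ⟨c, hc'⟩)
    rw [hc] at h1
    simpa using congrArg Subtype.val h1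
  have hexp : ∀ x y : K, ⁅x, y⁆ ^ p = 1 := fun x y => hexpc _ (hmemc x y)
  let pw : ℕ → K →* K := fun k => MonoidHom.mk' (fun x => x ^ p ^ k)
    (fun x y => mul_pow_prime_pow_of_class_two hpp hp2 hcen hexp k x y)
  have hpw : ∀ k x, pw k x = x ^ p ^ k := fun k x => rfl
  have hpc : ∀ x : K, x ^ p ∈ Subgroup.center K := by
    intro x
    rw [Subgroup.mem_center_iff]
    intro g
    have h1 : ⁅x ^ p, g⁆ = 1 := by
      have h2 := map_pow (commHomC hcen g) x p
      rw [commHomC_apply, commHomC_apply, hexp] at h2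
      exact h2
    exact (commutatorElement_eq_one_iff_commute.mp h1).eq.symm
  have hZ : Subgroup.center K = (pw 1).range := by
    apply le_antisymm
    · have h1 := Cfsg.Agent.Helper65.closure_pow_eq_center hp2 hK hmc (n := 1) (by rw [pow_one]; exact hc)
      rw [← h1, Subgroup.closure_le]
      rintro x ⟨y, rfl⟩
      exact ⟨y, rfl⟩
    · rintro x ⟨y, rfl⟩
      rw [hpw, pow_one]
      exact hpc y
  have hidx : (Subgroup.center K).index = p ^ 2 := by
    rw [Cfsg.Agent.Helper65.index_center_of_isMetacyclic hp2 hK hmc, hc]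
  obtain ⟨x₀, y₀, hz⟩ : ∃ x₀ y₀ : K, ⁅x₀, y₀⁆ ≠ 1 := by
    by_contra hcon
    push Not at hcon
    have h1 : commutator K = ⊥ := by
      rw [commutator_def, eq_bot_iff, Subgroup.commutator_le]
      intro a _ b _
      rw [hcon]
      exact Subgroup.one_mem _
    rw [h1, Subgroup.card_bot] at hc
    exact hpp.ne_one hc.symm
  set z := ⁅x₀, y₀⁆ with hzdef
  have hzK : z ∈ commutator K := hmemc x₀ y₀
  have hzgen : ∀ c ∈ commutator K, ∃ i : ℤ, z ^ i = c := by
    intro c hc'
    have h1 : (⟨z, hzK⟩ : commutator K) ≠ 1 := fun h => hz (congrArg Subtype.val h)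
    have h2 := mem_zpowers_of_prime_card (G := commutator K) hc (g := ⟨z, hzK⟩) (g' := ⟨c, hc'⟩) h1
    obtain ⟨i, hi⟩ := Subgroup.mem_zpowers_iff.mp h2
    exact ⟨i, by simpa using congrArg Subtype.val hi⟩
  obtain ⟨m, hm⟩ := IsPGroup.iff_card.mp hK
  have hbig : z ∉ (pw m).range := by
    rintro ⟨y, hy⟩
    rw [hpw, ← hm, pow_card_eq_one'] at hy
    exact hz hy.symm
  have hz1 : z ∈ (pw 1).range := by
    rw [← hZ]
    exact hcen x₀ y₀
  have hz0 : z ∈ (pw 0).range := ⟨z, by rw [hpw, pow_zero, pow_one]⟩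
  obtain ⟨j, hj1, hzj, hzj'⟩ : ∃ j, 1 ≤ j ∧ z ∈ (pw j).range ∧ z ∉ (pw (j + 1)).range := by
    have hex : ∃ k, z ∉ (pw k).range := ⟨m, hbig⟩
    have h2 : 2 ≤ Nat.find hex := by
      rw [Nat.le_find_iff]
      intro k hk
      interval_cases k
      · exact not_not.mpr hz0
      · exact not_not.mpr hz1
    refine ⟨Nat.find hex - 1, by omega, ?_, ?_⟩
    · exact not_not.mp (Nat.find_min hex (by omega))
    · have h3 : Nat.find hex - 1 + 1 = Nat.find hex := by omega
      rw [h3]
      exact Nat.find_spec hex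
  obtain ⟨u, hu⟩ := hzj
  let Kj : Subgroup K := (pw (j + 1)).range.comap (pw j)
  have hmemKj : ∀ x, x ∈ Kj ↔ ∃ y, y ^ p ^ (j + 1) = x ^ p ^ j := fun x => Iff.rfl
  have hZKj : Subgroup.center K ≤ Kj := by
    intro c hc'
    rw [hZ] at hc'
    obtain ⟨y, rfl⟩ := hc'
    rw [hmemKj]
    refine ⟨y, ?_⟩
    rw [hpw, pow_one, ← pow_mul, ← pow_succ']
  have huKj : u ∉ Kj := by
    intro h
    rw [hmemKj] at h
    obtain ⟨y, hy⟩ := h
    apply hzj'
    refine ⟨y, ?_⟩
    rw [hpw, hy, ← hpw j u, hu]
  have hinv : ∀ (β : MulAut K) x, x ∈ Kj → β x ∈ Kj := by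
    intro β x hx
    rw [hmemKj] at hx ⊢
    obtain ⟨y, hy⟩ := hx
    exact ⟨β y, by rw [← map_pow, hy, map_pow]⟩
  have hkey : ∀ (a : A) (s : K), s ∈ Subgroup.centralizer (Kj : Set K) → Commute u (f a s * s⁻¹) := by
    intro a s hs
    set α := f a with hα
    have hαz : α z ∈ commutator K := by
      rw [hzdef, map_commutatorElement]
      exact hmemc _ _
    obtain ⟨l, hl⟩ := hzgen _ hαz
    have hpowc : ∀ c ∈ commutator K, α c = c ^ l := by
      intro c hc'
      obtain ⟨i, rfl⟩ := hzgen c hc'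
      rw [map_zpow, ← hl, ← zpow_mul, ← zpow_mul, mul_comm]
    have hk : (u ^ l)⁻¹ * α u ∈ Kj := by
      rw [hmemKj]
      refine ⟨1, ?_⟩
      rw [one_pow]
      have h1 : pw j ((u ^ l)⁻¹ * α u) = 1 := by
        rw [map_mul, map_inv, map_zpow, hu, hpw, ← map_pow, ← hpw j u, hu, ← hl, inv_mul_cancel]
      exact h1.symm
    have hαs : α s ∈ Subgroup.centralizer (Kj : Set K) := by
      rw [Subgroup.mem_centralizer_iff] at hs ⊢
      intro h hh
      have h1 := hs (α⁻¹ h) (hinv α⁻¹ h hh)
      have h2 := congrArg α h1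
      simpa using h2
    have e1 : ⁅α u, α s⁆ = α ⁅u, s⁆ := (map_commutatorElement α u s).symm
    have e2 : ⁅α u, α s⁆ = ⁅u, α s⁆ ^ l := by
      have h1 : α u = u ^ l * ((u ^ l)⁻¹ * α u) := by group
      have h2 : ⁅(u ^ l)⁻¹ * α u, α s⁆ = 1 := by
        rw [commutatorElement_eq_one_iff_commute]
        exact (Subgroup.mem_centralizer_iff.mp hαs) _ hk
      calc ⁅α u, α s⁆ = commHomC hcen (α s) (u ^ l * ((u ^ l)⁻¹ * α u)) := by
            rw [commHomC_apply, ← h1]
        _ = ⁅u, α s⁆ ^ l := by
            rw [map_mul, map_zpow, commHomC_apply, commHomC_apply, h2, mul_one]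
    have e3 : α ⁅u, s⁆ = α ⁅u, α s⁆ := by
      rw [← e1, e2, hpowc _ (hmemc u (α s))]
    have e4 : ⁅u, s⁆ = ⁅u, α s⁆ := α.injective e3
    have e5 : ⁅α s * s⁻¹, u⁆ = 1 := by
      have h1 := map_mul (commHomC hcen u) (α s) s⁻¹
      rw [map_inv, commHomC_apply, commHomC_apply, commHomC_apply] at h1
      rw [h1, ← commutatorElement_inv u (α s), ← e4, commutatorElement_inv, mul_inv_cancel]
    exact (commutatorElement_eq_one_iff_commute.mp e5).symm
  by_cases hcase : Kj ≤ Subgroup.center K
  · have hD : ∀ s : K, s ∈ Subgroup.centralizer (Kj : Set K) := by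
      intro s
      rw [Subgroup.mem_centralizer_iff]
      intro h hh
      exact (Subgroup.mem_center_iff.mp (hcase hh) s).symm
    have hu_c : u ∈ Subgroup.center K := by
      have h1 : Subgroup.closure {x : K | ∃ (a : A) (r : K), x = f a r * r⁻¹} ≤ Subgroup.centralizer {u} := by
        rw [Subgroup.closure_le]
        rintro x ⟨a, r, rfl⟩
        rw [SetLike.mem_coe, Subgroup.mem_centralizer_singleton_iff]
        exact (hkey a r (hD r)).eq.symm
      rw [hgen] at h1
      rw [Subgroup.mem_center_iff]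
      intro g
      have h2 := h1 (Subgroup.mem_top g)
      rw [Subgroup.mem_centralizer_singleton_iff] at h2
      exact h2
    exact huKj (hZKj hu_c)
  · obtain ⟨v₀, hv₀, hv₀Z⟩ := SetLike.not_le_iff_exists.mp hcase
    have hKjtop : Kj ≠ ⊤ := fun h => huKj (h ▸ Subgroup.mem_top u)
    have hab : ∀ x ∈ Kj, ∀ y ∈ Kj, x * y = y * x := by
      intro x hx y hy
      by_cases hxZ : x ∈ Subgroup.center K
      · exact (Subgroup.mem_center_iff.mp hxZ y).symm
      · have h1 : Kj ≤ Subgroup.center K ⊔ Subgroup.zpowers x := by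
          apply le_of_index_sq hpp hidx le_sup_left
            (sup_le hZKj (by rw [Subgroup.zpowers_le]; exact hx)) ?_ hKjtop
          intro hle2
          exact hxZ (hle2 (Subgroup.mem_sup_right (Subgroup.mem_zpowers x)))
        have h2 : Subgroup.center K ⊔ Subgroup.zpowers x ≤ Subgroup.centralizer {x} := by
          apply sup_le
          · intro c hc'
            rw [Subgroup.mem_centralizer_singleton_iff]
            exact (Subgroup.mem_center_iff.mp hc' x).symm
          · rw [Subgroup.zpowers_le, Subgroup.mem_centralizer_singleton_iff]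
        have h3 := h2 (h1 hy)
        rw [Subgroup.mem_centralizer_singleton_iff] at h3
        exact h3.symm
    have hKjD : ∀ s ∈ Kj, s ∈ Subgroup.centralizer (Kj : Set K) := by
      intro s hs
      rw [Subgroup.mem_centralizer_iff]
      intro h hh
      exact hab h hh s hs
    have hw : ∀ a : A, f a v₀ * v₀⁻¹ ∈ Subgroup.center K := by
      intro a
      by_contra hwZ
      have hwKj : f a v₀ * v₀⁻¹ ∈ Kj := Kj.mul_mem (hinv (f a) v₀ hv₀) (Kj.inv_mem hv₀)
      have hN : Subgroup.centralizer {f a v₀ * v₀⁻¹} ≠ ⊤ := by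
        intro htop
        apply hwZ
        rw [Subgroup.mem_center_iff]
        intro g
        have h1 : g ∈ Subgroup.centralizer {f a v₀ * v₀⁻¹} := htop ▸ Subgroup.mem_top g
        rw [Subgroup.mem_centralizer_singleton_iff] at h1
        exact h1
      have h1 : Subgroup.centralizer {f a v₀ * v₀⁻¹} ≤ Kj := by
        apply le_of_index_sq hpp hidx hZKj ?_ (fun h => hv₀Z (h hv₀)) hN
        intro y hy
        rw [Subgroup.mem_centralizer_singleton_iff]
        exact hab y hy _ hwKj
      have h2 : u ∈ Subgroup.centralizer {f a v₀ * v₀⁻¹} := by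
        rw [Subgroup.mem_centralizer_singleton_iff]
        exact (hkey a v₀ (hKjD v₀ hv₀)).eq
      exact huKj (h1 h2)
    exact hv₀Z (mem_of_fixed_mod f (Subgroup.center K) hcen hgen v₀ hw (hpc v₀) hcop)

end core

section induction

universe u v

theorem commutative_of_generated_aux {p : ℕ} [hp : Fact p.Prime] (hp2 : p ≠ 2) {A : Type v} [Group A] [Finite A]
    (hcop : (Nat.card A).Coprime p) :
    ∀ n : ℕ, ∀ (K : Type u) [Group K] [Finite K], Nat.card K = n → IsPGroup p K → Cfsg.IsMetacyclic K →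
      ∀ f : A →* MulAut K, Subgroup.closure {x : K | ∃ (a : A) (r : K), x = f a r * r⁻¹} = ⊤ →
      ∀ x y : K, x * y = y * x := by
  intro n
  induction n using Nat.strong_induction_on with
  | _ n ih =>
    intro K _ _ hn hK hmc f hgen
    by_contra hne
    push Not at hne
    obtain ⟨x₁, y₁, hxy⟩ := hne
    obtain ⟨N, hN, hNc, hQc⟩ := id hmc
    haveI := hN
    obtain ⟨W, hW, hWcard⟩ := exists_omega_subgroup hp2 hK N hNc hQc
    haveI hWchar : W.Characteristic := by
      rw [Subgroup.characteristic_iff_comap_le]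
      intro ϕ x hx
      rw [Subgroup.mem_comap] at hx
      rw [hW] at hx ⊢
      have h1 : ϕ (x ^ p) = 1 := by
        rw [map_pow]
        exact hx
      exact (map_eq_one_iff ϕ ϕ.injective).mp h1
    have hp_dvd : p ∣ Nat.card K := by
      obtain ⟨m, hm⟩ := IsPGroup.iff_card.mp hK
      rcases Nat.eq_zero_or_pos m with rfl | hm0
      · rw [pow_zero] at hm
        haveI := (Nat.card_eq_one_iff_unique.mp hm).1
        exact absurd (Subsingleton.elim _ _) hxy
      · rw [hm]
        exact dvd_pow_self p (by omega)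
    obtain ⟨g, hg⟩ := exists_prime_orderOf_dvd_card' p hp_dvd
    have hgW : g ∈ W := by
      rw [hW, ← hg]
      exact pow_orderOf_eq_one g
    have hg1 : g ≠ 1 := by
      rintro rfl
      rw [orderOf_one] at hg
      exact hp.out.ne_one hg.symm
    have hWcard2 : 2 ≤ Nat.card W := by
      haveI : Nontrivial W := ⟨⟨⟨g, hgW⟩, 1, fun h => hg1 (congrArg Subtype.val h)⟩⟩
      exact Finite.one_lt_card
    have hlt : Nat.card (K ⧸ W) < n := by
      have h1 := Subgroup.card_eq_card_quotient_mul_card_subgroup W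
      rw [hn] at h1
      have hpos : 0 < Nat.card (K ⧸ W) := Nat.card_pos
      nlinarith
    have hQcomm := ih _ hlt (K ⧸ W) rfl (hK.to_quotient W)
      (isMetacyclic_of_surjective (QuotientGroup.mk' W) (QuotientGroup.mk'_surjective W) hmc)
      ((charQuotAutHom W).comp f) ?_
    · have hcW : ∀ x y : K, ⁅x, y⁆ ∈ W := by
        intro x y
        rw [← QuotientGroup.eq_one_iff, commutatorElement_def]
        simp only [QuotientGroup.mk_mul, QuotientGroup.mk_inv]
        rw [← commutatorElement_def, commutatorElement_eq_one_iff_commute]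
        exact hQcomm _ _
      obtain ⟨a, b, r, hd⟩ := Cfsg.Agent.Helper65.exists_mcdata hK hmc
      have hceq := hd.commutator_eq
      have hle : commutator K ≤ W := by
        rw [commutator_def, Subgroup.commutator_le]
        intro x _ y _
        exact hcW x y
      have hcW' : a ^ (r - 1) ∈ W := by
        apply hle
        rw [hceq]
        exact Subgroup.mem_zpowers _
      have hcp : (a ^ (r - 1)) ^ p = 1 := (hW _).mp hcW'
      have hcard : Nat.card (commutator K) = p := by
        rw [hceq, Nat.card_zpowers]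
        have hdvd : orderOf (a ^ (r - 1)) ∣ p := orderOf_dvd_of_pow_eq_one hcp
        rcases (Nat.dvd_prime hp.out).mp hdvd with h1 | h1
        · exfalso
          rw [orderOf_eq_one_iff] at h1
          have hbot : commutator K = ⊥ := by rw [hceq, h1, Subgroup.zpowers_one_eq_bot]
          have h2 : ⁅x₁, y₁⁆ ∈ commutator K := by
            rw [commutator_def]
            exact Subgroup.commutator_mem_commutator (Subgroup.mem_top _) (Subgroup.mem_top _)
          rw [hbot, Subgroup.mem_bot, commutatorElement_eq_one_iff_commute] at h2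
          exact hxy h2.eq
        · exact h1
      exact false_of_card_commutator_eq_prime hp2 hK hmc f hcop hgen hcard
    · rw [eq_top_iff]
      have h1 : (Subgroup.closure {x : K | ∃ (a : A) (r : K), x = f a r * r⁻¹}).map
          (QuotientGroup.mk' W) = ⊤ := by
        rw [hgen]
        exact Subgroup.map_top_of_surjective _ (QuotientGroup.mk'_surjective W)
      rw [← h1, MonoidHom.map_closure]
      apply Subgroup.closure_mono
      rintro _ ⟨x, ⟨a, r, rfl⟩, rfl⟩
      exact ⟨a, QuotientGroup.mk r, rfl⟩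

/-- **Coprime operators on a metacyclic `p`-group, `p` odd**: if `K = [K, A]` then `K` is abelian. -/
theorem commutative_of_generated {K : Type u} [Group K] [Finite K] {p : ℕ} [Fact p.Prime] (hp2 : p ≠ 2)
    (hK : IsPGroup p K) (hmc : Cfsg.IsMetacyclic K) {A : Type v} [Group A] [Finite A] (f : A →* MulAut K)
    (hcop : (Nat.card A).Coprime p)
    (hgen : Subgroup.closure {x : K | ∃ (a : A) (r : K), x = f a r * r⁻¹} = ⊤) :
    ∀ x y : K, x * y = y * x :=
  commutative_of_generated_aux hp2 hcop _ K rfl hK hmc f hgen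

end induction

end Cfsg.Agent.Helper86
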