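import Cfsg.Agent.Helper86.StCA2

/-!
helper86: piece (A3) of helper96's S2092 plan (board #7157): in a group with the Steinberg relations
of type `C`, conjugation by the short-root element `w_pq(t)` on the orthogonal short root element
`x_{p,-q}(u)`.
-/

set_option autoImplicit false

namespace Cfsg.Agent.Helper86.StCA3

open Cfsg.Agent.Helper96 Cfsg.Agent.Helper96.StN Cfsg.Agent.Helper96.StC

universe u v w

variable {K : Type u} [Field K] {D : Type v} [Group D] {ι : Type w} [DecidableEq ι]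
  {X : ι ⊕ ι → ι ⊕ ι → K → D}

/-- (A3) `w_pq(t) x_{p,-q}(u) w_pq(t)⁻¹ = x_{q,-p}(-e u)` -/
theorem W_short_conj_orth (hX : SpRel X) {p q : ι ⊕ ι} (hpq : p ≠ q) (hpq' : q ≠ bar p) {t : K}
    (ht : t ≠ 0) (u : K) :
    W X p q t * X p (bar q) u * (W X p q t)⁻¹ = X q (bar p) (-(eps K p q * u)) := by
  have hp'q : p ≠ bar q := fun e => hpq' (by rw [e, bar_bar])
  have hpp : p ≠ bar p := (bar_ne p).symm
  have hqq : q ≠ bar q := (bar_ne q).symm
  have hbpq : bar p ≠ bar q := fun e => hpq (bar_injective e)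
  have he := eps_mul_self (K := K) p q
  have htt : t * t⁻¹ = 1 := mul_inv_cancel₀ ht
  -- the same short root with the other pair of indices
  have hs : ∀ c, X q (bar p) c = X p (bar q) (eps K p q * c) := by
    intro c
    rw [hX.sym q (bar p) hpq' hbpq c, bar_bar, eps_bar_right, eps_comm]
    congr 1; ring
  have hs' : ∀ c, X p (bar q) c = X q (bar p) (eps K p q * c) := by
    intro c
    rw [hs, ← mul_assoc, he, one_mul]
  -- commutation relations
  have c1 : ∀ a b, X p (bar p) a * X q (bar p) b = X q (bar p) b * X p (bar p) a := fun a b =>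
    hX.comm p (bar p) q (bar p) hpp hpq' hpq'.symm (by rw [bar_bar]; exact (bar_ne p)) hp'q hpp a b
  have c2 : ∀ a b, X p (bar p) a * X q (bar q) b = X q (bar q) b * X p (bar p) a := fun a b =>
    hX.comm p (bar p) q (bar q) hpp hqq hpq'.symm (by rw [bar_bar]; exact hpq'.symm) hp'q hp'q a b
  have c4 : ∀ a b, X p (bar q) a * X q (bar q) b = X q (bar q) b * X p (bar q) a := fun a b =>
    hX.comm p (bar q) q (bar q) hp'q hqq hqq.symm (by rw [bar_bar]; exact hqq.symm) hp'q hp'q a b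
  have e : W X p q t * X p (bar q) u * (W X p q t)⁻¹ =
      X p q t * (X q p (-t⁻¹) * (X p q t * X p (bar q) u * (X p q t)⁻¹) * (X q p (-t⁻¹))⁻¹) *
        (X p q t)⁻¹ := by
    unfold W; group
  have hA : ∀ a, X p q t * X p (bar p) a * (X p q t)⁻¹ = X p (bar p) a := fun a =>
    StC.comm_conj hX hpq hpp hpq.symm (by rw [bar_bar]; exact hpq.symm) hpp hpp t a
  set c := eps K p q * u with hc
  -- step 1
  rw [e, hs' u, StC.r5_conj hX hpq hp'q]
  -- step 2
  have e2 : ∀ a b : D, X q p (-t⁻¹) * (a * b) * (X q p (-t⁻¹))⁻¹ =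
      (X q p (-t⁻¹) * a * (X q p (-t⁻¹))⁻¹) * (X q p (-t⁻¹) * b * (X q p (-t⁻¹))⁻¹) := by
    intro a b; group
  rw [e2, StCA2.conj_long hX hpq hpq' (-t⁻¹) (2 * t * c), hs c,
    StC.r5_conj hX hpq.symm hpq' (-t⁻¹) (eps K p q * c)]
  have k1 : eps K p q * -t⁻¹ * (2 * t * c) = -2 * (eps K p q * c) := by
    linear_combination (-2 * eps K p q * c) * htt
  have k2 : eps K p q * (-t⁻¹) ^ 2 * (2 * t * c) = 2 * t⁻¹ * (eps K p q * c) := by
    linear_combination (2 * t⁻¹ * eps K p q * c) * htt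
  have k3 : 2 * -t⁻¹ * (eps K p q * c) = -(2 * t⁻¹ * (eps K p q * c)) := by ring
  rw [k1, k2, k3]
  set d := eps K p q * c with hd
  have step2 : X p (bar p) (2 * t * c) * X p (bar q) (-2 * d) * X q (bar q) (2 * t⁻¹ * d) *
      (X q (bar q) (-(2 * t⁻¹ * d)) * X p (bar q) d) =
      X p (bar p) (2 * t * c) * X q (bar p) (-c) := by
    have h1 : X q (bar q) (2 * t⁻¹ * d) * X q (bar q) (-(2 * t⁻¹ * d)) = 1 := by
      rw [← hX.add q (bar q) hqq, add_neg_cancel, StC.X_zero hX hqq]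
    have h2 : X p (bar q) (-2 * d) * X p (bar q) d = X q (bar p) (-c) := by
      rw [← hX.add p (bar q) hp'q, hs (-c)]
      congr 1
      rw [hd]; ring
    calc X p (bar p) (2 * t * c) * X p (bar q) (-2 * d) * X q (bar q) (2 * t⁻¹ * d) *
          (X q (bar q) (-(2 * t⁻¹ * d)) * X p (bar q) d)
        = X p (bar p) (2 * t * c) * X p (bar q) (-2 * d) *
            (X q (bar q) (2 * t⁻¹ * d) * X q (bar q) (-(2 * t⁻¹ * d))) * X p (bar q) d := by group
      _ = X p (bar p) (2 * t * c) * (X p (bar q) (-2 * d) * X p (bar q) d) := by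
            rw [h1]; group
      _ = X p (bar p) (2 * t * c) * X q (bar p) (-c) := by rw [h2]
  rw [step2]
  -- step 3
  have e3 : ∀ a b : D, X p q t * (a * b) * (X p q t)⁻¹ =
      (X p q t * a * (X p q t)⁻¹) * (X p q t * b * (X p q t)⁻¹) := by
    intro a b; group
  rw [e3, hA, StC.r5_conj hX hpq hp'q, ← mul_assoc, ← hX.add p (bar p) hpp]
  have k4 : 2 * t * c + 2 * t * -c = 0 := by ring
  rw [k4, StC.X_zero hX hpp, one_mul]

end Cfsg.Agent.Helper86.StCA3
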