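import Cfsg.Agent.Helper96.StC.Generic
import Cfsg.Agent.Helper96.StC.Basic

/-!
helper86: piece (A2) of helper96's S2092 plan (board #7156): in a group with the Steinberg relations
of type `C`, conjugation by the short-root element `w_pq(t)` on a long root element `x_{p,-p}(u)`.
Also the auxiliary lemma `conj_long` (conjugation of a long root element by a short root element).
-/

set_option autoImplicit false

namespace Cfsg.Agent.Helper86.StCA2

open Cfsg.Agent.Helper96 Cfsg.Agent.Helper96.StN Cfsg.Agent.Helper96.StC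

universe u v w

variable {K : Type u} [Field K] {D : Type v} [Group D] {ι : Type w} [DecidableEq ι]
  {X : ι ⊕ ι → ι ⊕ ι → K → D}

/-- `x_qp(s) x_{p,-p}(v) x_qp(s)⁻¹ = x_{p,-p}(v) x_{p,-q}(e s v) x_{q,-q}(e s² v)` -/
theorem conj_long (hX : SpRel X) {p q : ι ⊕ ι} (hpq : p ≠ q) (hpq' : q ≠ bar p) (s v : K) :
    X q p s * X p (bar p) v * (X q p s)⁻¹ =
      X p (bar p) v * X p (bar q) (eps K p q * s * v) * X q (bar q) (eps K p q * s ^ 2 * v) := by
  have hp'q : p ≠ bar q := fun e => hpq' (by rw [e, bar_bar])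
  have hpp : p ≠ bar p := (bar_ne p).symm
  have hY : X q p s = X (bar p) (bar q) (-(eps K p q * s)) := by
    rw [hX.sym q p hpq.symm hp'q s, eps_comm]
  have h6 := StC.r6_conj hX (p := p) (q := bar q) hp'q (by rw [bar_bar]; exact hpq) (-v)
    (-(eps K p q * s))
  rw [bar_bar, eps_bar_right, ← hY, ← StC.X_neg hX hpp] at h6
  have he := eps_mul_self (K := K) p q
  have e1 : -v * -(eps K p q * s) = eps K p q * s * v := by ring
  have e2 : -eps K p q * -v * (-(eps K p q * s)) ^ 2 = eps K p q * s ^ 2 * v := by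
    linear_combination (eps K p q * v * s ^ 2) * he
  rw [e1, e2] at h6
  calc X q p s * X p (bar p) v * (X q p s)⁻¹
      = X p (bar p) v * ((X p (bar p) v)⁻¹ * X q p s * ((X p (bar p) v)⁻¹)⁻¹) * (X q p s)⁻¹ := by
        group
    _ = X p (bar p) v * X p (bar q) (eps K p q * s * v) * X q (bar q) (eps K p q * s ^ 2 * v) := by
        rw [h6]; group

/-- (A2) `w_pq(t) x_{p,-p}(u) w_pq(t)⁻¹ = x_{q,-q}(e t⁻² u)` -/
theorem W_short_conj_long (hX : SpRel X) {p q : ι ⊕ ι} (hpq : p ≠ q) (hpq' : q ≠ bar p) {t : K}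
    (ht : t ≠ 0) (u : K) :
    W X p q t * X p (bar p) u * (W X p q t)⁻¹ = X q (bar q) (eps K p q * t⁻¹ ^ 2 * u) := by
  have hp'q : p ≠ bar q := fun e => hpq' (by rw [e, bar_bar])
  have hpp : p ≠ bar p := (bar_ne p).symm
  have hqq : q ≠ bar q := (bar_ne q).symm
  have hbpq : bar p ≠ bar q := fun e => hpq (bar_injective e)
  have he := eps_mul_self (K := K) p q
  -- the same short root with the other pair of indices
  have hs : ∀ c, X q (bar p) c = X p (bar q) (eps K p q * c) := by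
    intro c
    rw [hX.sym q (bar p) hpq' hbpq c, bar_bar, eps_bar_right, eps_comm]
    congr 1; ring
  have hs' : ∀ c, X p (bar q) c = X q (bar p) (eps K p q * c) := by
    intro c
    rw [hs, ← mul_assoc, he, one_mul]
  -- commutation relations
  have c3 : ∀ a b, X q (bar p) a * X q (bar q) b = X q (bar q) b * X q (bar p) a := fun a b =>
    hX.comm q (bar p) q (bar q) hpq' hqq hpq'.symm (by rw [bar_bar]; exact hpq'.symm) hqq hqq a b
  have c2 : ∀ a b, X p (bar p) a * X q (bar q) b = X q (bar q) b * X p (bar p) a := fun a b =>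
    hX.comm p (bar p) q (bar q) hpp hqq hpq'.symm (by rw [bar_bar]; exact hpq'.symm) hp'q hp'q a b
  have e : W X p q t * X p (bar p) u * (W X p q t)⁻¹ =
      X p q t * (X q p (-t⁻¹) * (X p q t * X p (bar p) u * (X p q t)⁻¹) * (X q p (-t⁻¹))⁻¹) *
        (X p q t)⁻¹ := by
    unfold W; group
  have hA : ∀ a, X p q t * X p (bar p) a * (X p q t)⁻¹ = X p (bar p) a := fun a =>
    StC.comm_conj hX hpq hpp hpq.symm (by rw [bar_bar]; exact hpq.symm) hpp hpp t a
  rw [e, hA, conj_long hX hpq hpq' (-t⁻¹) u]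
  -- conjugate the three factors by `x_pq(t)`
  have e2 : ∀ a b c : D, X p q t * (a * b * c) * (X p q t)⁻¹ =
      (X p q t * a * (X p q t)⁻¹) * (X p q t * b * (X p q t)⁻¹) * (X p q t * c * (X p q t)⁻¹) := by
    intro a b c; group
  rw [e2, hA, hs' (eps K p q * -t⁻¹ * u), StC.r5_conj hX hpq hp'q,
    conj_long hX hpq.symm hp'q t (eps K p q * (-t⁻¹) ^ 2 * u), eps_comm q p]
  have k1 : 2 * t * (eps K p q * (eps K p q * -t⁻¹ * u)) = -2 * u := by
    have : t * t⁻¹ = 1 := mul_inv_cancel₀ ht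
    linear_combination (-2 * u * t * t⁻¹) * he - 2 * u * this
  have k2 : eps K p q * (eps K p q * -t⁻¹ * u) = -(t⁻¹ * u) := by
    linear_combination (-t⁻¹ * u) * he
  have k3 : eps K p q * t * (eps K p q * (-t⁻¹) ^ 2 * u) = t⁻¹ * u := by
    have : t * t⁻¹ = 1 := mul_inv_cancel₀ ht
    linear_combination (t * t⁻¹ ^ 2 * u) * he + (t⁻¹ * u) * this
  have k4 : eps K p q * t ^ 2 * (eps K p q * (-t⁻¹) ^ 2 * u) = u := by
    have : t * t⁻¹ = 1 := mul_inv_cancel₀ ht
    linear_combination (t ^ 2 * t⁻¹ ^ 2 * u) * he + (u * (t * t⁻¹ + 1)) * this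
  have k5 : eps K p q * (-t⁻¹) ^ 2 * u = eps K p q * t⁻¹ ^ 2 * u := by ring
  rw [k1, k2, k3, k4, k5]
  set v := eps K p q * t⁻¹ ^ 2 * u with hv
  set w := t⁻¹ * u with hw
  have h3 : X p (bar p) u * X p (bar p) (-2 * u) = X p (bar p) (-u) := by
    rw [← hX.add p (bar p) hpp]; congr 1; ring
  have h2 : X q (bar p) (-w) * X q (bar p) w = 1 := by
    rw [← hX.add q (bar p) hpq', neg_add_cancel, StC.X_zero hX hpq']
  have h5 : X p (bar p) (-u) * X p (bar p) u = 1 := by
    rw [← hX.add p (bar p) hpp, neg_add_cancel, StC.X_zero hX hpp]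
  calc X p (bar p) u * (X p (bar p) (-2 * u) * X q (bar p) (-w)) *
        (X q (bar q) v * X q (bar p) w * X p (bar p) u)
      = (X p (bar p) u * X p (bar p) (-2 * u)) * (X q (bar p) (-w) * X q (bar q) v) *
          X q (bar p) w * X p (bar p) u := by group
    _ = X p (bar p) (-u) * X q (bar q) v * (X q (bar p) (-w) * X q (bar p) w) *
          X p (bar p) u := by rw [h3, c3]; group
    _ = X q (bar q) v * (X p (bar p) (-u) * X p (bar p) u) := by
          rw [h2, mul_one, c2]; group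
    _ = X q (bar q) v := by rw [h5, mul_one]

end Cfsg.Agent.Helper86.StCA2
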