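import Cfsg.Prelude.Def_FusionSystem
import Cfsg.Prelude.Def_FusionComponents

set_option autoImplicit false

/-! # Predicates for the weakly embedded nilpotency criterion (S5271) -/

namespace Cfsg.Agent.Helper86.WE

open Cfsg Cfsg.FusionSystem

variable {Ω : Type*} [Group Ω] {S : Subgroup Ω}

/-- All automizers of the subgroups of order at least `p ^ k` are `p`-groups. -/
def AutP (p : ℕ) (F : FusionSystem S) (k : ℕ) : Prop :=
  ∀ R : Subgroup Ω, R ≤ S → p ^ k ≤ Nat.card R → IsPGroup p (F.autGroup R)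

/-- Every subgroup of order `p ^ k` is weakly embedded. -/
def WEmb (p : ℕ) (F : FusionSystem S) (k : ℕ) : Prop :=
  ∀ Q : Subgroup Ω, Q ≤ S → Nat.card Q = p ^ k →
    ∃ P : Subgroup Ω, F.StronglyClosed P ∧ F.StronglyClosed (Q ⊔ P) ∧ F.StronglyClosed (Q ⊓ P)

/-- `T` is a minimal nontrivial strongly closed subgroup. -/
def MinSC (F : FusionSystem S) (T : Subgroup Ω) : Prop :=
  F.StronglyClosed T ∧ T ≠ ⊥ ∧ ∀ X : Subgroup Ω, F.StronglyClosed X → X ≤ T → X = ⊥ ∨ X = T

end Cfsg.Agent.Helper86.WE
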