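import Cfsg.Agent.Helper87.FusionBasic
set_option autoImplicit false

/-!
Canonical subgroups for S5202 (helper86): the subgroups `O^{p'}(Aut_F(T)) Aut_E(T)` and `O^p(Aut_F(T)) Aut_E(T)` of `Aut(T)`,
and the subgroup of `S` of the elements acting on `T` as elements of a given subgroup of `Aut(T)`.
-/

namespace Cfsg.Agent.Helper86.OR

open Cfsg Cfsg.FusionSystem

variable {Ω : Type*} [Group Ω]

/-- The canonical subgroup `O^{p'}(Aut_F(T)) Aut_E(T)` of `Aut(T)`. -/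
def primeSub (p : ℕ) {S T : Subgroup Ω} (F : FusionSystem S) (E : FusionSystem T) : Subgroup (MulAut T) :=
  (Subgroup.closure {α : ↥(F.autGroup T) | ∃ k : ℕ, orderOf α = p ^ k}).map (F.autGroup T).subtype ⊔ E.autGroup T

/-- The canonical subgroup `O^p(Aut_F(T)) Aut_E(T)` of `Aut(T)`. -/
def powerSub (p : ℕ) {S T : Subgroup Ω} (F : FusionSystem S) (E : FusionSystem T) : Subgroup (MulAut T) :=
  (pResidual p ↥(F.autGroup T)).map (F.autGroup T).subtype ⊔ E.autGroup T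

/-- The elements of `S` acting on `T` by conjugation as elements of the subgroup `K` of `Aut(T)`. -/
def preAut (S T : Subgroup Ω) (K : Subgroup (MulAut T)) : Subgroup Ω where
  carrier := {x | x ∈ S ∧ ∃ β ∈ K, ∀ t : T, ((β t : T) : Ω) = x * (t : Ω) * x⁻¹}
  mul_mem' := by
    rintro x y ⟨hx, β, hβ, hβt⟩ ⟨hy, γ, hγ, hγt⟩
    refine ⟨S.mul_mem hx hy, β * γ, K.mul_mem hβ hγ, fun t => ?_⟩
    rw [MulAut.mul_apply, hβt, hγt]
    group
  one_mem' := ⟨S.one_mem, 1, K.one_mem, fun t => by simp⟩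
  inv_mem' := by
    rintro x ⟨hx, β, hβ, hβt⟩
    refine ⟨S.inv_mem hx, β⁻¹, K.inv_mem hβ, fun t => ?_⟩
    have h := hβt (β⁻¹ t)
    rw [MulAut.apply_inv_self] at h
    rw [h]
    group

theorem mem_preAut {S T : Subgroup Ω} {K : Subgroup (MulAut T)} {x : Ω} :
    x ∈ preAut S T K ↔ x ∈ S ∧ ∃ β ∈ K, ∀ t : T, ((β t : T) : Ω) = x * (t : Ω) * x⁻¹ := Iff.rfl

theorem preAut_le (S T : Subgroup Ω) (K : Subgroup (MulAut T)) : preAut S T K ≤ S := fun _ hx => hx.1

end Cfsg.Agent.Helper86.OR
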