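import Cfsg.Agent.Helper36.TorD.Defs
import Cfsg.Agent.Helper36.FieldFix
import Cfsg.Agent.Helper36.HFusionChev
import Cfsg.Agent.Helper19.Cox.DataF4
import Cfsg.Agent.Helper19.Cox.DataE8
import Cfsg.Agent.S1046

/-!
Helper86: piece (DESC) of helper36's TorD farm (#13634): descent of a Frobenius-fixed element of the
Chevalley group over `K` to the Chevalley group over `F`.
-/

set_option autoImplicit false

namespace Cfsg.Agent.Helper86.TorD

open Cfsg Cfsg.Lie Cfsg.Agent.Helper18 Cfsg.Agent.Helper19.Cox Cfsg.Agent.Helper19.Poinc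
  Cfsg.Agent.Helper80.Tor Cfsg.Agent.Helper36.TorD Cfsg.Agent.Helper36

section Fields

variable {F K : Type*} [Field F] [Fintype F] [Field K] [Fintype K] [Algebra F K]

/-- the fixed field of the Frobenius `x ↦ x ^ #F` of `K` is the image of `F` (own copy) -/
theorem DESC_frobK_fix (x : K) : frobK F K x = x ↔ x ∈ Set.range (algebraMap F K) := by
  classical
  rw [frobK_apply]
  constructor
  · intro hx
    -- the fixed points are roots of `X ^ q - X`, at most `q` of them; the range has `q` elements
    set q := Fintype.card F with hq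
    have hq1 : 1 < q := Fintype.one_lt_card
    let P : Polynomial K := Polynomial.X ^ q - Polynomial.X
    have hP : P ≠ 0 := FiniteField.X_pow_card_sub_X_ne_zero K hq1
    have hdeg : P.natDegree = q := FiniteField.X_pow_card_sub_X_natDegree_eq K hq1
    let R : Finset K := Finset.univ.image (algebraMap F K)
    have hRcard : R.card = q := by
      rw [Finset.card_image_of_injective _ (algebraMap F K).injective, Finset.card_univ]
    have hRsub : R ⊆ P.roots.toFinset := by
      intro y hy
      obtain ⟨z, -, rfl⟩ := Finset.mem_image.mp hy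
      rw [Multiset.mem_toFinset, Polynomial.mem_roots hP]
      show Polynomial.IsRoot P _
      rw [Polynomial.IsRoot.def]
      simp only [P, Polynomial.eval_sub, Polynomial.eval_pow, Polynomial.eval_X]
      rw [← map_pow, FiniteField.pow_card, sub_self]
    have hle : P.roots.toFinset.card ≤ q := by
      calc P.roots.toFinset.card ≤ Multiset.card P.roots := Multiset.toFinset_card_le _
        _ ≤ P.natDegree := Polynomial.card_roots' P
        _ = q := hdeg
    have heq : R = P.roots.toFinset :=
      Finset.eq_of_subset_of_card_le hRsub (by rw [hRcard]; exact hle)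
    have hxr : x ∈ P.roots.toFinset := by
      rw [Multiset.mem_toFinset, Polynomial.mem_roots hP]
      show Polynomial.IsRoot P _
      rw [Polynomial.IsRoot.def]
      simp only [P, Polynomial.eval_sub, Polynomial.eval_pow, Polynomial.eval_X]
      rw [hx, sub_self]
    rw [← heq] at hxr
    obtain ⟨z, -, rfl⟩ := Finset.mem_image.mp hxr
    exact ⟨z, rfl⟩
  · rintro ⟨z, rfl⟩
    rw [← map_pow, FiniteField.pow_card]

variable (D : ChevalleyDatum)
  (hD : D ∈ [chevG2, chevB2, chevD4, chevF4, chevE6, chevE7, chevE8])
include hD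

/-- (DESC) descent; route: `Cfsg.Agent.Helper36.FieldFix.descent` with `ι = algebraMap F K`,
`σ = RingEquiv.ofBijective (frobK F K) _`, `hfix = frobK_fix`. -/
theorem desc (B : List (List ℤ)) (hB : Unimod.invOK D B = true)
    (hs : ∀ j < D.rank, D.simple j < D.nroots)
    (g : GL D.Idx K) (hg : g ∈ D.group K) (hfg : sigmaGL D.Idx F K g = g) :
    ∃ g₀ ∈ D.group F, iotaGL D.Idx F K g₀ = g := by
  have hbij : Function.Bijective (frobK F K) :=
    (Finite.injective_iff_bijective).mp (frobK F K).injective
  let σ : K ≃+* K := RingEquiv.ofBijective (frobK F K) hbij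
  have hσ : (σ : K →+* K) = frobK F K := RingHom.ext fun _ => rfl
  have hfix : ∀ x : K, σ x = x ↔ x ∈ Set.range (algebraMap F K) := fun x => DESC_frobK_fix x
  have hfg' : Cfsg.Agent.Helper36.BaseChange.bc D (σ : K →+* K) g = g := by
    rw [hσ]; exact hfg
  have h := Cfsg.Agent.Helper36.FieldFix.descent D hD (algebraMap F K) σ hfix B hB hs g hg hfg'
  obtain ⟨g₀, hg₀, hg₀g⟩ := h
  exact ⟨g₀, hg₀, hg₀g⟩

end Fields

end Cfsg.Agent.Helper86.TorD
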