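import Cfsg.Agent.Helper40.E6Tor.Defs2
import Cfsg.Agent.Helper36.FieldFix
import Cfsg.Agent.Helper86.TorD_DESC

/-!
# (DESCGEN) of helper40's S2373 E6Tor farm (#14814): helper36's descent with the diagonal step as a
hypothesis
-/

set_option autoImplicit false
set_option linter.unusedVariables false

namespace Cfsg.Agent.Helper86.E6Tor

open Cfsg Cfsg.Lie Cfsg.Agent.Helper18 Cfsg.Agent.Helper19.Cox Cfsg.Agent.Helper19.Poinc
  Cfsg.Agent.Helper80.Tor Cfsg.Agent.Helper36.TorD Cfsg.Agent.Helper83.E6C Cfsg.Agent.Helper40.E6Tor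
open Polynomial

section Abstract

open Cfsg.Agent.Helper36.FieldFix Cfsg.Agent.Helper36.BaseChange Cfsg.Agent.Helper36

variable {F₀ F : Type*} [Field F₀] [Field F] (D : ChevalleyDatum)
  (hD : D ∈ [chevG2, chevB2, chevD4, chevF4, chevE6, chevE7, chevE8])
  (ι : F₀ →+* F) (σ : F ≃+* F) (hfix : ∀ x : F, σ x = x ↔ x ∈ Set.range ι)
  (hdiag : ∀ h ∈ D.diagonalSubgroup F, bc D (σ : F →+* F) h = h → h ∈ img D ι)

include hD hfix hdiag in
/-- copy of `Cfsg.Agent.Helper36.FieldFix.borel_descent` with the diagonal step as a hypothesis -/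
theorem DESCGEN_borel (b : GL D.Idx F) (hb : b ∈ D.borelSubgroup F)
    (hfb : bc D (σ : F →+* F) b = b) : b ∈ img D ι := by
  obtain ⟨u, hu, h, hh, rfl⟩ := borel_decomp D hD b hb
  have hu' : bc D (σ : F →+* F) u ∈ D.posUnipotent F :=
    bc_pos_le D (σ : F →+* F) ⟨u, hu, rfl⟩
  have hh' : bc D (σ : F →+* F) h ∈ D.diagonalSubgroup F :=
    bc_diag_le D (σ : F →+* F) ⟨h, hh, rfl⟩
  rw [map_mul] at hfb
  have e : u⁻¹ * bc D (σ : F →+* F) u = h * (bc D (σ : F →+* F) h)⁻¹ := by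
    have : bc D (σ : F →+* F) u = u * h * (bc D (σ : F →+* F) h)⁻¹ := by
      rw [← hfb]; group
    rw [this]; group
  have hmem : u⁻¹ * bc D (σ : F →+* F) u ∈ D.posUnipotent F ⊓ D.diagonalSubgroup F := by
    refine ⟨Subgroup.mul_mem _ (Subgroup.inv_mem _ hu) hu', ?_⟩
    rw [e]
    exact Subgroup.mul_mem _ hh (Subgroup.inv_mem _ hh')
  rw [(Cfsg.Agent.S1036.result (F := F) D hD).2, Subgroup.mem_bot] at hmem
  have hfu : bc D (σ : F →+* F) u = u := by
    have := congrArg (fun z => u * z) hmem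
    simpa using this
  have hfh : bc D (σ : F →+* F) h = h := by
    rw [hfu] at hfb
    exact mul_left_cancel hfb
  exact Subgroup.mul_mem _ (pos_descent D hD ι σ hfix u hu hfu) (hdiag h hh hfh)

include hD hfix hdiag in
/-- copy of `Cfsg.Agent.Helper36.FieldFix.descent` with the diagonal step as a hypothesis -/
theorem DESCGEN_descent (g : GL D.Idx F) (hg : g ∈ D.group F)
    (hfg : bc D (σ : F →+* F) g = g) : g ∈ img D ι := by
  obtain ⟨hex, huniq⟩ := Cfsg.Agent.S1100.result (F := F) D hD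
  obtain ⟨b, hb, n, hn, u, hu, rfl⟩ := hex g hg
  obtain ⟨h, hh, m, hm, rfl⟩ := mono_decomp D hD n hn
  have hu2 : u ∈ Um D F m := Um_mul_le D hD h m hh hu
  have hHB : D.diagonalSubgroup F ≤ D.borelSubgroup F := le_sup_right
  have hb1 : b * h ∈ D.borelSubgroup F := Subgroup.mul_mem _ hb (hHB hh)
  have hmN : m ∈ D.monomialSubgroup F := by
    unfold ChevalleyDatum.monomialSubgroup
    exact (le_sup_right : N0 D F ≤ _) hm
  have hfm := N0_fixed D σ m hm
  have hb1' : bc D (σ : F →+* F) (b * h) ∈ D.borelSubgroup F :=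
    bc_borel_le D (σ : F →+* F) ⟨b * h, hb1, rfl⟩
  have hu2' := Um_map D σ m u hu2
  have heq : (b * h) * m * u = bc D (σ : F →+* F) (b * h) * m * bc D (σ : F →+* F) u := by
    have e1 : (b * h) * m * u = b * (h * m) * u := by group
    rw [e1, ← hfg, map_mul, map_mul, map_mul, map_mul, hfm]
    group
  obtain ⟨hbb, huu⟩ := (huniq (b * h) (bc D (σ : F →+* F) (b * h)) m m u
    (bc D (σ : F →+* F) u) hb1 hb1' hmN hmN hu2 hu2' heq).2 rfl
  have e1 : b * (h * m) * u = (b * h) * m * u := by group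
  rw [e1]
  refine Subgroup.mul_mem _ (Subgroup.mul_mem _ ?_ (N0_le_img D hD ι hm)) ?_
  · exact DESCGEN_borel D hD ι σ hfix hdiag (b * h) hb1 hbb.symm
  · exact pos_descent D hD ι σ hfix u (bruhatU_le_pos D m hu2) huu.symm

end Abstract

section Desc

variable {F : Type*} {K : Type*} [Field F] [Fintype F] [Field K] [Fintype K] [Algebra F K]

/-- (DESCGEN) helper36's descent (`Cfsg.Agent.Helper36.FieldFix.descent`, `Cfsg.Agent.Helper86.TorD.desc`)
with the diagonal step as a hypothesis -/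
theorem desc_of_diag (D : ChevalleyDatum)
    (hD : D ∈ [chevG2, chevB2, chevD4, chevF4, chevE6, chevE7, chevE8])
    (hdiag : ∀ h ∈ D.diagonalSubgroup K, sigmaGL D.Idx F K h = h → ∃ h₀ ∈ D.group F, iotaGL D.Idx F K h₀ = h)
    (g : GL D.Idx K) (hg : g ∈ D.group K) (hfg : sigmaGL D.Idx F K g = g) :
    ∃ g₀ ∈ D.group F, iotaGL D.Idx F K g₀ = g := by
  have hbij : Function.Bijective (frobK F K) :=
    (Finite.injective_iff_bijective).mp (frobK F K).injective
  let σ : K ≃+* K := RingEquiv.ofBijective (frobK F K) hbij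
  have hσ : (σ : K →+* K) = frobK F K := RingHom.ext fun _ => rfl
  have hfix : ∀ x : K, σ x = x ↔ x ∈ Set.range (algebraMap F K) :=
    fun x => Cfsg.Agent.Helper86.TorD.DESC_frobK_fix x
  have hfg' : Cfsg.Agent.Helper36.BaseChange.bc D (σ : K →+* K) g = g := by
    rw [hσ]; exact hfg
  have hdiag' : ∀ h ∈ D.diagonalSubgroup K, Cfsg.Agent.Helper36.BaseChange.bc D (σ : K →+* K) h = h →
      h ∈ Cfsg.Agent.Helper36.FieldFix.img D (algebraMap F K) := by
    intro h hh hfh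
    rw [hσ] at hfh
    obtain ⟨h₀, hh₀, e⟩ := hdiag h hh hfh
    exact ⟨h₀, hh₀, e⟩
  have h := DESCGEN_descent D hD (algebraMap F K) σ hfix hdiag' g hg hfg'
  obtain ⟨g₀, hg₀, hg₀g⟩ := h
  exact ⟨g₀, hg₀, hg₀g⟩

end Desc

end Cfsg.Agent.Helper86.E6Tor
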