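import Cfsg.Agent.Helper87.FusionRS

/-!
# Extensions acting trivially modulo the source (helper86)

Two predicates used for the centralizer of a normal subsystem.
`TrivExt F P Q φ`: the automorphism `φ` of `P` extends to an automorphism of the system on `P ⊔ Q` which moves every
element of `Q` only by an element of `P`.
`ExtFix F X P φ`: the map `φ` with source `P` extends to a map of the system on `P ⊔ X` fixing `X` elementwise.
-/

set_option autoImplicit false

namespace Cfsg.Agent.Helper86.CE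

open Cfsg Cfsg.FusionSystem Cfsg.Agent.Helper87

variable {Ω : Type*} [Group Ω] {S : Subgroup Ω}

/-- `φ ∈ Aut(P)` extends to an automorphism `e` of the system on `P ⊔ Q` with `c⁻¹ e(c) ∈ P` for every `c ∈ Q`. -/
def TrivExt (F : FusionSystem S) (P Q : Subgroup Ω) (φ : MulAut P) : Prop :=
  ∃ e : ↥(P ⊔ Q) ≃* ↥(P ⊔ Q), IsIso F e ∧
    (∀ x : P, ((e (Subgroup.inclusion le_sup_left x) : ↥(P ⊔ Q)) : Ω) = ((φ x : P) : Ω)) ∧
    ∀ c : ↥(P ⊔ Q), (c : Ω) ∈ Q → (c : Ω)⁻¹ * ((e c : ↥(P ⊔ Q)) : Ω) ∈ P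

/-- `φ : P →* Ω` extends to a map of the system on `P ⊔ X` that fixes `X` elementwise. -/
def ExtFix (F : FusionSystem S) (X P : Subgroup Ω) (φ : P →* Ω) : Prop :=
  ∃ ψ ∈ F.Hom (P ⊔ X), (∀ x : P, ψ (Subgroup.inclusion le_sup_left x) = φ x) ∧
    ∀ x : X, ψ (Subgroup.inclusion le_sup_right x) = x

end Cfsg.Agent.Helper86.CE
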