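import Cfsg.Agent.Helper78.Olsson.Defs
import Cfsg.Agent.Helper16.ContribMajor

/-!
# Olsson's theorem, piece (R3): the contributions in terms of the rows

`p^d · m^{(x,b)}_{χψ} = ∑_{i j} conj (row χ i) · g i j · row ψ j`.
-/

set_option autoImplicit false
set_option linter.unusedSectionVars false
set_option linter.unusedVariables false

noncomputable section

namespace Cfsg.Agent.Helper86.Olsson

open Cfsg
open scoped ComplexConjugate
open Cfsg.Agent.S4426 (cut)
open Cfsg.Agent.Helper16 (contribE)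
open Cfsg.Agent.Helper78.Olsson

/-- reordering of a fourfold finite sum. -/
theorem sum4_comm {ι κ : Type*} [Fintype ι] [Fintype κ] (F : ι → ι → κ → κ → ℂ) :
    ∑ i : κ, ∑ j : κ, ∑ θ : ι, ∑ θ' : ι, F θ θ' i j =
      ∑ θ : ι, ∑ θ' : ι, ∑ i : κ, ∑ j : κ, F θ θ' i j := by
  calc ∑ i : κ, ∑ j : κ, ∑ θ : ι, ∑ θ' : ι, F θ θ' i j
      = ∑ i : κ, ∑ θ : ι, ∑ j : κ, ∑ θ' : ι, F θ θ' i j :=
        Finset.sum_congr rfl (fun i _ => Finset.sum_comm)
    _ = ∑ θ : ι, ∑ i : κ, ∑ j : κ, ∑ θ' : ι, F θ θ' i j := Finset.sum_comm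
    _ = ∑ θ : ι, ∑ i : κ, ∑ θ' : ι, ∑ j : κ, F θ θ' i j :=
        Finset.sum_congr rfl (fun θ _ => Finset.sum_congr rfl (fun i _ => Finset.sum_comm))
    _ = ∑ θ : ι, ∑ θ' : ι, ∑ i : κ, ∑ j : κ, F θ θ' i j :=
        Finset.sum_congr rfl (fun θ _ => Finset.sum_comm)

section HLevel

variable {H : Type*} [Group H] [Fintype H] {p : ℕ}

/-- `p^d (θ⁰, θ') = ∑ x_θi g_ij x_θ'j` for `θ ∈ b`. -/
theorem defect_mul_classInner_cut {b : Set (IrrCharacter H)} (D : RedData p b)
    (θ θ' : IrrCharacter H) (hθ : θ ∈ b) :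
    ((p ^ blockDefect p b : ℕ) : ℂ) * classInner (cut p 1 (θ : H → ℂ)) (θ' : H → ℂ) =
      ∑ i : Fin 2, ∑ j : Fin 2, (D.x θ i : ℂ) * (D.g i j : ℂ) * (D.x θ' j : ℂ) := by
  have hfun : ((p ^ blockDefect p b : ℕ) : ℂ) • cut p 1 (θ : H → ℂ) =
      ∑ i : Fin 2, ∑ j : Fin 2, ((D.x θ i : ℂ) * (D.g i j : ℂ)) • D.f j := by
    funext h
    rw [Pi.smul_apply, smul_eq_mul, D.hexp θ hθ h, Finset.sum_apply]
    refine Finset.sum_congr rfl (fun i _ => ?_)
    rw [Finset.sum_apply]
    refine Finset.sum_congr rfl (fun j _ => ?_)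
    rw [Pi.smul_apply, smul_eq_mul]
  rw [← Helper79.classInner_smul_left, hfun, Helper79.classInner_sum_left]
  refine Finset.sum_congr rfl (fun i _ => ?_)
  rw [Helper79.classInner_sum_left]
  refine Finset.sum_congr rfl (fun j _ => ?_)
  rw [Helper79.classInner_smul_left, D.hinner]

open Classical in
/-- the same with the indicator of `b`, for all `θ`. -/
theorem ite_mul_defect_mul_classInner_cut {b : Set (IrrCharacter H)} (D : RedData p b)
    (θ θ' : IrrCharacter H) :
    (if θ ∈ b then (1 : ℂ) else 0) * (((p ^ blockDefect p b : ℕ) : ℂ) *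
        classInner (cut p 1 (θ : H → ℂ)) (θ' : H → ℂ)) =
      ∑ i : Fin 2, ∑ j : Fin 2, (D.x θ i : ℂ) * (D.g i j : ℂ) * (D.x θ' j : ℂ) := by
  by_cases hθ : θ ∈ b
  · rw [if_pos hθ, one_mul, defect_mul_classInner_cut D θ θ' hθ]
  · rw [if_neg hθ, zero_mul]
    symm
    refine Finset.sum_eq_zero (fun i _ => Finset.sum_eq_zero (fun j _ => ?_))
    rw [D.hx0 θ hθ]
    simp

/-- `(F, f_i) = ∑_θ x_θi (F, θ)`. -/
theorem classInner_dual_right {b : Set (IrrCharacter H)} (D : RedData p b) (F : H → ℂ)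
    (i : Fin 2) :
    classInner F (D.f i) = ∑ θ : IrrCharacter H, (D.x θ i : ℂ) * classInner F (θ : H → ℂ) := by
  have e := Helper79.classFunction_expansion (D.hcl i)
  have : classInner F (D.f i) =
      classInner F (∑ θ : IrrCharacter H, classInner (D.f i) (θ : H → ℂ) • (θ : H → ℂ)) := by
    rw [← e]
  rw [this, Helper79.classInner_sum_right]
  refine Finset.sum_congr rfl (fun θ _ => ?_)
  rw [Helper79.classInner_smul_right, D.hinner, map_intCast]

end HLevel

section GLevel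

variable {G : Type*} [Group G] [Fintype G] {M : Ideal AlgInt} {p : ℕ}

theorem conj_rowE (H : Subgroup G) [Fintype H] {b : Set (IrrCharacter H)}
    (D : RedData p b) (x : G) (χ : G → ℂ) (i : Fin 2) :
    conj (rowE D x χ i) = ∑ θ : IrrCharacter H, (D.x θ i : ℂ) *
      classInner (fun c : H => χ (x * (c : G))) (θ : H → ℂ) := by
  unfold rowE
  rw [Helper79.classInner_conj_symm, classInner_dual_right]

theorem rowE_eq_sum (H : Subgroup G) [Fintype H] {b : Set (IrrCharacter H)}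
    (D : RedData p b) (x : G) (ψ : G → ℂ) (j : Fin 2) :
    rowE D x ψ j = ∑ θ : IrrCharacter H, (D.x θ j : ℂ) *
      conj (classInner (fun c : H => ψ (x * (c : G))) (θ : H → ℂ)) := by
  have h := conj_rowE H D x ψ j
  have h2 : rowE D x ψ j = conj (conj (rowE D x ψ j)) := (Complex.conj_conj _).symm
  rw [h2, h, map_sum]
  refine Finset.sum_congr rfl (fun θ _ => ?_)
  rw [map_mul, map_intCast]

open Classical in
/-- (R3) the contributions in terms of the rows. -/
theorem defect_mul_contribE_eq (H : Subgroup G) [Fintype H] {b : Set (IrrCharacter H)}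
    (D : RedData p b) (x : G) (χ ψ : G → ℂ) :
    ((p ^ blockDefect p b : ℕ) : ℂ) * contribE p H x b χ ψ =
      ∑ i : Fin 2, ∑ j : Fin 2, conj (rowE D x χ i) * (D.g i j : ℂ) * rowE D x ψ j := by
  have hL : ((p ^ blockDefect p b : ℕ) : ℂ) * contribE p H x b χ ψ =
      ∑ θ : IrrCharacter H, ∑ θ' : IrrCharacter H,
        (classInner (fun c : H => χ (x * (c : G))) (θ : H → ℂ) *
          conj (classInner (fun c : H => ψ (x * (c : G))) (θ' : H → ℂ))) *
        ∑ i : Fin 2, ∑ j : Fin 2, (D.x θ i : ℂ) * (D.g i j : ℂ) * (D.x θ' j : ℂ) := by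
    unfold Cfsg.Agent.Helper16.contribE
    rw [Finset.mul_sum]
    refine Finset.sum_congr rfl (fun θ _ => ?_)
    rw [Finset.mul_sum]
    refine Finset.sum_congr rfl (fun θ' _ => ?_)
    rw [← ite_mul_defect_mul_classInner_cut D θ θ']
    ring
  rw [hL]
  have hR : ∀ i j : Fin 2, conj (rowE D x χ i) * (D.g i j : ℂ) * rowE D x ψ j =
      ∑ θ : IrrCharacter H, ∑ θ' : IrrCharacter H,
        (classInner (fun c : H => χ (x * (c : G))) (θ : H → ℂ) *
          conj (classInner (fun c : H => ψ (x * (c : G))) (θ' : H → ℂ))) *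
        ((D.x θ i : ℂ) * (D.g i j : ℂ) * (D.x θ' j : ℂ)) := by
    intro i j
    rw [conj_rowE, rowE_eq_sum, Finset.sum_mul, Finset.sum_mul]
    refine Finset.sum_congr rfl (fun θ _ => ?_)
    rw [Finset.mul_sum]
    refine Finset.sum_congr rfl (fun θ' _ => ?_)
    ring
  simp only [hR]
  rw [sum4_comm]
  refine Finset.sum_congr rfl (fun θ _ => ?_)
  refine Finset.sum_congr rfl (fun θ' _ => ?_)
  rw [Finset.mul_sum]
  refine Finset.sum_congr rfl (fun i _ => ?_)
  rw [Finset.mul_sum]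

end GLevel

end Cfsg.Agent.Helper86.Olsson

end
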