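import Cfsg.Agent.Helper85.TransportSubnormal
import Cfsg.Agent.Helper87.FusionClosed
import Cfsg.Agent.Helper88.FusionStrongInv
import Cfsg.Agent.S5119
set_option autoImplicit false

/-!
Composition of normality (helper86, for S5202): a subsystem `F₀` over `U = T C_S(T)` normal in a normal subsystem `F₁` of
`F` is normal in `F` as soon as it is carried to itself by the automorphisms in `Aut_F(S₁)`.
-/

namespace Cfsg.Agent.Helper86.OR

open Cfsg Cfsg.FusionSystem Cfsg.Agent.Helper85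

variable {Ω : Type*} [Group Ω]

/-- The extension condition is automatic for a subsystem over a subgroup containing its centralizer in `S`. -/
theorem extension_of_centralizerIn_le {S U : Subgroup Ω} (D : FusionSystem U) (F : FusionSystem S)
    (hDF : D.IsSubsystemOf F) (hUS : U ≤ S) (hC : centralizerIn S U ≤ U) :
    ∀ α ∈ D.autGroup U, ∃ β ∈ F.autGroup (U ⊔ centralizerIn S U),
      (∀ x : U, ((β (Subgroup.inclusion le_sup_left x) : ↥(U ⊔ centralizerIn S U)) : Ω) = ((α x : U) : Ω)) ∧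
      ∀ c : ↥(U ⊔ centralizerIn S U), (c : Ω) ∈ centralizerIn S U →
        (c : Ω)⁻¹ * ((β c : ↥(U ⊔ centralizerIn S U)) : Ω) ∈ U ⊓ Subgroup.centralizer (U : Set Ω) := by
  intro α hα
  have hEq : U ⊔ centralizerIn S U = U := sup_eq_left.mpr hC
  have hαF : U.subtype.comp (α : U ≃* U).toMonoidHom ∈ F.Hom U :=
    hDF U ((Cfsg.Agent.Helper87.mem_autGroup_iff D le_rfl α).mp hα)
  let ε : ↥(U ⊔ centralizerIn S U) ≃* ↥U := MulEquiv.subgroupCongr hEq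
  have hε : ∀ x : ↥(U ⊔ centralizerIn S U), ((ε x : U) : Ω) = x := fun x => rfl
  have hεs : ∀ x : U, ((ε.symm x : ↥(U ⊔ centralizerIn S U)) : Ω) = x := fun x => rfl
  let β : MulAut ↥(U ⊔ centralizerIn S U) := ε.trans ((α : U ≃* U).trans ε.symm)
  have hβx : ∀ x : ↥(U ⊔ centralizerIn S U), ((β x : ↥(U ⊔ centralizerIn S U)) : Ω) = ((α (ε x) : U) : Ω) :=
    fun x => rfl
  refine ⟨β, ?_, ?_, ?_⟩
  · rw [Cfsg.Agent.Helper87.mem_autGroup_iff F (hEq.le.trans hUS)]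
    unfold Cfsg.Agent.Helper87.IsIso
    obtain ⟨χ', hχ', hχ'x⟩ := Cfsg.Agent.Helper88.FS.exists_hom_of_eq F hEq.symm hαF
    refine Cfsg.Agent.Helper87.mem_of_eq F hχ' (fun x => ?_)
    have hxU : (x : Ω) ∈ U := hEq.le x.2
    rw [hχ'x x hxU x.2]
    rfl
  · intro x
    rw [hβx]
    congr 2
  · intro c hc
    rw [hβx]
    have hcU : (c : Ω) ∈ U := hC hc
    have hεc : ε c = ⟨c, hcU⟩ := Subtype.ext rfl
    rw [hεc]
    refine ⟨U.mul_mem (U.inv_mem hcU) (α ⟨c, hcU⟩).2, ?_⟩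
    apply Subgroup.mul_mem _ (Subgroup.inv_mem _ hc.2)
    rw [Subgroup.mem_centralizer_iff]
    intro y hy
    have h1 : α.symm ⟨y, hy⟩ * ⟨c, hcU⟩ = ⟨c, hcU⟩ * α.symm ⟨y, hy⟩ :=
      Subtype.ext (Subgroup.mem_centralizer_iff.mp hc.2 _ (α.symm ⟨y, hy⟩).2)
    have h2 := congrArg α h1
    rw [map_mul, map_mul, MulEquiv.apply_symm_apply] at h2
    exact congrArg Subtype.val h2

/-- Composition of normality under an invariance hypothesis. -/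
theorem isNormalIn_trans_of_inv {S S₁ U T : Subgroup Ω} [Finite S] (p : ℕ) [Fact p.Prime] (hS : IsPGroup p S)
    (F : FusionSystem S) (hF : F.IsSaturated p) (F₁ : FusionSystem S₁) (hF₁ : F₁.IsNormalIn F p)
    (hT : F.StronglyClosed T) (hU : U = T ⊔ centralizerIn S T)
    (F₀ : FusionSystem U) (hF₀ : F₀.IsNormalIn F₁ p)
    (hinv : ∀ α ∈ F.autGroup S₁, ∀ g : Ω → Ω, (∀ x : S₁, g x = ((α x : S₁) : Ω)) → IsImgF g F₀ F₀) :
    F₀.IsNormalIn F p := by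
  have hS₁S : S₁ ≤ S := hF₁.1.2.2.2.1.1
  have hfinS₁ : Finite S₁ := Cfsg.Agent.Helper87.finite_of_le hS₁S
  have hS₁ : IsPGroup p S₁ := hS.to_le hS₁S
  have hUS₁ : U ≤ S₁ := hF₀.1.2.2.2.1.1
  have hUS : U ≤ S := hUS₁.trans hS₁S
  have hsub₀₁ : F₀.IsSubsystemOf F₁ := hF₀.1.2.2.1
  have hsub₁ : F₁.IsSubsystemOf F := hF₁.1.2.2.1
  have hsub : F₀.IsSubsystemOf F := fun P φ hφ => hsub₁ P (hsub₀₁ P hφ)
  have hUcl : F.StronglyClosed U := by
    rw [hU]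
    exact Cfsg.Agent.Helper87.stronglyClosed_sup_centralizerIn hS F hF hT
  have hUcl₁ : F₁.StronglyClosed U := hF₀.1.2.2.2.1
  have hSI₁ : Cfsg.Agent.Helper88.FS.StrongInv F₀ F₁ :=
    (Cfsg.Agent.S5119.result p hS₁ F₁ hF₁.1.1 F₀ hsub₀₁ hUcl₁).mp hF₀.1.2.2
  have hSI : Cfsg.Agent.Helper88.FS.StrongInv F₀ F := by
    intro P Q hPQ hQU φ hφ hφQ ψ hψ
    have hQS₁ : Q ≤ S₁ := hQU.trans hUS₁
    obtain ⟨α, hα, ψ₁, hψ₁, hψx⟩ := hF₁.1.2.2.2.2.2 Q hQS₁ ψ hψ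
    have hψ₁S : ∀ x, ψ₁ x ∈ S₁ := (F₁.le_of_mem hψ₁).2
    -- first transport by `ψ₁` inside `F₁`
    obtain ⟨χ₁, hχ₁, hχ₁x⟩ := hSI₁.push (P' := (P.subgroupOf Q).map ψ₁) hPQ hQU hφ hφQ hψ₁ (by
      intro y
      rw [Subgroup.mem_map]
      constructor
      · rintro ⟨z, hz, rfl⟩
        rw [Subgroup.mem_subgroupOf] at hz
        exact ⟨⟨z, hz⟩, rfl⟩
      · rintro ⟨x, rfl⟩
        exact ⟨Subgroup.inclusion hPQ x, Subgroup.mem_subgroupOf.mpr x.2, rfl⟩)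
    -- then by the automorphism `α`
    have hg := hinv α hα (extFun (S₁.subtype.comp (α : S₁ ≃* S₁).toMonoidHom)) (fun x => by
      rw [extFun_coe]; rfl)
    have hgx : ∀ (x : Ω) (hx : x ∈ S₁), extFun (S₁.subtype.comp (α : S₁ ≃* S₁).toMonoidHom) x = ((α ⟨x, hx⟩ : S₁) : Ω) :=
      fun x hx => by rw [extFun_eq _ hx]; rfl
    have hP₁S₁ : (P.subgroupOf Q).map ψ₁ ≤ S₁ := by
      rintro y ⟨z, -, rfl⟩
      exact hψ₁S z
    have him : IsIm (extFun (S₁.subtype.comp (α : S₁ ≃* S₁).toMonoidHom)) ((P.subgroupOf Q).map ψ₁)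
        ((P.subgroupOf Q).map ψ) := by
      intro y
      constructor
      · rintro ⟨z, hz, rfl⟩
        refine ⟨ψ₁ z, ⟨z, hz, rfl⟩, ?_⟩
        rw [hgx _ (hψ₁S z)]
        exact (hψx z (hψ₁S z)).symm
      · rintro ⟨x, ⟨z, hz, rfl⟩, rfl⟩
        refine ⟨z, hz, ?_⟩
        rw [hgx _ (hψ₁S z)]
        exact hψx z (hψ₁S z)
    obtain ⟨χ, hχ, hind⟩ := hg.push hχ₁ him
    refine ⟨χ, hχ, fun x hx => ?_⟩
    have hx₁ : ψ₁ (Subgroup.inclusion hPQ x) ∈ (P.subgroupOf Q).map ψ₁ :=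
      ⟨Subgroup.inclusion hPQ x, Subgroup.mem_subgroupOf.mpr x.2, rfl⟩
    have e1 : extFun (S₁.subtype.comp (α : S₁ ≃* S₁).toMonoidHom) (ψ₁ (Subgroup.inclusion hPQ x)) =
        ψ (Subgroup.inclusion hPQ x) := by
      rw [hgx _ (hψ₁S _)]
      exact (hψx _ (hψ₁S _)).symm
    have e2 := hind.apply ⟨ψ (Subgroup.inclusion hPQ x), hx⟩ (ψ₁ (Subgroup.inclusion hPQ x)) hx₁ e1
    rw [e2, hχ₁x x hx₁, hgx _ (hψ₁S _)]
    exact (hψx _ (hψ₁S _)).symm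
  have hinvar : F₀.IsInvariantIn F := (Cfsg.Agent.S5119.result p hS F hF F₀ hsub hUcl).mpr hSI
  refine ⟨⟨hF₀.1.1, hF, hinvar⟩, extension_of_centralizerIn_le F₀ F hsub hUS ?_⟩
  -- `C_S(U) ≤ U`
  rintro c ⟨hcS, hcC⟩
  rw [hU]
  apply Subgroup.mem_sup_right
  refine ⟨hcS, ?_⟩
  show c ∈ Subgroup.centralizer (T : Set Ω)
  rw [Subgroup.mem_centralizer_iff]
  intro t ht
  have htU : t ∈ U := by rw [hU]; exact Subgroup.mem_sup_left ht
  exact Subgroup.mem_centralizer_iff.mp hcC t htU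

end Cfsg.Agent.Helper86.OR
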