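import Cfsg.Agent.Helper85.TransportSubnormal
import Cfsg.Agent.Helper85.ResidualLimit
import Cfsg.Agent.Helper85.PPowerNormal
import Cfsg.Agent.Helper86.ORNormal
set_option autoImplicit false

/-!
The inductive framework for S5202 (helper86): the conclusion `Good` with its invariance clause, one step `Step` down, and
the assembly of a step with the conclusion for the smaller system.
-/

namespace Cfsg.Agent.Helper86.OR

open Cfsg Cfsg.FusionSystem Cfsg.Agent.Helper85

variable {Ω : Type*} [Group Ω]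

/-- The conclusion of S5202, with the invariance clause needed for the induction. -/
def Good (p : ℕ) {S T : Subgroup Ω} (F : FusionSystem S) (E : FusionSystem T) : Prop :=
  ∃ (U : Subgroup Ω) (F₀ : FusionSystem U), U = T ⊔ centralizerIn S T ∧ F₀.IsNormalIn F p ∧ E.IsSubsystemOf F₀ ∧
    F₀.autGroup T = E.autGroup T ∧
    (∀ g : Ω → Ω, IsImgF g F F → IsImgF g E E → IsImgF g F₀ F₀) ∧
    ∀ {V W : Subgroup Ω} (Finf : FusionSystem V) (L : FusionSystem W),
      Finf.IsResidualLimitOf F p → L.IsResidualLimitOf F₀ p → SameHom L Finf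

/-- One step down. -/
structure Step (p : ℕ) {S T S₁ : Subgroup Ω} (F : FusionSystem S) (E : FusionSystem T) (F₁ : FusionSystem S₁) :
    Prop where
  normal : F₁.IsNormalIn F p
  sub : E.IsNormalIn F₁ p
  le : T ⊔ centralizerIn S T ≤ S₁
  card : Nat.card (F₁.autGroup T) < Nat.card (F.autGroup T)
  inv : ∀ g : Ω → Ω, IsImgF g F F → IsImgF g E E → IsImgF g F₁ F₁
  res : ∀ {V W : Subgroup Ω} (Finf : FusionSystem V) (L : FusionSystem W),
      Finf.IsResidualLimitOf F p → L.IsResidualLimitOf F₁ p → SameHom L Finf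

/-- The restriction to a strongly closed subgroup of an automorphism in the system. -/
theorem exists_restrict_aut {S R T : Subgroup Ω} (F : FusionSystem S) (hT : F.StronglyClosed T) (hRS : R ≤ S)
    (hTR : T ≤ R) {α : MulAut R} (hα : α ∈ F.autGroup R) :
    ∃ β ∈ F.autGroup T, ∀ x : T, ((β x : T) : Ω) = ((α ⟨x, hTR x.2⟩ : R) : Ω) := by
  have h : ∀ γ ∈ F.autGroup R, ∀ x : R, ((γ x : R) : Ω) ∈ T ↔ (x : Ω) ∈ T :=
    fun γ hγ x => aut_mem_iff_of_stronglyClosed F hT hRS hγ x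
  exact ⟨(resAutHom F hRS hTR h ⟨α, hα⟩ : F.autGroup T), (resAutHom F hRS hTR h ⟨α, hα⟩).2, fun x => rfl⟩

theorem good_of_step {S T S₁ : Subgroup Ω} [Finite S] (p : ℕ) [Fact p.Prime] (hS : IsPGroup p S) (F : FusionSystem S)
    (hF : F.IsSaturated p) (E : FusionSystem T) (hE : E.IsNormalIn F p) (F₁ : FusionSystem S₁)
    (hstep : Step p F E F₁) (hex : ∃ (W : Subgroup Ω) (L : FusionSystem W), L.IsResidualLimitOf F₁ p)
    (hgood : Good p F₁ E) : Good p F E := by
  obtain ⟨U, F₀, hU, hnorm₁, hsub, haut, hinv₀, hres₀⟩ := hgood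
  have hS₁S : S₁ ≤ S := hstep.normal.1.2.2.2.1.1
  have hTcl : F.StronglyClosed T := hE.1.2.2.2.1
  have hTS₁ : T ≤ S₁ := hstep.sub.1.2.2.2.1.1
  have hcent : centralizerIn S₁ T = centralizerIn S T := by
    apply le_antisymm
    · exact fun c hc => ⟨hS₁S hc.1, hc.2⟩
    · exact fun c hc => ⟨hstep.le (Subgroup.mem_sup_right hc), hc.2⟩
  have hU' : U = T ⊔ centralizerIn S T := by rw [hU, hcent]
  refine ⟨U, F₀, hU', ?_, hsub, haut, fun g hgF hgE => hinv₀ g (hstep.inv g hgF hgE) hgE, ?_⟩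
  · apply isNormalIn_trans_of_inv p hS F hF F₁ hstep.normal hTcl hU' F₀ hnorm₁
    intro α hα g hg
    have hgF₁ : IsImgF g F₁ F₁ := isImgF_aut hstep.normal.1.2.2 hα hg
    obtain ⟨β, hβ, hβx⟩ := exists_restrict_aut F hTcl hS₁S hTS₁ hα
    have hgE : IsImgF g E E := isImgF_aut hE.1.2.2 hβ (fun x => by
      rw [hβx x]
      exact hg ⟨x, hTS₁ x.2⟩)
    exact hinv₀ g hgF₁ hgE
  · intro V W Finf L hFinf hL
    obtain ⟨W₁, L₁, hL₁⟩ := hex
    exact (hres₀ L₁ L hL₁ hL).trans (hstep.res Finf L₁ hFinf hL₁)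

end Cfsg.Agent.Helper86.OR
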