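import Cfsg.Agent.Helper86.NQInv
import Cfsg.Agent.Lib.Cores
set_option autoImplicit false

/-!
"Bad" subgroups: `Q ≤ S` together with an element `c ∈ T` centralizing `Q ∩ T`, normalizing `Q`, and not in `Q`.
For such `Q`, conjugation by `c` lies in a normal `p`-subgroup of `Aut_D(Q)` for every system `D` in which `T` is
strongly closed.
-/

namespace Cfsg.Agent.Helper86.NQ

open Cfsg Cfsg.FusionSystem Cfsg.Agent.Helper87 Cfsg.Agent.Helper88.FS Cfsg.Agent.Helper85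

variable {Ω : Type*} [Group Ω] {S T : Subgroup Ω}

/-- `c ∈ T` centralizes `Q ∩ T`, normalizes `Q`, and is not in `Q`. -/
def BadElt (T Q : Subgroup Ω) (c : Ω) : Prop :=
  c ∈ T ∧ c ∈ Subgroup.centralizer ((Q ⊓ T : Subgroup Ω) : Set Ω) ∧ c ∈ Subgroup.normalizer (Q : Set Ω) ∧ c ∉ Q

/-- Preimages of elements of a strongly closed subgroup under maps of the system lie in it. -/
theorem mem_of_map_mem_closed {F : FusionSystem S} (hT : F.StronglyClosed T) {P : Subgroup Ω} {φ : P →* Ω}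
    (hφ : φ ∈ F.Hom P) (x : P) (hx : φ x ∈ T) : (x : Ω) ∈ T := by
  obtain ⟨ρ, hρ, hρx⟩ := F.inv_mem hφ
  have h2 := hT.2 (φ.range ⊓ T) inf_le_right _ (Helper87.restrict_mem F hρ inf_le_left) ⟨φ x, ⟨x, rfl⟩, hx⟩
  have h3 : (ρ.comp (Subgroup.inclusion (inf_le_left : φ.range ⊓ T ≤ φ.range))) ⟨φ x, ⟨x, rfl⟩, hx⟩ = (x : Ω) :=
    hρx x
  rwa [h3] at h2

theorem map_mem_closed {F : FusionSystem S} (hT : F.StronglyClosed T) {P : Subgroup Ω} {φ : P →* Ω}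
    (hφ : φ ∈ F.Hom P) (x : P) (hx : (x : Ω) ∈ T) : φ x ∈ T :=
  hT.2 (P ⊓ T) inf_le_right _ (Helper87.restrict_mem F hφ inf_le_left) ⟨x, x.2, hx⟩

/-- If the centralizer in `T` of `Q ∩ T` is not inside `Q ∩ T`, there is a bad element. -/
theorem exists_badElt [Finite S] {p : ℕ} [Fact p.Prime] (hS : IsPGroup p S) (hTS : T ≤ S)
    (hTn : ∀ g ∈ S, ∀ x ∈ T, g * x * g⁻¹ ∈ T) {Q : Subgroup Ω} (hQS : Q ≤ S)
    (hC : ¬ centralizerIn T (Q ⊓ T) ≤ Q ⊓ T) : ∃ c, BadElt T Q c := by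
  -- conjugation by elements of `Q` preserves `Q ∩ T` and its centralizer in `T`
  have hconjQT : ∀ g ∈ Q, ∀ y ∈ Q ⊓ T, g * y * g⁻¹ ∈ Q ⊓ T := fun g hg y hy =>
    ⟨Q.mul_mem (Q.mul_mem hg hy.1) (Q.inv_mem hg), hTn g (hQS hg) y hy.2⟩
  have hconjC : ∀ g ∈ Q, ∀ c ∈ centralizerIn T (Q ⊓ T), g * c * g⁻¹ ∈ centralizerIn T (Q ⊓ T) := by
    intro g hg c hc
    refine ⟨hTn g (hQS hg) c hc.1, ?_⟩
    show g * c * g⁻¹ ∈ Subgroup.centralizer ((Q ⊓ T : Subgroup Ω) : Set Ω)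
    rw [Subgroup.mem_centralizer_iff]
    intro y hy
    have h1 : g⁻¹ * y * g ∈ Q ⊓ T := by
      have := hconjQT g⁻¹ (Q.inv_mem hg) y hy
      rwa [inv_inv] at this
    have h2 := Subgroup.mem_centralizer_iff.mp hc.2 _ h1
    calc y * (g * c * g⁻¹) = g * ((g⁻¹ * y * g) * c) * g⁻¹ := by group
      _ = g * (c * (g⁻¹ * y * g)) * g⁻¹ := by rw [h2]
      _ = g * c * g⁻¹ * y := by group
  have hQnC : Q ≤ Subgroup.normalizer ((centralizerIn T (Q ⊓ T) : Subgroup Ω) : Set Ω) := by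
    intro g hg
    apply mem_normalizer_of_conj_mem_of_inv_conj_mem
    · exact hconjC g hg
    · intro c hc
      have := hconjC g⁻¹ (Q.inv_mem hg) c hc
      rwa [inv_inv] at this
  have hU := Subgroup.coe_mul_of_right_le_normalizer_left (centralizerIn T (Q ⊓ T)) Q hQnC
  obtain ⟨c₀, hc₀C, hc₀⟩ := SetLike.not_le_iff_exists.mp hC
  have hc₀Q : c₀ ∉ Q := fun h => hc₀ ⟨h, hc₀C.1⟩
  have hQU : Q ≤ centralizerIn T (Q ⊓ T) ⊔ Q := le_sup_right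
  have hlt : Q < centralizerIn T (Q ⊓ T) ⊔ Q := by
    refine lt_of_le_of_ne hQU (fun heq => hc₀Q ?_)
    rw [heq]
    exact Subgroup.mem_sup_left hc₀C
  have hUS : centralizerIn T (Q ⊓ T) ⊔ Q ≤ S := sup_le (inf_le_left.trans hTS) hQS
  have hfinU : Finite ↥(centralizerIn T (Q ⊓ T) ⊔ Q) := finite_of_le hUS
  have hUp : IsPGroup p ↥(centralizerIn T (Q ⊓ T) ⊔ Q) := hS.to_le hUS
  obtain ⟨g, hgN, hgQ⟩ := SetLike.exists_of_lt (lt_normalizerIn hUp hlt)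
  have hgU : g ∈ ((centralizerIn T (Q ⊓ T) ⊔ Q : Subgroup Ω) : Set Ω) := hgN.1
  rw [hU] at hgU
  obtain ⟨c, hc, x, hx, hcx⟩ := Set.mem_mul.mp hgU
  have hc' : c = g * x⁻¹ := by rw [← hcx]; group
  refine ⟨c, hc.1, hc.2, ?_, fun hcQ => hgQ ?_⟩
  · rw [hc']
    exact Subgroup.mul_mem _ hgN.2 (Subgroup.inv_mem _ (Subgroup.le_normalizer hx))
  · rw [← hcx]
    exact Q.mul_mem hcQ hx

variable {p : ℕ} {F : FusionSystem S}

/-- If `R ∩ T` is not in the class `QT`, some conjugate `R₁` of `R` has `C_T(R₁ ∩ T)` not inside `R₁ ∩ T`. -/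
theorem exists_conj_not_le [Finite S] [Fact p.Prime] (hS : IsPGroup p S) (hF : F.IsSaturated p)
    (hT : F.StronglyClosed T) {R : Subgroup Ω} (hRS : R ≤ S) (hQ : ¬ QT F T (R ⊓ T)) :
    ∃ R₁, F.IsConj R R₁ ∧ ¬ centralizerIn T (R₁ ⊓ T) ≤ R₁ ⊓ T := by
  have hTS := hT.1
  unfold QT at hQ
  push_neg at hQ
  obtain ⟨Q', hQ'c, hQ'⟩ := hQ inf_le_right
  have hRTS : R ⊓ T ≤ S := inf_le_left.trans hRS
  obtain ⟨Q₂, hQ₂c, hQ₂n⟩ := exists_isConj_fullyNormalized F hRTS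
  obtain ⟨hQ₂fc, hQ₂a⟩ := fullyAutomized_fullyCentralized_of_fullyNormalized hS F hF hQ₂n
  have hQ₂r := receptive_of_fullyCentralized hS F hF hQ₂fc
  -- Step 1
  have hstep1 : ¬ centralizerIn T Q₂ ≤ Q₂ := by
    intro hle
    apply hQ'
    have hc' : F.IsConj Q' Q₂ := isConj_trans F (isConj_symm F hQ'c) hQ₂c
    obtain ⟨e, he⟩ := (isConj_iff F Q' Q₂).mp hc'
    obtain ⟨φ, hφ, e', he', hφx, hval, hcent, hback⟩ := exists_extension_normalizerIn' hS F hQ₂a hQ₂r e he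
    intro c hc
    have hcS : c ∈ centralizerIn S Q' := ⟨hTS hc.1, hc.2⟩
    have hcN : c ∈ normalizerIn S Q' := centralizerIn_le_normalizerIn S Q' hcS
    have h1 := hcent ⟨c, hcN⟩ hcS
    have h2 : φ ⟨c, hcN⟩ ∈ T := map_mem_closed hT hφ ⟨c, hcN⟩ hc.1
    exact hback ⟨c, hcN⟩ (hle ⟨h2, h1.2⟩)
  -- Step 2
  have hTn : ∀ g ∈ S, ∀ x ∈ T, g * x * g⁻¹ ∈ T := fun g hg x hx => conj_mem_of_stronglyClosed F hT hg hx
  have hRN : R ≤ normalizerIn S (R ⊓ T) := by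
    intro g hg
    refine ⟨hRS hg, ?_⟩
    apply mem_normalizer_of_conj_mem_of_inv_conj_mem
    · intro y hy
      exact ⟨R.mul_mem (R.mul_mem hg hy.1) (R.inv_mem hg), hTn g (hRS hg) y hy.2⟩
    · intro y hy
      refine ⟨R.mul_mem (R.mul_mem (R.inv_mem hg) hy.1) hg, ?_⟩
      have := hTn g⁻¹ (S.inv_mem (hRS hg)) y hy.2
      rwa [inv_inv] at this
  obtain ⟨e₂, he₂⟩ := (isConj_iff F (R ⊓ T) Q₂).mp hQ₂c
  obtain ⟨φ₂, hφ₂, e₂', he₂', hφ₂x, -, -, hback₂⟩ := exists_extension_normalizerIn' hS F hQ₂a hQ₂r e₂ he₂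
  have hφR : φ₂.comp (Subgroup.inclusion hRN) ∈ F.Hom R := Helper87.restrict_mem F hφ₂ hRN
  refine ⟨(φ₂.comp (Subgroup.inclusion hRN)).range, ⟨_, hφR, rfl⟩, ?_⟩
  have hEq : (φ₂.comp (Subgroup.inclusion hRN)).range ⊓ T = Q₂ := by
    ext y
    constructor
    · rintro ⟨⟨x, rfl⟩, hyT⟩
      have hxT : (x : Ω) ∈ T := mem_of_map_mem_closed hT hφR x hyT
      have h1 := hφ₂x ⟨x, x.2, hxT⟩
      have h2 : (φ₂.comp (Subgroup.inclusion hRN)) x = ((e₂' ⟨x, x.2, hxT⟩ : Q₂) : Ω) := by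
        rw [← h1]
        rfl
      rw [h2]
      exact (e₂' _).2
    · intro hy
      have h1 := hφ₂x (e₂'.symm ⟨y, hy⟩)
      rw [MulEquiv.apply_symm_apply] at h1
      have hx : ((e₂'.symm ⟨y, hy⟩ : ↥(R ⊓ T)) : Ω) ∈ R := (e₂'.symm ⟨y, hy⟩).2.1
      refine ⟨⟨⟨_, hx⟩, ?_⟩, ?_⟩
      · exact h1
      · exact he₂'.le_right.trans_eq rfl |> fun _ => (map_mem_closed hT he₂' (e₂'.symm ⟨y, hy⟩) (e₂'.symm ⟨y, hy⟩).2.2 |> fun h => by
          simpa using h)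
  rw [hEq]
  exact hstep1

/-- Transfer of bad elements to a fully automized receptive conjugate. -/
theorem BadElt.transfer [Finite S] [Fact p.Prime] (hS : IsPGroup p S) (hT : F.StronglyClosed T)
    {R R₁ : Subgroup Ω} (hRa : F.IsFullyAutomized p R) (hRr : F.IsReceptive R) (hc : F.IsConj R₁ R) {c : Ω}
    (hb : BadElt T R₁ c) : ∃ c', BadElt T R c' := by
  have hTS := hT.1
  obtain ⟨e, he⟩ := (isConj_iff F R₁ R).mp hc
  obtain ⟨φ, hφ, e', he', hφx, hval, -, hback⟩ := exists_extension_normalizerIn' hS F hRa hRr e he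
  obtain ⟨hcT, hcC, hcN, hcR⟩ := hb
  have hcNS : c ∈ normalizerIn S R₁ := ⟨hTS hcT, hcN⟩
  have hR₁N : R₁ ≤ normalizerIn S R₁ := le_normalizerIn he.le_left
  refine ⟨φ ⟨c, hcNS⟩, map_mem_closed hT hφ ⟨c, hcNS⟩ hcT, ?_, (hval _).2, fun h => hcR (hback _ h)⟩
  rw [Subgroup.mem_centralizer_iff]
  rintro y ⟨hyR, hyT⟩
  have hxT : ((e'.symm ⟨y, hyR⟩ : R₁) : Ω) ∈ T := by
    apply mem_of_map_mem_closed hT he' (e'.symm ⟨y, hyR⟩)
    show ((e' (e'.symm ⟨y, hyR⟩) : R) : Ω) ∈ T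
    rw [MulEquiv.apply_symm_apply]
    exact hyT
  have h1 := hφx (e'.symm ⟨y, hyR⟩)
  rw [MulEquiv.apply_symm_apply] at h1
  have h2 := Subgroup.mem_centralizer_iff.mp hcC _ ⟨(e'.symm ⟨y, hyR⟩).2, hxT⟩
  have h3 : (⟨((e'.symm ⟨y, hyR⟩ : R₁) : Ω), hR₁N (e'.symm ⟨y, hyR⟩).2⟩ : normalizerIn S R₁) * ⟨c, hcNS⟩ =
      ⟨c, hcNS⟩ * ⟨((e'.symm ⟨y, hyR⟩ : R₁) : Ω), hR₁N (e'.symm ⟨y, hyR⟩).2⟩ := Subtype.ext h2
  have h4 := congrArg φ h3
  rw [map_mul, map_mul, h1] at h4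
  exact h4

/-! ### The normal `p`-subgroup -/

/-- Automorphisms fixing `Q ∩ T` pointwise. -/
def fixT (D : FusionSystem S) (T Q : Subgroup Ω) : Subgroup (D.autGroup Q) where
  carrier := {β | ∀ x : Q, (x : Ω) ∈ T → (β : MulAut Q) x = x}
  one_mem' := fun _ _ => rfl
  mul_mem' := by
    intro a b ha hb x hx
    show (a : MulAut Q) ((b : MulAut Q) x) = x
    rw [hb x hx, ha x hx]
  inv_mem' := by
    intro a ha x hx
    show (a : MulAut Q)⁻¹ x = x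
    have := ha x hx
    have h2 := MulAut.inv_apply_self _ (a : MulAut Q) x
    rw [this] at h2
    exact h2

theorem fixT_normal (D : FusionSystem S) (hT : D.StronglyClosed T) {Q : Subgroup Ω} (hQS : Q ≤ S) :
    (fixT D T Q).Normal := by
  refine ⟨fun n hn g x hx => ?_⟩
  show (g : MulAut Q) ((n : MulAut Q) ((g : MulAut Q)⁻¹ x)) = x
  have hginv : (g : MulAut Q)⁻¹ ∈ D.autGroup Q := (D.autGroup Q).inv_mem g.2
  have h1 := aut_mem_of_stronglyClosed D hT hQS hginv x hx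
  rw [hn _ h1, MulAut.apply_inv_self]

/-- Automorphisms fixing `Q ∩ T` pointwise and acting trivially modulo `T`. -/
def stabT (D : FusionSystem S) (hT : D.StronglyClosed T) {Q : Subgroup Ω} (hQS : Q ≤ S) : Subgroup (D.autGroup Q) :=
  modStab D hT hQS ⊓ fixT D T Q

theorem stabT_normal (D : FusionSystem S) (hT : D.StronglyClosed T) {Q : Subgroup Ω} (hQS : Q ≤ S) :
    (stabT D hT hQS).Normal := by
  have h1 := modStab_normal D hT hQS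
  have h2 := fixT_normal D hT hQS
  exact Subgroup.normal_inf_normal _ _

theorem stabT_isPGroup [Finite S] [Fact p.Prime] (hS : IsPGroup p S) (D : FusionSystem S)
    (hT : D.StronglyClosed T) {Q : Subgroup Ω} (hQS : Q ≤ S) : IsPGroup p (stabT D hT hQS) := by
  have hQTS : Q ⊓ T ≤ S := inf_le_left.trans hQS
  have : Finite ↥(Q ⊓ T) := finite_of_le hQTS
  obtain ⟨k, hk⟩ := (hS.to_le hQTS).exists_card_eq
  rintro ⟨β, hβ⟩
  refine ⟨k, ?_⟩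
  have h1 : (β : MulAut Q) ^ Nat.card ↥(Q ⊓ T) = 1 := by
    apply pow_card_eq_one_of_fix hQTS
    · intro x hx
      exact hβ.2 x hx.2
    · intro x
      refine ⟨?_, hβ.1 x⟩
      exact Q.mul_mem (Q.inv_mem x.2) ((β : MulAut Q) x).2
  rw [hk] at h1
  apply Subtype.ext
  apply Subtype.ext
  simpa using h1

theorem BadElt.conjAut_mem_stabT (D : FusionSystem S) (hT : D.StronglyClosed T) {Q : Subgroup Ω} (hQS : Q ≤ S)
    {c : Ω} (hb : BadElt T Q c) :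
    ∃ hc : conjAut Q c hb.2.2.1 ∈ D.autGroup Q, (⟨conjAut Q c hb.2.2.1, hc⟩ : ↥(D.autGroup Q)) ∈ stabT D hT hQS := by
  obtain ⟨hcT, hcC, hcN, hcQ⟩ := hb
  have hcS : c ∈ S := hT.1 hcT
  have hc : conjAut Q c hcN ∈ D.autGroup Q := (mem_autGroup_iff D hQS _).mpr (isIso_conjAut D hQS hcS hcN)
  refine ⟨hc, ⟨fun x => ?_, fun x hx => ?_⟩⟩
  · show (x : Ω)⁻¹ * (c * x * c⁻¹) ∈ T
    have h1 : (x : Ω)⁻¹ * c * ((x : Ω)⁻¹)⁻¹ ∈ T :=
      conj_mem_of_stronglyClosed D hT (S.inv_mem (hQS x.2)) hcT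
    have e : (x : Ω)⁻¹ * (c * x * c⁻¹) = ((x : Ω)⁻¹ * c * ((x : Ω)⁻¹)⁻¹) * c⁻¹ := by group
    rw [e]
    exact T.mul_mem h1 (T.inv_mem hcT)
  · apply Subtype.ext
    show c * (x : Ω) * c⁻¹ = x
    have := Subgroup.mem_centralizer_iff.mp hcC x ⟨x.2, hx⟩
    rw [← this]
    group

/-- A bad element lies in the extender of every automorphism of a fully automized subgroup. -/
theorem BadElt.mem_extender [Finite S] [Fact p.Prime] (hS : IsPGroup p S) (hT : F.StronglyClosed T)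
    {R : Subgroup Ω} (hRa : F.IsFullyAutomized p R) {c : Ω} (hb : BadElt T R c) {δ : MulAut R}
    (hδ : δ ∈ F.autGroup R) : c ∈ extender S R (R.subtype.comp δ.toMonoidHom) := by
  obtain ⟨hRS, Sy, hSy⟩ := hRa
  have : Finite (MulAut R) := finite_mulAut_of_le hRS
  obtain ⟨hc, hcst⟩ := hb.conjAut_mem_stabT F hT hRS
  have hn := stabT_normal F hT hRS
  have hle : stabT F hT hRS ≤ (Sy : Subgroup ↥(F.autGroup R)) :=
    (stabT_isPGroup hS F hT hRS).le_sylow_of_normal Sy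
  have h1 : (⟨δ, hδ⟩ : ↥(F.autGroup R)) * ⟨conjAut R c hb.2.2.1, hc⟩ * (⟨δ, hδ⟩ : ↥(F.autGroup R))⁻¹ ∈
      (Sy : Subgroup ↥(F.autGroup R)) := hle (hn.conj_mem _ hcst _)
  rw [hSy, Subgroup.mem_subgroupOf, mem_autInducedBy_iff] at h1
  obtain ⟨s', hs', hs'x⟩ := h1
  rw [mem_extender_iff]
  refine ⟨hT.1 hb.1, hb.2.2.1, s', hs', fun x hx => ?_⟩
  have h2 := hs'x (δ x)
  show ((δ ⟨c * (x : Ω) * c⁻¹, hx⟩ : R) : Ω) = s' * ((δ x : R) : Ω) * s'⁻¹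
  rw [← h2]
  have e : (((⟨δ, hδ⟩ : ↥(F.autGroup R)) * ⟨conjAut R c hb.2.2.1, hc⟩ * (⟨δ, hδ⟩ : ↥(F.autGroup R))⁻¹ :
      ↥(F.autGroup R)) : MulAut R) (δ x) = δ (conjAut R c hb.2.2.1 x) := by
    simp [MulAut.mul_apply]
  rw [e]
  rfl

/-- For a centric subgroup with a bad element, the criterion's hypothesis on `O_p(Aut_D(Q))` holds. -/
theorem BadElt.not_le_inn [Finite S] [Fact p.Prime] (hS : IsPGroup p S) (D : FusionSystem S)
    (hT : D.StronglyClosed T) {Q : Subgroup Ω} (hQc : D.IsCentric Q) {c : Ω} (hb : BadElt T Q c) :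
    ¬ (autInducedBy S Q ⊓ (pCore p ↥(D.autGroup Q)).map (D.autGroup Q).subtype ≤ Inn Q) := by
  intro hle
  have hQS := hQc.1
  obtain ⟨hc, hcst⟩ := hb.conjAut_mem_stabT D hT hQS
  have hmem : conjAut Q c hb.2.2.1 ∈ autInducedBy S Q ⊓ (pCore p ↥(D.autGroup Q)).map (D.autGroup Q).subtype := by
    refine ⟨(mem_autInducedBy_iff S Q _).mpr ⟨c, hT.1 hb.1, fun x => rfl⟩, ?_⟩
    refine ⟨⟨_, hc⟩, ?_, rfl⟩
    exact Cfsg.Agent.Lib.le_pCore (stabT_normal D hT hQS) (stabT_isPGroup hS D hT hQS) hcst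
  obtain ⟨r, hr⟩ := hle hmem
  apply hb.2.2.2
  have hcent : (r : Ω)⁻¹ * c ∈ centralizerIn S Q := by
    refine ⟨S.mul_mem (S.inv_mem (hQS r.2)) (hT.1 hb.1), ?_⟩
    show _ ∈ Subgroup.centralizer (Q : Set Ω)
    rw [Subgroup.mem_centralizer_iff]
    intro y hy
    have h1 : ((MulAut.conj r) ⟨y, hy⟩ : Q) = conjAut Q c hb.2.2.1 ⟨y, hy⟩ := by rw [hr]
    have h2 : (r : Ω) * y * (r : Ω)⁻¹ = c * y * c⁻¹ := by
      have := congrArg Subtype.val h1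
      simpa [conjAut_apply] using this
    calc y * ((r : Ω)⁻¹ * c) = (r : Ω)⁻¹ * ((r : Ω) * y * (r : Ω)⁻¹) * c := by group
      _ = (r : Ω)⁻¹ * (c * y * c⁻¹) * c := by rw [h2]
      _ = (r : Ω)⁻¹ * c * y := by group
  have h3 := hQc.2 Q (isConj_refl D hQS) hcent
  have : c = (r : Ω) * ((r : Ω)⁻¹ * c) := by group
  rw [this]
  exact Q.mul_mem r.2 h3

end Cfsg.Agent.Helper86.NQ
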