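-- helper86: the subsystem of a fusion system whose maps on large subgroups extend to `P ⊔ Z` and act on the central
-- subgroup `Z` through a given group `K` of automorphisms of `Z`; extension of automorphisms normalizing `Aut_S(R)`.
import Cfsg.Agent.Helper85.Basic
import Cfsg.Agent.Helper87.FusionInduct

set_option autoImplicit false
open Cfsg

namespace Cfsg.Agent.Helper86

open Cfsg.FusionSystem Cfsg.Agent.Helper87

variable {Ω : Type*} [Group Ω] {S : Subgroup Ω}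

/-- The maps of `F` with source `P` that extend to a map of `F` on `P ⊔ Z` acting on `Z` as an element of `K`. -/
def zHom (F : FusionSystem S) (Z : Subgroup Ω) (K : Subgroup (MulAut Z)) (P : Subgroup Ω) : Set (P →* Ω) :=
  {φ | ∃ ψ ∈ F.Hom (P ⊔ Z), (∀ x : P, ψ (Subgroup.inclusion le_sup_left x) = φ x) ∧
      ∃ κ ∈ K, ∀ z : Z, ψ (Subgroup.inclusion le_sup_right z) = ((κ z : Z) : Ω)}

theorem conj_mem_zHom (F : FusionSystem S) {Z : Subgroup Ω} (hZS : Z ≤ S)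
    (hZc : ∀ g ∈ S, ∀ z ∈ Z, g * z * g⁻¹ = z) (K : Subgroup (MulAut Z)) {P : Subgroup Ω} {g : Ω}
    (hP : P ≤ S) (hg : g ∈ S) : conjHom P g ∈ zHom F Z K P := by
  refine ⟨conjHom (P ⊔ Z) g, F.conj_mem (sup_le hP hZS) hg, fun x => rfl, 1, K.one_mem, fun z => ?_⟩
  exact hZc g hg z z.2

theorem comp_mem_zHom (F : FusionSystem S) {Z : Subgroup Ω} (K : Subgroup (MulAut Z)) {P P' : Subgroup Ω}
    {φ : P →* Ω} {ψ : P' →* Ω} (hφ : φ ∈ zHom F Z K P) (hψ : ψ ∈ zHom F Z K P') (h : ∀ x : P, φ x ∈ P') :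
    ψ.comp (φ.codRestrict P' h) ∈ zHom F Z K P := by
  obtain ⟨φ', hφ', hφext, κ₁, hκ₁, hφZ⟩ := hφ
  obtain ⟨ψ', hψ', hψext, κ₂, hκ₂, hψZ⟩ := hψ
  have h' : ∀ x : ↥(P ⊔ Z), φ' x ∈ P' ⊔ Z := by
    refine Helper85.forall_mem_of_sup ((P' ⊔ Z).comap φ') (fun x => ?_) (fun x => ?_)
    · show φ' _ ∈ P' ⊔ Z
      rw [hφext]
      exact (le_sup_left : P' ≤ P' ⊔ Z) (h x)
    · show φ' _ ∈ P' ⊔ Z
      rw [hφZ]
      exact (le_sup_right : Z ≤ P' ⊔ Z) (κ₁ x).2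
  refine ⟨ψ'.comp (φ'.codRestrict (P' ⊔ Z) h'), F.comp_mem hφ' hψ' h', fun x => ?_, κ₂ * κ₁, K.mul_mem hκ₂ hκ₁,
    fun z => ?_⟩
  · show ψ' _ = ψ _
    rw [← hψext]
    congr 1
    apply Subtype.ext
    show φ' _ = φ x
    exact hφext x
  · show ψ' _ = _
    rw [MulAut.mul_apply, ← hψZ]
    congr 1
    apply Subtype.ext
    show φ' _ = _
    exact hφZ z

theorem inv_mem_zHom (F : FusionSystem S) {Z : Subgroup Ω} (K : Subgroup (MulAut Z)) {P : Subgroup Ω} {φ : P →* Ω}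
    (hφ : φ ∈ zHom F Z K P) {ψ : φ.range →* Ω}
    (hψinv : ∀ x : P, ψ ⟨φ x, ⟨x, rfl⟩⟩ = (x : Ω)) : ψ ∈ zHom F Z K φ.range := by
  obtain ⟨φ', hφ', hφext, κ, hκ, hφZ⟩ := hφ
  obtain ⟨ψ', hψ', hψ'inv⟩ := F.inv_mem hφ'
  have hle : φ.range ⊔ Z ≤ φ'.range := by
    refine sup_le ?_ ?_
    · rintro _ ⟨x, rfl⟩
      exact ⟨_, hφext x⟩
    · intro y hy
      refine ⟨Subgroup.inclusion le_sup_right (κ⁻¹ ⟨y, hy⟩), ?_⟩
      rw [hφZ]
      simp
  refine ⟨ψ'.comp (Subgroup.inclusion hle), restrict_mem F hψ' hle, ?_, κ⁻¹, K.inv_mem hκ, ?_⟩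
  · rintro ⟨_, x, rfl⟩
    rw [hψinv]
    have : (Subgroup.inclusion hle (Subgroup.inclusion le_sup_left (⟨φ x, ⟨x, rfl⟩⟩ : φ.range))) =
        ⟨φ' (Subgroup.inclusion le_sup_left x), ⟨_, rfl⟩⟩ := Subtype.ext (hφext x).symm
    show ψ' _ = _
    rw [this, hψ'inv]
    rfl
  · intro z
    have : Subgroup.inclusion hle (Subgroup.inclusion le_sup_right z) =
        ⟨φ' (Subgroup.inclusion le_sup_right (κ⁻¹ z)), ⟨_, rfl⟩⟩ := by
      apply Subtype.ext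
      show (z : Ω) = φ' _
      rw [hφZ]
      simp
    show ψ' _ = _
    rw [this, hψ'inv]
    rfl

/-- The subsystem of `F` whose maps on the subgroups satisfying the (upward closed, isomorphism invariant) condition `C` are
the maps in `zHom`. -/
def zSystem (F : FusionSystem S) (Z : Subgroup Ω) (hZS : Z ≤ S)
    (hZc : ∀ g ∈ S, ∀ z ∈ Z, g * z * g⁻¹ = z) (K : Subgroup (MulAut Z)) (C : Subgroup Ω → Prop)
    (hC : ∀ {P Q : Subgroup Ω} (φ : P →* Ω), Function.Injective φ → (∀ x : P, φ x ∈ Q) → C P → C Q) :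
    FusionSystem S where
  Hom P := {φ | φ ∈ F.Hom P ∧ (C P → φ ∈ zHom F Z K P)}
  le_of_mem h := F.le_of_mem h.1
  injective_of_mem h := F.injective_of_mem h.1
  conj_mem hP hg := ⟨F.conj_mem hP hg, fun _ => conj_mem_zHom F hZS hZc K hP hg⟩
  comp_mem {P Q φ ψ} hφ hψ h :=
    ⟨F.comp_mem hφ.1 hψ.1 h, fun hc =>
      comp_mem_zHom F K (hφ.2 hc) (hψ.2 (hC φ (F.injective_of_mem hφ.1) h hc)) h⟩
  inv_mem {P φ} hφ := by
    obtain ⟨ψ, hψ, hψx⟩ := F.inv_mem hφ.1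
    refine ⟨ψ, ⟨hψ, fun hc => ?_⟩, hψx⟩
    have hcP : C P := by
      refine hC ψ (F.injective_of_mem hψ) (fun y => ?_) hc
      obtain ⟨_, x, rfl⟩ := y
      rw [hψx]
      exact x.2
    exact inv_mem_zHom F K (hφ.2 hcP) hψx

theorem mem_zSystem_iff (F : FusionSystem S) (Z : Subgroup Ω) (hZS : Z ≤ S)
    (hZc : ∀ g ∈ S, ∀ z ∈ Z, g * z * g⁻¹ = z) (K : Subgroup (MulAut Z)) (C : Subgroup Ω → Prop)
    (hC : ∀ {P Q : Subgroup Ω} (φ : P →* Ω), Function.Injective φ → (∀ x : P, φ x ∈ Q) → C P → C Q)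
    {P : Subgroup Ω} (φ : P →* Ω) :
    φ ∈ (zSystem F Z hZS hZc K C hC).Hom P ↔ φ ∈ F.Hom P ∧ (C P → φ ∈ zHom F Z K P) := Iff.rfl

/-- The condition "nonabelian". -/
def NonAb (P : Subgroup Ω) : Prop := ¬ ∀ a ∈ P, ∀ b ∈ P, a * b = b * a

theorem nonAb_of_injective {P Q : Subgroup Ω} (φ : P →* Ω) (hinj : Function.Injective φ) (hval : ∀ x : P, φ x ∈ Q)
    (hP : NonAb P) : NonAb Q := by
  intro hQ
  apply hP
  intro a ha b hb
  have h1 : φ (⟨a, ha⟩ * ⟨b, hb⟩) = φ (⟨b, hb⟩ * ⟨a, ha⟩) := by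
    rw [map_mul, map_mul]
    exact hQ _ (hval _) _ (hval _)
  exact congrArg Subtype.val (hinj h1)

theorem nonAb_of_le {P Q : Subgroup Ω} (h : P ≤ Q) (hP : NonAb P) : NonAb Q :=
  fun hQ => hP (fun a ha b hb => hQ a (h ha) b (h hb))

/-- A map of `F` defined on a subgroup containing `Z` and acting on `Z` through `K` is in `zHom`. -/
theorem mem_zHom_of_le (F : FusionSystem S) {Z : Subgroup Ω} (K : Subgroup (MulAut Z)) {P : Subgroup Ω} {φ : P →* Ω}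
    (hφ : φ ∈ F.Hom P) (hZP : Z ≤ P) (κ : MulAut Z) (hκ : κ ∈ K)
    (h : ∀ z : Z, φ (Subgroup.inclusion hZP z) = ((κ z : Z) : Ω)) : φ ∈ zHom F Z K P := by
  have hle : P ⊔ Z ≤ P := sup_le le_rfl hZP
  exact ⟨φ.comp (Subgroup.inclusion hle), restrict_mem F hφ hle, fun x => rfl, κ, hκ, fun z => h z⟩

/-- The action on `Z` of a map in `zHom` whose source contains `Z`. -/
theorem exists_of_mem_zHom (F : FusionSystem S) {Z : Subgroup Ω} (K : Subgroup (MulAut Z)) {P : Subgroup Ω}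
    {φ : P →* Ω} (hφ : φ ∈ zHom F Z K P) (hZP : Z ≤ P) :
    ∃ κ ∈ K, ∀ z : Z, φ (Subgroup.inclusion hZP z) = ((κ z : Z) : Ω) := by
  obtain ⟨ψ, -, hψext, κ, hκ, hψZ⟩ := hφ
  refine ⟨κ, hκ, fun z => ?_⟩
  rw [← hψZ, ← hψext]
  rfl

/-- **Extension to the normalizer**: an automorphism `α` in `Aut_F(R)` of a receptive subgroup `R` that normalizes `Aut_S(R)`
(in elementwise form) extends to a map of the system on `N_S(R)`. -/
theorem exists_extension_of_normalizes (F : FusionSystem S) {R : Subgroup Ω} (hRr : F.IsReceptive R) (α : MulAut R)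
    (hα : IsIso F (α : R ≃* R))
    (hn : ∀ g ∈ normalizerIn S R, ∃ h ∈ S, ∀ (x : R) (hx : g * (x : Ω) * g⁻¹ ∈ R),
      ((α ⟨g * x * g⁻¹, hx⟩ : R) : Ω) = h * ((α x : R) : Ω) * h⁻¹) :
    ∃ ψ ∈ F.Hom (normalizerIn S R), ∀ (x : Ω) (hx : x ∈ R) (hxN : x ∈ normalizerIn S R),
      ψ ⟨x, hxN⟩ = ((α ⟨x, hx⟩ : R) : Ω) := by
  obtain ⟨ψ, hψ, hψx⟩ := hRr.2 R _ hα (range_subtype_comp_equiv (α : R ≃* R))
  have hle : normalizerIn S R ≤ extender S R (R.subtype.comp (α : R ≃* R).toMonoidHom) := by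
    intro g hg
    rw [mem_extender_iff]
    obtain ⟨h, hh, hhx⟩ := hn g hg
    exact ⟨hg.1, hg.2, h, hh, fun x hx => hhx x hx⟩
  refine ⟨ψ.comp (Subgroup.inclusion hle), restrict_mem F hψ hle, fun x hx hxN => ?_⟩
  exact hψx x hx (hle hxN)

end Cfsg.Agent.Helper86
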