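import Cfsg.Agent.S5093
import Cfsg.Prelude.Def_BaumannBlocks
set_option autoImplicit false

/-!
A corollary of the hyperfocal subgroup theorem (requested by helper85 for S5121): if `P` is a `p`-subgroup of `H₂` of index
prime to `p` and all "focal quotients" `x⁻¹ (g x g⁻¹)` (`g ∈ H₂`, `x, g x g⁻¹ ∈ P`) lie in `T ≤ P`, then
`O^p(H₂) ∩ P ≤ T`.
-/

namespace Cfsg.Agent.Helper86.HypFocalCor

open Cfsg Cfsg.FusionSystem Cfsg.Agent.Helper87

theorem pResidualOf_inf_le {G : Type*} [Group G] [Finite G] (p : ℕ) [Fact p.Prime] (H₂ P T : Subgroup G)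
    (hPH : P ≤ H₂) (hTP : T ≤ P) (hP : IsPGroup p P) (hidx : ¬ p ∣ P.relIndex H₂)
    (hfoc : ∀ g ∈ H₂, ∀ x ∈ P, g * x * g⁻¹ ∈ P → x⁻¹ * (g * x * g⁻¹) ∈ T) :
    Cfsg.pResidualOf p H₂ ⊓ P ≤ T := by
  have hP' : IsPGroup p (P.subgroupOf H₂) := hP.comap_of_injective H₂.subtype H₂.subtype_injective
  have hidx' : ¬ p ∣ (P.subgroupOf H₂).index := hidx
  set P₂ : Sylow p ↥H₂ := hP'.toSylow hidx' with hP₂
  have hP₂coe : (P₂ : Subgroup ↥H₂) = P.subgroupOf H₂ := rfl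
  have hres := Cfsg.Agent.S5093.result p P₂
  -- the hyperfocal subgroup lies in `T`
  have hle : (Cfsg.groupFusionSystem (P₂ : Subgroup ↥H₂)).hyperfocalSubgroup p ≤ T.subgroupOf H₂ := by
    unfold FusionSystem.hyperfocalSubgroup
    rw [Subgroup.closure_le]
    rintro y ⟨U, α, x, hU, hα, rfl⟩
    refine Cfsg.Agent.S5093.inv_mul_mem_of_pResidual ((Cfsg.groupFusionSystem (P₂ : Subgroup ↥H₂)).autGroup U) p
      (T.subgroupOf H₂) (fun β hβ _ z => ?_) α hα x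
    have hβiso := (mem_autGroup_iff (Cfsg.groupFusionSystem (P₂ : Subgroup ↥H₂)) hU β).mp hβ
    obtain ⟨-, -, g, hg⟩ := hβiso
    have h1 : (((β z : U) : ↥H₂)) = g * (z : ↥H₂) * g⁻¹ := hg z
    rw [Subgroup.mem_subgroupOf]
    have hzP : (((z : ↥H₂)) : G) ∈ P := by
      have := hU z.2
      rw [hP₂coe, Subgroup.mem_subgroupOf] at this
      exact this
    have hβzP : ((((β z : U) : ↥H₂)) : G) ∈ P := by
      have := hU (β z).2
      rw [hP₂coe, Subgroup.mem_subgroupOf] at this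
      exact this
    have h2 : ((((β z : U) : ↥H₂)) : G) = (g : G) * ((z : ↥H₂) : G) * (g : G)⁻¹ := by
      rw [h1]
      simp
    have h3 := hfoc (g : G) g.2 _ hzP (by rw [← h2]; exact hβzP)
    rw [← h2] at h3
    simpa using h3
  rintro y ⟨hy, hyP⟩
  obtain ⟨z, hz, rfl⟩ := hy
  have hzP₂ : z ∈ (P₂ : Subgroup ↥H₂) := by
    rw [hP₂coe, Subgroup.mem_subgroupOf]
    exact hyP
  have hzhyp : z ∈ (Cfsg.groupFusionSystem (P₂ : Subgroup ↥H₂)).hyperfocalSubgroup p := by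
    rw [hres]
    exact ⟨hzP₂, hz⟩
  have := hle hzhyp
  rw [Subgroup.mem_subgroupOf] at this
  exact this

end Cfsg.Agent.Helper86.HypFocalCor
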