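import Cfsg.Agent.Helper86.PPMain
import Cfsg.Agent.Helper85.ResidualLimit
set_option autoImplicit false
set_option linter.style.haveILetI false

/-! # Existence of the saturated subsystem of `p`-power index over any `T ≥ hyp(F)` (helper86) -/

namespace Cfsg.Agent.Helper86.PP

open Cfsg Cfsg.FusionSystem Cfsg.Agent.Helper87

universe u

/-- A proper subgroup of a finite `p`-group lies in a normal subgroup of index `p`. -/
theorem exists_normal_index_p {G : Type*} [Group G] [Finite G] {p : ℕ} [Fact p.Prime] (hG : IsPGroup p G)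
    (H : Subgroup G) (hH : H ≠ ⊤) : ∃ K : Subgroup G, H ≤ K ∧ K.Normal ∧ K.index = p := by
  have hpp : p.Prime := Fact.out
  obtain ⟨b, hb⟩ := IsPGroup.iff_card.mp hG
  obtain ⟨a, ha⟩ := IsPGroup.iff_card.mp (hG.to_subgroup H)
  have hlt : Nat.card H < Nat.card G := by
    rcases lt_or_eq_of_le (Subgroup.card_le_card_group H) with h | h
    · exact h
    · exact absurd (Subgroup.eq_top_of_card_eq H h) hH
  rw [ha, hb] at hlt
  have hab : a < b := (Nat.pow_lt_pow_iff_right hpp.one_lt).mp hlt
  obtain ⟨c, rfl⟩ : ∃ c, b = c + 1 := ⟨b - 1, by omega⟩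
  have hdvd : p ^ c ∣ Nat.card G := by rw [hb]; exact pow_dvd_pow p (Nat.le_succ c)
  obtain ⟨K, hK, hHK⟩ := Sylow.exists_subgroup_card_pow_prime_le p hdvd H ha (by omega)
  have hidx : K.index = p := by
    have h1 := Subgroup.index_mul_card K
    rw [hK, hb, pow_succ'] at h1
    exact Nat.eq_of_mul_eq_mul_right (pow_pos hpp.pos c) h1
  refine ⟨K, hHK, ?_, hidx⟩
  apply Subgroup.normal_of_index_eq_minFac_card
  rw [hidx, hb, Nat.Prime.pow_minFac hpp (Nat.succ_ne_zero c)]

/-- The quotient by a normal subgroup of index `p`, as a homomorphism onto an abelian group of exponent `p`. -/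
theorem exists_hom_of_normal_index_p {G : Type u} [Group G] {p : ℕ} [Fact p.Prime] (K : Subgroup G) [K.Normal]
    (hK : K.index = p) :
    ∃ (A : Type u) (_ : CommGroup A) (θ : G →* A), Function.Surjective θ ∧ θ.ker = K ∧ ∀ a : A, a ^ p = 1 := by
  have hcard : Nat.card (G ⧸ K) = p := by rw [← Subgroup.index_eq_card]; exact hK
  haveI : IsCyclic (G ⧸ K) := isCyclic_of_prime_card hcard
  refine ⟨G ⧸ K, IsCyclic.commGroup, QuotientGroup.mk' K, QuotientGroup.mk'_surjective K, QuotientGroup.ker_mk' K, ?_⟩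
  intro a
  have := pow_card_eq_one' (G := G ⧸ K) (x := a)
  rwa [hcard] at this

variable {Ω : Type*} [Group Ω]

/-- **Existence of the saturated subsystem of `p`-power index over `T`.** -/
theorem exists_pPowerIndex {p : ℕ} [Fact p.Prime] :
    ∀ (n : ℕ) (S : Subgroup Ω) [Finite S], IsPGroup p S → ∀ F : FusionSystem S, F.IsSaturated p →
      ∀ T : Subgroup Ω, T ≤ S → F.hyperfocalSubgroup p ≤ T → Nat.card S = n →
      ∃ E : FusionSystem T, E.IsSaturated p ∧ E.HasPPowerIndexIn F p := by
  intro n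
  induction n using Nat.strong_induction_on with
  | _ n ih =>
    intro S _ hS F hF T hTS hT hn
    rcases eq_or_lt_of_le hTS with h | h
    · subst h
      exact ⟨F, hF, Cfsg.Agent.Helper85.hasPPowerIndexIn_self F p⟩
    · have hne : T.subgroupOf S ≠ ⊤ := by
        intro htop
        rw [Subgroup.subgroupOf_eq_top] at htop
        exact absurd (le_antisymm hTS htop) h.ne
      obtain ⟨K, hHK, hKn, hKi⟩ := exists_normal_index_p hS (T.subgroupOf S) hne
      obtain ⟨A, instA, θ, hθs, hθk, hA⟩ := exists_hom_of_normal_index_p K hKi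
      have hTK : T ≤ K.map S.subtype := by
        intro x hx
        exact ⟨⟨x, hTS hx⟩, hHK (Subgroup.mem_subgroupOf.mpr hx), rfl⟩
      have hhyp : F.hyperfocalSubgroup p ≤ (θ.ker).map S.subtype := by
        rw [hθk]
        exact hT.trans hTK
      obtain ⟨T₁, E₁, hT₁, hE₁s, hE₁i⟩ := exists_pPowerIndex_of_hom hS F hF hA θ hθs hhyp
      rw [hθk] at hT₁
      subst hT₁
      have hT₁S : K.map S.subtype ≤ S := by
        rintro _ ⟨w, -, rfl⟩
        exact w.2
      haveI : Finite ↥(K.map S.subtype) := finite_of_le hT₁S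
      have hcardK : Nat.card ↥(K.map S.subtype) = Nat.card K :=
        (Nat.card_congr (K.equivMapOfInjective S.subtype S.subtype_injective).toEquiv).symm
      have hlt : Nat.card ↥(K.map S.subtype) < n := by
        rw [hcardK, ← hn, ← Subgroup.index_mul_card K, hKi]
        have hpp : p.Prime := Fact.out
        have : 0 < Nat.card K := Nat.card_pos
        nlinarith [hpp.one_lt]
      have hhyp₁ : E₁.hyperfocalSubgroup p ≤ T :=
        (Cfsg.Agent.Helper85.hyperfocalSubgroup_mono F E₁ hE₁i.1 p).trans hT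
      obtain ⟨E, hEs, hEi⟩ := ih _ hlt (K.map S.subtype) (hS.to_le hT₁S) E₁ hE₁s T hTK hhyp₁ rfl
      exact ⟨E, hEs, Cfsg.Agent.Helper85.hasPPowerIndexIn_trans F E₁ hE₁i E hEi hT⟩

end Cfsg.Agent.Helper86.PP
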