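import Mathlib
import Cfsg.Agent.Lib.Nilpotent
import Cfsg.Agent.S0120

/-!
# S5289 swarm, piece (D2) (hedge by helper86): general lemmas and the abstract configuration
-/

set_option autoImplicit false

universe u

namespace Cfsg.Agent.Helper86.Res

open Subgroup

section general

variable {G : Type u} [Group G] {p : ℕ} [hp : Fact p.Prime]

/-- in a finite `p`-group, a proper inclusion of subgroups multiplies the order by at least `p` -/
theorem d2_card_mul_le_of_lt [Finite G] (hG : IsPGroup p G) {H K : Subgroup G} (hlt : H < K) :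
    p * Nat.card H ≤ Nat.card K := by
  obtain ⟨d, hd⟩ := Subgroup.card_dvd_of_le hlt.le
  have hHpos : 0 < Nat.card H := Nat.card_pos
  obtain ⟨k, hk⟩ := (hG.to_subgroup K).exists_card_eq
  have hdk : d ∣ p ^ k := ⟨Nat.card H, by rw [← hk, hd, mul_comm]⟩
  obtain ⟨j, _, hj⟩ := (Nat.dvd_prime_pow hp.out).1 hdk
  have hd1 : d ≠ 1 := by
    intro h1
    rw [h1, mul_one] at hd
    exact hlt.ne (Subgroup.eq_of_le_of_card_ge hlt.le hd.le)
  have hj0 : j ≠ 0 := by
    intro h0
    rw [h0, pow_zero] at hj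
    exact hd1 hj
  have hpd : p ≤ d := by
    rw [hj]
    calc p = p ^ 1 := (pow_one p).symm
      _ ≤ p ^ j := Nat.pow_le_pow_right hp.out.pos (Nat.one_le_iff_ne_zero.2 hj0)
  rw [hd, mul_comm]
  exact Nat.mul_le_mul_left _ hpd

/-- a subgroup of index `p` over a normal subgroup is generated by it and any element outside -/
theorem d2_exists_zpow_mul [Finite G] (hG : IsPGroup p G) (H K : Subgroup G) [H.Normal] (hHK : H ≤ K)
    (hcard : Nat.card K = p * Nat.card H) (y : G) (hyK : y ∈ K) (hyH : y ∉ H) :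
    ∀ k ∈ K, ∃ i : ℤ, ∃ h ∈ H, k = y ^ i * h := by
  have hlt : H < Subgroup.zpowers y ⊔ H := by
    refine lt_of_le_of_ne le_sup_right ?_
    intro heq
    apply hyH
    rw [heq]
    exact le_sup_left (a := Subgroup.zpowers y) (Subgroup.mem_zpowers y)
  have hle : Subgroup.zpowers y ⊔ H ≤ K :=
    sup_le (by rw [Subgroup.zpowers_le]; exact hyK) hHK
  have h1 := d2_card_mul_le_of_lt hG hlt
  have heq : Subgroup.zpowers y ⊔ H = K := by
    apply Subgroup.eq_of_le_of_card_ge hle
    rw [hcard]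
    exact h1
  intro k hk
  rw [← heq] at hk
  have hk' : k ∈ ((Subgroup.zpowers y ⊔ H : Subgroup G) : Set G) := hk
  rw [Subgroup.mul_normal] at hk'
  obtain ⟨a, ha, h, hh, rfl⟩ := Set.mem_mul.1 hk'
  obtain ⟨i, rfl⟩ := Subgroup.mem_zpowers_iff.1 ha
  exact ⟨i, h, hh, rfl⟩

/-- a normal subgroup of order `p` of a finite `p`-group is central -/
theorem d2_central_of_card [Finite G] (hG : IsPGroup p G) (N : Subgroup G) [N.Normal]
    (hN : Nat.card N = p) : ∀ z ∈ N, ∀ g : G, z * g = g * z := by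
  haveI : Group.IsNilpotent G := hG.isNilpotent
  have hne : N ≠ ⊥ := by
    intro h0
    rw [h0, Subgroup.card_bot] at hN
    exact hp.out.one_lt.ne hN
  have h1 := Cfsg.Agent.Lib.normal_inf_center_ne_bot N hne
  have h2 : N ⊓ Subgroup.center G = N := by
    by_contra hne'
    have hlt : N ⊓ Subgroup.center G < N := lt_of_le_of_ne inf_le_left hne'
    have h3 := d2_card_mul_le_of_lt hG hlt
    rw [hN] at h3
    have hpos : 0 < Nat.card (N ⊓ Subgroup.center G : Subgroup G) := Nat.card_pos
    have h4 : Nat.card (N ⊓ Subgroup.center G : Subgroup G) = 1 := by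
      have hp0 := hp.out.pos
      nlinarith
    exact h1 (Subgroup.card_eq_one.1 h4)
  intro z hz g
  have hz' : z ∈ N ⊓ Subgroup.center G := by rw [h2]; exact hz
  exact ((Subgroup.mem_center_iff.1 (Subgroup.mem_inf.1 hz').2) g).symm

/-- conjugation by powers when the commutator is central -/
theorem d2_conj_pow (a b c : G) (h : a * b * a⁻¹ = b * c) (hca : c * a = a * c) (hcb : c * b = b * c)
    (j : ℕ) : a ^ j * b * (a ^ j)⁻¹ = b * c ^ j := by
  induction j with
  | zero => simp
  | succ j ih =>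
    have hcaj : c ^ j * a = a * c ^ j := ((Commute.pow_left (show Commute c a from hca) j)).eq
    calc a ^ (j + 1) * b * (a ^ (j + 1))⁻¹ = a * (a ^ j * b * (a ^ j)⁻¹) * a⁻¹ := by
          rw [pow_succ']; group
      _ = a * (b * c ^ j) * a⁻¹ := by rw [ih]
      _ = (a * b * a⁻¹) * (a * c ^ j * a⁻¹) := by group
      _ = (b * c) * c ^ j := by
          rw [h, ← hcaj, mul_inv_cancel_right]
      _ = b * c ^ (j + 1) := by rw [pow_succ']; group

/-- if `x ^ u` and `x ^ p` commute with `c` and `p ∤ u` then `x` commutes with `c` -/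
theorem d2_commute_of_pow (x c : G) (u : ℕ) (hu : ¬ p ∣ u) (h1 : Commute (x ^ u) c)
    (h2 : Commute (x ^ p) c) : Commute x c := by
  have hcop : Nat.Coprime u p := ((Nat.Prime.coprime_iff_not_dvd hp.out).2 hu).symm
  have hb : (u : ℤ) * Nat.gcdA u p + (p : ℤ) * Nat.gcdB u p = 1 := by
    have := Nat.gcd_eq_gcd_ab u p
    rw [hcop.gcd_eq_one] at this
    exact_mod_cast this.symm
  have hx : x = (x ^ u) ^ (Nat.gcdA u p) * (x ^ p) ^ (Nat.gcdB u p) := by
    rw [← zpow_natCast x u, ← zpow_natCast x p, ← zpow_mul, ← zpow_mul, ← zpow_add, hb, zpow_one]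
  rw [hx]
  exact (h1.zpow_left _).mul_left (h2.zpow_left _)

end general

end Cfsg.Agent.Helper86.Res
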