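import Mathlib
import Cfsg.Agent.Helper86.ResD2a

/-!
# S5289 swarm, piece (D2) (hedge by helper86): the abstract configuration inside `G = T`, part 1
-/

set_option autoImplicit false

universe u

namespace Cfsg.Agent.Helper86.Res

open Subgroup

/-- the abstract configuration of (D2), inside the group `G = T` -/
structure D2Cfg (p : ℕ) (G : Type u) [Group G] (P R C V : Subgroup G) (ψ : MulAut G) (m n : ℕ) :
    Prop where
  pgrp : IsPGroup p G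
  rank : ∀ E : Subgroup G, (∀ a ∈ E, ∀ b ∈ E, a * b = b * a) → (∀ e ∈ E, e ^ p = 1) →
    Nat.card E ≤ p ^ 2
  normP : P.Normal
  cardG : Nat.card G = p * Nat.card P
  RP : R ≤ P
  Rexp : ∀ r ∈ R, r ^ p = 1
  Rall : ∀ x ∈ P, x ^ p = 1 → x ∈ R
  Cdef : ∀ x, x ∈ C ↔ x ∈ P ∧ ∀ y ∈ P, x * y = y * x
  CV : C ≤ V
  VP : V ≤ P
  cardV : Nat.card V = p * Nat.card C
  cardP : Nat.card P = p ^ 2 * Nat.card C
  cardRC : Nat.card (R ⊓ C : Subgroup G) = p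
  PRC : ∀ x ∈ P, ∃ r ∈ R, ∃ c ∈ C, x = r * c
  actV : ∀ t : G, ∀ v ∈ V, v⁻¹ * (t * v * t⁻¹) ∈ C
  psiP : ∀ x ∈ P, ψ x ∈ P
  cop : (orderOf ψ).Coprime p
  mn : m * n % p = 1
  psiV : ∀ x ∈ V, (x ^ m)⁻¹ * ψ x ∈ C
  psiPn : ∀ x ∈ P, (x ^ n)⁻¹ * ψ x ∈ V
  psiG : ∀ t : G, (t ^ (m * m))⁻¹ * ψ t ∈ P
  m1 : m % p ≠ 1
  m2 : m ^ 2 % p ≠ 1

namespace D2Cfg

variable {G : Type u} [Group G] [Finite G] {p : ℕ} [hp : Fact p.Prime]
  {P R C V : Subgroup G} {ψ : MulAut G} {m n : ℕ}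

theorem CP (h : D2Cfg p G P R C V ψ m n) : C ≤ P := fun x hx => ((h.Cdef x).1 hx).1

theorem comm_C (h : D2Cfg p G P R C V ψ m n) {c y : G} (hc : c ∈ C) (hy : y ∈ P) : c * y = y * c :=
  ((h.Cdef c).1 hc).2 y hy

theorem normC (h : D2Cfg p G P R C V ψ m n) : C.Normal := by
  haveI := h.normP
  constructor
  intro x hx g
  rw [h.Cdef]
  refine ⟨h.normP.conj_mem x (h.CP hx) g, ?_⟩
  intro y hy
  have hy' : g⁻¹ * y * g ∈ P := by
    have := h.normP.conj_mem y hy g⁻¹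
    rwa [inv_inv] at this
  have h1 := h.comm_C hx hy'
  calc g * x * g⁻¹ * y = g * (x * (g⁻¹ * y * g)) * g⁻¹ := by group
    _ = g * ((g⁻¹ * y * g) * x) * g⁻¹ := by rw [h1]
    _ = y * (g * x * g⁻¹) := by group

theorem conjR (h : D2Cfg p G P R C V ψ m n) {r : G} (hr : r ∈ R) (g : G) : g * r * g⁻¹ ∈ R := by
  apply h.Rall _ (h.normP.conj_mem r (h.RP hr) g)
  rw [conj_pow, h.Rexp r hr, mul_one, mul_inv_cancel]

theorem normR (h : D2Cfg p G P R C V ψ m n) : R.Normal := ⟨fun r hr g => h.conjR hr g⟩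

theorem normZ (h : D2Cfg p G P R C V ψ m n) : (R ⊓ C : Subgroup G).Normal := by
  haveI := h.normR
  haveI := h.normC
  infer_instance

/-- `Z1 = R ∩ C` is central in `G` -/
theorem central_Z (h : D2Cfg p G P R C V ψ m n) {z : G} (hz : z ∈ R ⊓ C) (g : G) : z * g = g * z := by
  haveI := h.normZ
  exact d2_central_of_card h.pgrp (R ⊓ C) h.cardRC z hz g

theorem psi_surj_P (h : D2Cfg p G P R C V ψ m n) {y : G} (hy : y ∈ P) : ∃ x ∈ P, ψ x = y := by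
  have hle : P.map ψ.toMonoidHom ≤ P := by
    rintro _ ⟨x, hx, rfl⟩
    exact h.psiP x hx
  have heq : P.map ψ.toMonoidHom = P := by
    apply Subgroup.eq_of_le_of_card_ge hle
    rw [Subgroup.card_map_of_injective ψ.injective]
  rw [← heq] at hy
  obtain ⟨x, hx, rfl⟩ := hy
  exact ⟨x, hx, rfl⟩

theorem psiR (h : D2Cfg p G P R C V ψ m n) {r : G} (hr : r ∈ R) : ψ r ∈ R := by
  apply h.Rall _ (h.psiP r (h.RP hr))
  rw [← map_pow, h.Rexp r hr, map_one]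

theorem psiC (h : D2Cfg p G P R C V ψ m n) {c : G} (hc : c ∈ C) : ψ c ∈ C := by
  rw [h.Cdef]
  refine ⟨h.psiP c (h.CP hc), ?_⟩
  intro y hy
  obtain ⟨x, hx, rfl⟩ := h.psi_surj_P hy
  rw [← map_mul, ← map_mul, h.comm_C hc hx]

theorem psi_surj_C (h : D2Cfg p G P R C V ψ m n) : C.map ψ.toMonoidHom = C := by
  have hle : C.map ψ.toMonoidHom ≤ C := by
    rintro _ ⟨x, hx, rfl⟩
    exact h.psiC hx
  apply Subgroup.eq_of_le_of_card_ge hle
  rw [Subgroup.card_map_of_injective ψ.injective]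

/-- an element of `R ∩ V` outside `C` -/
theorem exists_r1 (h : D2Cfg p G P R C V ψ m n) : ∃ r1 ∈ R, r1 ∈ V ∧ r1 ∉ C := by
  have hne : ¬ V ≤ C := by
    intro hle
    have h1 : Nat.card V ≤ Nat.card C := Subgroup.card_le_of_le hle
    rw [h.cardV] at h1
    have hpos : 0 < Nat.card C := Nat.card_pos
    have := hp.out.one_lt
    nlinarith
  obtain ⟨v, hvV, hvC⟩ := SetLike.not_le_iff_exists.1 hne
  obtain ⟨r, hr, c, hc, hvrc⟩ := h.PRC v (h.VP hvV)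
  have hrv : r = v * c⁻¹ := by rw [hvrc]; group
  refine ⟨r, hr, ?_, ?_⟩
  · rw [hrv]
    exact V.mul_mem hvV (V.inv_mem (h.CV hc))
  · intro hrC
    apply hvC
    rw [hvrc]
    exact C.mul_mem hrC hc

/-- `G` moves an element of `R ∩ V` by elements of `Z1` -/
theorem act_r1 (h : D2Cfg p G P R C V ψ m n) {r1 : G} (hr : r1 ∈ R) (hv : r1 ∈ V) (t : G) :
    r1⁻¹ * (t * r1 * t⁻¹) ∈ R ⊓ C :=
  Subgroup.mem_inf.2 ⟨R.mul_mem (R.inv_mem hr) (h.conjR hr t), h.actV t r1 hv⟩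

/-- elements of `V` are `r1 ^ i * c` -/
theorem V_eq (h : D2Cfg p G P R C V ψ m n) {r1 : G} (hv : r1 ∈ V) (hc : r1 ∉ C) :
    ∀ v ∈ V, ∃ i : ℤ, ∃ c ∈ C, v = r1 ^ i * c := by
  haveI := h.normC
  exact d2_exists_zpow_mul h.pgrp C V h.CV h.cardV r1 hv hc

theorem comm_V_r1 (h : D2Cfg p G P R C V ψ m n) {r1 : G} (hv : r1 ∈ V) (hc : r1 ∉ C)
    {v : G} (hvV : v ∈ V) : Commute v r1 := by
  obtain ⟨i, c, hcC, rfl⟩ := h.V_eq hv hc v hvV
  have h1 : Commute c r1 := h.comm_C hcC (h.VP hv)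
  exact ((Commute.refl r1).zpow_left i).mul_left h1

theorem comm_V (h : D2Cfg p G P R C V ψ m n) {r1 : G} (hv : r1 ∈ V) (hc : r1 ∉ C)
    {v w : G} (hvV : v ∈ V) (hwV : w ∈ V) : Commute v w := by
  obtain ⟨i, c, hcC, rfl⟩ := h.V_eq hv hc v hvV
  have h1 : Commute c w := h.comm_C hcC (h.VP hwV)
  exact ((h.comm_V_r1 hv hc hwV).symm.zpow_left i).mul_left h1

/-- the centralizer of `r1` in `P` is `V` -/
theorem cent_r1 (h : D2Cfg p G P R C V ψ m n) {r1 : G} (hv : r1 ∈ V) (hc : r1 ∉ C)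
    {x : G} (hx : x ∈ P) (hxr : x * r1 = r1 * x) : x ∈ V := by
  set D : Subgroup G := P ⊓ Subgroup.centralizer {r1} with hD
  have hVD : V ≤ D := by
    intro v hvV
    refine Subgroup.mem_inf.2 ⟨h.VP hvV, Subgroup.mem_centralizer_singleton_iff.2 ?_⟩
    exact (h.comm_V_r1 hv hc hvV).eq
  have hDP : D ≠ P := by
    intro heq
    apply hc
    rw [h.Cdef]
    refine ⟨h.VP hv, fun y hy => ?_⟩
    have hy' : y ∈ D := by rw [heq]; exact hy
    exact (Subgroup.mem_centralizer_singleton_iff.1 (Subgroup.mem_inf.1 hy').2).symm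
  have hxD : x ∈ D :=
    Subgroup.mem_inf.2 ⟨hx, Subgroup.mem_centralizer_singleton_iff.2 hxr⟩
  by_contra hxV
  have hlt1 : V < D := lt_of_le_of_ne hVD (fun heq => hxV (by rw [heq]; exact hxD))
  have hlt2 : D < P := lt_of_le_of_ne inf_le_left hDP
  have h1 := d2_card_mul_le_of_lt h.pgrp hlt1
  have h2 := d2_card_mul_le_of_lt h.pgrp hlt2
  rw [h.cardV] at h1
  rw [h.cardP] at h2
  have hpos : 0 < Nat.card C := Nat.card_pos
  have hp1 := hp.out.one_lt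
  nlinarith

end D2Cfg

end Cfsg.Agent.Helper86.Res
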