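import Mathlib
import Cfsg.Agent.Helper86.ResD2b

/-!
# S5289 swarm, piece (D2) (hedge by helper86): the abstract configuration inside `G = T`, part 2
-/

set_option autoImplicit false

universe u

namespace Cfsg.Agent.Helper86.Res

open Subgroup

namespace D2Cfg

variable {G : Type u} [Group G] [Finite G] {p : ℕ} [hp : Fact p.Prime]
  {P R C V : Subgroup G} {ψ : MulAut G} {m n : ℕ}

/-- an element of `R` not commuting with `r1` -/
theorem exists_r2 (h : D2Cfg p G P R C V ψ m n) {r1 : G} (hv : r1 ∈ V) (hc : r1 ∉ C) :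
    ∃ r2 ∈ R, r1⁻¹ * (r2 * r1 * r2⁻¹) ≠ 1 := by
  have h1 : ¬ ∀ y ∈ P, r1 * y = y * r1 := fun hall => hc ((h.Cdef r1).2 ⟨h.VP hv, hall⟩)
  push Not at h1
  obtain ⟨y, hy, hne⟩ := h1
  obtain ⟨r2, hr2, c, hcC, rfl⟩ := h.PRC y hy
  refine ⟨r2, hr2, fun h0 => hne ?_⟩
  have h2 : r2 * r1 * r2⁻¹ = r1 := by
    have := congrArg (fun x => r1 * x) h0
    simpa using this
  have h3 : r2 * r1 = r1 * r2 := by
    calc r2 * r1 = (r2 * r1 * r2⁻¹) * r2 := by group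
      _ = r1 * r2 := by rw [h2]
  have h4 : c * r1 = r1 * c := h.comm_C hcC (h.VP hv)
  calc r1 * (r2 * c) = (r1 * r2) * c := by group
    _ = (r2 * r1) * c := by rw [h3]
    _ = r2 * (r1 * c) := by group
    _ = r2 * (c * r1) := by rw [h4]
    _ = r2 * c * r1 := by group

/-- every element of `Z1` is a power of a non-trivial one -/
theorem Z_pow (h : D2Cfg p G P R C V ψ m n) {c0 : G} (hc0 : c0 ∈ R ⊓ C) (hne : c0 ≠ 1)
    {z : G} (hz : z ∈ R ⊓ C) : ∃ j : ℕ, c0 ^ j = z := by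
  have hg : (⟨c0, hc0⟩ : ↥(R ⊓ C : Subgroup G)) ≠ 1 := fun h0 => hne (congrArg Subtype.val h0)
  obtain ⟨j, hj⟩ := mem_powers_of_prime_card (G := ↥(R ⊓ C : Subgroup G)) h.cardRC hg
    (g' := ⟨z, hz⟩)
  refine ⟨j, ?_⟩
  have := congrArg Subtype.val hj
  simpa using this

/-- an element outside `P` centralizing `r1` -/
theorem exists_t (h : D2Cfg p G P R C V ψ m n) {r1 : G} (hr : r1 ∈ R) (hv : r1 ∈ V) (hc : r1 ∉ C) :
    ∃ t : G, t ∉ P ∧ t * r1 = r1 * t := by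
  obtain ⟨r2, hr2, hne⟩ := h.exists_r2 hv hc
  set c0 := r1⁻¹ * (r2 * r1 * r2⁻¹) with hc0
  have hc0Z : c0 ∈ R ⊓ C := h.act_r1 hr hv r2
  have hconj : r2 * r1 * r2⁻¹ = r1 * c0 := by rw [hc0]; group
  have hPtop : ¬ (⊤ : Subgroup G) ≤ P := by
    intro hle
    have h1 : Nat.card (⊤ : Subgroup G) ≤ Nat.card P := Subgroup.card_le_of_le hle
    rw [Subgroup.card_top, h.cardG] at h1
    have hpos : 0 < Nat.card P := Nat.card_pos
    have := hp.out.one_lt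
    nlinarith
  obtain ⟨t0, -, ht0⟩ := SetLike.not_le_iff_exists.1 hPtop
  set z0 := r1⁻¹ * (t0 * r1 * t0⁻¹) with hz0
  have hz0Z : z0 ∈ R ⊓ C := h.act_r1 hr hv t0
  obtain ⟨j, hj⟩ := h.Z_pow hc0Z hne ((R ⊓ C).inv_mem hz0Z)
  have h1 := d2_conj_pow r2 r1 c0 hconj (h.central_Z hc0Z r2) (h.central_Z hc0Z r1) j
  refine ⟨r2 ^ j * t0, ?_, ?_⟩
  · intro hmem
    apply ht0
    have h2 : t0 = (r2 ^ j)⁻¹ * (r2 ^ j * t0) := by group
    rw [h2]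
    exact P.mul_mem (P.inv_mem (P.pow_mem (h.RP hr2) j)) hmem
  · have h2 : t0 * r1 * t0⁻¹ = r1 * z0 := by rw [hz0]; group
    have h3 : (r2 ^ j * t0) * r1 * (r2 ^ j * t0)⁻¹ = r1 := by
      calc (r2 ^ j * t0) * r1 * (r2 ^ j * t0)⁻¹ = r2 ^ j * (t0 * r1 * t0⁻¹) * (r2 ^ j)⁻¹ := by group
        _ = r2 ^ j * (r1 * z0) * (r2 ^ j)⁻¹ := by rw [h2]
        _ = (r2 ^ j * r1 * (r2 ^ j)⁻¹) * (r2 ^ j * z0 * (r2 ^ j)⁻¹) := by group
        _ = (r1 * c0 ^ j) * z0 := by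
            rw [h1, ← h.central_Z hz0Z (r2 ^ j), mul_inv_cancel_right]
        _ = r1 := by rw [hj]; group
    calc (r2 ^ j * t0) * r1 = ((r2 ^ j * t0) * r1 * (r2 ^ j * t0)⁻¹) * (r2 ^ j * t0) := by group
      _ = r1 * (r2 ^ j * t0) := by rw [h3]

/-- the centralizer of `r1` is `⟨t⟩ V` -/
theorem A1_eq (h : D2Cfg p G P R C V ψ m n) {r1 : G} (hv : r1 ∈ V) (hc : r1 ∉ C)
    {t : G} (htP : t ∉ P) (ht : t * r1 = r1 * t) {a : G} (ha : a * r1 = r1 * a) :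
    ∃ i : ℤ, ∃ x ∈ V, a = t ^ i * x := by
  haveI := h.normP
  have hcard : Nat.card (⊤ : Subgroup G) = p * Nat.card P := by rw [Subgroup.card_top, h.cardG]
  obtain ⟨i, x, hx, hax⟩ := d2_exists_zpow_mul h.pgrp P ⊤ le_top hcard t (Subgroup.mem_top t) htP a
    (Subgroup.mem_top a)
  refine ⟨i, x, ?_, hax⟩
  apply h.cent_r1 hv hc hx
  have hx' : x = (t ^ i)⁻¹ * a := by rw [hax]; group
  have h1 : Commute (t ^ i) r1 := (show Commute t r1 from ht).zpow_left i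
  have h2 : Commute a r1 := ha
  rw [hx']
  exact (h1.inv_left.mul_left h2).eq

/-- `ψ` fixes the generator of `Z1` -/
theorem psi_c0 (h : D2Cfg p G P R C V ψ m n) {r1 r2 : G} (hr : r1 ∈ R) (hv : r1 ∈ V) (hc : r1 ∉ C)
    (hr2 : r2 ∈ R) : ψ (r1⁻¹ * (r2 * r1 * r2⁻¹)) = r1⁻¹ * (r2 * r1 * r2⁻¹) := by
  set c0 := r1⁻¹ * (r2 * r1 * r2⁻¹) with hc0
  have hc0Z : c0 ∈ R ⊓ C := h.act_r1 hr hv r2
  have hconj : r2 * r1 * r2⁻¹ = r1 * c0 := by rw [hc0]; group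
  set a := r1 ^ m with ha
  set b := r2 ^ n with hb
  set c1 := a⁻¹ * ψ r1 with hc1
  set v2 := b⁻¹ * ψ r2 with hv2
  have hc1C : c1 ∈ C := h.psiV r1 hv
  have hv2V : v2 ∈ V := h.psiPn r2 (h.RP hr2)
  have e1 : ψ r1 = a * c1 := by rw [hc1]; group
  have e2 : ψ r2 = b * v2 := by rw [hv2]; group
  have haP : a ∈ P := P.pow_mem (h.VP hv) m
  have hbP : b ∈ P := P.pow_mem (h.RP hr2) n
  -- `b a b⁻¹ = a * c0 ^ (n * m)`
  have h1 := d2_conj_pow r2 r1 c0 hconj (h.central_Z hc0Z r2) (h.central_Z hc0Z r1) n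
  have hcomm : Commute r1 (c0 ^ n) :=
    ((show Commute c0 r1 from h.central_Z hc0Z r1).pow_left n).symm
  have h2 : b * a * b⁻¹ = a * c0 ^ (n * m) := by
    rw [ha, ← conj_pow, h1, hcomm.mul_pow, ← pow_mul]
  -- `v2` commutes with `a * c1`
  have hv2a : Commute v2 a := (h.comm_V_r1 hv hc hv2V).pow_right m
  have hv2c : Commute v2 c1 := (show Commute c1 v2 from h.comm_C hc1C (h.VP hv2V)).symm
  have h3 : v2 * (a * c1) * v2⁻¹ = a * c1 := (hv2a.mul_right hv2c).mul_inv_cancel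
  have hbc : Commute c1 b⁻¹ := (show Commute c1 b from h.comm_C hc1C hbP).inv_right
  have hkc : Commute (c0 ^ (n * m)) c1 :=
    (show Commute c0 c1 from h.central_Z hc0Z c1).pow_left _
  have hac : Commute c1 a := h.comm_C hc1C haP
  calc ψ c0 = (ψ r1)⁻¹ * (ψ r2 * ψ r1 * (ψ r2)⁻¹) := by
        rw [hc0, map_mul, map_mul, map_mul, map_inv, map_inv]
    _ = (a * c1)⁻¹ * (b * (v2 * (a * c1) * v2⁻¹) * b⁻¹) := by rw [e1, e2]; group
    _ = (a * c1)⁻¹ * (b * (a * c1) * b⁻¹) := by rw [h3]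
    _ = (a * c1)⁻¹ * ((b * a * b⁻¹) * c1) := by
        have : b * (a * c1) * b⁻¹ = (b * a) * (c1 * b⁻¹) := by group
        rw [this, hbc.eq]; group
    _ = (a * c1)⁻¹ * (a * c0 ^ (n * m) * c1) := by rw [h2]
    _ = c1⁻¹ * c0 ^ (n * m) * c1 := by group
    _ = c0 ^ (n * m) := by rw [mul_assoc, hkc.eq, inv_mul_cancel_left]
    _ = c0 := by
        have hp1 : c0 ^ p = 1 := h.Rexp c0 (Subgroup.mem_inf.1 hc0Z).1
        rw [pow_eq_pow_mod _ hp1, mul_comm n m, h.mn, pow_one]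

end D2Cfg

end Cfsg.Agent.Helper86.Res
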