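import Mathlib
import Cfsg.Agent.Helper86.ResD2c

/-!
# S5289 swarm, piece (D2) (hedge by helper86): the abstract configuration inside `G = T`, part 3
-/

set_option autoImplicit false

universe u

namespace Cfsg.Agent.Helper86.Res

open Subgroup

namespace D2Cfg

variable {G : Type u} [Group G] [Finite G] {p : ℕ} [hp : Fact p.Prime]
  {P R C V : Subgroup G} {ψ : MulAut G} {m n : ℕ}

theorem not_dvd_m (h : D2Cfg p G P R C V ψ m n) : ¬ p ∣ m := by
  intro hd
  have h1 : m * n % p = 0 := Nat.mod_eq_zero_of_dvd (Dvd.dvd.mul_right hd n)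
  rw [h.mn] at h1
  exact one_ne_zero h1

/-- `ψ` fixes `Z1` pointwise -/
theorem psi_fix_Z (h : D2Cfg p G P R C V ψ m n) {z : G} (hz : z ∈ R ⊓ C) : ψ z = z := by
  obtain ⟨r1, hr, hv, hc⟩ := h.exists_r1
  obtain ⟨r2, hr2, hne⟩ := h.exists_r2 hv hc
  obtain ⟨j, rfl⟩ := h.Z_pow (h.act_r1 hr hv r2) hne hz
  rw [map_pow, h.psi_c0 hr hv hc hr2]

/-- `ψ` fixes `C` pointwise (S0120) -/
theorem psi_fix_C (hp2 : p ≠ 2) (h : D2Cfg p G P R C V ψ m n) {c : G} (hc : c ∈ C) : ψ c = c := by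
  set ψC : MulAut ↥C := (ψ.subgroupMap C).trans (MulEquiv.subgroupCongr h.psi_surj_C) with hψC
  have happ : ∀ x : ↥C, ((ψC x : ↥C) : G) = ψ (x : G) := fun x => rfl
  have hpow : ∀ (k : ℕ) (x : ↥C), (((ψC ^ k) x : ↥C) : G) = (ψ ^ k) (x : G) := by
    intro k
    induction k with
    | zero => intro x; rfl
    | succ k ih =>
      intro x
      rw [pow_succ', pow_succ', MulAut.mul_apply, MulAut.mul_apply, happ, ih]
  have hord : ψC ^ orderOf ψ = 1 := by
    ext x
    rw [hpow, pow_orderOf_eq_one]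
    rfl
  have hcop : (orderOf ψC).Coprime p :=
    Nat.Coprime.coprime_dvd_left (orderOf_dvd_of_pow_eq_one hord) h.cop
  have hfix : ∀ x : ↥C, x ^ p = 1 → ψC x = x := by
    intro x hx
    apply Subtype.ext
    rw [happ]
    apply h.psi_fix_Z
    refine Subgroup.mem_inf.2 ⟨h.Rall _ (h.CP x.2) ?_, x.2⟩
    have := congrArg Subtype.val hx
    simpa using this
  have h1 := Cfsg.Agent.S0120.result hp2 (h.pgrp.to_subgroup C) ψC hcop hfix
  have h2 := happ ⟨c, hc⟩
  rw [h1] at h2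
  exact h2.symm

/-- `ψ` preserves the centralizer of `r1` -/
theorem psi_A1 (h : D2Cfg p G P R C V ψ m n) {r1 : G} (hr : r1 ∈ R) (hv : r1 ∈ V)
    {a : G} (ha : a * r1 = r1 * a) : ψ a * r1 = r1 * ψ a := by
  set z := (r1 ^ m)⁻¹ * ψ r1 with hz
  have hzZ : z ∈ R ⊓ C :=
    Subgroup.mem_inf.2 ⟨R.mul_mem (R.inv_mem (R.pow_mem hr m)) (h.psiR hr), h.psiV r1 hv⟩
  have e1 : ψ r1 = r1 ^ m * z := by rw [hz]; group
  have h1 : Commute (ψ a) (ψ r1) := by
    show ψ a * ψ r1 = ψ r1 * ψ a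
    rw [← map_mul, ← map_mul, ha]
  have h2 : Commute (ψ a) z := (show Commute z (ψ a) from h.central_Z hzZ (ψ a)).symm
  have h3 : Commute (ψ a) (r1 ^ m) := by
    have e2 : r1 ^ m = ψ r1 * z⁻¹ := by rw [e1]; group
    rw [e2]
    exact h1.mul_right h2.inv_right
  have h4 : Commute (r1 ^ p) (ψ a) := by rw [h.Rexp r1 hr]; exact Commute.one_left _
  exact (d2_commute_of_pow r1 (ψ a) m h.not_dvd_m h3.symm h4).symm.eq

theorem pow_p_mem (h : D2Cfg p G P R C V ψ m n) (a : G) : a ^ p ∈ P := by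
  haveI := h.normP
  have hidx : P.index = p := by
    have h1 := Subgroup.card_mul_index P
    rw [h.cardG, mul_comm] at h1
    have hpos : 0 < Nat.card P := Nat.card_pos
    exact Nat.eq_of_mul_eq_mul_right hpos h1
  have := Subgroup.pow_index_mem P a
  rwa [hidx] at this

/-- `C` is central in the centralizer of `r1` -/
theorem comm_A1_C (hp2 : p ≠ 2) (h : D2Cfg p G P R C V ψ m n) {r1 : G} (hr : r1 ∈ R) (hv : r1 ∈ V)
    (hc : r1 ∉ C) {a : G} (ha : a * r1 = r1 * a) {c : G} (hcC : c ∈ C) : Commute a c := by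
  haveI := h.normC
  have hm0 : m ≠ 0 := fun h0 => h.not_dvd_m (by rw [h0]; exact dvd_zero p)
  have hM : 1 ≤ m * m := Nat.one_le_iff_ne_zero.2 (Nat.mul_ne_zero hm0 hm0)
  set M := m * m with hMdef
  set e := (a ^ M)⁻¹ * ψ a with he
  have heP : e ∈ P := h.psiG a
  have e1 : ψ a = a ^ M * e := by rw [he]; group
  have h1 : Commute (ψ a) r1 := h.psi_A1 hr hv ha
  have h2 : Commute (a ^ M) r1 := (show Commute a r1 from ha).pow_left M
  have h3 : Commute e r1 := h2.inv_left.mul_left h1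
  have heV : e ∈ V := h.cent_r1 hv hc heP h3.eq
  have hec : Commute e c := (show Commute c e from h.comm_C hcC (h.VP heV)).symm
  set k := a * c * a⁻¹ * c⁻¹ with hk
  have hkC : k ∈ C := C.mul_mem (‹C.Normal›.conj_mem c hcC a) (C.inv_mem hcC)
  have hψk : ψ k = k := h.psi_fix_C hp2 hkC
  have hψc : ψ c = c := h.psi_fix_C hp2 hcC
  have h4 : ψ k = a ^ M * c * (a ^ M)⁻¹ * c⁻¹ := by
    rw [hk, map_mul, map_mul, map_mul, map_inv, map_inv, hψc, e1]
    have : a ^ M * e * c * (a ^ M * e)⁻¹ * c⁻¹ = a ^ M * (e * c * e⁻¹) * (a ^ M)⁻¹ * c⁻¹ := by group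
    rw [this, hec.mul_inv_cancel]
  rw [hψk, hk] at h4
  -- `a c a⁻¹ = a^M c a^(-M)`
  have h5 : a * c * a⁻¹ = a ^ M * c * (a ^ M)⁻¹ := by
    have := congrArg (fun x => x * c) h4
    simpa using this
  have h6 : Commute (a ^ (M - 1)) c := by
    have hM' : M = (M - 1) + 1 := by omega
    have h7 : a ^ M = a * a ^ (M - 1) := by rw [← pow_succ', ← hM']
    rw [h7] at h5
    have h8 : a ^ (M - 1) * c * (a ^ (M - 1))⁻¹ = c := by
      have : a⁻¹ * (a * c * a⁻¹) * a
          = a⁻¹ * (a * a ^ (M - 1) * c * (a * a ^ (M - 1))⁻¹) * a := by rw [h5]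
      have e2 : a⁻¹ * (a * c * a⁻¹) * a = c := by group
      have e3 : a⁻¹ * (a * a ^ (M - 1) * c * (a * a ^ (M - 1))⁻¹) * a
          = a ^ (M - 1) * c * (a ^ (M - 1))⁻¹ := by group
      rw [e2, e3] at this
      exact this.symm
    show a ^ (M - 1) * c = c * a ^ (M - 1)
    calc a ^ (M - 1) * c = (a ^ (M - 1) * c * (a ^ (M - 1))⁻¹) * a ^ (M - 1) := by group
      _ = c * a ^ (M - 1) := by rw [h8]
  have h9 : Commute (a ^ p) c := by
    have hapP : a ^ p ∈ P := h.pow_p_mem a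
    have hapr : Commute (a ^ p) r1 := (show Commute a r1 from ha).pow_left p
    have hapV : a ^ p ∈ V := h.cent_r1 hv hc hapP hapr.eq
    exact (show Commute c (a ^ p) from h.comm_C hcC (h.VP hapV)).symm
  have hnd : ¬ p ∣ M - 1 := by
    intro hd
    apply h.m2
    have h10 : M ≡ 1 [MOD p] := by
      have : 1 ≡ M [MOD p] := (Nat.modEq_iff_dvd' hM).2 hd
      exact this.symm
    rw [pow_two, ← hMdef]
    have := h10
    unfold Nat.ModEq at this
    rw [this]
    exact Nat.mod_eq_of_lt hp.out.one_lt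
  exact d2_commute_of_pow a c (M - 1) hnd h6 h9

/-- the centralizer of `r1` is abelian -/
theorem comm_A1 (hp2 : p ≠ 2) (h : D2Cfg p G P R C V ψ m n) {r1 : G} (hr : r1 ∈ R) (hv : r1 ∈ V)
    (hc : r1 ∉ C) {a b : G} (ha : a * r1 = r1 * a) (hb : b * r1 = r1 * b) : Commute a b := by
  obtain ⟨t, htP, ht⟩ := h.exists_t hr hv hc
  obtain ⟨i, x, hx, rfl⟩ := h.A1_eq hv hc htP ht ha
  obtain ⟨j, y, hy, rfl⟩ := h.A1_eq hv hc htP ht hb
  have htV : ∀ w ∈ V, Commute t w := by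
    intro w hw
    obtain ⟨k, c', hc', rfl⟩ := h.V_eq hv hc w hw
    exact ((show Commute t r1 from ht).zpow_right k).mul_right (h.comm_A1_C hp2 hr hv hc ht hc')
  have hxy : Commute x y := h.comm_V hv hc hx hy
  have h1 : Commute (t ^ i) (t ^ j) := (Commute.refl t).zpow_zpow i j
  have h2 : Commute (t ^ i) y := (htV y hy).zpow_left i
  have h3 : Commute x (t ^ j) := ((htV x hx).zpow_left j).symm
  exact (h1.mul_right h2).mul_left (h3.mul_right hxy)

end D2Cfg

end Cfsg.Agent.Helper86.Res
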