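import Mathlib
import Cfsg.Agent.Helper86.ResD2d

/-!
# S5289 swarm, piece (D2) (hedge by helper86): the abstract configuration is contradictory
-/

set_option autoImplicit false

universe u

namespace Cfsg.Agent.Helper86.Res

open Subgroup

namespace D2Cfg

variable {G : Type u} [Group G] [Finite G] {p : ℕ} [hp : Fact p.Prime]
  {P R C V : Subgroup G} {ψ : MulAut G} {m n : ℕ}

/-- the arithmetic: `m⁴ + m ≡ m² + m³` is impossible -/
theorem arith (h : D2Cfg p G P R C V ψ m n)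
    (hmod : m * m * (m * m) + m ≡ m * m + m * (m * m) [MOD p]) : False := by
  have h1 : ((m * m * (m * m) + m : ℕ) : ZMod p) = ((m * m + m * (m * m) : ℕ) : ZMod p) :=
    (ZMod.natCast_eq_natCast_iff _ _ _).2 hmod
  push_cast at h1
  have h2 : (m : ZMod p) * ((m : ZMod p) - 1) * ((m : ZMod p) ^ 2 - 1) = 0 := by
    linear_combination h1
  have hone : ((1 : ℕ) : ZMod p) = 1 := Nat.cast_one
  rcases mul_eq_zero.1 h2 with h3 | h3
  · rcases mul_eq_zero.1 h3 with h4 | h4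
    · exact h.not_dvd_m ((ZMod.natCast_eq_zero_iff m p).1 h4)
    · apply h.m1
      have h5 : (m : ZMod p) = ((1 : ℕ) : ZMod p) := by rw [hone]; exact sub_eq_zero.1 h4
      have h6 := (ZMod.natCast_eq_natCast_iff _ _ _).1 h5
      unfold Nat.ModEq at h6
      rw [h6]
      exact Nat.mod_eq_of_lt hp.out.one_lt
  · apply h.m2
    have h5 : ((m ^ 2 : ℕ) : ZMod p) = ((1 : ℕ) : ZMod p) := by
      rw [hone]; push_cast; exact sub_eq_zero.1 h3
    have h6 := (ZMod.natCast_eq_natCast_iff _ _ _).1 h5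
    unfold Nat.ModEq at h6
    rw [h6]
    exact Nat.mod_eq_of_lt hp.out.one_lt

/-- the configuration is contradictory -/
theorem false (hp2 : p ≠ 2) (h : D2Cfg p G P R C V ψ m n) : False := by
  haveI := h.normP
  obtain ⟨r1, hr, hv, hc⟩ := h.exists_r1
  obtain ⟨t, htP, ht⟩ := h.exists_t hr hv hc
  set M := m * m with hMdef
  -- the elements
  set y := ψ t * (t ^ m)⁻¹ with hy
  set t' := ψ y * y⁻¹ with ht'
  have hψt : ψ t * r1 = r1 * ψ t := h.psi_A1 hr hv ht
  have htm : t ^ m * r1 = r1 * t ^ m := ((show Commute t r1 from ht).pow_left m).eq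
  have hyA : y * r1 = r1 * y :=
    ((show Commute (ψ t) r1 from hψt).mul_left (show Commute (t ^ m) r1 from htm).inv_left).eq
  have hψyA : ψ y * r1 = r1 * ψ y := h.psi_A1 hr hv hyA
  have ht'A : t' * r1 = r1 * t' :=
    ((show Commute (ψ y) r1 from hψyA).mul_left (show Commute y r1 from hyA).inv_left).eq
  -- `y ^ p ∈ C`
  have hvV : t ^ p ∈ V :=
    h.cent_r1 hv hc (h.pow_p_mem t) ((show Commute t r1 from ht).pow_left p).eq
  have hyp : y ^ p ∈ C := by
    have hc1 : Commute (ψ t) (t ^ m)⁻¹ :=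
      (h.comm_A1 hp2 hr hv hc hψt htm).inv_right
    have h1 : y ^ p = ψ (t ^ p) * (((t ^ p) ^ m)⁻¹) := by
      rw [hy, hc1.mul_pow, map_pow, inv_pow, ← pow_mul, ← pow_mul, mul_comm m p]
    have h2 : Commute (ψ (t ^ p)) (((t ^ p) ^ m)⁻¹) := by
      have ha : ψ (t ^ p) * r1 = r1 * ψ (t ^ p) :=
        h.psi_A1 hr hv ((show Commute t r1 from ht).pow_left p).eq
      have hb : (t ^ p) ^ m * r1 = r1 * (t ^ p) ^ m :=
        (((show Commute t r1 from ht).pow_left p).pow_left m).eq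
      exact (h.comm_A1 hp2 hr hv hc ha hb).inv_right
    rw [h1, h2.eq]
    exact h.psiV _ hvV
  have ht'p : t' ^ p = 1 := by
    have hc1 : Commute (ψ y) y⁻¹ := (h.comm_A1 hp2 hr hv hc hψyA hyA).inv_right
    rw [ht', hc1.mul_pow, ← map_pow, h.psi_fix_C hp2 hyp, inv_pow, mul_inv_cancel]
  -- `t' ∉ P`
  have ht'P : t' ∉ P := by
    intro hmem
    set π := QuotientGroup.mk' P with hπ
    have hπψ : ∀ a : G, π (ψ a) = π a ^ M := by
      intro a
      rw [← map_pow]
      exact (QuotientGroup.eq.2 (h.psiG a)).symm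
    set q := π t with hq
    have hq1 : q ≠ 1 := by
      intro h1
      exact htP ((QuotientGroup.eq_one_iff t).1 h1)
    have hqp : q ^ p = 1 := by
      rw [hq, ← map_pow]
      exact (QuotientGroup.eq_one_iff _).2 (h.pow_p_mem t)
    have hord : orderOf q = p := orderOf_eq_prime hqp hq1
    have hπy : π y = q ^ M * (q ^ m)⁻¹ := by
      rw [hy, map_mul, map_inv, map_pow, hπψ]
    have hπt' : π t' = 1 := (QuotientGroup.eq_one_iff t').2 hmem
    rw [ht', map_mul, map_inv, hπψ, hπy] at hπt'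
    -- `(q^M (q^m)⁻¹)^M = q^M (q^m)⁻¹`
    have h1 : (q ^ M * (q ^ m)⁻¹) ^ M = q ^ M * (q ^ m)⁻¹ := by
      have := mul_inv_eq_one.1 hπt'
      exact this
    have hcq : Commute (q ^ M) (q ^ m)⁻¹ := ((Commute.refl q).pow_pow M m).inv_right
    rw [hcq.mul_pow, inv_pow, ← pow_mul, ← pow_mul] at h1
    have h2 : q ^ (M * M) * q ^ m = q ^ M * q ^ (m * M) := by
      have e1 : q ^ (M * M) = q ^ M * (q ^ m)⁻¹ * q ^ (m * M) := by
        rw [← h1]; group
      rw [e1]
      have hc2 : Commute (q ^ (m * M)) (q ^ m) := (Commute.refl q).pow_pow _ _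
      have hc3 : Commute ((q ^ m)⁻¹) (q ^ (m * M)) := hc2.symm.inv_left
      calc q ^ M * (q ^ m)⁻¹ * q ^ (m * M) * q ^ m
          = q ^ M * ((q ^ m)⁻¹ * q ^ (m * M)) * q ^ m := by group
        _ = q ^ M * (q ^ (m * M) * (q ^ m)⁻¹) * q ^ m := by rw [hc3.eq]
        _ = q ^ M * q ^ (m * M) := by group
    rw [← pow_add, ← pow_add, pow_eq_pow_iff_modEq, hord] at h2
    exact h.arith h2
  -- the elementary abelian subgroup
  let E : Subgroup G :=
    { carrier := {a | a * r1 = r1 * a ∧ a ^ p = 1}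
      one_mem' := ⟨by simp, one_pow p⟩
      mul_mem' := by
        rintro a b ⟨ha, hap⟩ ⟨hb, hbp⟩
        refine ⟨((show Commute a r1 from ha).mul_left (show Commute b r1 from hb)).eq, ?_⟩
        rw [(h.comm_A1 hp2 hr hv hc ha hb).mul_pow, hap, hbp, one_mul]
      inv_mem' := by
        rintro a ⟨ha, hap⟩
        exact ⟨(show Commute a r1 from ha).inv_left.eq, by rw [inv_pow, hap, inv_one]⟩ }
  have hEmem : ∀ a, a ∈ E ↔ a * r1 = r1 * a ∧ a ^ p = 1 := fun a => Iff.rfl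
  have hEcard : Nat.card E ≤ p ^ 2 := by
    apply h.rank E
    · intro a ha b hb
      exact (h.comm_A1 hp2 hr hv hc ((hEmem a).1 ha).1 ((hEmem b).1 hb).1).eq
    · intro e he
      exact ((hEmem e).1 he).2
  have hr1E : r1 ∈ E := (hEmem r1).2 ⟨rfl, h.Rexp r1 hr⟩
  have ht'E : t' ∈ E := (hEmem t').2 ⟨ht'A, ht'p⟩
  have hZE : (R ⊓ C : Subgroup G) ≤ E ⊓ P := by
    intro z hz
    refine Subgroup.mem_inf.2 ⟨(hEmem z).2 ⟨h.central_Z hz r1, h.Rexp z (Subgroup.mem_inf.1 hz).1⟩,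
      h.RP (Subgroup.mem_inf.1 hz).1⟩
  have hlt1 : (R ⊓ C : Subgroup G) < E ⊓ P := by
    refine lt_of_le_of_ne hZE (fun heq => hc ?_)
    have : r1 ∈ E ⊓ P := Subgroup.mem_inf.2 ⟨hr1E, h.VP hv⟩
    rw [← heq] at this
    exact (Subgroup.mem_inf.1 this).2
  have hlt2 : E ⊓ P < E := by
    refine lt_of_le_of_ne inf_le_left (fun heq => ht'P ?_)
    have : t' ∈ E ⊓ P := by rw [heq]; exact ht'E
    exact (Subgroup.mem_inf.1 this).2
  have h1 := d2_card_mul_le_of_lt h.pgrp hlt1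
  have h2 := d2_card_mul_le_of_lt h.pgrp hlt2
  rw [h.cardRC] at h1
  have hp1 := hp.out.one_lt
  nlinarith

end D2Cfg

end Cfsg.Agent.Helper86.Res
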