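import Mathlib
import Cfsg.Agent.Helper77.Res.Defs
import Cfsg.Agent.Helper86.ResD2e

/-!
# S5289 swarm, piece (D2) `extraspecial_contra` (hedge by helper86)

The configuration is transported into the group `↥T` (`D2Cfg`), where it is contradictory (`D2Cfg.false`).
-/

set_option autoImplicit false

universe u

namespace Cfsg.Agent.Helper86.Res

open Subgroup Cfsg.Agent.Helper77.Res

variable {Ω : Type u} [Group Ω] {p : ℕ} [hp : Fact p.Prime]

theorem d2_card_subgroupOf {H K : Subgroup Ω} (hle : H ≤ K) :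
    Nat.card (H.subgroupOf K) = Nat.card H :=
  Nat.card_congr (Subgroup.subgroupOfEquivOfLe hle).toEquiv

section localcfg
variable {T P : Subgroup Ω} {A : Subgroup (MulAut ↥P)} {B : Subgroup (MulAut ↥T)}

theorem extraspecial_contra (h5 : 5 ≤ p) (hc : Cfg p T P A B)
    (hRexp : ∀ r ∈ Cfsg.omegaOne p P, r ^ p = 1) (hRcard : Nat.card (Cfsg.omegaOne p P) = p ^ 3)
    (hRna : ∃ a ∈ Cfsg.omegaOne p P, ∃ b ∈ Cfsg.omegaOne p P, a * b ≠ b * a)
    (hZcyc : IsCyclic ↥(zOf P)) (hPcard : Nat.card P = p ^ 2 * Nat.card (zOf P))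
    (hRZ : Nat.card (Cfsg.omegaOne p P ⊓ zOf P : Subgroup Ω) = p)
    (hPRZ : ∀ x ∈ P, ∃ r ∈ Cfsg.omegaOne p P, ∃ c ∈ zOf P, x = r * c)
    (m : ℕ) (hm1 : m % p ≠ 1) (hm2 : m ^ 2 % p ≠ 1) (hm3 : m ^ 3 % p ≠ 1)
    (hT : TorusData p T P A B hc.le P (zOf P) m) : False := by
  obtain ⟨V1, n, h, ψ, hWV1, hV1P, hV1card, hTcard, hact1, hact2, hact3, hmn, hhA, hψB, hcop, hext,
    hf, hg, hh⟩ := hT
  haveI : Finite T := hc.fin
  have hp2 : p ≠ 2 := by omega
  have hPT : P ≤ T := hc.le
  have hRP : Cfsg.omegaOne p P ≤ P := by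
    unfold Cfsg.omegaOne
    rw [Subgroup.closure_le]
    rintro x ⟨hx, _⟩
    exact hx
  have hCP : zOf P ≤ P := inf_le_left
  have hψh : ∀ (x : ↥T) (hx : (x : Ω) ∈ P), ((ψ x : T) : Ω) = ((h ⟨(x : Ω), hx⟩ : P) : Ω) :=
    fun x hx => hext ⟨(x : Ω), hx⟩
  have hcfg : D2Cfg p ↥T (P.subgroupOf T) ((Cfsg.omegaOne p P).subgroupOf T) ((zOf P).subgroupOf T)
      (V1.subgroupOf T) ψ m n :=
    { pgrp := hc.pgrp
      rank := by
        intro E hcomm hexp
        have h1 := hc.rank (E.map T.subtype) (Subgroup.map_subtype_le E) ?_ ?_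
        · rwa [Subgroup.card_map_of_injective T.subtype_injective] at h1
        · rintro _ ⟨a, ha, rfl⟩ _ ⟨b, hb, rfl⟩
          have := congrArg Subtype.val (hcomm a ha b hb)
          simpa using this
        · rintro _ ⟨e, he, rfl⟩
          have := congrArg Subtype.val (hexp e he)
          simpa using this
      normP := (Subgroup.normal_subgroupOf_iff_le_normalizer hPT).2 hc.norm
      cardG := by rw [d2_card_subgroupOf hPT]; exact hTcard
      RP := fun x hx => hRP hx
      Rexp := by
        intro r hr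
        apply Subtype.ext
        rw [Subgroup.coe_pow, Subgroup.coe_one]
        exact hRexp _ hr
      Rall := by
        intro x hx hxp
        apply Subgroup.subset_closure
        refine ⟨hx, ?_⟩
        have := congrArg Subtype.val hxp
        simpa using this
      Cdef := by
        intro x
        constructor
        · intro hx
          have hx' : (x : Ω) ∈ zOf P := hx
          refine ⟨(Subgroup.mem_inf.1 hx').1, ?_⟩
          intro y hy
          apply Subtype.ext
          rw [Subgroup.coe_mul, Subgroup.coe_mul]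
          exact (Subgroup.mem_centralizer_iff.1 (Subgroup.mem_inf.1 hx').2 (y : Ω) hy).symm
        · rintro ⟨hx, hxy⟩
          show (x : Ω) ∈ zOf P
          refine Subgroup.mem_inf.2 ⟨hx, Subgroup.mem_centralizer_iff.2 ?_⟩
          intro y hy
          have := congrArg Subtype.val (hxy ⟨y, hPT hy⟩ hy)
          simpa using this.symm
      CV := fun x hx => hWV1 hx
      VP := fun x hx => hV1P hx
      cardV := by
        rw [d2_card_subgroupOf (hV1P.trans hPT), d2_card_subgroupOf (hCP.trans hPT)]
        exact hV1card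
      cardP := by
        rw [d2_card_subgroupOf hPT, d2_card_subgroupOf (hCP.trans hPT)]
        exact hPcard
      cardRC := by
        have heq : ((Cfsg.omegaOne p P).subgroupOf T ⊓ (zOf P).subgroupOf T : Subgroup ↥T)
            = (Cfsg.omegaOne p P ⊓ zOf P : Subgroup Ω).subgroupOf T := by
          ext x
          simp only [Subgroup.mem_inf, Subgroup.mem_subgroupOf]
        rw [heq, d2_card_subgroupOf ((inf_le_left.trans hRP).trans hPT)]
        exact hRZ
      PRC := by
        intro x hx
        obtain ⟨r, hr, c, hcz, hxrc⟩ := hPRZ (x : Ω) hx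
        refine ⟨⟨r, hPT (hRP hr)⟩, hr, ⟨c, hPT (hCP hcz)⟩, hcz, ?_⟩
        apply Subtype.ext
        rw [Subgroup.coe_mul]
        exact hxrc
      actV := by
        intro t v hv
        show ((v⁻¹ * (t * v * t⁻¹) : ↥T) : Ω) ∈ zOf P
        have := hact1 (t : Ω) t.2 (v : Ω) hv
        simpa using this
      psiP := by
        intro x hx
        show ((ψ x : T) : Ω) ∈ P
        rw [hψh x hx]
        exact (h ⟨(x : Ω), hx⟩).2
      cop := hcop
      mn := hmn
      psiV := by
        intro x hx
        show (((x ^ m)⁻¹ * ψ x : ↥T) : Ω) ∈ zOf P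
        have := hf ⟨(x : Ω), hV1P hx⟩ hx
        rw [← hψh x (hV1P hx)] at this
        simpa using this
      psiPn := by
        intro x hx
        show (((x ^ n)⁻¹ * ψ x : ↥T) : Ω) ∈ V1
        have := hg ⟨(x : Ω), hx⟩ hx
        rw [← hψh x hx] at this
        simpa using this
      psiG := by
        intro t
        show (((t ^ (m * m))⁻¹ * ψ t : ↥T) : Ω) ∈ P
        have := hh t
        simpa using this
      m1 := hm1
      m2 := hm2 }
  exact hcfg.false hp2

end localcfg

end Cfsg.Agent.Helper86.Res
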