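import Mathlib
import Cfsg.Agent.Helper77.Res.Defs
import Cfsg.Agent.Helper87.FusionBasic
import Cfsg.Agent.Helper87.FusionFrobenius

/-!
# S5289 swarm, piece (G2) `transport_pearl`: the core, with (GL) as a hypothesis
-/

set_option autoImplicit false

universe u

namespace Cfsg.Agent.Helper86.Res

open Subgroup Cfsg.Agent.Helper77.Res

variable {Ω : Type u} [Group Ω] {p : ℕ} [hp : Fact p.Prime]

section glue
variable {S : Subgroup Ω} [Finite S]

open Cfsg Cfsg.FusionSystem

/-- (G2) with (GL) as a hypothesis -/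
theorem transport_pearl_core (hS : IsPGroup p S) (F : FusionSystem S) (hF : F.IsSaturated p)
    (hGL : ∀ Q : Subgroup Ω, F.IsFullyAutomized p Q → F.IsReceptive Q → centralizerIn S Q ≤ Q → Q ≠ S →
      Cfg p (normalizerIn S Q) Q (F.autGroup Q) (F.autGroup (normalizerIn S Q)))
    (P : Subgroup Ω) (hPn : F.IsFullyNormalized P) (hPc : F.IsCentric P)
    (hpearl : Pearl p (normalizerIn S P) P (F.autGroup (normalizerIn S P))) (hTS : normalizerIn S P ≠ S) :
    ∃ (T' P' : Subgroup Ω),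
      Cfg p (normalizerIn S T') T' (F.autGroup T') (F.autGroup (normalizerIn S T')) ∧
      Nat.card T' = p ^ 3 ∧ (∀ x ∈ T', x ^ p = 1) ∧ (∃ a ∈ T', ∃ b ∈ T', a * b ≠ b * a) ∧
      P' ≤ T' ∧ Nat.card P' = p ^ 2 ∧ (∃ s ∈ normalizerIn S T', ∃ x ∈ P', s * x * s⁻¹ ∉ P') ∧
      ∃ ψ ∈ F.autGroup T', ∃ a : ℕ, a ^ 2 % p ≠ 1 ∧ (orderOf ψ).Coprime p ∧
        ∀ x : T', (x : Ω) ∈ P' → ((ψ x : T') : Ω) ∈ P' ∧
          ∀ t ∈ T', (((x : Ω) ^ a)⁻¹ * ((ψ x : T') : Ω)) * t = t * (((x : Ω) ^ a)⁻¹ * ((ψ x : T') : Ω)) := by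
  classical
  set T : Subgroup Ω := normalizerIn S P with hTdef
  have hTle : T ≤ S := inf_le_left
  have hPS : P ≤ S := hPn.1
  have hPT : P ≤ T := Cfsg.Agent.Helper87.le_normalizerIn hPS
  haveI : Finite T := Cfsg.Agent.Helper87.finite_of_le hTle
  obtain ⟨T', hconj, hTa, hTr⟩ := hF T hTle
  obtain ⟨e, he⟩ := (Cfsg.Agent.Helper87.isConj_iff F T T').1 hconj
  have hT'le : T' ≤ S := he.le_right
  haveI : Finite T' := Cfsg.Agent.Helper87.finite_of_le hT'le
  obtain ⟨hPcard, hTcard, hTexp, ψ, hψB, a, ha, hcop, hψP⟩ := hpearl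
  -- the image of `P`
  set f : T →* Ω := T'.subtype.comp e.toMonoidHom with hfdef
  have hfinj : Function.Injective f := by
    intro x y hxy
    exact e.injective (Subtype.ext hxy)
  have hfapp : ∀ x : T, f x = ((e x : T') : Ω) := fun x => rfl
  set P' : Subgroup Ω := (P.subgroupOf T).map f with hP'def
  have memP' : ∀ y : Ω, y ∈ P' ↔ ∃ x : T, (x : Ω) ∈ P ∧ ((e x : T') : Ω) = y := by
    intro y
    rw [hP'def, Subgroup.mem_map]
    constructor
    · rintro ⟨x, hx, rfl⟩
      exact ⟨x, Subgroup.mem_subgroupOf.1 hx, rfl⟩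
    · rintro ⟨x, hx, rfl⟩
      exact ⟨x, Subgroup.mem_subgroupOf.2 hx, rfl⟩
  have hP'T' : P' ≤ T' := by
    intro y hy
    obtain ⟨x, _, rfl⟩ := (memP' y).1 hy
    exact (e x).2
  -- `P'` is conjugate to `P`
  have hconjP : F.IsConj P P' := by
    refine ⟨f.comp (Subgroup.inclusion hPT), Cfsg.Agent.Helper87.restrict_mem F he hPT, ?_⟩
    ext y
    rw [MonoidHom.mem_range, memP']
    constructor
    · rintro ⟨x, rfl⟩
      exact ⟨Subgroup.inclusion hPT x, x.2, rfl⟩
    · rintro ⟨x, hx, rfl⟩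
      exact ⟨⟨(x : Ω), hx⟩, rfl⟩
  have hcardT' : Nat.card T' = p ^ 3 := by
    rw [← Nat.card_congr e.toEquiv]
    exact hTcard
  have hcardP' : Nat.card P' = p ^ 2 := by
    rw [hP'def, Subgroup.card_map_of_injective hfinj,
      Nat.card_congr (Subgroup.subgroupOfEquivOfLe hPT).toEquiv]
    exact hPcard
  -- exponent
  have hexp : ∀ x ∈ T', x ^ p = 1 := by
    intro x hx
    have h1 : (e.symm ⟨x, hx⟩ : T) ^ p = 1 := by
      apply Subtype.ext
      rw [Subgroup.coe_pow, Subgroup.coe_one]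
      exact hTexp _ (e.symm ⟨x, hx⟩).2
    have h2 : (⟨x, hx⟩ : T') ^ p = 1 := by
      have := congrArg e h1
      rw [map_pow, MulEquiv.apply_symm_apply, map_one] at this
      exact this
    have h3 := congrArg Subtype.val h2
    rw [Subgroup.coe_pow, Subgroup.coe_one] at h3
    exact h3
  -- nonabelian
  have hp2 : 2 ≤ p := hp.out.two_le
  have hna : ∃ a ∈ T', ∃ b ∈ T', a * b ≠ b * a := by
    by_contra hcon
    push Not at hcon
    have hTab : ∀ x y : T, x * y = y * x := by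
      intro x y
      apply e.injective
      rw [map_mul, map_mul]
      apply Subtype.ext
      rw [Subgroup.coe_mul, Subgroup.coe_mul]
      exact hcon _ (e x).2 _ (e y).2
    have hTP : T ≤ P := by
      intro t ht
      apply hPc.2 P ⟨P.subtype, Cfsg.Agent.Helper87.subtype_mem F hPS, Subgroup.range_subtype P⟩
      refine Subgroup.mem_inf.2 ⟨hTle ht, Subgroup.mem_centralizer_iff.2 ?_⟩
      intro x hx
      have := congrArg Subtype.val (hTab ⟨x, hPT hx⟩ ⟨t, ht⟩)
      exact this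
    haveI : Finite P := Cfsg.Agent.Helper87.finite_of_le hPS
    have h1 : Nat.card T ≤ Nat.card P := Subgroup.card_le_of_le hTP
    rw [hTcard, hPcard] at h1
    have : p ^ 2 < p ^ 3 := Nat.pow_lt_pow_right (by omega) (by norm_num)
    omega
  -- centralizer
  have hcent : centralizerIn S T' ≤ T' := by
    intro c hc
    apply hP'T'
    apply hPc.2 P' hconjP
    have hc' := Subgroup.mem_inf.1 hc
    refine Subgroup.mem_inf.2 ⟨hc'.1, Subgroup.mem_centralizer_iff.2 ?_⟩
    intro x hx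
    exact Subgroup.mem_centralizer_iff.1 hc'.2 x (hP'T' hx)
  have hT'S : T' ≠ S := by
    intro h
    apply hTS
    apply Subgroup.eq_of_le_of_card_ge hTle
    rw [← h, ← Nat.card_congr e.toEquiv]
  have hcfg := hGL T' hTa hTr hcent hT'S
  -- `T'` normalizes `P'`
  have hT'norm : ∀ y ∈ T', ∀ x ∈ P', y * x * y⁻¹ ∈ P' := by
    intro y hy x hx
    obtain ⟨u, hu, rfl⟩ := (memP' x).1 hx
    rw [memP']
    set t : T := e.symm ⟨y, hy⟩ with ht
    have hyt : ((e t : T') : Ω) = y := by rw [ht, MulEquiv.apply_symm_apply]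
    refine ⟨t * u * t⁻¹, ?_, ?_⟩
    · have htn : (t : Ω) ∈ Subgroup.normalizer (P : Set Ω) := t.2.2
      have := (Subgroup.mem_normalizer_iff.1 htn (u : Ω)).1 hu
      simpa using this
    · rw [map_mul, map_mul, map_inv, Subgroup.coe_mul, Subgroup.coe_mul, Subgroup.coe_inv, hyt]
  have mem_norm_of : ∀ K : Subgroup Ω, (∀ y ∈ K, ∀ x ∈ P', y * x * y⁻¹ ∈ P') →
      K ≤ Subgroup.normalizer (P' : Set Ω) := by
    intro K hK y hy
    rw [Subgroup.mem_normalizer_iff]
    intro x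
    constructor
    · exact hK y hy x
    · intro hx
      have := hK y⁻¹ (K.inv_mem hy) _ hx
      have e1 : y⁻¹ * (y * x * y⁻¹) * y⁻¹⁻¹ = x := by group
      rwa [e1] at this
  have hnotnorm : ∃ s ∈ normalizerIn S T', ∃ x ∈ P', s * x * s⁻¹ ∉ P' := by
    by_contra hcon
    push Not at hcon
    have h1 : normalizerIn S T' ≤ normalizerIn S P' :=
      le_inf inf_le_left (mem_norm_of _ hcon)
    have h2 : T' ≤ normalizerIn S P' := le_inf hT'le (mem_norm_of _ hT'norm)
    have h3 : Nat.card (normalizerIn S P') ≤ Nat.card T' := by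
      rw [← Nat.card_congr e.toEquiv]
      exact hPn.2 P' hconjP
    haveI : Finite (normalizerIn S P') := Cfsg.Agent.Helper87.finite_of_le inf_le_left
    have h4 : T' = normalizerIn S P' := Subgroup.eq_of_le_of_card_ge h2 h3
    have h5 : T' < S := lt_of_le_of_ne hT'le hT'S
    have h6 := Cfsg.Agent.Helper87.lt_normalizerIn hS h5
    rw [← h4] at h1
    exact absurd h6 (not_lt_of_ge h1)
  -- the transported automorphism
  have hψiso := (Cfsg.Agent.Helper87.mem_autGroup_iff F hTle ψ).1 hψB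
  set ψ' : MulAut T' := MulAut.congr e ψ with hψ'def
  have hψ'app : ∀ t : T, ψ' (e t) = e (ψ t) := by
    intro t
    show e (ψ (e.symm (e t))) = e (ψ t)
    rw [MulEquiv.symm_apply_apply]
  have hψ'mem : ψ' ∈ F.autGroup T' := by
    rw [Cfsg.Agent.Helper87.mem_autGroup_iff F hT'le]
    exact (he.symm.trans hψiso).trans he
  have hord : orderOf ψ' = orderOf ψ := MulEquiv.orderOf_eq (MulAut.congr e) ψ
  refine ⟨T', P', hcfg, hcardT', hexp, hna, hP'T', hcardP', hnotnorm, ψ', hψ'mem, a, ha, ?_, ?_⟩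
  · rw [hord]; exact hcop
  · intro x hx
    obtain ⟨t, ht, hxt⟩ := (memP' _).1 hx
    have hxe : x = e t := Subtype.ext hxt.symm
    obtain ⟨h1, h2⟩ := hψP t ht
    have hψx : ψ' x = e (ψ t) := by rw [hxe, hψ'app]
    refine ⟨?_, ?_⟩
    · rw [hψx, memP']
      exact ⟨ψ t, h1, rfl⟩
    · intro t' ht'
      set s : T := e.symm ⟨t', ht'⟩ with hs
      have hst : ((e s : T') : Ω) = t' := by rw [hs, MulEquiv.apply_symm_apply]
      set z : T := (t ^ a)⁻¹ * ψ t with hz
      have hzc : z * s = s * z := by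
        apply Subtype.ext
        rw [Subgroup.coe_mul, Subgroup.coe_mul, hz, Subgroup.coe_mul, Subgroup.coe_inv,
          Subgroup.coe_pow]
        exact h2 _ s.2
      have hez : ((e z : T') : Ω) = ((x : Ω) ^ a)⁻¹ * ((ψ' x : T') : Ω) := by
        rw [hz, map_mul, map_inv, map_pow, hψx, hxe, Subgroup.coe_mul, Subgroup.coe_inv,
          Subgroup.coe_pow]
      rw [← hez, ← hst, ← Subgroup.coe_mul, ← Subgroup.coe_mul, ← map_mul, ← map_mul, hzc]

end glue

end Cfsg.Agent.Helper86.Res
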