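import Mathlib
import Cfsg.Agent.Helper77.Res.Defs
import Cfsg.Agent.Helper86.ResG2Core
import Cfsg.Agent.Helper31.ResGL

/-!
# S5289 swarm, piece (G2) `transport_pearl` (hedge by helper86): core + helper31's (GL)
-/

set_option autoImplicit false

universe u

namespace Cfsg.Agent.Helper86.Res

open Subgroup Cfsg.Agent.Helper77.Res

variable {Ω : Type u} [Group Ω] {p : ℕ} [hp : Fact p.Prime]

section glue
variable {S : Subgroup Ω} [Finite S]

open Cfsg Cfsg.FusionSystem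

theorem transport_pearl (hS : IsPGroup p S) (F : FusionSystem S) (hF : F.IsSaturated p)
    (hrk : ∀ E : Subgroup Ω, E ≤ S → Cfsg.IsElementaryAbelian p E → Nat.card E ≤ p ^ 2)
    (P : Subgroup Ω) (hPn : F.IsFullyNormalized P) (hPc : F.IsCentric P)
    (hpearl : Pearl p (normalizerIn S P) P (F.autGroup (normalizerIn S P))) (hTS : normalizerIn S P ≠ S) :
    ∃ (T' P' : Subgroup Ω),
      Cfg p (normalizerIn S T') T' (F.autGroup T') (F.autGroup (normalizerIn S T')) ∧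
      Nat.card T' = p ^ 3 ∧ (∀ x ∈ T', x ^ p = 1) ∧ (∃ a ∈ T', ∃ b ∈ T', a * b ≠ b * a) ∧
      P' ≤ T' ∧ Nat.card P' = p ^ 2 ∧ (∃ s ∈ normalizerIn S T', ∃ x ∈ P', s * x * s⁻¹ ∉ P') ∧
      ∃ ψ ∈ F.autGroup T', ∃ a : ℕ, a ^ 2 % p ≠ 1 ∧ (orderOf ψ).Coprime p ∧
        ∀ x : T', (x : Ω) ∈ P' → ((ψ x : T') : Ω) ∈ P' ∧
          ∀ t ∈ T', (((x : Ω) ^ a)⁻¹ * ((ψ x : T') : Ω)) * t = t * (((x : Ω) ^ a)⁻¹ * ((ψ x : T') : Ω)) :=
  transport_pearl_core hS F hF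
    (fun Q hQa hQr hQc hQS => Cfsg.Agent.Helper31.Res.cfg_of_receptive hS F hrk Q hQa hQr hQc hQS)
    P hPn hPc hpearl hTS

end glue

end Cfsg.Agent.Helper86.Res
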