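import Mathlib
import Cfsg.Agent.Helper99.O9.Defs

set_option autoImplicit false
set_option linter.unusedSectionVars false
set_option linter.unusedVariables false

/-!
# (FIT) for helper99's S2517 farm: the Fitting decomposition of an isometry with respect to `g - 1`
-/

namespace Cfsg.Agent.Helper86.O9

open Matrix QuadraticMap Cfsg.Agent.Helper44 Cfsg.Agent.Helper44.QType Cfsg.Agent.Helper99.O9

universe u

variable {F : Type u} [Field F]

section mat

variable {ι : Type} [Fintype ι] [DecidableEq ι] {κ : Type} [Fintype κ] [DecidableEq κ]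

/-- a nilpotent matrix vanishes in the power `card` -/
theorem fit_pow_card_eq_zero (A : Matrix κ κ F) (m : ℕ) (h : A ^ m = 0) :
    A ^ Fintype.card κ = 0 := by
  have h1 := Module.End.ker_pow_le_ker_pow_finrank
    (Matrix.toLinAlgEquiv' (n := κ) (R := F) A) m
  rw [← map_pow, ← map_pow, h, map_zero, LinearMap.ker_zero, Module.finrank_fintype_fun_eq_card,
    top_le_iff, LinearMap.ker_eq_top] at h1
  apply (Matrix.toLinAlgEquiv' (n := κ) (R := F)).injective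
  rw [h1, map_zero]

/-- powers of `A - 1` and `M - 1` correspond under the coordinates `e` -/
theorem fit_pow_compat (M : Matrix ι ι F) (A : Matrix κ κ F) (U : Submodule F (ι → F))
    (e : (κ → F) ≃ₗ[F] U)
    (h : ∀ x, ((e (A *ᵥ x) : U) : ι → F) = M *ᵥ ((e x : U) : ι → F)) :
    ∀ (k : ℕ) (x : κ → F),
      ((e ((A - 1) ^ k *ᵥ x) : U) : ι → F) = (M - 1) ^ k *ᵥ ((e x : U) : ι → F) := by
  intro k
  induction k with
  | zero =>
    intro x
    rw [pow_zero, pow_zero, Matrix.one_mulVec, Matrix.one_mulVec]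
  | succ k ih =>
    intro x
    rw [pow_succ, pow_succ, ← Matrix.mulVec_mulVec, ← Matrix.mulVec_mulVec, ih,
      Matrix.sub_mulVec, Matrix.one_mulVec, map_sub, Submodule.coe_sub, h, Matrix.sub_mulVec,
      Matrix.one_mulVec]

end mat

section adj

variable {ι : Type} [Fintype ι] [DecidableEq ι] (Q : QuadraticForm F (ι → F))
  (g : ↥(Cfsg.isometryGroup F ⇑Q))

theorem fit_polar_iso (x y : ι → F) :
    polar Q (((g : GL ι F) : Matrix ι ι F) *ᵥ x) (((g : GL ι F) : Matrix ι ι F) *ᵥ y)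
      = polar Q x y := by
  unfold polar
  rw [← Matrix.mulVec_add, isometryGroup_apply (Q := ⇑Q) g, isometryGroup_apply (Q := ⇑Q) g,
    isometryGroup_apply (Q := ⇑Q) g]

/-- `B(u, N y) = - B(N u, g y)` for `N = g - 1` -/
theorem fit_adj_one (u y : ι → F) :
    polar Q u ((((g : GL ι F) : Matrix ι ι F) - 1) *ᵥ y)
      = - polar Q ((((g : GL ι F) : Matrix ι ι F) - 1) *ᵥ u)
          (((g : GL ι F) : Matrix ι ι F) *ᵥ y) := by
  rw [Matrix.sub_mulVec, Matrix.sub_mulVec, Matrix.one_mulVec, Matrix.one_mulVec,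
    polar_sub_right, polar_sub_left, fit_polar_iso]
  ring

theorem fit_adj_pow (k : ℕ) : ∀ (u y : ι → F),
    polar Q u ((((g : GL ι F) : Matrix ι ι F) - 1) ^ k *ᵥ y)
      = (-1) ^ k * polar Q ((((g : GL ι F) : Matrix ι ι F) - 1) ^ k *ᵥ u)
          (((g : GL ι F) : Matrix ι ι F) ^ k *ᵥ y) := by
  induction k with
  | zero =>
    intro u y
    simp only [pow_zero, Matrix.one_mulVec, one_mul]
  | succ k ih =>
    intro u y
    have hcomm : Commute ((g : GL ι F) : Matrix ι ι F) ((((g : GL ι F) : Matrix ι ι F) - 1) ^ k) :=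
      ((Commute.refl _).sub_right (Commute.one_right _)).pow_right k
    have h1 : (((g : GL ι F) : Matrix ι ι F) - 1) ^ (k + 1) *ᵥ y
        = (((g : GL ι F) : Matrix ι ι F) - 1) *ᵥ ((((g : GL ι F) : Matrix ι ι F) - 1) ^ k *ᵥ y) := by
      rw [pow_succ', Matrix.mulVec_mulVec]
    have h2 : ((g : GL ι F) : Matrix ι ι F) *ᵥ ((((g : GL ι F) : Matrix ι ι F) - 1) ^ k *ᵥ y)
        = (((g : GL ι F) : Matrix ι ι F) - 1) ^ k *ᵥ (((g : GL ι F) : Matrix ι ι F) *ᵥ y) := by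
      rw [Matrix.mulVec_mulVec, Matrix.mulVec_mulVec, hcomm.eq]
    have h3 : (((g : GL ι F) : Matrix ι ι F) - 1) ^ (k + 1) *ᵥ u
        = (((g : GL ι F) : Matrix ι ι F) - 1) ^ k *ᵥ ((((g : GL ι F) : Matrix ι ι F) - 1) *ᵥ u) := by
      rw [pow_succ, Matrix.mulVec_mulVec]
    have h4 : ((g : GL ι F) : Matrix ι ι F) ^ (k + 1) *ᵥ y
        = ((g : GL ι F) : Matrix ι ι F) ^ k *ᵥ (((g : GL ι F) : Matrix ι ι F) *ᵥ y) := by
      rw [pow_succ, Matrix.mulVec_mulVec]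
    rw [h1, fit_adj_one, h2, ih, h3, h4, pow_succ]
    ring

end adj

theorem fit_of_split [Fintype F] (hS : SplitStmt F) (hF : Odd (Fintype.card F)) (P : OPair F)
    (hP : P.ND) :
    ∃ P₁ P₂ : OPair F, P₁.ND ∧ P₂.ND ∧ P₁.Unip ∧ P₂.Fpf ∧ P.Sim (P₁.sum P₂) ∧
      (P₁.dim = 0 → P.Fpf) := by
  rw [splitStmt_def] at hS
  obtain ⟨m₀, hm₀⟩ := Filter.eventually_atTop.1
    (LinearMap.eventually_isCompl_ker_pow_range_pow
      (Matrix.toLinAlgEquiv' (n := P.ι) (R := F) (P.M - 1)))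
  have hm := hm₀ (m₀ + 1) (Nat.le_succ _)
  rw [← map_pow] at hm
  set m := m₀ + 1 with hmdef
  set U : Submodule F (P.ι → F) := LinearMap.ker (Matrix.toLinAlgEquiv' (n := P.ι) (R := F)
    ((P.M - 1) ^ m)) with hUdef
  set W : Submodule F (P.ι → F) := LinearMap.range (Matrix.toLinAlgEquiv' (n := P.ι) (R := F)
    ((P.M - 1) ^ m)) with hWdef
  have memU : ∀ x, x ∈ U ↔ (P.M - 1) ^ m *ᵥ x = 0 := by
    intro x
    rw [hUdef, LinearMap.mem_ker, Matrix.toLinAlgEquiv'_apply]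
  have memW : ∀ x, x ∈ W ↔ ∃ y, (P.M - 1) ^ m *ᵥ y = x := by
    intro x
    rw [hWdef, LinearMap.mem_range]
    simp only [Matrix.toLinAlgEquiv'_apply]
  have hcomm : Commute P.M ((P.M - 1) ^ m) :=
    ((Commute.refl _).sub_right (Commute.one_right _)).pow_right m
  have hU : ∀ u ∈ U, P.M *ᵥ u ∈ U := by
    intro u hu
    rw [memU] at hu ⊢
    rw [Matrix.mulVec_mulVec, ← hcomm.eq, ← Matrix.mulVec_mulVec, hu, Matrix.mulVec_zero]
  have hW : ∀ w ∈ W, P.M *ᵥ w ∈ W := by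
    intro w hw
    rw [memW] at hw ⊢
    obtain ⟨y, rfl⟩ := hw
    exact ⟨P.M *ᵥ y, by rw [Matrix.mulVec_mulVec, Matrix.mulVec_mulVec, hcomm.eq]⟩
  have horth : ∀ u ∈ U, ∀ w ∈ W, polar P.Q u w = 0 := by
    intro u hu w hw
    rw [memU] at hu
    rw [memW] at hw
    obtain ⟨y, rfl⟩ := hw
    have h := fit_adj_pow P.Q P.g m u y
    rw [← OPair.M_def, hu, polar_zero_left, mul_zero] at h
    exact h
  have hkerN : ∀ x, (P.M - 1) *ᵥ x = 0 → x ∈ U := by
    intro x hx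
    rw [memU, hmdef, pow_succ, ← Matrix.mulVec_mulVec, hx, Matrix.mulVec_zero]
  obtain ⟨P₁, P₂, e₁, e₂, hnd₁, hnd₂, hsim, hM₁, hM₂, hQ₁, hQ₂⟩ := hS P U W hP hm horth hU hW
  refine ⟨P₁, P₂, hnd₁, hnd₂, ?_, ?_, hsim, ?_⟩
  · -- unipotent
    rw [OPair.unip_def, OPair.dim_def]
    apply fit_pow_card_eq_zero _ m
    apply Matrix.toLinAlgEquiv'.injective
    rw [map_zero]
    apply LinearMap.ext
    intro x
    rw [Matrix.toLinAlgEquiv'_apply, LinearMap.zero_apply]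
    have h1 := fit_pow_compat P.M P₁.M U e₁ hM₁ m x
    rw [(memU _).1 (e₁ x).2] at h1
    have h2 : e₁ ((P₁.M - 1) ^ m *ᵥ x) = 0 := Subtype.ext h1
    exact e₁.map_eq_zero_iff.1 h2
  · -- fixed point free
    rw [OPair.fpf_def, ← Matrix.mulVec_injective_iff_isUnit]
    intro x y hxy
    have hz : (P₂.M - 1) *ᵥ (x - y) = 0 := by
      rw [Matrix.mulVec_sub]
      exact sub_eq_zero.2 hxy
    have h1 := fit_pow_compat P.M P₂.M W e₂ hM₂ 1 (x - y)
    rw [pow_one, pow_one, hz, map_zero, Submodule.coe_zero] at h1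
    have h2 : ((e₂ (x - y) : W) : P.ι → F) ∈ U := hkerN _ h1.symm
    have h3 : ((e₂ (x - y) : W) : P.ι → F) = 0 :=
      Submodule.disjoint_def.1 hm.disjoint _ h2 (e₂ (x - y)).2
    have h4 : e₂ (x - y) = 0 := Subtype.ext h3
    exact sub_eq_zero.1 (e₂.map_eq_zero_iff.1 h4)
  · intro h0
    rw [OPair.dim_def, Fintype.card_eq_zero_iff] at h0
    rw [OPair.fpf_def, ← Matrix.mulVec_injective_iff_isUnit]
    intro x y hxy
    have hz : (P.M - 1) *ᵥ (x - y) = 0 := by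
      rw [Matrix.mulVec_sub]
      exact sub_eq_zero.2 hxy
    have h2 : x - y ∈ U := hkerN _ hz
    have h3 : e₁.symm ⟨x - y, h2⟩ = 0 := Subsingleton.elim _ _
    have h4 : (⟨x - y, h2⟩ : U) = 0 := e₁.symm.map_eq_zero_iff.1 h3
    exact sub_eq_zero.1 (congrArg Subtype.val h4)

end Cfsg.Agent.Helper86.O9
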