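import Cfsg.Agent.Helper85.A7Defs
import Cfsg.Agent.S0111

/-!
# S0984 sub-tree LOC, piece (G3a) (helper86 for helper85)

A Sylow 2-subgroup (of order 8) of a simple group of order 2520 containing an element `b` of
order 4: all its involutions are conjugate in `G` to `b ^ 2` (Thompson transfer, `S0111`).
-/

set_option autoImplicit false

namespace Cfsg.Agent.Helper86.A7

open Cfsg Cfsg.Agent.Helper85.A7
open scoped ComplexConjugate

universe u

variable {G : Type u} [Group G]

/-- an involution in the cyclic group generated by an element `b` of order 4 is `b ^ 2` -/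
theorem eq_sq_of_mem_zpowers_of_orderOf_eq_two (b : G) (hb : orderOf b = 4) (s : G)
    (hs : s ∈ Subgroup.zpowers b) (hs2 : orderOf s = 2) : s = b ^ 2 := by
  classical
  have hfin : IsOfFinOrder b := by
    rw [← orderOf_pos_iff, hb]; norm_num
  rw [hfin.mem_zpowers_iff_mem_range_orderOf, hb] at hs
  obtain ⟨n, hn, rfl⟩ := Finset.mem_image.mp hs
  have hn4 : n < 4 := Finset.mem_range.mp hn
  have hord : orderOf (b ^ n) = 4 / Nat.gcd 4 n := by
    rw [hfin.orderOf_pow, hb]
  interval_cases n
  · simp at hs2
  · rw [hord] at hs2; norm_num at hs2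
  · rfl
  · rw [hord] at hs2; norm_num at hs2

/-- the order of a Sylow 2-subgroup of a group of order 2520 -/
theorem card_sylow_two_of_card_eq [Finite G] (hcard : Nat.card G = 2520) (S : Sylow 2 G) :
    Nat.card (S : Subgroup G) = 8 := by
  have h := S.card_eq_multiplicity
  rw [hcard] at h
  have h3 : (2520 : ℕ).factorization 2 = 3 := by
    have : (2520 : ℕ) = 2 ^ 3 * 315 := by norm_num
    rw [this, Nat.factorization_mul (by norm_num) (by norm_num), Nat.Prime.factorization_pow
      Nat.prime_two]
    simp [Nat.factorization_eq_zero_of_not_dvd (show ¬ 2 ∣ 315 by norm_num)]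
  rw [h3] at h
  simpa using h

/-- (G3a) Sylow 2-subgroup with an element of order 4: all its involutions are conjugate in `G`
(Thompson transfer) -/
theorem invol_conj_of_order_four [Finite G] [IsSimpleGroup G] (hcard : Nat.card G = 2520)
    (S : Sylow 2 G) (b : G) (hbS : b ∈ (S : Subgroup G)) (hb : orderOf b = 4) :
    ∀ s ∈ (S : Subgroup G), orderOf s = 2 → IsConj s (b ^ 2) := by
  intro s hsS hs2
  have hS8 : Nat.card (S : Subgroup G) = 8 := card_sylow_two_of_card_eq hcard S
  have hMS : Subgroup.zpowers b ≤ (S : Subgroup G) := by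
    rw [Subgroup.zpowers_le]; exact hbS
  have hM4 : Nat.card (Subgroup.zpowers b) = 4 := by
    rw [Nat.card_zpowers, hb]
  have hrel : (Subgroup.zpowers b).relIndex (S : Subgroup G) = 2 := by
    have h := Subgroup.relIndex_mul_relIndex ⊥ (Subgroup.zpowers b) (S : Subgroup G) bot_le hMS
    rw [Subgroup.relIndex_bot_left, Subgroup.relIndex_bot_left, hM4, hS8] at h
    omega
  by_cases hsM : s ∈ Subgroup.zpowers b
  · rw [eq_sq_of_mem_zpowers_of_orderOf_eq_two b hb s hsM hs2]
  · rcases Cfsg.Agent.S0111.result S (Subgroup.zpowers b) hMS hrel s hs2 hsS hsM with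
      ⟨M, hMn, hMi, -⟩ | ⟨g, hg⟩
    · exfalso
      rcases hMn.eq_bot_or_eq_top with h | h
      · rw [h, Subgroup.index_bot, hcard] at hMi
        norm_num at hMi
      · rw [h, Subgroup.index_top] at hMi
        norm_num at hMi
    · have hord : orderOf (g * s * g⁻¹) = 2 := by
        have hsc : SemiconjBy g s (g * s * g⁻¹) := by
          unfold SemiconjBy
          group
        rw [← hsc.orderOf_eq, hs2]
      have := eq_sq_of_mem_zpowers_of_orderOf_eq_two b hb _ hg hord
      exact isConj_iff.mpr ⟨g, this⟩

end Cfsg.Agent.Helper86.A7
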