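-- helper86: local analysis of a group `G` of automorphisms of an abelian `p`-group `H` whose maximal `p`-subgroup `⟨t⟩`
-- centralizes a hyperplane `Z` with `[H, t]` of order `p`: two distinct conjugates of `⟨t⟩` generate a copy of `SL₂(p)`,
-- and its central involution inverts `[H, t]` and centralizes `Z ∩ g(Z)`.
import Cfsg.Agent.Helper86.Hyperplane

set_option autoImplicit false

namespace Cfsg.Agent.Helper86

open Cfsg.Agent.Helper87

section chain4

variable {H : Type*} [Group H]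

/-- The chain `⊤ ≥ U ≥ W ≥ ⊥ ≥ ...`. -/
def chain4 (U W : Subgroup H) : ℕ → Subgroup H :=
  fun k => if k = 0 then ⊤ else if k = 1 then U else if k = 2 then W else ⊥

theorem chain4_antitone {U W : Subgroup H} (h : W ≤ U) : Antitone (chain4 U W) := by
  intro i j hij
  unfold chain4
  by_cases hi0 : i = 0
  · simp [hi0]
  · have hj0 : j ≠ 0 := by omega
    by_cases hi1 : i = 1
    · by_cases hj1 : j = 1
      · simp [hi1, hj1]
      · by_cases hj2 : j = 2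
        · simp [hi1, hj2, h]
        · simp [hi1, hj0, hj1, hj2]
    · have hj1 : j ≠ 1 := by omega
      by_cases hi2 : i = 2
      · by_cases hj2 : j = 2
        · simp [hi2, hj2]
        · simp [hi2, hj0, hj1, hj2]
      · have hj2 : j ≠ 2 := by omega
        simp [hi0, hi1, hi2, hj0, hj1, hj2]

theorem mem_chainStab_chain4 [Finite H] {U W : Subgroup H} (h : W ≤ U) (β : MulAut H)
    (h0 : ∀ x : H, x⁻¹ * β x ∈ U) (h1 : ∀ x ∈ U, x⁻¹ * β x ∈ W) (h2 : ∀ x ∈ W, β x = x) :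
    β ∈ chainStab (chain4 U W) (chain4_antitone h) := by
  intro k x hx
  by_cases hk0 : k = 0
  · subst hk0
    simpa [chain4] using h0 x
  · by_cases hk1 : k = 1
    · subst hk1
      have hxU : x ∈ U := by simpa [chain4] using hx
      simpa [chain4] using h1 x hxU
    · by_cases hk2 : k = 2
      · subst hk2
        have hxW : x ∈ W := by simpa [chain4] using hx
        rw [h2 x hxW]
        simp
      · have hx1 : x = 1 := by simpa [chain4, hk0, hk1, hk2] using hx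
        subst hx1
        simp

theorem isPGroup_chainStab_chain4 [Finite H] {p : ℕ} [Fact p.Prime] (hH : IsPGroup p H) {U W : Subgroup H}
    (h : W ≤ U) : IsPGroup p (chainStab (chain4 U W) (chain4_antitone h)) :=
  isPGroup_chainStab hH _ _ (by simp [chain4]) 3 (by simp [chain4])

end chain4

section local2

variable {H : Type*} [Group H]

/-- In a subgroup of prime order, every element is a power of any non-identity element. -/
theorem exists_pow_eq_of_card_prime [Finite H] {p : ℕ} [hp : Fact p.Prime] {Z₀ : Subgroup H} (hc : Nat.card Z₀ = p)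
    {v : H} (hv : v ∈ Z₀) (hv1 : v ≠ 1) {z : H} (hz : z ∈ Z₀) : ∃ k : ℕ, v ^ k = z := by
  have h1 : (⟨v, hv⟩ : Z₀) ≠ 1 := fun h => hv1 (congrArg Subtype.val h)
  have htop := zpowers_eq_top_of_prime_card (G := Z₀) hc h1
  have hmem : (⟨z, hz⟩ : Z₀) ∈ Subgroup.zpowers (⟨v, hv⟩ : Z₀) := by rw [htop]; exact Subgroup.mem_top _
  rw [← mem_powers_iff_mem_zpowers, Submonoid.mem_powers_iff] at hmem
  obtain ⟨k, hk⟩ := hmem
  exact ⟨k, congrArg Subtype.val hk⟩

/-- An automorphism fixing a subgroup of prime index pointwise and an element outside it is the identity. -/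
theorem eq_one_of_fix_of_index_prime {p : ℕ} (hp : p.Prime) (M : Subgroup H) [M.Normal] (hM : M.index = p)
    (β : MulAut H) (hfix : ∀ z ∈ M, β z = z) {x : H} (hx : x ∉ M) (hβx : β x = x) : β = 1 := by
  ext y
  obtain ⟨i, hi⟩ := exists_mul_pow_mem_of_index_prime hp M hM hx y
  have h1 := hfix _ hi
  rw [map_mul, map_pow, hβx] at h1
  exact mul_right_cancel h1

/-- Powers of an automorphism `β` with `β v = v d` and `β d = d`. -/
theorem pow_apply_of_apply_eq_mul (β : MulAut H) {v d : H} (hv : β v = v * d) (hd : β d = d) (a : ℕ) :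
    (β ^ a) v = v * d ^ a := by
  induction a with
  | zero => simp
  | succ a ih =>
    rw [pow_succ', MulAut.mul_apply, ih, map_mul, map_pow, hv, hd, pow_succ']
    group

theorem pow_apply_of_fix (β : MulAut H) {z : H} (hz : β z = z) (a : ℕ) : (β ^ a) z = z := by
  induction a with
  | zero => simp
  | succ a ih => rw [pow_succ', MulAut.mul_apply, ih, hz]

/-- **Local lemma.** -/
theorem exists_inverting [Finite H] {p : ℕ} [hp : Fact p.Prime] (hp2 : p ≠ 2) (hH : IsPGroup p H)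
    (hcomm : ∀ a b : H, a * b = b * a) (G : Subgroup (MulAut H)) (t : MulAut H) (htG : t ∈ G) (ht1 : t ≠ 1)
    (hmax : ∀ K : Subgroup (MulAut H), K ≤ G → IsPGroup p K → t ∈ K → K ≤ Subgroup.zpowers t)
    (Z Z₀ : Subgroup H) (hZi : Z.index = p) (hZ₀c : Nat.card Z₀ = p) (hZ₀Z : Z₀ ≤ Z)
    (hfix : ∀ z ∈ Z, t z = z) (hcm : ∀ x : H, x⁻¹ * t x ∈ Z₀)
    (g : MulAut H) (hgG : g ∈ G) (hg : g * t * g⁻¹ ∉ Subgroup.zpowers t) :
    ∃ δ ∈ G, δ * t = t * δ ∧ (∀ c ∈ Z, c ∈ Z.map (g : H ≃* H).toMonoidHom → δ c = c) ∧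
      (∀ z ∈ Z₀, δ z = z⁻¹) ∧ (∀ z ∈ Z, z⁻¹ * δ z ∈ Z₀) ∧
      (∀ z ∈ Z, δ z = z → z ∈ Z.map (g : H ≃* H).toMonoidHom) := by
  have : Finite (MulAut H) := MulEquiv.finite_left
  haveI hnormal : ∀ M : Subgroup H, M.Normal :=
    fun M => ⟨fun n hn a => by rw [hcomm a n, mul_inv_cancel_right]; exact hn⟩
  set t' : MulAut H := g * t * g⁻¹ with ht'
  set Z' : Subgroup H := Z.map (g : H ≃* H).toMonoidHom with hZ'
  set Z₀' : Subgroup H := Z₀.map (g : H ≃* H).toMonoidHom with hZ₀'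
  have ht'G : t' ∈ G := G.mul_mem (G.mul_mem hgG htG) (G.inv_mem hgG)
  have hZ'i : Z'.index = p := by
    rw [← hZi]
    exact Subgroup.index_map_equiv Z (g : H ≃* H)
  have hZ₀'c : Nat.card Z₀' = p := by
    rw [← hZ₀c]
    exact Subgroup.card_map_of_injective (g : H ≃* H).injective
  have hZ₀'Z' : Z₀' ≤ Z' := Subgroup.map_mono hZ₀Z
  have hfix' : ∀ z ∈ Z', t' z = z := by
    rintro _ ⟨z, hz, rfl⟩
    show (g * t * g⁻¹) (g z) = g z
    rw [MulAut.mul_apply, MulAut.mul_apply, MulAut.inv_apply_self, hfix z hz]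
  have hcm' : ∀ x : H, x⁻¹ * t' x ∈ Z₀' := by
    intro x
    refine ⟨(g⁻¹ x)⁻¹ * t (g⁻¹ x), hcm _, ?_⟩
    show g ((g⁻¹ x)⁻¹ * t (g⁻¹ x)) = x⁻¹ * (g * t * g⁻¹) x
    rw [map_mul, map_inv, MulAut.apply_inv_self, MulAut.mul_apply, MulAut.mul_apply]
  -- Step 1: `Z₀' ≰ Z` and `Z₀ ≰ Z'`
  have hnot1 : ¬ Z₀' ≤ Z := by
    intro hle
    have hW : Z₀' ≤ Z₀ ⊔ Z₀' := le_sup_right
    have hUZ : Z₀ ⊔ Z₀' ≤ Z := sup_le hZ₀Z hle
    set K := chainStab (chain4 (Z₀ ⊔ Z₀') Z₀') (chain4_antitone hW) ⊓ G with hK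
    have hKp : IsPGroup p K := (isPGroup_chainStab_chain4 hH hW).to_le inf_le_left
    have htK : t ∈ K := by
      refine ⟨mem_chainStab_chain4 hW t (fun x => le_sup_left (a := Z₀) (hcm x)) (fun x hx => ?_)
        (fun x hx => hfix x (hle hx)), htG⟩
      rw [hfix x (hUZ hx)]
      simp
    have ht'K : t' ∈ K :=
      ⟨mem_chainStab_chain4 hW t' (fun x => hW (hcm' x)) (fun x _ => hcm' x) (fun x hx => hfix' x (hZ₀'Z' hx)), ht'G⟩
    exact hg (hmax K inf_le_right hKp htK ht'K)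
  have hnot2 : ¬ Z₀ ≤ Z' := by
    intro hle
    have hW : Z₀ ≤ Z₀' ⊔ Z₀ := le_sup_right
    have hUZ : Z₀' ⊔ Z₀ ≤ Z' := sup_le hZ₀'Z' hle
    set K := chainStab (chain4 (Z₀' ⊔ Z₀) Z₀) (chain4_antitone hW) ⊓ G with hK
    have hKp : IsPGroup p K := (isPGroup_chainStab_chain4 hH hW).to_le inf_le_left
    have ht'K : t' ∈ K := by
      refine ⟨mem_chainStab_chain4 hW t' (fun x => le_sup_left (a := Z₀') (hcm' x)) (fun x hx => ?_)
        (fun x hx => hfix' x (hle hx)), ht'G⟩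
      rw [hfix' x (hUZ hx)]
      simp
    have htK : t ∈ K :=
      ⟨mem_chainStab_chain4 hW t (fun x => hW (hcm x)) (fun x _ => hcm x) (fun x hx => hfix x (hZ₀Z hx)), htG⟩
    exact hg (hmax K inf_le_right hKp htK ht'K)
  -- Step 2: the elements `w`, `v`, `d`
  obtain ⟨w, hwZ₀', hwZ⟩ := SetLike.not_le_iff_exists.mp hnot1
  obtain ⟨v, hv⟩ : ∃ v : H, v = w⁻¹ * t w := ⟨_, rfl⟩
  have hvZ₀ : v ∈ Z₀ := by rw [hv]; exact hcm w
  have htw : t w = w * v := by rw [hv]; group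
  have htv : t v = v := hfix v (hZ₀Z hvZ₀)
  have hv1 : v ≠ 1 := by
    intro h1
    apply ht1
    apply eq_one_of_fix_of_index_prime hp.out Z hZi t hfix hwZ
    rw [htw, h1, mul_one]
  have hvZ' : v ∉ Z' := by
    intro hvZ'
    apply hnot2
    intro z hz
    obtain ⟨k, rfl⟩ := exists_pow_eq_of_card_prime hZ₀c hvZ₀ hv1 hz
    exact Z'.pow_mem hvZ' k
  obtain ⟨d, hd⟩ : ∃ d : H, d = v⁻¹ * t' v := ⟨_, rfl⟩
  have hdZ₀' : d ∈ Z₀' := by rw [hd]; exact hcm' v
  have ht'v : t' v = v * d := by rw [hd]; group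
  have ht'd : t' d = d := hfix' d (hZ₀'Z' hdZ₀')
  have ht'1 : t' ≠ 1 := by
    intro h1
    apply ht1
    have : t = g⁻¹ * t' * g := by rw [ht']; group
    rw [this, h1]
    group
  have hd1 : d ≠ 1 := by
    intro h1
    apply ht'1
    apply eq_one_of_fix_of_index_prime hp.out Z' hZ'i t' hfix' hvZ'
    rw [ht'v, h1, mul_one]
  obtain ⟨a, ha⟩ := exists_pow_eq_of_card_prime hZ₀'c hdZ₀' hd1 (Z₀'.inv_mem hwZ₀')
  obtain ⟨s, hs⟩ : ∃ s : MulAut H, s = t' ^ a := ⟨_, rfl⟩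
  have hsG : s ∈ G := by rw [hs]; exact G.pow_mem ht'G a
  have hsv : s v = v * w⁻¹ := by rw [hs, pow_apply_of_apply_eq_mul t' ht'v ht'd a, ha]
  have hsfix : ∀ z ∈ Z', s z = z := fun z hz => by rw [hs]; exact pow_apply_of_fix t' (hfix' z hz) a
  have hsw : s w = w := hsfix w (hZ₀'Z' hwZ₀')
  obtain ⟨θ, hθ⟩ : ∃ θ : MulAut H, θ = t * s * t := ⟨_, rfl⟩
  have hθapp : ∀ y : H, θ y = t (s (t y)) := fun y => by rw [hθ]; rfl
  have hθv : θ v = w⁻¹ := by
    rw [hθapp, htv, hsv, map_mul, map_inv, htv, htw, mul_inv_rev]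
    group
  have hθw : θ w = v := by
    rw [hθapp, htw, map_mul, hsw, hsv, hcomm v w⁻¹]
    have : w * (w⁻¹ * v) = v := by group
    rw [this, htv]
  obtain ⟨δ, hδ⟩ : ∃ δ : MulAut H, δ = θ * θ := ⟨_, rfl⟩
  have hδapp : ∀ y : H, δ y = θ (θ y) := fun y => by rw [hδ]; rfl
  have hδv : δ v = v⁻¹ := by rw [hδapp, hθv, map_inv, hθw]
  have hδw : δ w = w⁻¹ := by rw [hδapp, hθw, hθv]
  have hθc : ∀ c ∈ Z, c ∈ Z' → θ c = c := by
    intro c hc hc'
    rw [hθapp, hfix c hc, hsfix c hc', hfix c hc]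
  have hδc : ∀ c ∈ Z, c ∈ Z' → δ c = c := by
    intro c hc hc'
    rw [hδapp, hθc c hc hc', hθc c hc hc']
  have hδG : δ ∈ G := by
    rw [hδ, hθ]
    exact G.mul_mem (G.mul_mem (G.mul_mem htG hsG) htG) (G.mul_mem (G.mul_mem htG hsG) htG)
  -- decomposition
  have hdec : ∀ y : H, ∃ i j : ℕ, y * w ^ j * v ^ i ∈ Z ∧ y * w ^ j * v ^ i ∈ Z' := by
    intro y
    obtain ⟨j, hj⟩ := exists_mul_pow_mem_of_index_prime hp.out Z hZi hwZ y
    obtain ⟨i, hi⟩ := exists_mul_pow_mem_of_index_prime hp.out Z' hZ'i hvZ' (y * w ^ j)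
    exact ⟨i, j, Z.mul_mem hj (Z.pow_mem (hZ₀Z hvZ₀) i), hi⟩
  have hext : ∀ β γ : MulAut H, (∀ c ∈ Z, c ∈ Z' → β c = γ c) → β v = γ v → β w = γ w → β = γ := by
    intro β γ hc hv' hw'
    ext y
    obtain ⟨i, j, h1, h2⟩ := hdec y
    have h3 := hc _ h1 h2
    rw [map_mul, map_mul, map_pow, map_pow, map_mul, map_mul, map_pow, map_pow, hv', hw'] at h3
    exact mul_right_cancel (mul_right_cancel h3)
  have hzdec : ∀ z ∈ Z, ∃ i : ℕ, z * v ^ i ∈ Z' ∧ δ z = z * (v ^ i) ^ 2 := by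
    intro z hz
    obtain ⟨i, hi⟩ := exists_mul_pow_mem_of_index_prime hp.out Z' hZ'i hvZ' z
    refine ⟨i, hi, ?_⟩
    have h1 := hδc _ (Z.mul_mem hz (Z.pow_mem (hZ₀Z hvZ₀) i)) hi
    rw [map_mul, map_pow, hδv] at h1
    have h2 : δ z = z * v ^ i * ((v⁻¹) ^ i)⁻¹ := by rw [← h1]; group
    rw [h2, inv_pow, inv_inv, sq]
    group
  refine ⟨δ, hδG, ?_, hδc, ?_, ?_, ?_⟩
  · apply hext
    · intro c hc hc'
      rw [MulAut.mul_apply, MulAut.mul_apply, hfix c hc, hδc c hc hc', hfix c hc]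
    · rw [MulAut.mul_apply, MulAut.mul_apply, htv, hδv, map_inv, htv]
    · rw [MulAut.mul_apply, MulAut.mul_apply, htw, map_mul, hδw, hδv, map_inv, htw, mul_inv_rev]
      exact hcomm _ _
  · intro z hz
    obtain ⟨k, rfl⟩ := exists_pow_eq_of_card_prime hZ₀c hvZ₀ hv1 hz
    rw [map_pow, hδv, inv_pow]
  · intro z hz
    obtain ⟨i, -, hi⟩ := hzdec z hz
    rw [hi]
    have : z⁻¹ * (z * (v ^ i) ^ 2) = (v ^ i) ^ 2 := by group
    rw [this]
    exact Z₀.pow_mem (Z₀.pow_mem hvZ₀ i) 2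
  · intro z hz hδz
    obtain ⟨i, hiZ', hi⟩ := hzdec z hz
    rw [hδz] at hi
    have h1 : (v ^ i) ^ 2 = 1 := by
      have : z * 1 = z * (v ^ i) ^ 2 := by rw [mul_one]; exact hi
      exact (mul_left_cancel this).symm
    have h2 : (v ^ i) ^ p = 1 := by
      have h3 : (⟨v ^ i, Z₀.pow_mem hvZ₀ i⟩ : Z₀) ^ p = 1 := by
        rw [← hZ₀c]
        exact pow_card_eq_one'
      exact congrArg Subtype.val h3
    have hcop : Nat.gcd 2 p = 1 := (Nat.coprime_primes Nat.prime_two hp.out).mpr (Ne.symm hp2)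
    have h4 := pow_gcd_eq_one.mpr ⟨h1, h2⟩
    rw [hcop, pow_one] at h4
    rw [h4, mul_one] at hiZ'
    exact hiZ'

end local2

end Cfsg.Agent.Helper86
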