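-- helper86: restriction of the automorphisms of `S` to the centre of `S`; the group `K` induced on `Z(S)` by `Aut_F(S)` has
-- no non-identity element acting trivially on `Z₀` and on `Z(S)/Z₀` for a subgroup `Z₀` of exponent `p`.
import Cfsg.Agent.Helper86.LocalSL2
import Cfsg.Agent.Helper87.FusionRS

set_option autoImplicit false
open Cfsg

namespace Cfsg.Agent.Helper86

open Cfsg.FusionSystem Cfsg.Agent.Helper87

variable {Ω : Type*} [Group Ω]

/-- The centre of `S`, as a subgroup of the ambient group. -/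
def cen (S : Subgroup Ω) : Subgroup Ω := S ⊓ Subgroup.centralizer (S : Set Ω)

theorem cen_def (S : Subgroup Ω) : cen S = S ⊓ Subgroup.centralizer (S : Set Ω) := rfl

theorem mem_cen_iff {S : Subgroup Ω} (z : Ω) : z ∈ cen S ↔ z ∈ S ∧ ∀ g ∈ S, g * z = z * g := by
  unfold cen
  rw [Subgroup.mem_inf, Subgroup.mem_centralizer_iff]
  rfl

theorem cen_le (S : Subgroup Ω) : cen S ≤ S := inf_le_left

theorem conj_cen {S : Subgroup Ω} {g z : Ω} (hg : g ∈ S) (hz : z ∈ cen S) : g * z * g⁻¹ = z := by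
  rw [((mem_cen_iff z).mp hz).2 g hg]
  group

variable {S : Subgroup Ω}

theorem aut_apply_mem_cen (α : MulAut S) {z : Ω} (hz : z ∈ cen S) : ((α ⟨z, cen_le S hz⟩ : S) : Ω) ∈ cen S := by
  rw [mem_cen_iff]
  refine ⟨(α _).2, fun g hg => ?_⟩
  have h1 : α.symm ⟨g, hg⟩ * ⟨z, cen_le S hz⟩ = ⟨z, cen_le S hz⟩ * α.symm ⟨g, hg⟩ :=
    Subtype.ext (((mem_cen_iff z).mp hz).2 _ (α.symm ⟨g, hg⟩).2)
  have h2 := congrArg α h1
  rw [map_mul, map_mul, MulEquiv.apply_symm_apply] at h2
  exact congrArg Subtype.val h2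

/-- Restriction of an automorphism of `S` to the centre. -/
def resZ (α : MulAut S) : MulAut (cen S) where
  toFun z := ⟨(α ⟨z, cen_le S z.2⟩ : S), aut_apply_mem_cen α z.2⟩
  invFun z := ⟨(α⁻¹ ⟨z, cen_le S z.2⟩ : S), aut_apply_mem_cen α⁻¹ z.2⟩
  left_inv z := by
    apply Subtype.ext
    simp
  right_inv z := by
    apply Subtype.ext
    simp
  map_mul' a b := by
    apply Subtype.ext
    have e : (⟨((a * b : cen S) : Ω), cen_le S (a * b).2⟩ : S) = ⟨a, cen_le S a.2⟩ * ⟨b, cen_le S b.2⟩ :=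
      Subtype.ext rfl
    show ((α ⟨((a * b : cen S) : Ω), cen_le S (a * b).2⟩ : S) : Ω) = _
    rw [e, map_mul]
    rfl

theorem resZ_apply (α : MulAut S) (z : cen S) : ((resZ α z : cen S) : Ω) = ((α ⟨z, cen_le S z.2⟩ : S) : Ω) := rfl

/-- Restriction to the centre, as a homomorphism. -/
def resZHom : MulAut S →* MulAut (cen S) where
  toFun := resZ
  map_one' := by
    ext z
    rfl
  map_mul' α β := by
    ext z
    rfl

theorem resZHom_apply (α : MulAut S) (z : cen S) :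
    ((resZHom α z : cen S) : Ω) = ((α ⟨z, cen_le S z.2⟩ : S) : Ω) := rfl

/-- The group induced on the centre of `S` by `Aut_F(S)`. -/
def cenAut (F : FusionSystem S) : Subgroup (MulAut (cen S)) := (F.autGroup S).map resZHom

/-- Inner automorphisms act trivially on the centre. -/
theorem resZHom_eq_one_of_mem_autInducedBy {α : MulAut S} (hα : α ∈ autInducedBy S S) : resZHom α = 1 := by
  obtain ⟨g, hg, hgx⟩ := (mem_autInducedBy_iff S S α).mp hα
  ext z
  rw [resZHom_apply, hgx]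
  exact conj_cen hg z.2

/-- **Uniqueness**: an element of `cenAut F` acting trivially on `Z₀` (of exponent `p`) and on `Z(S)/Z₀` is trivial. -/
theorem eq_one_of_mem_cenAut [Finite S] {p : ℕ} [hp : Fact p.Prime] (hS : IsPGroup p S) (F : FusionSystem S)
    (hF : F.IsSaturated p) (Z₀ : Subgroup Ω) (hexp : ∀ z ∈ Z₀, z ^ p = 1) (κ : MulAut (cen S)) (hκ : κ ∈ cenAut F)
    (h1 : ∀ z : cen S, (z : Ω) ∈ Z₀ → κ z = z) (h2 : ∀ z : cen S, ((z⁻¹ * κ z : cen S) : Ω) ∈ Z₀) : κ = 1 := by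
  have hfinA : Finite (MulAut S) := MulEquiv.finite_left
  -- `κ ^ p = 1`
  have hp1 : κ ^ p = 1 := by
    ext z
    have hc := h2 z
    have hκz : κ z = z * (z⁻¹ * κ z) := by group
    have hκc : κ (z⁻¹ * κ z) = z⁻¹ * κ z := h1 _ hc
    have := pow_apply_of_apply_eq_mul κ hκz hκc p
    rw [this]
    have h3 : (z⁻¹ * κ z) ^ p = 1 := Subtype.ext (by
      rw [Subgroup.coe_pow]
      exact hexp _ hc)
    rw [h3, mul_one]
    rfl
  -- `κ ^ m = 1` for the index `m` of the inner automorphisms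
  obtain ⟨α, hα, rfl⟩ := hκ
  have hSfn : F.IsFullyNormalized S := by
    refine ⟨le_rfl, fun Q hQ => ?_⟩
    have : Finite (normalizerIn S S) := finite_of_le inf_le_left
    exact Subgroup.card_le_of_le (by
      intro y hy
      exact ⟨hy.1, Subgroup.le_normalizer hy.1⟩)
  set Γ := F.autGroup S with hΓ
  obtain ⟨-, -, T₀, hT₀⟩ := fullyAutomized_fullyCentralized_of_fullyNormalized hS F hF hSfn
  set N : Subgroup Γ := (autInducedBy S S).subgroupOf Γ with hN
  have hNn : N.Normal := by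
    constructor
    intro b hb a
    rw [hN, Subgroup.mem_subgroupOf] at hb ⊢
    obtain ⟨g, hg, hgx⟩ := (mem_autInducedBy_iff S S _).mp hb
    rw [mem_autInducedBy_iff]
    refine ⟨(((a : MulAut S) ⟨g, hg⟩ : S) : Ω), ((a : MulAut S) ⟨g, hg⟩).2, fun x => ?_⟩
    show ((((a : MulAut S) * (b : MulAut S) * (a : MulAut S)⁻¹) x : S) : Ω) = _
    rw [MulAut.mul_apply, MulAut.mul_apply]
    have h3 : (b : MulAut S) ((a : MulAut S)⁻¹ x) = ⟨g, hg⟩ * ((a : MulAut S)⁻¹ x) * ⟨g, hg⟩⁻¹ :=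
      Subtype.ext (hgx _)
    rw [h3, map_mul, map_mul, map_inv, MulAut.apply_inv_self]
    rfl
  have hNT : N = (T₀ : Subgroup Γ) := hT₀.symm
  have hnd : ¬ p ∣ N.index := by
    rw [hNT]
    exact T₀.not_dvd_index
  have hpm : (⟨α, hα⟩ : Γ) ^ N.index ∈ N := Subgroup.pow_index_mem N _
  have hm1 : resZHom α ^ N.index = 1 := by
    rw [← map_pow]
    apply resZHom_eq_one_of_mem_autInducedBy
    have := Subgroup.mem_subgroupOf.mp hpm
    simpa using this
  have hcop : Nat.gcd p N.index = 1 := (Nat.Prime.coprime_iff_not_dvd hp.out).mpr hnd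
  have h4 := pow_gcd_eq_one.mpr ⟨hp1, hm1⟩
  rw [hcop, pow_one] at h4
  exact h4

end Cfsg.Agent.Helper86
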