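-- helper86: in a saturated fusion system in which every nonabelian essential subgroup `R` has `Z(R) = Z(S)`, every map of the
-- system defined on a nonabelian subgroup extends over `Z(S)` and acts on `Z(S)` as an element of `Aut_F(S)` does.
import Cfsg.Agent.Helper86.ZSystem
import Cfsg.Agent.Helper86.CenterRes

set_option autoImplicit false
open Cfsg

namespace Cfsg.Agent.Helper86

open Cfsg.FusionSystem Cfsg.Agent.Helper87

variable {Ω : Type*} [Group Ω] {S : Subgroup Ω}

/-- The subsystem of the maps that, on nonabelian subgroups, act on `Z(S)` through `Aut_F(S)`. -/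
def cenSystem (F : FusionSystem S) : FusionSystem S :=
  zSystem F (cen S) (cen_le S) (fun _ hg _ hz => conj_cen hg hz) (cenAut F) NonAb
    (fun φ hinj hval hP => nonAb_of_injective φ hinj hval hP)

theorem mem_cenSystem_iff (F : FusionSystem S) {P : Subgroup Ω} (φ : P →* Ω) :
    φ ∈ (cenSystem F).Hom P ↔ φ ∈ F.Hom P ∧ (NonAb P → φ ∈ zHom F (cen S) (cenAut F) P) := Iff.rfl

/-- An automorphism of a group maps central elements to central elements. -/
theorem aut_apply_central {R : Type*} [Group R] (β : MulAut R) {z : R} (hz : ∀ r : R, r * z = z * r) (r : R) :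
    r * β z = β z * r := by
  have h1 := congrArg β (hz (β⁻¹ r))
  rw [map_mul, map_mul, MulAut.apply_inv_self] at h1
  exact h1

/-- The centre of `S` lies in every centric subgroup. -/
theorem cen_le_of_centric (F : FusionSystem S) {P : Subgroup Ω} (hPc : F.IsCentric P) : cen S ≤ P := by
  intro z hz
  rw [mem_cen_iff] at hz
  apply hPc.2 P (isConj_refl F hPc.1)
  unfold centralizerIn
  rw [Subgroup.mem_inf, Subgroup.mem_centralizer_iff]
  exact ⟨hz.1, fun g hg => hz.2 g (hPc.1 hg)⟩

theorem hom_subset_cenSystem [Finite S] {p : ℕ} [Fact p.Prime] (hS : IsPGroup p S) (F : FusionSystem S)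
    (hF : F.IsSaturated p)
    (hess : ∀ R : Subgroup Ω, F.IsEssential p R → NonAb R → ∀ y ∈ R, (∀ r ∈ R, r * y = y * r) → y ∈ cen S) :
    ∀ P : Subgroup Ω, F.Hom P ⊆ (cenSystem F).Hom P := by
  apply hom_subset_of_autGroup_le hS F (cenSystem F) hF
  intro R hRa hRr ih
  have hRS : R ≤ S := hRr.1
  by_cases hReq : R = S
  · subst hReq
    intro α hα
    have hαF := (mem_autGroup_iff F le_rfl α).mp hα
    rw [mem_autGroup_iff _ le_rfl]
    unfold IsIso
    rw [mem_cenSystem_iff]
    refine ⟨hαF, fun _ => ?_⟩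
    exact mem_zHom_of_le F _ hαF (cen_le R) (resZHom α) ⟨α, hα, rfl⟩ (fun z => rfl)
  · have hRlt : R < S := lt_of_le_of_ne hRS hReq
    have ih' : ∀ (N : Subgroup Ω) (ψ : N →* Ω), R < N → ψ ∈ F.Hom N → ψ ∈ (cenSystem F).Hom N := by
      intro N ψ hlt hψ
      have hNS := (F.le_of_mem hψ).1
      have : Finite N := finite_of_le hNS
      exact ih N ψ (card_lt_card_of_lt hlt) hψ
    apply autGroup_le_of_larger hS F (cenSystem F) hRa hRr hRlt ?_ ih'
    intro hRess α hα
    have hαF := (mem_autGroup_iff F hRS α).mp hα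
    rw [mem_autGroup_iff _ hRS]
    unfold IsIso
    rw [mem_cenSystem_iff]
    refine ⟨hαF, fun hna => ?_⟩
    have hZR : cen S ≤ R := cen_le_of_centric F hRess.1
    have hZchar := hess R hRess hna
    have hfin : Finite (MulAut R) := finite_mulAut_of_le hRS
    obtain ⟨-, T₀, hT₀⟩ := hRa
    -- the automorphisms in `Aut_F(R)` fixing `Z(S)` pointwise
    have hinvar : ∀ (b : MulAut R) (z : R), (z : Ω) ∈ cen S → ((b z : R) : Ω) ∈ cen S := by
      intro b z hz
      apply hZchar _ (b z).2
      intro r hr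
      have hzc : ∀ r' : R, r' * z = z * r' := fun r' =>
        Subtype.ext (((mem_cen_iff _).mp hz).2 _ (hRS r'.2))
      exact congrArg Subtype.val (aut_apply_central b hzc ⟨r, hr⟩)
    let Cz : Subgroup (F.autGroup R) :=
      { carrier := {a | ∀ z : R, (z : Ω) ∈ cen S → (a : MulAut R) z = z}
        one_mem' := fun z _ => rfl
        mul_mem' := by
          intro a b ha hb z hz
          show (a : MulAut R) ((b : MulAut R) z) = z
          rw [hb z hz, ha z hz]
        inv_mem' := by
          intro a ha z hz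
          show (a : MulAut R)⁻¹ z = z
          conv_lhs => rw [← ha z hz]
          exact MulAut.inv_apply_self _ _ _ }
    have hCzmem : ∀ a : F.autGroup R, a ∈ Cz ↔ ∀ z : R, (z : Ω) ∈ cen S → (a : MulAut R) z = z := fun a => Iff.rfl
    haveI hCzn : Cz.Normal := by
      constructor
      intro a ha b
      rw [hCzmem] at ha ⊢
      intro z hz
      show (b : MulAut R) ((a : MulAut R) ((b : MulAut R)⁻¹ z)) = z
      rw [ha _ (hinvar _ z hz), MulAut.apply_inv_self]
    have hTC : (T₀ : Subgroup (F.autGroup R)) ≤ Cz := by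
      intro a ha
      rw [hT₀, Subgroup.mem_subgroupOf] at ha
      obtain ⟨g, hg, hgx⟩ := (mem_autInducedBy_iff S R _).mp ha
      rw [hCzmem]
      intro z hz
      apply Subtype.ext
      rw [hgx]
      exact conj_cen hg hz
    have hsup := Sylow.normalizer_sup_eq_top' T₀ hTC
    have hmem : (⟨α, hα⟩ : F.autGroup R) ∈ (⊤ : Subgroup (F.autGroup R)) := Subgroup.mem_top _
    rw [← hsup] at hmem
    obtain ⟨n, hn, c, hc, hnc⟩ := Subgroup.mem_sup_of_normal_right.mp hmem
    -- `n` extends to the normalizer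
    have hnF : IsIso F ((n : MulAut R) : R ≃* R) := (mem_autGroup_iff F hRS _).mp n.2
    have hnorm : ∀ g ∈ normalizerIn S R, ∃ h ∈ S, ∀ (x : R) (hx : g * (x : Ω) * g⁻¹ ∈ R),
        (((n : MulAut R) ⟨g * x * g⁻¹, hx⟩ : R) : Ω) = h * (((n : MulAut R) x : R) : Ω) * h⁻¹ := by
      intro g hg
      have hcA : conjAut R g hg.2 ∈ F.autGroup R := (mem_autGroup_iff F hRS _).mpr (isIso_conjAut F hRS hg.1 hg.2)
      have hcT : (⟨conjAut R g hg.2, hcA⟩ : F.autGroup R) ∈ (T₀ : Subgroup (F.autGroup R)) := by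
        rw [hT₀, Subgroup.mem_subgroupOf]
        exact (mem_autInducedBy_iff S R _).mpr ⟨g, hg.1, fun x => rfl⟩
      have h1 := (Subgroup.mem_normalizer_iff.mp hn _).mp hcT
      rw [hT₀, Subgroup.mem_subgroupOf] at h1
      obtain ⟨h, hh, hhx⟩ := (mem_autInducedBy_iff S R _).mp h1
      refine ⟨h, hh, fun x hx => ?_⟩
      have h2 := hhx ((n : MulAut R) x)
      rw [← h2]
      show _ = ((((n : MulAut R) * conjAut R g hg.2 * (n : MulAut R)⁻¹) ((n : MulAut R) x) : R) : Ω)
      rw [MulAut.mul_apply, MulAut.mul_apply, MulAut.inv_apply_self]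
      rfl
    obtain ⟨ψ, hψ, hψx⟩ := exists_extension_of_normalizes F hRr (n : MulAut R) hnF hnorm
    have hlt : R < normalizerIn S R := lt_normalizerIn hS hRlt
    have hψE := ih' _ ψ hlt hψ
    rw [mem_cenSystem_iff] at hψE
    have hψz := hψE.2 (nonAb_of_le hlt.le hna)
    obtain ⟨κ, hκ, hκz⟩ := exists_of_mem_zHom F _ hψz (hZR.trans hlt.le)
    refine mem_zHom_of_le F _ hαF hZR κ hκ (fun z => ?_)
    rw [← hκz z]
    have hzR : (z : Ω) ∈ R := hZR z.2
    have h3 := hψx z hzR (hlt.le hzR)
    have h4 : ψ (Subgroup.inclusion (hZR.trans hlt.le) z) = ψ ⟨z, hlt.le hzR⟩ := rfl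
    rw [h4, h3]
    have h5 : α = (n : MulAut R) * (c : MulAut R) := by
      have := congrArg Subtype.val hnc
      exact this.symm
    show ((α ⟨z, hzR⟩ : R) : Ω) = _
    rw [h5, MulAut.mul_apply, (hCzmem c).mp hc ⟨z, hzR⟩ z.2]

end Cfsg.Agent.Helper86
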