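-- helper86: local analysis at an abelian essential subgroup `P = Z(S)⟨x⟩` of a `p`-group `S` with an abelian subgroup `A`
-- of index `p` (`x ∉ A`): every element of `Aut_F(P)` either acts on `Z(S)` as an element of `Aut_F(S)` does, or moves `Z(S)`
-- to a hyperplane `g(Z(S))` such that some element of `Aut_F(S)` inverts `Z(S) ∩ S'` and centralizes exactly `Z(S) ∩ g(Z(S))`.
import Cfsg.Agent.S5257
import Cfsg.Agent.Helper86.ZGlobal
import Cfsg.Agent.Helper87.EssentialAut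

set_option autoImplicit false
open Cfsg

namespace Cfsg.Agent.Helper86

open Cfsg.FusionSystem Cfsg.Agent.Helper87 Cfsg.Agent.S5254

section general

/-- If `t` has prime order and `g t g⁻¹ ∉ ⟨t⟩`, then `g⁻¹ t g ∉ ⟨t⟩`. -/
theorem conj_inv_not_mem_zpowers {G : Type*} [Group G] [Finite G] {p : ℕ} [hp : Fact p.Prime] {t g : G}
    (ht : orderOf t = p) (h : g * t * g⁻¹ ∉ Subgroup.zpowers t) : g⁻¹ * t * g⁻¹⁻¹ ∉ Subgroup.zpowers t := by
  intro hc
  apply h
  have hcard : Nat.card (Subgroup.zpowers t) = p := by rw [Nat.card_zpowers, ht]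
  have hs1 : g⁻¹ * t * g⁻¹⁻¹ ≠ 1 := by
    intro h1
    have ht1 : t = 1 := by
      have : t = g * (g⁻¹ * t * g⁻¹⁻¹) * g⁻¹ := by group
      rw [this, h1]
      group
    rw [ht1, orderOf_one] at ht
    exact hp.out.one_lt.ne ht
  obtain ⟨k, hk⟩ := exists_pow_eq_of_card_prime hcard hc hs1 (Subgroup.mem_zpowers t)
  have e : g * t * g⁻¹ = t ^ k := by
    have h2 : g * (g⁻¹ * t * g⁻¹⁻¹) ^ k * g⁻¹ = (g * (g⁻¹ * t * g⁻¹⁻¹) * g⁻¹) ^ k := (conj_pow).symm
    rw [hk] at h2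
    rw [h2]
    congr 1
    group
  rw [e]
  exact Subgroup.pow_mem _ (Subgroup.mem_zpowers t) k

end general

variable {Ω : Type*} [Group Ω] {S : Subgroup Ω}

/-- `κ` inverts `Z₀ = Z(S) ∩ S'` and acts trivially on `Z(S)/Z₀`. -/
def QInv (κ : MulAut (cen S)) : Prop :=
  (∀ z : cen S, (z : Ω) ∈ cen S ⊓ (commutator ↥S).map S.subtype → κ z = z⁻¹) ∧
    ∀ z : cen S, ((z⁻¹ * κ z : cen S) : Ω) ∈ cen S ⊓ (commutator ↥S).map S.subtype

/-- The fixed points of `κ` on `Z(S)` are the elements of `Z(S) ∩ g(Z(S))`. -/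
def QFix {P : Subgroup Ω} (g : MulAut P) (κ : MulAut (cen S)) : Prop :=
  ∀ z : cen S, κ z = z ↔ ∃ y : P, (y : Ω) ∈ cen S ∧ ((g y : P) : Ω) = z

theorem local_main [Finite S] {p : ℕ} [hp : Fact p.Prime] (hp2 : p ≠ 2) (hS : IsPGroup p S) (F : FusionSystem S)
    (hF : F.IsSaturated p) {A : Subgroup Ω} (h : Setup p S A) (hna : ¬ IsMulCommutative ↥S)
    (hglobal : ∀ P : Subgroup Ω, F.Hom P ⊆ (cenSystem F).Hom P)
    (hZ₀c : Nat.card ↥(cen S ⊓ (commutator ↥S).map S.subtype) = p)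
    {P : Subgroup Ω} (hP : F.IsEssential p P) {x : Ω} (hxP : x ∈ P) (hxA : x ∉ A)
    (hPcomm : ∀ a ∈ P, ∀ b ∈ P, a * b = b * a) :
    (∃ κ ∈ cenAut F, QInv κ ∧ ((∀ z : cen S, κ z = z → z = 1) → Nat.card (cen S) ≤ p)) ∧
    ∀ g ∈ F.autGroup P,
      (∃ κ ∈ cenAut F, ∀ (z : cen S) (hz : (z : Ω) ∈ P), ((g ⟨z, hz⟩ : P) : Ω) = ((κ z : cen S) : Ω)) ∨
      ((∃ κ ∈ cenAut F, QInv κ ∧ QFix g κ) ∧ (∃ κ ∈ cenAut F, QInv κ ∧ QFix g⁻¹ κ)) := by
  have hPlt : P < S := Cfsg.Agent.S5326.lt_of_isEssential hS F hF hP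
  have hess := hP
  obtain ⟨hPc, hPfn, hnorm, M, hM⟩ := hP
  have hPS : P ≤ S := hPc.1
  have hxS : x ∈ S := hPS hxP
  have hfinP : Finite P := finite_of_le hPS
  have hfinA : Finite (MulAut P) := finite_mulAut_of_le hPS
  have hZA : cen S ≤ A := center_le h hna
  have hZP : cen S ≤ P := cen_le_of_centric F hPc
  have hP0Z : ∀ a ∈ P, a ∈ A → a ∈ cen S := by
    intro a haP haA
    rw [mem_cen_iff]
    exact ⟨hPS haP, h.central_of_comm hxS hxA haA (hPcomm a haP x hxP)⟩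
  have hdecP : ∀ g ∈ P, ∃ i : ℕ, g * x ^ i ∈ cen S := by
    intro g hg
    obtain ⟨i, hi⟩ := h.decomp x hxS hxA g (hPS hg)
    exact ⟨i, hP0Z _ (P.mul_mem hg (P.pow_mem hxP i)) hi⟩
  obtain ⟨-, hidx⟩ := abelian_case hS F hF h hna hess hxP hxA hPcomm
  set N : Subgroup Ω := S ⊓ Subgroup.normalizer (P : Set Ω) with hN
  have hNn : N = normalizerIn S P := rfl
  obtain ⟨n, hnN, hnP⟩ := SetLike.exists_of_lt (lt_normalizerIn hS hPlt)
  haveI hPNn : (P.subgroupOf N).Normal := Subgroup.normal_subgroupOf_of_le_normalizer inf_le_right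
  have hcommP : ∀ a b : P, a * b = b * a := fun a b => Subtype.ext (hPcomm a a.2 b b.2)
  set G := F.autGroup P with hG
  obtain ⟨t, ht⟩ : ∃ t : MulAut P, t = conjAut P n hnN.2 := ⟨_, rfl⟩
  have htapp : ∀ y : P, ((t y : P) : Ω) = n * y * n⁻¹ := fun y => by rw [ht]; rfl
  have htG : t ∈ G := by
    rw [ht]
    exact (mem_autGroup_iff F hPS _).mpr (isIso_conjAut F hPS hnN.1 hnN.2)
  -- conjugation by an element of `P` is trivial
  have hconjP1 : ∀ (g : Ω) (hg : g ∈ Subgroup.normalizer (P : Set Ω)), g ∈ P → conjAut P g hg = 1 := by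
    intro g hg hgP
    ext y
    rw [conjAut_apply]
    show g * y * g⁻¹ = y
    rw [hPcomm g hgP y y.2]
    group
  have ht1 : t ≠ 1 := by
    intro h1
    apply hnP
    apply hPc.2 P (isConj_refl F hPS)
    rw [mem_centralizerIn_iff]
    refine ⟨hnN.1, fun y hy => ?_⟩
    have h2 := htapp ⟨y, hy⟩
    rw [h1] at h2
    have h3 : y = n * y * n⁻¹ := h2
    calc y * n = (n * y * n⁻¹) * n := by rw [← h3]
      _ = n * y := by group
  -- every conjugation by an element of `N` is a power of `t`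
  have hTle : ∀ (g : Ω) (hg : g ∈ N), conjAut P g hg.2 ∈ Subgroup.zpowers t := by
    intro g hg
    have hnot : (⟨n, hnN⟩ : N) ∉ P.subgroupOf N := fun hc => hnP (Subgroup.mem_subgroupOf.mp hc)
    obtain ⟨i, hi⟩ := exists_mul_pow_mem_of_index_prime hp.out (P.subgroupOf N) hidx hnot ⟨g, hg⟩
    have hi' : g * n ^ i ∈ P := Subgroup.mem_subgroupOf.mp hi
    have hgn : g * n ^ i ∈ Subgroup.normalizer (P : Set Ω) := Subgroup.le_normalizer hi'
    have h1 := hconjP1 _ hgn hi'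
    have h2 : conjAut P (g * n ^ i) hgn = conjAut P g hg.2 * t ^ i := by
      rw [ht, conjAut_pow]
      ext y
      rw [conjAut_apply, MulAut.mul_apply, conjAut_apply, conjAut_apply]
      simp only [mul_inv_rev]
      group
    rw [h2] at h1
    have h3 : conjAut P g hg.2 = (t ^ i)⁻¹ := eq_inv_of_mul_eq_one_left h1
    rw [h3]
    exact Subgroup.inv_mem _ (Subgroup.pow_mem _ (Subgroup.mem_zpowers t) i)
  have hAutS_le : autInducedBy S P ≤ Subgroup.zpowers t := by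
    intro β hβ
    obtain ⟨g, hg, hgx⟩ := (mem_autInducedBy_iff S P β).mp hβ
    have hgN : g ∈ N := ⟨hg, mem_normalizer_of_conj_eq β g hgx⟩
    rw [eq_conjAut_of_conj_eq β g hgx]
    exact hTle g hgN
  have hle_AutS : Subgroup.zpowers t ≤ autInducedBy S P := by
    rw [Subgroup.zpowers_le]
    exact (mem_autInducedBy_iff S P t).mpr ⟨n, hnN.1, htapp⟩
  have htp : t ^ p = 1 := by
    have h1 : n ^ p ∈ P := by
      have := pow_mem_of_index_prime hp.out (P.subgroupOf N) hidx ⟨n, hnN⟩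
      exact Subgroup.mem_subgroupOf.mp this
    rw [ht, conjAut_pow]
    exact hconjP1 _ _ h1
  have hord : orderOf t = p := orderOf_eq_prime htp ht1
  -- maximality of `⟨t⟩`
  obtain ⟨-, -, T₀, hT₀⟩ := fullyAutomized_fullyCentralized_of_fullyNormalized hS F hF hPfn
  have hmax : ∀ K : Subgroup (MulAut P), K ≤ G → IsPGroup p K → t ∈ K → K ≤ Subgroup.zpowers t := by
    intro K hKG hKp htK
    have h1 : (T₀ : Subgroup G) ≤ K.subgroupOf G := by
      intro a ha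
      rw [hT₀, Subgroup.mem_subgroupOf] at ha
      rw [Subgroup.mem_subgroupOf]
      exact (Subgroup.zpowers_le.mpr htK) (hAutS_le ha)
    have h2 := T₀.is_maximal' hKp.comap_subtype h1
    intro k hk
    have h3 : (⟨k, hKG hk⟩ : G) ∈ (T₀ : Subgroup G) := by
      rw [← h2]
      exact Subgroup.mem_subgroupOf.mpr hk
    rw [hT₀, Subgroup.mem_subgroupOf] at h3
    exact hAutS_le h3
  -- the subgroups `Zp` and `Z₀p`
  set Zp : Subgroup P := (cen S).subgroupOf P with hZp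
  set Z₀p : Subgroup P := (cen S ⊓ (commutator ↥S).map S.subtype).subgroupOf P with hZ₀p
  haveI hZpn : Zp.Normal := ⟨fun n hn g => by rw [hcommP g n, mul_inv_cancel_right]; exact hn⟩
  have hZpi : Zp.index = p := by
    apply index_eq_prime_of_gen hp.out Zp (a := ⟨x, hxP⟩)
    · intro hx
      exact hxA (hZA (Subgroup.mem_subgroupOf.mp hx))
    · rw [hZp, Subgroup.mem_subgroupOf]
      exact hP0Z _ (P.pow_mem hxP p) (h.powp x hxS)
    · intro g
      obtain ⟨i, hi⟩ := hdecP g g.2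
      exact ⟨i, Subgroup.mem_subgroupOf.mpr hi⟩
  have hZ₀P : cen S ⊓ (commutator ↥S).map S.subtype ≤ P := inf_le_left.trans hZP
  have hZ₀pc : Nat.card Z₀p = p := by
    rw [← hZ₀c]
    exact Nat.card_congr (Subgroup.subgroupOfEquivOfLe hZ₀P).toEquiv
  have hZ₀Z : Z₀p ≤ Zp := by
    intro y hy
    exact Subgroup.mem_subgroupOf.mpr (Subgroup.mem_subgroupOf.mp hy).1
  have hfix : ∀ z ∈ Zp, t z = z := by
    intro z hz
    apply Subtype.ext
    rw [htapp]
    exact conj_cen hnN.1 (Subgroup.mem_subgroupOf.mp hz)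
  have hcm : ∀ y : P, y⁻¹ * t y ∈ Z₀p := by
    intro y
    rw [hZ₀p, Subgroup.mem_subgroupOf]
    have e1 : ((y⁻¹ * t y : P) : Ω) = (y : Ω)⁻¹ * n * ((y : Ω)⁻¹)⁻¹ * n⁻¹ := by
      rw [Subgroup.coe_mul, htapp, Subgroup.coe_inv]
      group
    refine ⟨?_, ?_⟩
    · apply hP0Z _ (Subtype.mem _)
      obtain ⟨i, hi⟩ := h.decomp x hxS hxA n hnN.1
      have hc : x ^ i * (y : Ω) = y * x ^ i := hPcomm _ (P.pow_mem hxP i) _ y.2
      have e0 : x ^ i * (y : Ω) * (x ^ i)⁻¹ = y := by rw [hc]; group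
      have e2 : ((y⁻¹ * t y : P) : Ω) = ((y : Ω)⁻¹ * (n * x ^ i) * ((y : Ω)⁻¹)⁻¹) * (n * x ^ i)⁻¹ := by
        have : ((y : Ω)⁻¹ * (n * x ^ i) * ((y : Ω)⁻¹)⁻¹) * (n * x ^ i)⁻¹ =
            (y : Ω)⁻¹ * (n * (x ^ i * (y : Ω) * (x ^ i)⁻¹) * n⁻¹) := by group
        rw [this, e0, Subgroup.coe_mul, htapp, Subgroup.coe_inv]
      rw [e2]
      exact A.mul_mem (h.conj _ (S.inv_mem (hPS y.2)) _ hi) (A.inv_mem hi)
    · rw [e1]
      refine ⟨(⟨(y : Ω)⁻¹, S.inv_mem (hPS y.2)⟩ : S) * ⟨n, hnN.1⟩ * (⟨(y : Ω)⁻¹, S.inv_mem (hPS y.2)⟩ : S)⁻¹ *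
        (⟨n, hnN.1⟩ : S)⁻¹, ?_, rfl⟩
      rw [commutator_def, ← commutatorElement_def]
      exact Subgroup.commutator_mem_commutator (Subgroup.mem_top _) (Subgroup.mem_top _)
  -- `N` is nonabelian
  have hNna : NonAb N := by
    intro hc
    apply ht1
    ext y
    rw [htapp]
    show n * y * n⁻¹ = y
    rw [hc n hnN y (le_normalizerIn hPS y.2)]
    group
  -- (N1): elements normalizing `⟨t⟩` act on the centre through `Aut_F(S)`
  have n1 : ∀ g ∈ G, g * t * g⁻¹ ∈ Subgroup.zpowers t →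
      ∃ κ ∈ cenAut F, ∀ (z : cen S) (hz : (z : Ω) ∈ P), ((g ⟨z, hz⟩ : P) : Ω) = ((κ z : cen S) : Ω) := by
    intro g hg hgt
    have hgF : IsIso F (g : P ≃* P) := (mem_autGroup_iff F hPS g).mp hg
    have hRr : F.IsReceptive P :=
      receptive_of_fullyCentralized hS F hF (fullyAutomized_fullyCentralized_of_fullyNormalized hS F hF hPfn).1
    have hnorm' : ∀ n' ∈ normalizerIn S P, ∃ h' ∈ S, ∀ (y : P) (hy : n' * (y : Ω) * n'⁻¹ ∈ P),
        ((g ⟨n' * y * n'⁻¹, hy⟩ : P) : Ω) = h' * ((g y : P) : Ω) * h'⁻¹ := by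
      intro n' hn'
      have h1 := hTle n' hn'
      obtain ⟨k, hk⟩ := Subgroup.mem_zpowers_iff.mp h1
      have h2 : g * conjAut P n' hn'.2 * g⁻¹ ∈ Subgroup.zpowers t := by
        rw [← hk, ← conj_zpow]
        exact Subgroup.zpow_mem _ hgt k
      obtain ⟨h', hh', hh'x⟩ := (mem_autInducedBy_iff S P _).mp (hle_AutS h2)
      refine ⟨h', hh', fun y hy => ?_⟩
      rw [← hh'x (g y)]
      rw [MulAut.mul_apply, MulAut.mul_apply, MulAut.inv_apply_self]
      rfl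
    obtain ⟨ψ, hψ, hψx⟩ := exists_extension_of_normalizes F hRr g hgF hnorm'
    have hψE := hglobal _ hψ
    rw [mem_cenSystem_iff] at hψE
    have hψz := hψE.2 hNna
    have hZN : cen S ≤ normalizerIn S P := hZP.trans (le_normalizerIn hPS)
    obtain ⟨κ, hκ, hκz⟩ := exists_of_mem_zHom F _ hψz hZN
    refine ⟨κ, hκ, fun z hz => ?_⟩
    rw [← hκz z]
    exact (hψx z hz (hZN z.2)).symm
  -- (II): the other elements
  have key : ∀ g ∈ G, g * t * g⁻¹ ∉ Subgroup.zpowers t →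
      ∃ κ ∈ cenAut F, QInv κ ∧ QFix g κ ∧ ((∀ z : cen S, κ z = z → z = 1) → Nat.card (cen S) ≤ p) := by
    intro g hg hgt
    obtain ⟨δ, hδG, hδt, hδc, hδinv, hδuni, hδfix⟩ :=
      exists_inverting hp2 (hS.to_le hPS) hcommP G t htG ht1 hmax Zp Z₀p hZpi hZ₀pc hZ₀Z hfix hcm g hg hgt
    have hδt' : δ * t * δ⁻¹ ∈ Subgroup.zpowers t := by
      rw [hδt, mul_inv_cancel_right]
      exact Subgroup.mem_zpowers t
    obtain ⟨κ, hκ, hκz⟩ := n1 δ hδG hδt'
    have hκeq : ∀ z : cen S, κ z = z ↔ δ ⟨z, hZP z.2⟩ = ⟨z, hZP z.2⟩ := by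
      intro z
      constructor
      · intro hz
        apply Subtype.ext
        rw [hκz z (hZP z.2), hz]
      · intro hz
        apply Subtype.ext
        rw [← hκz z (hZP z.2), hz]
    refine ⟨κ, hκ, ⟨fun z hz => ?_, fun z => ?_⟩, fun z => ?_, fun htriv => ?_⟩
    · apply Subtype.ext
      rw [← hκz z (hZP z.2), hδinv ⟨z, hZP z.2⟩ (Subgroup.mem_subgroupOf.mpr hz)]
      rfl
    · have h1 := hδuni ⟨z, hZP z.2⟩ (Subgroup.mem_subgroupOf.mpr z.2)
      have h2 := Subgroup.mem_subgroupOf.mp h1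
      have e : ((z⁻¹ * κ z : cen S) : Ω) = (((⟨z, hZP z.2⟩ : P)⁻¹ * δ ⟨z, hZP z.2⟩ : P) : Ω) := by
        rw [Subgroup.coe_mul, Subgroup.coe_mul, ← hκz z (hZP z.2)]
        rfl
      rw [e]
      exact h2
    · rw [hκeq]
      constructor
      · intro hz
        obtain ⟨y, hy, hyz⟩ := hδfix ⟨z, hZP z.2⟩ (Subgroup.mem_subgroupOf.mpr z.2) hz
        exact ⟨y, Subgroup.mem_subgroupOf.mp hy, congrArg Subtype.val hyz⟩
      · rintro ⟨y, hy, hyz⟩
        apply hδc ⟨z, hZP z.2⟩ (Subgroup.mem_subgroupOf.mpr z.2)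
        exact ⟨y, Subgroup.mem_subgroupOf.mpr hy, Subtype.ext hyz⟩
    · -- cardinality
      set Z' : Subgroup P := Zp.map (g : P ≃* P).toMonoidHom with hZ'
      have hZ'i : Z'.index = p := by
        rw [← hZpi]
        exact Subgroup.index_map_equiv Zp (g : P ≃* P)
      have hbot : Z' ⊓ Zp = ⊥ := by
        rw [eq_bot_iff]
        rintro y ⟨hy', hy⟩
        have h1 := hδc y hy hy'
        have h2 := (hκeq ⟨y, Subgroup.mem_subgroupOf.mp hy⟩).mpr h1
        have h3 := htriv _ h2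
        rw [Subgroup.mem_bot]
        have h4 : (y : Ω) = 1 := congrArg Subtype.val h3
        exact Subtype.ext h4
      have h4 := Cfsg.Agent.S5257.relIndex_mul_card_aux (inf_le_right : Z' ⊓ Zp ≤ Zp)
      rw [hbot, Subgroup.card_bot, mul_one, ← hbot, Subgroup.inf_relIndex_right] at h4
      have h5 : Z'.relIndex Zp ≤ p := by
        have := Subgroup.relIndex_le_of_le_right (H := Z') (le_top : Zp ≤ ⊤)
          (by rw [Subgroup.relIndex_top_right, hZ'i]; exact hp.out.ne_zero)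
        rwa [Subgroup.relIndex_top_right, hZ'i] at this
      have h6 : Nat.card Zp = Nat.card (cen S) := Nat.card_congr (Subgroup.subgroupOfEquivOfLe hZP).toEquiv
      rw [← h6, ← h4]
      exact h5
  -- existence of an element not normalizing `⟨t⟩`
  have hex : ∃ g ∈ G, g * t * g⁻¹ ∉ Subgroup.zpowers t := by
    by_contra hcon
    push Not at hcon
    set T : Subgroup G := (Subgroup.zpowers t).subgroupOf G with hT
    have hTn : T.Normal := by
      constructor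
      intro a ha b
      rw [hT, Subgroup.mem_subgroupOf] at ha ⊢
      obtain ⟨k, hk⟩ := Subgroup.mem_zpowers_iff.mp ha
      show (b : MulAut P) * (a : MulAut P) * (b : MulAut P)⁻¹ ∈ Subgroup.zpowers t
      rw [← hk, ← conj_zpow]
      exact Subgroup.zpow_mem _ (hcon b b.2) k
    have hTp : IsPGroup p T := by
      apply IsPGroup.comap_subtype
      exact (isPGroup_autInducedBy hS P).to_le hle_AutS
    have hle := normal_pSubgroup_le_of_stronglyPEmbedded _ M hM T hTp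
    have htT : (⟨t, htG⟩ : G) ∈ T := Subgroup.mem_subgroupOf.mpr (Subgroup.mem_zpowers t)
    have h1 := hle htT
    rw [Subgroup.mem_subgroupOf] at h1
    obtain ⟨r, hr⟩ := h1
    apply ht1
    rw [← show (MulAut.conj r : MulAut P) = t from hr]
    ext y
    show ((r * y * r⁻¹ : P) : Ω) = y
    rw [hcommP r y]
    simp
  refine ⟨?_, ?_⟩
  · obtain ⟨g, hg, hgt⟩ := hex
    obtain ⟨κ, hκ, h1, -, h3⟩ := key g hg hgt
    exact ⟨κ, hκ, h1, h3⟩
  · intro g hg
    by_cases hgt : g * t * g⁻¹ ∈ Subgroup.zpowers t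
    · exact Or.inl (n1 g hg hgt)
    · right
      have hgt' := conj_inv_not_mem_zpowers hord hgt
      obtain ⟨κ, hκ, h1, h2, -⟩ := key g hg hgt
      obtain ⟨κ', hκ', h1', h2', -⟩ := key g⁻¹ (G.inv_mem hg) hgt'
      exact ⟨⟨κ, hκ, h1, h2⟩, ⟨κ', hκ', h1', h2'⟩⟩

end Cfsg.Agent.Helper86
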