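import Mathlib
import Cfsg.Agent.S5236
import Cfsg.Agent.Helper48.StronglyEmbedded
import Cfsg.Agent.Helper87.StableAut

/-!
# Chains with factors of order `p` and strongly `p`-embedded subgroups (helper86)

If a finite `p`-group `H` has a chain of subgroups from `⊤` to `⊥`, each of index at most `p` in the previous one
and all invariant under a group `A` of automorphisms of `H`, then the `p`-elements of `A` lie in a normal
`p`-subgroup of `A` (the stability group of the chain).  Consequently no quotient `A ⧸ I` has a strongly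
`p`-embedded subgroup.
-/

set_option autoImplicit false

namespace Cfsg.Agent.Helper86

open Cfsg

section perm

/-- A permutation of `p`-power order of a set with at most `p` points, having a fixed point, is trivial. -/
theorem perm_eq_one_of_card_le {T : Type*} [Fintype T] [DecidableEq T] {p : ℕ} [hp : Fact p.Prime]
    (σ : Equiv.Perm T) {s : ℕ} (hσ : σ ^ p ^ s = 1) (hcard : Fintype.card T ≤ p) (t₀ : T) (ht₀ : σ t₀ = t₀) :
    σ = 1 := by
  have h1 := Equiv.Perm.card_compl_support_modEq hσ
  have h2 : t₀ ∈ (σ.support)ᶜ := by simp [ht₀]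
  have h3 : 1 ≤ (σ.support)ᶜ.card := Finset.card_pos.mpr ⟨t₀, h2⟩
  have h4 : (σ.support)ᶜ.card ≤ Fintype.card T := Finset.card_le_univ _
  have h5 : (σ.support)ᶜ.card = Fintype.card T := by
    by_contra hne
    have hlt : (σ.support)ᶜ.card < Fintype.card T := lt_of_le_of_ne h4 hne
    have hdvd : p ∣ Fintype.card T - (σ.support)ᶜ.card := (Nat.modEq_iff_dvd' h4).mp h1
    have := Nat.le_of_dvd (by omega) hdvd
    omega
  have h6 : (σ.support)ᶜ = Finset.univ := (Finset.card_eq_iff_eq_univ _).mp h5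
  rw [Finset.compl_eq_univ_iff] at h6
  exact Equiv.Perm.support_eq_empty_iff.mp h6

end perm

section cosets

variable {H : Type*} [Group H] [Finite H] {p : ℕ} [hp : Fact p.Prime]

/-- An automorphism of `p`-power order preserving `U` and `V`, where `U` has index at most `p` in `V`, acts trivially
on the cosets of `U` in `V`. -/
theorem inv_mul_apply_mem_of_relIndex_le (a : MulAut H) {s : ℕ} (ha : a ^ p ^ s = 1) (U V : Subgroup H)
    (hidx : U.relIndex V ≤ p) (hU : ∀ x, a x ∈ U ↔ x ∈ U) (hV : ∀ x, a x ∈ V ↔ x ∈ V) :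
    ∀ x ∈ V, x⁻¹ * a x ∈ U := by
  classical
  let b : MulAut V := Cfsg.Agent.S5236.resAut a V hV
  have hb : ∀ x : V, ((b x : V) : H) = a (x : H) := fun x => rfl
  let U' : Subgroup V := U.subgroupOf V
  haveI : Fintype (V ⧸ U') := Fintype.ofFinite _
  have hrel : ∀ x y : V, QuotientGroup.leftRel U' x y ↔ QuotientGroup.leftRel U' (b x) (b y) := by
    intro x y
    rw [QuotientGroup.leftRel_apply, QuotientGroup.leftRel_apply]
    have e : (b x)⁻¹ * b y = b (x⁻¹ * y) := by rw [map_mul, map_inv]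
    rw [e]
    show ((x⁻¹ * y : V) : H) ∈ U ↔ ((b (x⁻¹ * y) : V) : H) ∈ U
    rw [hb, hU]
  let σ : Equiv.Perm (V ⧸ U') := Quotient.congr b.toEquiv hrel
  have hσmk : ∀ x : V, σ (QuotientGroup.mk x) = QuotientGroup.mk (b x) := fun x => rfl
  have hσpow : ∀ (n : ℕ) (x : V), (σ ^ n) (QuotientGroup.mk x) = QuotientGroup.mk ((b ^ n) x) := by
    intro n
    induction n with
    | zero => intro x; simp
    | succ n ih =>
      intro x
      rw [pow_succ', pow_succ', Equiv.Perm.mul_apply, MulAut.mul_apply, ih, hσmk]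
  have hbpow : b ^ p ^ s = 1 := by
    ext x
    rw [Cfsg.Agent.S5236.resAut_pow_apply, ha]
    rfl
  have hσ : σ ^ p ^ s = 1 := by
    ext t
    induction t using QuotientGroup.induction_on with
    | H x => rw [hσpow, hbpow]; rfl
  have hcard : Fintype.card (V ⧸ U') ≤ p := by
    rw [← Nat.card_eq_fintype_card]
    exact hidx
  have h1 : σ = 1 := perm_eq_one_of_card_le σ hσ hcard (QuotientGroup.mk 1) (by rw [hσmk, map_one])
  intro x hx
  have h2 : σ (QuotientGroup.mk ⟨x, hx⟩) = QuotientGroup.mk ⟨x, hx⟩ := by rw [h1]; rfl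
  rw [hσmk] at h2
  have h3 := QuotientGroup.eq.mp h2.symm
  exact h3

end cosets

section chain

variable {H : Type*} [Group H] [Finite H] {p : ℕ} [hp : Fact p.Prime]

/-- Automorphisms of `p`-power order preserving a chain with factors of order at most `p` stabilize the chain. -/
theorem mem_chainStab_of_pow_eq_one (D : ℕ → Subgroup H) (hD : Antitone D)
    (hidx : ∀ k, (D (k + 1)).relIndex (D k) ≤ p) (a : MulAut H) {s : ℕ} (ha : a ^ p ^ s = 1)
    (hinv : ∀ k, ∀ x, a x ∈ D k ↔ x ∈ D k) : a ∈ Cfsg.Agent.Helper87.chainStab D hD := by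
  intro k x hx
  exact inv_mul_apply_mem_of_relIndex_le a ha (D (k + 1)) (D k) (hidx k) (hinv (k + 1)) (hinv k) x hx

/-- A group with a strongly `p`-embedded subgroup has no nontrivial normal `p`-subgroup. -/
theorem eq_bot_of_normal_pGroup_of_stronglyPEmbedded {X : Type*} [Group X] [Finite X] {E : Subgroup X}
    (hE : IsStronglyPEmbedded p E) (Y : Subgroup X) [hYn : Y.Normal] (hY : IsPGroup p Y) : Y = ⊥ := by
  by_contra hne
  obtain ⟨P, hPE, -⟩ := Cfsg.Agent.Helper48.exists_sylow_le_of_stronglyPEmbedded hE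
  have hYP : Y ≤ P := by
    have h1 : IsPGroup p (Y ⊔ (P : Subgroup X) : Subgroup X) := IsPGroup.to_sup_of_normal_left hY P.2
    have h2 := P.is_maximal' h1 le_sup_right
    rw [← h2]
    exact le_sup_left
  have hYE : Y ≤ E := hYP.trans hPE
  apply hE.2.1
  rw [eq_top_iff]
  intro k _
  apply Cfsg.Agent.Helper48.mem_of_conjSub_le hE hYE hY hne
  rintro _ ⟨y, hy, rfl⟩
  exact hYE (hYn.conj_mem y hy k)

/-- If all `p`-elements of `A` lie in a normal `p`-subgroup, no quotient of `A` has a strongly `p`-embedded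
subgroup. -/
theorem false_of_normal_pGroup {A : Type*} [Group A] [Finite A] (I : Subgroup A) [I.Normal]
    (E : Subgroup (A ⧸ I)) (hE : IsStronglyPEmbedded p E) (K : Subgroup A) [hKn : K.Normal]
    (hK : IsPGroup p K) (hall : ∀ (a : A) (s : ℕ), a ^ p ^ s = 1 → a ∈ K) : False := by
  have hsurj := QuotientGroup.mk'_surjective I
  haveI : (K.map (QuotientGroup.mk' I)).Normal := hKn.map _ hsurj
  have hbot := eq_bot_of_normal_pGroup_of_stronglyPEmbedded hE (K.map (QuotientGroup.mk' I)) (hK.map _)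
  have hKI : K ≤ I := by
    intro x hx
    have h1 : QuotientGroup.mk' I x ∈ K.map (QuotientGroup.mk' I) := ⟨x, hx, rfl⟩
    rw [hbot, Subgroup.mem_bot] at h1
    exact (QuotientGroup.eq_one_iff x).mp h1
  obtain ⟨xbar, hxbar⟩ := exists_prime_orderOf_dvd_card' p hE.1
  obtain ⟨a, rfl⟩ := hsurj xbar
  obtain ⟨s, r', hr', hord⟩ := Nat.exists_eq_pow_mul_and_not_dvd (orderOf_pos a).ne' p hp.out.ne_one
  have hb : (a ^ r') ^ p ^ s = 1 := by rw [← pow_mul, mul_comm, ← hord, pow_orderOf_eq_one]
  have h1 : a ^ r' ∈ I := hKI (hall _ s hb)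
  have h2 : (QuotientGroup.mk' I a) ^ r' = 1 := by
    rw [← map_pow]
    exact (QuotientGroup.eq_one_iff _).mpr h1
  have h3 : p ∣ r' := by
    rw [← hxbar]
    exact orderOf_dvd_of_pow_eq_one h2
  exact hr' h3

/-- **No chain**: a finite `p`-group `H` with an `A`-invariant chain from `⊤` to `⊥` with factors of order at most `p`
cannot have a strongly `p`-embedded subgroup in a quotient of `A ≤ Aut H`. -/
theorem false_of_chain (hH : IsPGroup p H) (A : Subgroup (MulAut H)) (I : Subgroup A) [I.Normal]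
    (E : Subgroup (A ⧸ I)) (hE : IsStronglyPEmbedded p E) (D : ℕ → Subgroup H) (hD : Antitone D)
    (h0 : D 0 = ⊤) (N : ℕ) (hN : D N = ⊥) (hidx : ∀ k, (D (k + 1)).relIndex (D k) ≤ p)
    (hinv : ∀ α ∈ A, ∀ k, ∀ x ∈ D k, α x ∈ D k) : False := by
  have hiff : ∀ α ∈ A, ∀ k x, α x ∈ D k ↔ x ∈ D k := by
    intro α hα k x
    constructor
    · intro h
      have h1 := hinv α⁻¹ (A.inv_mem hα) k _ h
      simpa using h1
    · exact hinv α hα k x
  haveI hKn : ((Cfsg.Agent.Helper87.chainStab D hD).subgroupOf A).Normal := by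
    constructor
    intro a ha b
    rw [Subgroup.mem_subgroupOf] at ha ⊢
    have h1 := Cfsg.Agent.Helper87.conj_mem_chainStab D hD (b : MulAut H) (a : MulAut H)
      (fun k x hx => hinv _ b.2 k x hx) (fun k x hx => hinv _ (A.inv_mem b.2) k x hx) ha
    simpa using h1
  have hK : IsPGroup p ((Cfsg.Agent.Helper87.chainStab D hD).subgroupOf A) :=
    (Cfsg.Agent.Helper87.isPGroup_chainStab hH D hD h0 N hN).comap_subtype
  apply false_of_normal_pGroup I E hE _ hK
  intro a s ha
  rw [Subgroup.mem_subgroupOf]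
  apply mem_chainStab_of_pow_eq_one D hD hidx (a : MulAut H) (s := s) ?_ (fun k x => hiff _ a.2 k x)
  have h1 := congrArg Subtype.val ha
  simpa using h1

end chain

end Cfsg.Agent.Helper86
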