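import Cfsg.Agent.Helper88.Marks
set_option autoImplicit false

/-! # Burnside's theorem on marks (helper86)

Two finite `K`-sets with the same numbers of fixed points of all subgroups of `K` are isomorphic as `K`-sets. -/

namespace Cfsg.Agent.Helper86.Burnside

open MulAction Cfsg.Agent.Helper88.Marks

variable {K : Type*} [Group K] {X Y : Type*} [MulAction K X] [MulAction K Y]

/-- `R` is the graph of a `K`-equivariant bijection from the subset `A` of `X` onto the subset `B` of `Y`. -/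
def IsMatch (K : Type*) [Group K] {X Y : Type*} [MulAction K X] [MulAction K Y] (A : Set X) (B : Set Y)
    (R : Set (X × Y)) : Prop :=
  (∀ z ∈ R, z.1 ∈ A ∧ z.2 ∈ B) ∧ (∀ a ∈ A, ∃ y, (a, y) ∈ R) ∧ (∀ b ∈ B, ∃ x, (x, b) ∈ R) ∧
    (∀ x y y', (x, y) ∈ R → (x, y') ∈ R → y = y') ∧ (∀ x x' y, (x, y) ∈ R → (x', y) ∈ R → x = x') ∧
    (∀ (k : K) x y, (x, y) ∈ R → (k • x, k • y) ∈ R)

/-- A match preserves the numbers of fixed points. -/
theorem IsMatch.ncard_fixed {A : Set X} {B : Set Y} {R : Set (X × Y)} (hR : IsMatch K A B R) (L : Subgroup K) :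
    (A ∩ fixedPoints L X).ncard = (B ∩ fixedPoints L Y).ncard := by
  obtain ⟨h1, h2, h3, h4, h5, h6⟩ := hR
  refine Set.ncard_congr (fun a ha => Classical.choose (h2 a ha.1)) ?_ ?_ ?_
  · intro a ha
    have hc := Classical.choose_spec (h2 a ha.1)
    refine ⟨(h1 _ hc).2, fun l => ?_⟩
    have h7 := h6 (l : K) _ _ hc
    have h8 : (l : K) • a = a := ha.2 l
    rw [h8] at h7
    exact h4 _ _ _ h7 hc
  · intro a a' ha ha' heq
    have hc := Classical.choose_spec (h2 a ha.1)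
    have hc' := Classical.choose_spec (h2 a' ha'.1)
    rw [heq] at hc
    exact h5 _ _ _ hc hc'
  · intro b hb
    obtain ⟨x, hx⟩ := h3 b hb.1
    have hxA : x ∈ A := (h1 _ hx).1
    have hxfix : x ∈ fixedPoints L X := by
      intro l
      have h7 := h6 (l : K) _ _ hx
      have h8 : (l : K) • b = b := hb.2 l
      rw [h8] at h7
      exact h5 _ _ _ h7 hx
    refine ⟨x, ⟨hxA, hxfix⟩, ?_⟩
    have hc := Classical.choose_spec (h2 x hxA)
    exact h4 _ _ _ hc hx

/-- The match between two orbits with the same stabilizer. -/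
theorem isMatch_orbit (a₀ : X) (b₀ : Y) (h : stabilizer K a₀ = stabilizer K b₀) :
    IsMatch K (orbit K a₀) (orbit K b₀) {z | ∃ k : K, z = (k • a₀, k • b₀)} := by
  have key : ∀ k k' : K, k • a₀ = k' • a₀ ↔ k • b₀ = k' • b₀ := by
    intro k k'
    have e1 : k • a₀ = k' • a₀ ↔ k'⁻¹ * k ∈ stabilizer K a₀ := by
      rw [mem_stabilizer_iff, mul_smul, inv_smul_eq_iff]
    have e2 : k • b₀ = k' • b₀ ↔ k'⁻¹ * k ∈ stabilizer K b₀ := by
      rw [mem_stabilizer_iff, mul_smul, inv_smul_eq_iff]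
    rw [e1, e2, h]
  refine ⟨?_, ?_, ?_, ?_, ?_, ?_⟩
  · rintro z ⟨k, rfl⟩
    exact ⟨⟨k, rfl⟩, ⟨k, rfl⟩⟩
  · rintro a ⟨k, rfl⟩
    exact ⟨k • b₀, k, rfl⟩
  · rintro b ⟨k, rfl⟩
    exact ⟨k • a₀, k, rfl⟩
  · rintro x y y' ⟨k, hk⟩ ⟨k', hk'⟩
    have h1 : x = k • a₀ := congrArg Prod.fst hk
    have h2 : y = k • b₀ := congrArg Prod.snd hk
    have h3 : x = k' • a₀ := congrArg Prod.fst hk'
    have h4 : y' = k' • b₀ := congrArg Prod.snd hk'
    rw [h2, h4]
    exact (key k k').mp (h1.symm.trans h3)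
  · rintro x x' y ⟨k, hk⟩ ⟨k', hk'⟩
    have h1 : x = k • a₀ := congrArg Prod.fst hk
    have h2 : y = k • b₀ := congrArg Prod.snd hk
    have h3 : x' = k' • a₀ := congrArg Prod.fst hk'
    have h4 : y = k' • b₀ := congrArg Prod.snd hk'
    rw [h1, h3]
    exact (key k k').mpr (h2.symm.trans h4)
  · rintro k x y ⟨k', hk'⟩
    have h1 : x = k' • a₀ := congrArg Prod.fst hk'
    have h2 : y = k' • b₀ := congrArg Prod.snd hk'
    exact ⟨k * k', by rw [h1, h2, mul_smul, mul_smul]⟩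

/-- Union of matches between disjoint pairs of subsets. -/
theorem IsMatch.union {A₁ A₂ : Set X} {B₁ B₂ : Set Y} {R₁ R₂ : Set (X × Y)} (h₁ : IsMatch K A₁ B₁ R₁)
    (h₂ : IsMatch K A₂ B₂ R₂) (hA : Disjoint A₁ A₂) (hB : Disjoint B₁ B₂) :
    IsMatch K (A₁ ∪ A₂) (B₁ ∪ B₂) (R₁ ∪ R₂) := by
  obtain ⟨a1, a2, a3, a4, a5, a6⟩ := h₁
  obtain ⟨b1, b2, b3, b4, b5, b6⟩ := h₂
  have hA' : ∀ x, x ∈ A₁ → x ∈ A₂ → False := fun x h h' => Set.disjoint_left.mp hA h h'
  have hB' : ∀ y, y ∈ B₁ → y ∈ B₂ → False := fun y h h' => Set.disjoint_left.mp hB h h'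
  refine ⟨?_, ?_, ?_, ?_, ?_, ?_⟩
  · rintro z (hz | hz)
    · exact ⟨Or.inl (a1 z hz).1, Or.inl (a1 z hz).2⟩
    · exact ⟨Or.inr (b1 z hz).1, Or.inr (b1 z hz).2⟩
  · rintro a (ha | ha)
    · obtain ⟨y, hy⟩ := a2 a ha
      exact ⟨y, Or.inl hy⟩
    · obtain ⟨y, hy⟩ := b2 a ha
      exact ⟨y, Or.inr hy⟩
  · rintro b (hb | hb)
    · obtain ⟨x, hx⟩ := a3 b hb
      exact ⟨x, Or.inl hx⟩
    · obtain ⟨x, hx⟩ := b3 b hb
      exact ⟨x, Or.inr hx⟩
  · rintro x y y' (h | h) (h' | h')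
    · exact a4 x y y' h h'
    · exact (hA' x (a1 _ h).1 (b1 _ h').1).elim
    · exact (hA' x (a1 _ h').1 (b1 _ h).1).elim
    · exact b4 x y y' h h'
  · rintro x x' y (h | h) (h' | h')
    · exact a5 x x' y h h'
    · exact (hB' y (a1 _ h).2 (b1 _ h').2).elim
    · exact (hB' y (a1 _ h').2 (b1 _ h).2).elim
    · exact b5 x x' y h h'
  · rintro k x y (h | h)
    · exact Or.inl (a6 k x y h)
    · exact Or.inr (b6 k x y h)

theorem fixedPoints_bot_eq_univ : fixedPoints (↥(⊥ : Subgroup K)) X = Set.univ := by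
  ext x
  simp only [Set.mem_univ, iff_true]
  intro l
  have h1 : (l : K) = 1 := Subgroup.mem_bot.mp l.2
  show (l : K) • x = x
  rw [h1, one_smul]

/-- A point of `B` with the same stabilizer as a point of `A` whose stabilizer has the largest order. -/
theorem exists_same_stabilizer [Finite K] [Finite X] [Finite Y] {A : Set X} {B : Set Y} {a₀ : X} (ha₀ : a₀ ∈ A)
    (hfix : (A ∩ fixedPoints (stabilizer K a₀) X).ncard = (B ∩ fixedPoints (stabilizer K a₀) Y).ncard)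
    (hmax : ∀ b ∈ B, Nat.card (stabilizer K b) ≤ Nat.card (stabilizer K a₀)) :
    ∃ b₀ ∈ B, stabilizer K a₀ = stabilizer K b₀ := by
  have h1 : 0 < (A ∩ fixedPoints (stabilizer K a₀) X).ncard := by
    rw [Set.ncard_pos (Set.toFinite _)]
    exact ⟨a₀, ha₀, fun l => l.2⟩
  rw [hfix, Set.ncard_pos (Set.toFinite _)] at h1
  obtain ⟨b₀, hb₀, hb₀fix⟩ := h1
  refine ⟨b₀, hb₀, ?_⟩
  have hle : stabilizer K a₀ ≤ stabilizer K b₀ := fun l hl => hb₀fix ⟨l, hl⟩
  exact Subgroup.eq_of_le_of_card_ge hle (hmax b₀ hb₀)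

/-- **Burnside's theorem**, for invariant subsets. -/
theorem exists_match [Finite K] [Finite X] [Finite Y] : ∀ n : ℕ, ∀ (A : Set X) (B : Set Y),
    (∀ (k : K) a, a ∈ A → k • a ∈ A) → (∀ (k : K) b, b ∈ B → k • b ∈ B) → A.ncard = n →
    (∀ L : Subgroup K, (A ∩ fixedPoints L X).ncard = (B ∩ fixedPoints L Y).ncard) →
    ∃ R : Set (X × Y), IsMatch K A B R := by
  intro n
  induction n using Nat.strong_induction_on with
  | _ n ih =>
  intro A B hA hB hn hfix
  rcases A.eq_empty_or_nonempty with hAe | hAne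
  · have hB0 : B.ncard = 0 := by
      have h1 := hfix ⊥
      rw [fixedPoints_bot_eq_univ, fixedPoints_bot_eq_univ, Set.inter_univ, Set.inter_univ, hAe, Set.ncard_empty] at h1
      exact h1.symm
    have hBe : B = ∅ := (Set.ncard_eq_zero (Set.toFinite B)).mp hB0
    refine ⟨∅, ?_, ?_, ?_, ?_, ?_, ?_⟩
    · intro z hz; exact hz.elim
    · intro a ha; rw [hAe] at ha; exact ha.elim
    · intro b hb; rw [hBe] at hb; exact hb.elim
    · intro x y y' h; exact h.elim
    · intro x x' y h; exact h.elim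
    · intro k x y h; exact h.elim
  · -- a stabilizer of the largest order
    set s : Set ℕ := {c | (∃ a ∈ A, c = Nat.card (stabilizer K a)) ∨ (∃ b ∈ B, c = Nat.card (stabilizer K b))}
      with hs
    have hsne : s.Nonempty := by
      obtain ⟨a, ha⟩ := hAne
      exact ⟨_, Or.inl ⟨a, ha, rfl⟩⟩
    have hsb : BddAbove s := by
      refine ⟨Nat.card K, ?_⟩
      rintro c (⟨a, -, rfl⟩ | ⟨b, -, rfl⟩)
      · exact Subgroup.card_le_card_group _
      · exact Subgroup.card_le_card_group _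
    have hmem := Nat.sSup_mem hsne hsb
    have hmaxA : ∀ a ∈ A, Nat.card (stabilizer K a) ≤ sSup s := fun a ha => le_csSup hsb (Or.inl ⟨a, ha, rfl⟩)
    have hmaxB : ∀ b ∈ B, Nat.card (stabilizer K b) ≤ sSup s := fun b hb => le_csSup hsb (Or.inr ⟨b, hb, rfl⟩)
    have hex : ∃ a₀ ∈ A, ∃ b₀ ∈ B, stabilizer K a₀ = stabilizer K b₀ := by
      rcases hmem with ⟨a₀, ha₀, hc⟩ | ⟨b₀, hb₀, hc⟩
      · obtain ⟨b₀, hb₀, h⟩ := exists_same_stabilizer ha₀ (hfix _) (fun b hb => hc ▸ hmaxB b hb)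
        exact ⟨a₀, ha₀, b₀, hb₀, h⟩
      · obtain ⟨a₀, ha₀, h⟩ := exists_same_stabilizer hb₀ (hfix _).symm (fun a ha => hc ▸ hmaxA a ha)
        exact ⟨a₀, ha₀, b₀, hb₀, h.symm⟩
    obtain ⟨a₀, ha₀, b₀, hb₀, hstab⟩ := hex
    have hOA : orbit K a₀ ⊆ A := by
      rintro _ ⟨k, rfl⟩
      exact hA k a₀ ha₀
    have hOB : orbit K b₀ ⊆ B := by
      rintro _ ⟨k, rfl⟩
      exact hB k b₀ hb₀
    have hmO := isMatch_orbit (K := K) a₀ b₀ hstab
    have hinvX : ∀ (x₀ : X) (k : K) (x : X), k • x ∈ orbit K x₀ → x ∈ orbit K x₀ := by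
      rintro x₀ k x ⟨k', hk'⟩
      refine ⟨k⁻¹ * k', ?_⟩
      show (k⁻¹ * k') • x₀ = x
      have hk'' : k' • x₀ = k • x := hk'
      rw [mul_smul, hk'', inv_smul_smul]
    have hinvY : ∀ (y₀ : Y) (k : K) (y : Y), k • y ∈ orbit K y₀ → y ∈ orbit K y₀ := by
      rintro y₀ k y ⟨k', hk'⟩
      refine ⟨k⁻¹ * k', ?_⟩
      show (k⁻¹ * k') • y₀ = y
      have hk'' : k' • y₀ = k • y := hk'
      rw [mul_smul, hk'', inv_smul_smul]
    have hA' : ∀ (k : K) a, a ∈ A \ orbit K a₀ → k • a ∈ A \ orbit K a₀ :=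
      fun k a ha => ⟨hA k a ha.1, fun h => ha.2 (hinvX a₀ k a h)⟩
    have hB' : ∀ (k : K) b, b ∈ B \ orbit K b₀ → k • b ∈ B \ orbit K b₀ :=
      fun k b hb => ⟨hB k b hb.1, fun h => hb.2 (hinvY b₀ k b h)⟩
    have hlt : (A \ orbit K a₀).ncard < n := by
      rw [← hn]
      apply Set.ncard_lt_ncard _ (Set.toFinite A)
      exact ⟨Set.diff_subset, fun h => (h ha₀).2 (mem_orbit_self a₀)⟩
    have hfix' : ∀ L : Subgroup K, ((A \ orbit K a₀) ∩ fixedPoints L X).ncard =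
        ((B \ orbit K b₀) ∩ fixedPoints L Y).ncard := by
      intro L
      have e1 : (A \ orbit K a₀) ∩ fixedPoints L X = (A ∩ fixedPoints L X) \ (orbit K a₀ ∩ fixedPoints L X) := by
        ext x
        simp only [Set.mem_inter_iff, Set.mem_diff]
        tauto
      have e2 : (B \ orbit K b₀) ∩ fixedPoints L Y = (B ∩ fixedPoints L Y) \ (orbit K b₀ ∩ fixedPoints L Y) := by
        ext y
        simp only [Set.mem_inter_iff, Set.mem_diff]
        tauto
      rw [e1, e2, Set.ncard_diff (Set.inter_subset_inter_left _ hOA) (Set.toFinite _),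
        Set.ncard_diff (Set.inter_subset_inter_left _ hOB) (Set.toFinite _), hfix L, hmO.ncard_fixed L]
    obtain ⟨R', hR'⟩ := ih _ hlt (A \ orbit K a₀) (B \ orbit K b₀) hA' hB' rfl hfix'
    have hU := hR'.union hmO Set.disjoint_sdiff_left Set.disjoint_sdiff_left
    rw [Set.diff_union_of_subset hOA, Set.diff_union_of_subset hOB] at hU
    exact ⟨_, hU⟩

/-- **Burnside's theorem**: finite `K`-sets with the same marks are isomorphic. -/
theorem exists_equivariant_equiv [Finite K] [Finite X] [Finite Y]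
    (h : ∀ L : Subgroup K, fixCard X L = fixCard Y L) :
    ∃ e : X ≃ Y, ∀ (k : K) (x : X), e (k • x) = k • e x := by
  have hfix : ∀ L : Subgroup K, ((Set.univ : Set X) ∩ fixedPoints L X).ncard =
      ((Set.univ : Set Y) ∩ fixedPoints L Y).ncard := by
    intro L
    rw [Set.univ_inter, Set.univ_inter]
    have := h L
    unfold fixCard at this
    rw [← _root_.Nat.card_coe_set_eq, ← _root_.Nat.card_coe_set_eq]
    exact this
  obtain ⟨R, h1, h2, h3, h4, h5, h6⟩ := exists_match (K := K) _ (Set.univ : Set X) (Set.univ : Set Y)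
    (fun _ _ _ => Set.mem_univ _) (fun _ _ _ => Set.mem_univ _) rfl hfix
  have hc := fun x => Classical.choose_spec (h2 x (Set.mem_univ x))
  refine ⟨Equiv.ofBijective (fun x => Classical.choose (h2 x (Set.mem_univ x))) ⟨?_, ?_⟩, ?_⟩
  · intro x x' heq
    have hx := hc x
    have hx' := hc x'
    simp only at heq
    rw [heq] at hx
    exact h5 _ _ _ hx hx'
  · intro y
    obtain ⟨x, hx⟩ := h3 y (Set.mem_univ y)
    exact ⟨x, h4 _ _ _ (hc x) hx⟩
  · intro k x
    show Classical.choose (h2 (k • x) (Set.mem_univ _)) = k • Classical.choose (h2 x (Set.mem_univ x))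
    exact h4 _ _ _ (hc (k • x)) (h6 k _ _ (hc x))

end Cfsg.Agent.Helper86.Burnside
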