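import Cfsg.Agent.Helper67.CEW7
import Cfsg.Agent.Helper67.CEW8
import Cfsg.Agent.S5119

/-!
# `TrivExt` for the `p`-elements of `Aut_E(P)`, `P` centric in `E` (helper86)
-/

set_option autoImplicit false

namespace Cfsg.Agent.Helper86.CE

open Cfsg Cfsg.FusionSystem Cfsg.Agent.Helper87 Cfsg.Agent.Helper88.FS Cfsg.Agent.Helper67.CE

variable {Ω : Type*} [Group Ω] {S : Subgroup Ω}

/-- A conjugate in `F` of a subgroup centric in the invariant subsystem `E` over `T` contains its centralizer in `T`. -/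
theorem centralizerIn_le_of_isCentric {T : Subgroup Ω} {F : FusionSystem S} {E : FusionSystem T}
    (hinv : E.IsInvariantIn F) {P R : Subgroup Ω} (hPc : E.IsCentric P) (γ : P ≃* R) (hγ : IsIso F γ) :
    centralizerIn T R ≤ R := by
  have hPT : P ≤ T := hPc.1
  obtain ⟨α, hα, φ₀, hφ₀, hαφ⟩ := hinv.2.2.2 P hPT _ hγ
  have hφ₀T : ∀ x : P, φ₀ x ∈ T := (E.le_of_mem hφ₀).2
  have hQ : centralizerIn T φ₀.range ≤ φ₀.range := hPc.2 _ ⟨φ₀, hφ₀, rfl⟩
  intro y hy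
  have hyT : y ∈ T := hy.1
  have hyC : y ∈ Subgroup.centralizer (R : Set Ω) := hy.2
  have hy' : ((α⁻¹ ⟨y, hyT⟩ : T) : Ω) ∈ centralizerIn T φ₀.range := by
    refine ⟨(α⁻¹ ⟨y, hyT⟩ : T).2, ?_⟩
    show ((α⁻¹ ⟨y, hyT⟩ : T) : Ω) ∈ Subgroup.centralizer (φ₀.range : Set Ω)
    rw [Subgroup.mem_centralizer_iff]
    rintro _ ⟨x, rfl⟩
    have h1 : ((γ x : R) : Ω) = ((α ⟨φ₀ x, hφ₀T x⟩ : T) : Ω) := hαφ x (hφ₀T x)
    have h2 : ((γ x : R) : Ω) * y = y * ((γ x : R) : Ω) := (Subgroup.mem_centralizer_iff.mp hyC) _ (γ x).2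
    have h3 : α (⟨φ₀ x, hφ₀T x⟩ * α⁻¹ ⟨y, hyT⟩) = α (α⁻¹ ⟨y, hyT⟩ * ⟨φ₀ x, hφ₀T x⟩) := by
      rw [map_mul, map_mul, MulAut.apply_inv_self]
      apply Subtype.ext
      rw [Subgroup.coe_mul, Subgroup.coe_mul, ← h1]
      exact h2
    have h4 := α.injective h3
    exact congrArg Subtype.val h4
  obtain ⟨x₀, hx₀⟩ := hQ hy'
  have h5 : (⟨φ₀ x₀, hφ₀T x₀⟩ : T) = α⁻¹ ⟨y, hyT⟩ := Subtype.ext hx₀
  have h6 : ((γ x₀ : R) : Ω) = y := by
    have h1 : ((γ x₀ : R) : Ω) = ((α ⟨φ₀ x₀, hφ₀T x₀⟩ : T) : Ω) := hαφ x₀ (hφ₀T x₀)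
    rw [h1, h5, MulAut.apply_inv_self]
  rw [← h6]
  exact (γ x₀).2

/-- Every `p`-element of `Aut_E(P)`, `P` centric in `E`, extends to `P C_S(P)` trivially modulo `P`. -/
theorem trivExt_of_isCentric [Finite S] {p : ℕ} [Fact p.Prime] (hS : IsPGroup p S) (F : FusionSystem S)
    (hF : F.IsSaturated p) {T : Subgroup Ω} (E : FusionSystem T) (hE : E.IsNormalIn F p) {P : Subgroup Ω}
    (hPc : E.IsCentric P) (α : MulAut P) (hα : α ∈ E.autGroup P)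
    (k : ℕ) (hk : orderOf α = p ^ k) : TrivExt F P (centralizerIn S P) α := by
  have hinv : E.IsInvariantIn F := hE.1.2.2
  have hT : F.StronglyClosed T := hinv.2.1
  have hTS : T ≤ S := hT.1
  have hEF : E.IsSubsystemOf F := hinv.1
  have hPT : P ≤ T := hPc.1
  have hSI : StrongInv E F := (Cfsg.Agent.S5119.result p hS F hF E hEF hT).mp hinv
  obtain ⟨R, hPR, hRn⟩ := exists_isConj_fullyNormalized F (hPT.trans hTS)
  obtain ⟨γ, hγ⟩ := (isConj_iff F P R).mp hPR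
  have hRT : R ≤ T := by
    intro y hy
    have := hT.2 P hPT _ hγ (γ.symm ⟨y, hy⟩)
    simpa using this
  have hRc : centralizerIn T R ≤ R := centralizerIn_le_of_isCentric hinv hPc γ hγ
  have hαR : MulAut.congr γ α ∈ E.autGroup R := hSI.congr_mem_autGroup hT hPT hγ hα
  have hkR : orderOf (MulAut.congr γ α) = p ^ k := by
    rw [← hk]
    exact MulEquiv.orderOf_eq (MulAut.congr γ) α
  have h1 := trivExt_of_fullyNormalized hS F hF E hE hRT hRn hRc (MulAut.congr γ α) hαR k hkR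
  exact trivExt_transport hS F hF hRn γ hγ α h1

end Cfsg.Agent.Helper86.CE
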