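import Cfsg.Agent.Helper65.CEW9
import Cfsg.Agent.S5114

/-!
# A criterion for `E ⊆ C_F(X)` (helper86)
-/

set_option autoImplicit false

namespace Cfsg.Agent.Helper86.CE

open Cfsg Cfsg.FusionSystem Cfsg.Agent.Helper87 Cfsg.Agent.Helper65

variable {Ω : Type*} [Group Ω] {S : Subgroup Ω}

/-- `E ⊆ C_F(X)` as soon as the elements of `Aut_E(T)` and the `p`-elements of `Aut_E(P)`, `P` centric in `E`, extend
trivially on `X`. -/
theorem hom_subset_centralizerHom [Finite S] {p : ℕ} [Fact p.Prime] (hS : IsPGroup p S) (F : FusionSystem S)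
    {T : Subgroup Ω} (E : FusionSystem T) (hE : E.IsNormalIn F p) (X : Subgroup Ω)
    (hX : X ≤ centralizerIn S T)
    (hT : ∀ β ∈ E.autGroup T, ExtFix F X T (T.subtype.comp β.toMonoidHom))
    (hP : ∀ P : Subgroup Ω, E.IsCentric P → ∀ α ∈ E.autGroup P, (∃ k : ℕ, orderOf α = p ^ k) →
      ExtFix F X P (P.subtype.comp α.toMonoidHom)) :
    ∀ P : Subgroup Ω, E.Hom P ⊆ F.centralizerHom X P := by
  have hTS : T ≤ S := hE.1.2.2.2.1.1
  have hEF : E.IsSubsystemOf F := hE.1.2.2.1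
  have hEsat : E.IsSaturated p := hE.1.1
  have hTp : IsPGroup p T := hS.to_le hTS
  have : Finite T := finite_of_le hTS
  set D := cenSub F E X hTS hX with hD
  have hDE : D.IsSubsystemOf E := fun P φ hφ => hφ.1
  have h14 : ∀ P : Subgroup Ω, E.IsCentric P →
      (Subgroup.closure {α : ↥(E.autGroup P) | ∃ k : ℕ, orderOf α = p ^ k}).map (E.autGroup P).subtype ≤
        D.autGroup P := by
    intro P hPc
    rw [Subgroup.map_le_iff_le_comap, Subgroup.closure_le]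
    rintro α ⟨k, hk⟩
    show (α : MulAut P) ∈ D.autGroup P
    have hk' : orderOf (α : MulAut P) = p ^ k := by rw [Subgroup.orderOf_coe, hk]
    have h1 := hP P hPc α α.2 ⟨k, hk'⟩
    have hPT : P ≤ T := hPc.1
    rw [mem_autGroup_iff D hPT]
    exact ⟨(mem_autGroup_iff E hPT _).mp α.2, h1⟩
  obtain ⟨-, hfr, -⟩ := Cfsg.Agent.S5114.result p hTp E hEsat D hDE h14
  intro P φ hφ
  obtain ⟨α, hα, φ₀, hφ₀, hαφ⟩ := hfr P φ hφ
  have hφ₀T : ∀ x : P, φ₀ x ∈ T := (E.le_of_mem hφ₀.1).2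
  have hαD : T.subtype.comp (α : T ≃* T).toMonoidHom ∈ D.Hom T :=
    ⟨(mem_autGroup_iff E le_rfl α).mp hα, hT α hα⟩
  have hcomp := D.comp_mem hφ₀ hαD hφ₀T
  have hφD : φ ∈ D.Hom P := mem_of_eq D hcomp (fun x => hαφ x (hφ₀T x))
  obtain ⟨ψ, hψ, hψP, hψX⟩ := hφD.2
  have hPT : P ≤ T := (E.le_of_mem hφ).1
  have hcen : T ≤ centralizerIn S X := by
    intro t ht
    refine ⟨hTS ht, ?_⟩
    show t ∈ Subgroup.centralizer (X : Set Ω)
    rw [Subgroup.mem_centralizer_iff]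
    intro x hx
    have h2 : x ∈ Subgroup.centralizer (T : Set Ω) := (hX hx).2
    rw [Subgroup.mem_centralizer_iff] at h2
    exact (h2 t ht).symm
  refine ⟨hEF P hφ, hPT.trans hcen, fun x => hcen ((E.le_of_mem hφ).2 x), ψ, hψ, hψP, hψX⟩

end Cfsg.Agent.Helper86.CE
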