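import Cfsg.Agent.Helper86.CEDefs
import Cfsg.Agent.Helper88.FusionCentric

/-!
# The extension condition of a normal subsystem, as `TrivExt` (helper86)
-/

set_option autoImplicit false

namespace Cfsg.Agent.Helper86.CE

open Cfsg Cfsg.FusionSystem Cfsg.Agent.Helper87

variable {Ω : Type*} [Group Ω] {S : Subgroup Ω}

/-- The extension condition in the definition of a normal subsystem: every element of `Aut_E(T)` extends to
`T C_S(T)` trivially modulo `T`. -/
theorem trivExt_top {p : ℕ} (F : FusionSystem S) {T : Subgroup Ω} (E : FusionSystem T) (hE : E.IsNormalIn F p)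
    (β : MulAut T) (hβ : β ∈ E.autGroup T) : TrivExt F T (centralizerIn S T) β := by
  obtain ⟨b, hb, hbT, hbC⟩ := hE.2 β hβ
  have hTS : T ≤ S := hE.1.2.2.2.1.1
  have hle : T ⊔ centralizerIn S T ≤ S := sup_le hTS inf_le_left
  refine ⟨b, (mem_autGroup_iff F hle b).mp hb, hbT, fun c hc => ?_⟩
  exact (hbC c hc).1

end Cfsg.Agent.Helper86.CE
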