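-- helper86 for helper2 (S4284, class sizes {1, m, mn}): piece (B1) `caseB_sqfree`:
-- in Case B the number `m` is squarefree.
import Mathlib
import Cfsg.Agent.Helper2.CS2Defs
import Cfsg.Agent.Helper2.CS2Basic
import Cfsg.Agent.Helper80.CS2P0a
import Cfsg.Agent.Helper51.CS2P0b
import Cfsg.Agent.Helper37.CS2CG

set_option autoImplicit false
set_option linter.unusedVariables false
set_option linter.unusedSectionVars false

namespace Cfsg.Agent.Helper86.CS2
open Cfsg.Agent.Helper2.CS2 Subgroup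

variable {G : Type*} [Group G] [Finite G] {m n : ℕ}

/-- a `t`-element normalizing `C` inside `D ≥ C` but outside `C` forces `t ∣ |D : C|` -/
theorem prime_dvd_relIndex_of_normalizer {t : ℕ} (ht : t.Prime) (C D : Subgroup G) (hCD : C ≤ D)
    {g : G} (hgD : g ∈ D) (hgN : g ∈ normalizer (C : Set G)) (hgt : IsPElt t g) (hgC : g ∉ C) :
    t ∣ C.relIndex D := by
  have hHN : zpowers g ≤ normalizer (C : Set G) := (zpowers_le).2 hgN
  have hCN : C ≤ normalizer (C : Set G) := le_normalizer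
  have h1 : C.relIndex (C ⊔ zpowers g) = C.relIndex (zpowers g) := by
    have h2 := relIndex_sup_left (K := C.subgroupOf (normalizer (C : Set G)))
      (H := (zpowers g).subgroupOf (normalizer (C : Set G)))
    rw [← subgroupOf_sup hCN hHN, relIndex_subgroupOf (sup_le hCN hHN), relIndex_subgroupOf hHN] at h2
    exact h2
  have h3 : C.relIndex (zpowers g) ∣ Nat.card (zpowers g) := relIndex_dvd_card _ _
  obtain ⟨k, hk⟩ := hgt
  rw [Nat.card_zpowers, hk] at h3
  obtain ⟨j, -, hj⟩ := (Nat.dvd_prime_pow ht).1 h3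
  have hj0 : j ≠ 0 := by
    intro hj0
    rw [hj0, pow_zero, relIndex_eq_one] at hj
    exact hgC (hj (mem_zpowers g))
  have h4 : t ∣ C.relIndex (zpowers g) := by
    rw [hj]
    exact dvd_pow_self t hj0
  have h5 : C.relIndex (C ⊔ zpowers g) * (C ⊔ zpowers g).relIndex D = C.relIndex D :=
    relIndex_mul_relIndex _ _ _ le_sup_left (sup_le hCD ((zpowers_le).2 hgD))
  rw [← h5, h1]
  exact Dvd.dvd.mul_right h4 _

/-- a subgroup containing the center and a noncentral `t`-element has a Sylow `t`-subgroup bigger than the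
Sylow `t`-subgroup of the center -/
theorem card_inf_center_lt {t : ℕ} [Fact t.Prime] (K : Subgroup G) (hZK : center G ≤ K) {y : G}
    (hyK : y ∈ K) (hyt : IsPElt t y) (hyc : y ∉ center G) (Q : Sylow t K) (T : Sylow t G) :
    Nat.card ((T : Subgroup G) ⊓ center G : Subgroup G) < Nat.card Q := by
  haveI hnorm : ((T : Subgroup G) ⊓ center G).Normal := by
    constructor
    intro a ha b
    have h1 : b * a * b⁻¹ = a := by
      have h2 := (mem_center_iff.1 ha.2) b
      rw [h2, mul_inv_cancel_right]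
    rw [h1]
    exact ha
  have hZt : IsPGroup t ((T : Subgroup G) ⊓ center G : Subgroup G) := T.isPGroup'.to_le inf_le_left
  obtain ⟨k, hk⟩ := hyt
  have hy : IsPGroup t (zpowers y) := IsPGroup.of_card (n := k) (by rw [Nat.card_zpowers, hk])
  have hP : IsPGroup t (zpowers y ⊔ ((T : Subgroup G) ⊓ center G) : Subgroup G) :=
    hy.to_sup_of_normal_right hZt
  have hPK : zpowers y ⊔ ((T : Subgroup G) ⊓ center G) ≤ K :=
    sup_le ((zpowers_le).2 hyK) (inf_le_right.trans hZK)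
  have hlt : Nat.card ((T : Subgroup G) ⊓ center G : Subgroup G) <
      Nat.card (zpowers y ⊔ ((T : Subgroup G) ⊓ center G) : Subgroup G) := by
    have hle : (T : Subgroup G) ⊓ center G ≤ zpowers y ⊔ ((T : Subgroup G) ⊓ center G) := le_sup_right
    refine lt_of_le_of_ne (card_le_of_le hle) ?_
    intro heq
    have h3 := eq_of_le_of_card_ge hle (le_of_eq heq.symm)
    have h4 : y ∈ zpowers y ⊔ ((T : Subgroup G) ⊓ center G) := le_sup_left (a := zpowers y) (mem_zpowers y)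
    rw [← h3] at h4
    exact hyc h4.2
  obtain ⟨Q', hQ'⟩ := (hP.comap_subtype (K := K)).exists_le_sylow
  have h5 : Nat.card ((zpowers y ⊔ ((T : Subgroup G) ⊓ center G)).subgroupOf K) =
      Nat.card (zpowers y ⊔ ((T : Subgroup G) ⊓ center G) : Subgroup G) :=
    Nat.card_congr (subgroupOfEquivOfLe hPK).toEquiv
  have h6 : Nat.card Q' = Nat.card Q := by
    rw [Sylow.card_eq_multiplicity, Sylow.card_eq_multiplicity]
  have h7 : Nat.card ((zpowers y ⊔ ((T : Subgroup G) ⊓ center G)).subgroupOf K) ≤ Nat.card Q' :=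
    card_le_of_le hQ'
  omega

/-- an element of the second center of a Sylow `t`-subgroup, `t ∣ m` -/
theorem exists_second_center_elt (h : Hyp G m n) {t : ℕ} [Fact t.Prime] (htm : t ∣ m) (T : Sylow t G) :
    ∃ y ∈ (T : Subgroup G), y ∉ center G ∧ y ^ t ∈ center G ∧
      ∀ τ ∈ (T : Subgroup G), τ * y * τ⁻¹ * y⁻¹ ∈ center G := by
  have hcen : ∀ c : (T : Subgroup G), c ∈ center (T : Subgroup G) → (c : G) ∈ center G := by
    intro c hc
    apply Cfsg.Agent.Helper51.CS2.Hyp.sylow_center_le h htm T c.2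
    intro τ hτ
    have h1 := (mem_center_iff.1 hc) ⟨τ, hτ⟩
    exact congrArg Subtype.val h1
  have hne : center (T : Subgroup G) ≠ ⊤ := by
    intro htop
    have h1 : (T : Subgroup G) ≤ center G := by
      intro a ha
      exact hcen ⟨a, ha⟩ (by rw [htop]; exact mem_top _)
    have h2 := Cfsg.Agent.Helper51.CS2.Hyp.sq_mul_card_dvd h htm T
    rw [inf_eq_left.2 h1] at h2
    have hpos : 0 < Nat.card (T : Subgroup G) := Nat.card_pos
    have h3 := Nat.le_of_dvd hpos h2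
    have ht2 : 2 ≤ t := (Fact.out : t.Prime).two_le
    have h4 : 4 ≤ t ^ 2 := by nlinarith
    have h5 : 4 * Nat.card (T : Subgroup G) ≤ t ^ 2 * Nat.card (T : Subgroup G) :=
      Nat.mul_le_mul_right _ h4
    omega
  have : Nontrivial ((T : Subgroup G) ⧸ center (T : Subgroup G)) := by
    rw [QuotientGroup.nontrivial_iff]
    exact hne
  have hPQ : IsPGroup t ((T : Subgroup G) ⧸ center (T : Subgroup G)) :=
    T.isPGroup'.to_quotient _
  haveI := hPQ.center_nontrivial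
  have hPc : IsPGroup t (center ((T : Subgroup G) ⧸ center (T : Subgroup G))) := hPQ.to_subgroup _
  obtain ⟨k, hk⟩ := IsPGroup.iff_card.1 hPc
  have hk0 : k ≠ 0 := by
    intro hk0
    rw [hk0, pow_zero] at hk
    have := Finite.one_lt_card (α := center ((T : Subgroup G) ⧸ center (T : Subgroup G)))
    omega
  have hdvd : t ∣ Nat.card (center ((T : Subgroup G) ⧸ center (T : Subgroup G))) := by
    rw [hk]
    exact dvd_pow_self t hk0
  obtain ⟨ybar, hyb⟩ := exists_prime_orderOf_dvd_card' t hdvd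
  obtain ⟨y, hy⟩ := QuotientGroup.mk_surjective (ybar : (T : Subgroup G) ⧸ center (T : Subgroup G))
  have hyb1 : (ybar : (T : Subgroup G) ⧸ center (T : Subgroup G)) ≠ 1 := by
    intro h1
    have h2 : ybar = 1 := Subtype.ext h1
    rw [h2, orderOf_one] at hyb
    exact (Fact.out : t.Prime).one_lt.ne hyb
  have hybt : (ybar : (T : Subgroup G) ⧸ center (T : Subgroup G)) ^ t = 1 := by
    have h1 : ybar ^ t = 1 := by
      have h0 := pow_orderOf_eq_one ybar
      rwa [hyb] at h0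
    have h2 := congrArg Subtype.val h1
    simpa using h2
  refine ⟨(y : G), y.2, ?_, ?_, ?_⟩
  · intro hyc
    apply hyb1
    rw [← hy, QuotientGroup.eq_one_iff, mem_center_iff]
    intro g
    apply Subtype.ext
    exact (mem_center_iff.1 hyc) (g : G)
  · have h1 : y ^ t ∈ center (T : Subgroup G) := by
      rw [← QuotientGroup.eq_one_iff, QuotientGroup.mk_pow, hy]
      exact hybt
    exact hcen _ h1
  · intro τ hτ
    have h1 : (⟨τ, hτ⟩ : (T : Subgroup G)) * y * (⟨τ, hτ⟩ : (T : Subgroup G))⁻¹ * y⁻¹ ∈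
        center (T : Subgroup G) := by
      rw [← QuotientGroup.eq_one_iff, QuotientGroup.mk_mul, QuotientGroup.mk_mul, QuotientGroup.mk_mul,
        QuotientGroup.mk_inv, QuotientGroup.mk_inv, hy]
      have h2 := (mem_center_iff.1 ybar.2) (QuotientGroup.mk (⟨τ, hτ⟩ : (T : Subgroup G)))
      rw [h2, mul_inv_cancel_right, mul_inv_cancel]
    exact hcen _ h1

theorem isPElt_of_mem_sylow {t : ℕ} [Fact t.Prime] (T : Sylow t G) {y : G} (hy : y ∈ (T : Subgroup G)) :
    IsPElt t y := by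
  obtain ⟨k, hk⟩ := T.isPGroup' ⟨y, hy⟩
  have h1 : y ^ t ^ k = 1 := by
    have := congrArg Subtype.val hk
    simpa using this
  obtain ⟨j, -, hj⟩ := (Nat.dvd_prime_pow (Fact.out : t.Prime)).1 (orderOf_dvd_of_pow_eq_one h1)
  exact ⟨j, hj⟩

theorem card_subgroupOf_eq_card_inf (H K : Subgroup G) :
    Nat.card (H.subgroupOf K) = Nat.card (H ⊓ K : Subgroup G) := by
  rw [← inf_subgroupOf_right]
  exact Nat.card_congr (subgroupOfEquivOfLe (inf_le_right : H ⊓ K ≤ K)).toEquiv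

theorem orderOf_conj' (a b : G) : orderOf (a * b * a⁻¹) = orderOf b := by
  have h := orderOf_injective (MulAut.conj a).toMonoidHom (MulAut.conj a).injective b
  simpa using h

theorem factorization_mul_of_not_dvd (h : Hyp G m n) {t : ℕ} (ht : t.Prime) (htm : t ∣ m) :
    (m * n).factorization t = m.factorization t := by
  have htn : ¬ t ∣ n := fun htn => ht.one_lt.ne' (Nat.eq_one_of_dvd_coprimes h.cop htm htn)
  rw [Nat.factorization_mul h.m_pos.ne' h.n_pos.ne', Finsupp.add_apply,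
    Nat.factorization_eq_zero_of_not_dvd htn, add_zero]

/-- (B1) in Case B, m is squarefree. -/
theorem caseB_sqfree (h : Hyp G m n) (hB : CaseB G m) {t : ℕ} (ht : t.Prime) (htm : t ∣ m) :
    m.factorization t = 1 := by
  by_contra hne
  haveI : Fact t.Prime := ⟨ht⟩
  have hm0 : m ≠ 0 := h.m_pos.ne'
  have hv1 : 0 < m.factorization t := ht.factorization_pos_of_dvd hm0 htm
  have hv2 : 2 ≤ m.factorization t := by omega
  have htn : ¬ t ∣ n := fun htn => ht.one_lt.ne' (Nat.eq_one_of_dvd_coprimes h.cop htm htn)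
  have hfac : (m * n).factorization t = m.factorization t := factorization_mul_of_not_dvd h ht htm
  obtain ⟨T⟩ : Nonempty (Sylow t G) := inferInstance
  obtain ⟨y2, hy2T, hy2c, hy2t, hy2comm⟩ := exists_second_center_elt h htm T
  have hy2elt : IsPElt t y2 := isPElt_of_mem_sylow T hy2T
  have hy2idx : idx y2 = m * n := Cfsg.Agent.Helper80.CS2.CaseB.idx_eq h hB ht htm hy2elt hy2c
  -- the commutator homomorphism
  obtain ⟨χ, hχ⟩ : ∃ χ : (T : Subgroup G) →* G, ∀ τ, χ τ = (τ : G) * y2 * (τ : G)⁻¹ * y2⁻¹ := by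
    refine ⟨MonoidHom.mk' (fun τ => (τ : G) * y2 * (τ : G)⁻¹ * y2⁻¹) ?_, fun τ => rfl⟩
    intro σ τ
    show ((σ * τ : (T : Subgroup G)) : G) * y2 * ((σ * τ : (T : Subgroup G)) : G)⁻¹ * y2⁻¹ =
      ((σ : G) * y2 * (σ : G)⁻¹ * y2⁻¹) * ((τ : G) * y2 * (τ : G)⁻¹ * y2⁻¹)
    rw [Subgroup.coe_mul]
    have hc := mem_center_iff.1 (hy2comm τ τ.2)
    obtain ⟨c, hcdef⟩ : ∃ c, c = (τ : G) * y2 * (τ : G)⁻¹ * y2⁻¹ := ⟨_, rfl⟩
    rw [← hcdef] at hc ⊢
    calc (σ : G) * τ * y2 * ((σ : G) * τ)⁻¹ * y2⁻¹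
        = (σ : G) * ((τ : G) * y2 * (τ : G)⁻¹ * y2⁻¹) * (y2 * (σ : G)⁻¹ * y2⁻¹) := by group
      _ = (σ : G) * c * (y2 * (σ : G)⁻¹ * y2⁻¹) := by rw [hcdef]
      _ = c * (σ : G) * (y2 * (σ : G)⁻¹ * y2⁻¹) := by rw [hc (σ : G)]
      _ = c * ((σ : G) * y2 * (σ : G)⁻¹ * y2⁻¹) := by group
      _ = ((σ : G) * y2 * (σ : G)⁻¹ * y2⁻¹) * c := (hc _).symm
  have hχc : ∀ τ, χ τ ∈ center G := by
    intro τ
    rw [hχ]
    exact hy2comm τ τ.2
  have hχker : ∀ τ : (T : Subgroup G), χ τ = 1 ↔ (τ : G) ∈ Cn y2 := by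
    intro τ
    rw [hχ, mem_Cn_iff]
    constructor
    · intro h1
      have h2 : (τ : G) * y2 = ((τ : G) * y2 * (τ : G)⁻¹ * y2⁻¹) * y2 * τ := by group
      rw [h2, h1, one_mul]
    · intro h1
      calc (τ : G) * y2 * (τ : G)⁻¹ * y2⁻¹ = ((τ : G) * y2) * (τ : G)⁻¹ * y2⁻¹ := by group
        _ = (y2 * (τ : G)) * (τ : G)⁻¹ * y2⁻¹ := by rw [h1]
        _ = 1 := by group
  have hχpow : ∀ τ : (T : Subgroup G), χ τ ^ t = 1 := by
    intro τ
    have hc := mem_center_iff.1 (hχc τ)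
    have h1 : (τ : G) * y2 * (τ : G)⁻¹ = χ τ * y2 := by rw [hχ]; group
    have h2 : ((τ : G) * y2 * (τ : G)⁻¹) ^ t = (τ : G) * y2 ^ t * (τ : G)⁻¹ := conj_pow
    have h3 : (χ τ * y2) ^ t = χ τ ^ t * y2 ^ t := Commute.mul_pow (hc y2).symm t
    have h4 : (τ : G) * y2 ^ t * (τ : G)⁻¹ = y2 ^ t := by
      have h5 := mem_center_iff.1 hy2t (τ : G)
      rw [h5, mul_inv_cancel_right]
    rw [h1, h3, h4] at h2
    exact mul_right_cancel (h2.trans (one_mul _).symm)
  -- T normalizes C(y2)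
  have hnormC : ∀ τ ∈ (T : Subgroup G), ∀ a ∈ Cn y2, τ * a * τ⁻¹ ∈ Cn y2 := by
    intro τ hτ a ha
    rw [mem_Cn_iff] at ha ⊢
    have hc := mem_center_iff.1 (hy2comm τ⁻¹ (inv_mem hτ))
    obtain ⟨c, hcdef⟩ : ∃ c, c = τ⁻¹ * y2 * τ⁻¹⁻¹ * y2⁻¹ := ⟨_, rfl⟩
    rw [← hcdef] at hc
    have hw : τ⁻¹ * y2 * τ = c * y2 := by rw [hcdef]; group
    have haw : a * (τ⁻¹ * y2 * τ) = (τ⁻¹ * y2 * τ) * a := by
      rw [hw]
      calc a * (c * y2) = (a * c) * y2 := (mul_assoc _ _ _).symm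
        _ = c * a * y2 := by rw [hc a]
        _ = c * (y2 * a) := by rw [mul_assoc, ha]
        _ = c * y2 * a := (mul_assoc _ _ _).symm
    calc τ * a * τ⁻¹ * y2 = τ * (a * (τ⁻¹ * y2 * τ)) * τ⁻¹ := by group
      _ = τ * ((τ⁻¹ * y2 * τ) * a) * τ⁻¹ := by rw [haw]
      _ = y2 * (τ * a * τ⁻¹) := by group
  have hnorm : ∀ τ ∈ (T : Subgroup G), τ ∈ normalizer (Cn y2 : Set G) := by
    intro τ hτ
    rw [mem_normalizer_iff]
    intro a
    constructor
    · exact hnormC τ hτ a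
    · intro ha
      have h1 := hnormC τ⁻¹ (inv_mem hτ) _ ha
      have h2 : τ⁻¹ * (τ * a * τ⁻¹) * τ⁻¹⁻¹ = a := by group
      rwa [h2] at h1
  -- the size of the range of χ
  have hker : χ.ker = (Cn y2).subgroupOf (T : Subgroup G) := by
    ext τ
    rw [MonoidHom.mem_ker, mem_subgroupOf]
    exact hχker τ
  have hcard1 : Nat.card χ.ker * Nat.card χ.range = Nat.card (T : Subgroup G) := by
    rw [← index_ker]
    exact card_mul_index _
  obtain ⟨Q', hQ'⟩ := (T.isPGroup'.comap_subtype (K := Cn y2)).exists_le_sylow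
  have hcard2 : Nat.card χ.ker ≤ Nat.card Q' := by
    rw [hker, card_subgroupOf_eq_card_inf, inf_comm, ← card_subgroupOf_eq_card_inf]
    exact card_le_of_le hQ'
  have hcard3 : Nat.card Q' * t ^ m.factorization t = Nat.card (T : Subgroup G) := by
    have := Cfsg.Agent.Helper51.CS2.card_sylow_Cn y2 Q' T
    rwa [hy2idx, hfac] at this
  have hrange : t ^ 2 ≤ Nat.card χ.range := by
    have hQpos : 0 < Nat.card Q' := Nat.card_pos
    have h1 : Nat.card Q' * t ^ m.factorization t ≤ Nat.card Q' * Nat.card χ.range := by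
      rw [hcard3, ← hcard1]
      exact Nat.mul_le_mul_right _ hcard2
    have h2 : t ^ m.factorization t ≤ Nat.card χ.range := Nat.le_of_mul_le_mul_left h1 hQpos
    exact (Nat.pow_le_pow_right ht.pos hv2).trans h2
  have ht2 : 2 ≤ t := ht.two_le
  -- the two elements
  obtain ⟨e₁, he₁r, he₁1⟩ : ∃ e₁ ∈ χ.range, e₁ ≠ 1 := by
    by_contra hcon
    push Not at hcon
    have h1 : χ.range = ⊥ := (eq_bot_iff_forall _).2 hcon
    rw [h1, card_bot] at hrange
    nlinarith
  obtain ⟨hh, hhe⟩ := he₁r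
  have he₁ord : orderOf e₁ = t := by
    apply orderOf_eq_prime _ he₁1
    rw [← hhe]
    exact hχpow hh
  obtain ⟨e₂, he₂r, he₂z⟩ : ∃ e₂ ∈ χ.range, e₂ ∉ zpowers e₁ := by
    have hle : zpowers e₁ ≤ χ.range := (zpowers_le).2 ⟨hh, hhe⟩
    have hne' : zpowers e₁ ≠ χ.range := by
      intro heq
      have h1 : Nat.card (zpowers e₁) = t := by rw [Nat.card_zpowers, he₁ord]
      rw [heq] at h1
      rw [h1] at hrange
      nlinarith
    exact SetLike.exists_of_lt (lt_of_le_of_ne hle hne')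
  obtain ⟨gg, hge⟩ := he₂r
  -- the subgroup B of t'-elements of C(y2)
  obtain ⟨ky, hky⟩ := hy2elt
  have hmaxu : ∀ u ∈ Cn y2, (orderOf u).Coprime t → Cn y2 ≤ Cn u := by
    intro u hu hcop
    apply h.max hy2idx
    · exact (mem_Cn_iff.1 hu).symm
    · rw [hky]
      exact Nat.Coprime.pow_left ky hcop.symm
  obtain ⟨B, hBmem⟩ : ∃ B : Subgroup G, ∀ u, u ∈ B ↔ (u ∈ Cn y2 ∧ (orderOf u).Coprime t) := by
    refine ⟨{ carrier := {u | u ∈ Cn y2 ∧ (orderOf u).Coprime t}
              mul_mem' := ?_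
              one_mem' := ?_
              inv_mem' := ?_ }, fun u => Iff.rfl⟩
    · rintro u w ⟨hu, hucop⟩ ⟨hw, hwcop⟩
      refine ⟨mul_mem hu hw, ?_⟩
      have hcomm : Commute u w := (mem_Cn_iff.1 (hmaxu u hu hucop hw)).symm
      have h1 : orderOf (u * w) ∣ orderOf u * orderOf w :=
        (hcomm.orderOf_mul_dvd_lcm).trans (Nat.lcm_dvd_mul _ _)
      exact Nat.Coprime.coprime_dvd_left h1 (Nat.Coprime.mul_left hucop hwcop)
    · exact ⟨one_mem _, by rw [orderOf_one]; exact Nat.coprime_one_left t⟩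
    · rintro u ⟨hu, hucop⟩
      exact ⟨inv_mem hu, by rw [orderOf_inv]; exact hucop⟩
  have hBmax : ∀ u ∈ B, Cn y2 ≤ Cn u := fun u hu => hmaxu u ((hBmem u).1 hu).1 ((hBmem u).1 hu).2
  -- the claim
  have hclaim : ∀ τ : (T : Subgroup G), χ τ ≠ 1 → ∀ b ∈ B, (τ : G) * b = b * τ → b ∈ center G := by
    intro τ hτ b hb hcomm
    by_contra hbc
    have hτb : (τ : G) ∈ Cn b := mem_Cn_iff.2 hcomm
    obtain ⟨hbC, hbcop⟩ := (hBmem b).1 hb
    rcases h.idx_of_not_mem_center hbc with hbm | hbmn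
    · have hCD : Cn y2 ≤ Cn b := hBmax b hb
      have h1 : (Cn y2).relIndex (Cn b) * idx b = idx y2 := relIndex_mul_index hCD
      rw [hbm, hy2idx, mul_comm] at h1
      have h2 : (Cn y2).relIndex (Cn b) = n := Nat.eq_of_mul_eq_mul_left h.m_pos h1
      have h3 : (τ : G) ∉ Cn y2 := fun h4 => hτ ((hχker τ).2 h4)
      have h5 := prime_dvd_relIndex_of_normalizer ht (Cn y2) (Cn b) hCD hτb (hnorm τ τ.2)
        (isPElt_of_mem_sylow T τ.2) h3
      rw [h2] at h5
      exact htn h5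
    · have h1 : Cn b ≤ Cn y2 := by
        apply h.max hbmn
        · exact mem_Cn_iff.1 hbC
        · rw [hky]
          exact (Nat.Coprime.pow_left ky hbcop.symm).symm
      exact hτ ((hχker τ).2 (h1 hτb))
  -- coprime generation
  have hBle : B ≤ center G := by
    apply Cfsg.Agent.Helper37.CS2.coprime_generation' (p := t) B _ _ (gg : G) (hh : G)
    · intro b hb
      rw [hBmem]
      refine ⟨hnormC _ gg.2 b ((hBmem b).1 hb).1, ?_⟩
      rw [orderOf_conj']
      exact ((hBmem b).1 hb).2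
    · intro b hb
      rw [hBmem]
      refine ⟨hnormC _ hh.2 b ((hBmem b).1 hb).1, ?_⟩
      rw [orderOf_conj']
      exact ((hBmem b).1 hb).2
    · intro b hb
      have h1 : ((gg ^ t : (T : Subgroup G)) : G) ∈ Cn y2 := by
        rw [← hχker, map_pow]
        exact hχpow gg
      rw [Subgroup.coe_pow] at h1
      exact mem_Cn_iff.1 (hBmax b hb h1)
    · intro b hb
      have h1 : ((hh ^ t : (T : Subgroup G)) : G) ∈ Cn y2 := by
        rw [← hχker, map_pow]
        exact hχpow hh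
      rw [Subgroup.coe_pow] at h1
      exact mem_Cn_iff.1 (hBmax b hb h1)
    · intro b hb
      have h1 : ((gg * hh * gg⁻¹ * hh⁻¹ : (T : Subgroup G)) : G) ∈ Cn y2 := by
        rw [← hχker, map_mul, map_mul, map_mul, map_inv, map_inv]
        have hc := mem_center_iff.1 (hχc hh) (χ gg)
        rw [hc, mul_inv_cancel_right, mul_inv_cancel]
      have h2 : ((gg * hh * gg⁻¹ * hh⁻¹ : (T : Subgroup G)) : G) = (gg : G) * hh * (gg : G)⁻¹ * (hh : G)⁻¹ := by
        simp
      rw [h2] at h1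
      exact mem_Cn_iff.1 (hBmax b hb h1)
    · intro b hb hcomm
      exact hclaim hh (by rw [hhe]; exact he₁1) b hb hcomm
    · intro i b hb hcomm
      have h1 : ((gg * hh ^ i : (T : Subgroup G)) : G) = (gg : G) * (hh : G) ^ i := by simp
      refine hclaim (gg * hh ^ i) ?_ b hb (by rw [h1]; exact hcomm)
      rw [map_mul, map_pow, hge, hhe]
      intro h2
      apply he₂z
      have h3 : e₂ = (e₁ ^ i)⁻¹ := eq_inv_of_mul_eq_one_left h2
      rw [h3]
      exact inv_mem (pow_mem (mem_zpowers e₁) i)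
    · intro a ha b hb
      exact (mem_Cn_iff.1 (hBmax a ha ((hBmem b).1 hb).1)).symm
    · intro hdvd
      obtain ⟨x, hx⟩ := exists_prime_orderOf_dvd_card' t hdvd
      have h1 : orderOf (x : G) = t := by rw [Subgroup.orderOf_coe]; exact hx
      have h2 := ((hBmem x).1 x.2).2
      rw [h1, Nat.coprime_self] at h2
      exact ht.one_lt.ne' h2
  -- but B contains a noncentral element
  obtain ⟨r, x, hr, hrm, hxelt, hxidx⟩ := Cfsg.Agent.Helper80.CS2.CaseB.exists_good h hB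
  haveI : Fact r.Prime := ⟨hr⟩
  have hrt : r ≠ t := fun hrt => hrm (hrt ▸ htm)
  have hxc : x ∉ center G := by
    intro hxc
    rw [← idx_eq_one_iff, hxidx] at hxc
    exact h.one_lt_m.ne' hxc
  obtain ⟨Q2⟩ : Nonempty (Sylow t (Cn y2)) := inferInstance
  obtain ⟨Qx⟩ : Nonempty (Sylow t (Cn x)) := inferInstance
  have hc1 := Cfsg.Agent.Helper51.CS2.card_sylow_Cn y2 Q2 T
  have hc2 := Cfsg.Agent.Helper51.CS2.card_sylow_Cn x Qx T
  rw [hy2idx, hfac] at hc1
  rw [hxidx] at hc2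
  have hc3 : Nat.card Q2 = Nat.card Qx := by
    have hpos : 0 < t ^ m.factorization t := pow_pos ht.pos _
    exact Nat.eq_of_mul_eq_mul_right hpos (hc1.trans hc2.symm)
  have hc4 := card_inf_center_lt (Cn y2) (center_le_Cn y2) (self_mem_Cn y2) ⟨ky, hky⟩ hy2c Q2 T
  rw [hc3] at hc4
  obtain ⟨y, hyx, hyelt, hyc⟩ := Cfsg.Agent.Helper51.CS2.exists_pElt_of_card_lt (Cn x) Qx T hc4
  have hyidx : idx y = m * n := Cfsg.Agent.Helper80.CS2.CaseB.idx_eq h hB ht htm hyelt hyc
  obtain ⟨R⟩ : Nonempty (Sylow r G) := inferInstance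
  obtain ⟨Qy⟩ : Nonempty (Sylow r (Cn y)) := inferInstance
  obtain ⟨Q2'⟩ : Nonempty (Sylow r (Cn y2)) := inferInstance
  have hd1 := Cfsg.Agent.Helper51.CS2.card_sylow_Cn y Qy R
  have hd2 := Cfsg.Agent.Helper51.CS2.card_sylow_Cn y2 Q2' R
  rw [hyidx] at hd1
  rw [hy2idx] at hd2
  have hd3 : Nat.card Qy = Nat.card Q2' := by
    have hpos : 0 < r ^ (m * n).factorization r := pow_pos hr.pos _
    exact Nat.eq_of_mul_eq_mul_right hpos (hd1.trans hd2.symm)
  have hxy : x ∈ Cn y := mem_Cn_iff.2 (mem_Cn_iff.1 hyx).symm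
  have hd4 := card_inf_center_lt (Cn y) (center_le_Cn y) hxy hxelt hxc Qy R
  rw [hd3] at hd4
  obtain ⟨b, hbC, hbelt, hbc⟩ := Cfsg.Agent.Helper51.CS2.exists_pElt_of_card_lt (Cn y2) Q2' R hd4
  apply hbc
  apply hBle
  rw [hBmem]
  refine ⟨hbC, ?_⟩
  obtain ⟨kb, hkb⟩ := hbelt
  rw [hkb]
  exact Nat.Coprime.pow_left kb ((Nat.coprime_primes hr ht).2 hrt)

end Cfsg.Agent.Helper86.CS2
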