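import Cfsg.Agent.Helper36.FieldFixMain

/-!
helper86: piece (A) of helper19's S2210 plan (board #6716): the field automorphism `σ` behind a field
automorphism `φ` of prime order `r` of a Chevalley group has order `r` too.
(Extracted from the first lines of `Cfsg.Agent.Helper36.FieldFix.fixed_points`.)
-/

set_option autoImplicit false

namespace Cfsg.Agent.Helper86.FAut

open Cfsg Cfsg.Lie Cfsg.Agent.Helper36.BaseChange Cfsg.Agent.Helper36.FieldFix
  Cfsg.Agent.Helper40.ChevAdd Cfsg.Agent.Helper36.Perfect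

section

variable {F : Type*} [Field F] (D : ChevalleyDatum)
  (hD : D ∈ [chevG2, chevB2, chevD4, chevF4, chevE6, chevE7, chevE8])

include hD in
/-- (A) the field automorphism behind `φ` has the same (prime) order -/
theorem exists_sigma [Fintype F] (φ : MulAut ↥(D.group F)) (hφ : D.IsFieldAut φ) (r : ℕ) (hr : r.Prime)
    (ho : orderOf φ = r) : ∃ σ : F ≃+* F, ActsBy D φ σ ∧ orderOf σ = r := by
  have hadd := addOK_of_mem hD
  have h0 : 0 < D.nroots := by
    simp only [List.mem_cons, List.not_mem_nil, or_false] at hD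
    rcases hD with rfl | rfl | rfl | rfl | rfl | rfl | rfl <;> decide
  obtain ⟨σ, hσ⟩ := hφ
  have hact : ActsBy D φ σ := hσ
  have hinj : ∀ τ : F ≃+* F, ∀ ψ : MulAut ↥(D.group F), ActsBy D ψ τ → ψ = 1 → τ = 1 := by
    intro τ ψ h h1
    apply RingEquiv.ext
    intro t
    have := h ⟨xGL D hadd F 0 t, xGL_mem D hadd 0 t⟩ 0 t h0 rfl
    rw [h1] at this
    exact (Cfsg.Agent.Helper18.x_injective D hD 0 h0 _ _ this).symm
  have hσr : σ ^ r = 1 := by
    apply hinj _ _ (actsBy_pow D hact r)
    rw [← ho]
    exact pow_orderOf_eq_one φ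
  have hσ1 : σ ≠ 1 := by
    intro h1
    have : φ = 1 := by
      apply MulEquiv.ext
      intro g
      apply Subtype.ext
      rw [eq_bc_of_actsBy D hact g, h1]
      apply Units.ext
      rw [coe_bc]
      ext i j
      simp
    rw [this, orderOf_one] at ho
    exact hr.one_lt.ne' ho.symm
  have hoσ : orderOf σ = r := by
    have : Fact r.Prime := ⟨hr⟩
    exact orderOf_eq_prime hσr hσ1
  exact ⟨σ, hact, hoσ⟩

end

end Cfsg.Agent.Helper86.FAut
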