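import Cfsg.Agent.Helper86.QdModel
import Cfsg.Agent.Helper87.FusionInduct
import Cfsg.Agent.Helper87.FusionExtend
import Cfsg.Agent.Helper88.NormalizerSys
set_option autoImplicit false

/-! # The chain argument for a positive characteristic functor (helper86)

`F` is a saturated system over the finite `p`-group `S` and `W` a functor on finite `p`-groups, nontrivial on nontrivial
groups and invariant under isomorphisms. Assume that for every nontrivial fully normalized `R'` the subgroup `W(N_S(R'))`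
is normal in the normalizer system of `R'`. Then every map of `F` is a map of the normalizer system of `W(S)`. -/

namespace Cfsg.Agent.Helper86.FusChain

open Cfsg Cfsg.FusionSystem Cfsg.Agent.Helper87 Cfsg.Agent.Helper51.FusWC

universe u

section basic

variable {Ω : Type*} [Group Ω]

/-- An injective homomorphism carrying the finite subgroup `Q ≤ B` into itself carries it onto itself. -/
theorem map_subgroupOf_eq_of_forall_mem {B Q : Subgroup Ω} [Finite Q] (hQB : Q ≤ B) (ψ : B →* Ω)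
    (hinj : Function.Injective ψ) (h : ∀ x : B, (x : Ω) ∈ Q → ψ x ∈ Q) : (Q.subgroupOf B).map ψ = Q := by
  rw [Helper85.map_subgroupOf_eq_iff]
  refine ⟨h, fun y hy => ?_⟩
  let f : Q → Q := fun q => ⟨ψ (Subgroup.inclusion hQB q), h _ q.2⟩
  have hf : Function.Injective f := by
    intro a b hab
    have h1 : ψ (Subgroup.inclusion hQB a) = ψ (Subgroup.inclusion hQB b) := congrArg Subtype.val hab
    exact Subgroup.inclusion_injective hQB (hinj h1)
  obtain ⟨q, hq⟩ := (Finite.injective_iff_surjective.mp hf) ⟨y, hy⟩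
  exact ⟨Subgroup.inclusion hQB q, q.2, congrArg Subtype.val hq⟩

end basic

variable {Ω : Type u} [Group Ω] {S : Subgroup Ω} {p : ℕ} [Fact p.Prime]

/-- **The chain lemma.** -/
theorem chain [Finite S] (hS : IsPGroup p S) (W : ∀ (Q : Type u) [Group Q], Subgroup Q)
    (hW1 : ∀ (Q : Type u) [Group Q] [Finite Q], IsPGroup p Q → Nontrivial Q → W Q ≠ ⊥)
    (hW2 : ∀ (Q R : Type u) [Group Q] [Group R] [Finite Q], IsPGroup p Q → ∀ φ : Q ≃* R,
      (W Q).map φ.toMonoidHom = W R)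
    (F E : FusionSystem S) (hF : F.IsSaturated p)
    (hH : ∀ R' : Subgroup Ω, R' ≠ ⊥ → F.IsFullyNormalized R' →
      ∀ N : FusionSystem (normalizerIn S R'), F.IsNormalizerSystem R' N → N.IsNormal (Wf W (normalizerIn S R')))
    (hEtop : ∀ (B : Subgroup Ω) (ψ : B →* Ω), Wf W S ≤ B → ψ ∈ F.Hom B →
      ((Wf W S).subgroupOf B).map ψ = Wf W S → ψ ∈ E.Hom B)
    (c : ℕ) (hbig : ∀ (N : Subgroup Ω) (ψ : N →* Ω), c < Nat.card N → ψ ∈ F.Hom N → ψ ∈ E.Hom N) :
    ∀ (n : ℕ) (R₂ : Subgroup Ω), Nat.card S - Nat.card (normalizerIn S R₂) = n → R₂ ≤ S → R₂ ≠ ⊥ →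
      c < Nat.card (normalizerIn S R₂) →
      ∀ (B : Subgroup Ω) (ψ : B →* Ω), R₂ ≤ B → B ≤ normalizerIn S R₂ → ψ ∈ F.Hom B →
        (R₂.subgroupOf B).map ψ = R₂ → ψ ∈ E.Hom B := by
  intro n
  induction n using Nat.strong_induction_on with
  | _ n ih =>
  intro R₂ hn hR₂S hR₂ne hc B ψ hRB hBN hψ hψR
  -- a fully normalized conjugate `R₃` of `R₂`
  obtain ⟨R₃, hconj, hR₃fn⟩ := exists_isConj_fullyNormalized F hR₂S
  obtain ⟨hR₃fc, hR₃fa⟩ := fullyAutomized_fullyCentralized_of_fullyNormalized hS F hF hR₃fn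
  have hR₃rec := receptive_of_fullyCentralized hS F hF hR₃fc
  have hR₃S : R₃ ≤ S := hR₃fn.1
  have hfinR₃ : Finite R₃ := finite_of_le hR₃S
  obtain ⟨e, he⟩ := (isConj_iff F R₂ R₃).mp hconj
  obtain ⟨χ, hχ, e', he', hχe, hχN, -, hχrefl⟩ := exists_extension_normalizerIn' hS F hR₃fa hR₃rec e he
  have hχE : χ ∈ E.Hom (normalizerIn S R₂) := hbig _ χ hc hχ
  have hR₂T : R₂ ≤ normalizerIn S R₂ := le_normalizerIn hR₂S
  have hχe' : ∀ (x : Ω) (hx : x ∈ R₂) (hx' : x ∈ normalizerIn S R₂), χ ⟨x, hx'⟩ = e' ⟨x, hx⟩ :=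
    fun x hx hx' => hχe ⟨x, hx⟩
  -- `ψ` takes values in `N_S(R₂)`
  have hψN := mem_normalizerHom_of_le F hRB hBN hψ hψR
  have hψval : ∀ x : B, ψ x ∈ normalizerIn S R₂ := hψN.2.2.1
  have hC : ψ.range ≤ normalizerIn S R₂ := by
    rintro _ ⟨x, rfl⟩
    exact hψval x
  obtain ⟨hψin, -⟩ := (Helper85.map_subgroupOf_eq_iff ψ).mp hψR
  -- transport through `χ`
  have hχBF := restrict_mem F hχ hBN
  have hχBE := restrict_mem E hχE hBN
  have hχCF := restrict_mem F hχ hC
  have hχCE := restrict_mem E hχE hC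
  have heBF := isIso_ofInjective F hχBF
  have heBE := isIso_ofInjective E hχBE
  have heCF := isIso_ofInjective F hχCF
  have heCE := isIso_ofInjective E hχCE
  have hψiF := isIso_ofInjective F hψ
  set eB := MonoidHom.ofInjective (F.injective_of_mem hχBF) with heB_def
  set eC := MonoidHom.ofInjective (F.injective_of_mem hχCF) with heC_def
  set ψi := MonoidHom.ofInjective (F.injective_of_mem hψ) with hψi_def
  have heB_apply : ∀ b : B, ((eB b : (χ.comp (Subgroup.inclusion hBN)).range) : Ω) = χ ⟨b, hBN b.2⟩ := fun b => rfl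
  have heC_apply : ∀ y : ψ.range, ((eC y : (χ.comp (Subgroup.inclusion hC)).range) : Ω) = χ ⟨y, hC y.2⟩ :=
    fun y => rfl
  have hψi_apply : ∀ b : B, ((ψi b : ψ.range) : Ω) = ψ b := fun b => rfl
  have hψ'F : IsIso F (eB.symm.trans (ψi.trans eC)) := heBF.symm.trans (hψiF.trans heCF)
  -- the images
  have hR₃B' : R₃ ≤ (χ.comp (Subgroup.inclusion hBN)).range := by
    intro y hy
    refine ⟨⟨(e'.symm ⟨y, hy⟩ : R₂), hRB (e'.symm ⟨y, hy⟩).2⟩, ?_⟩
    show χ ⟨(e'.symm ⟨y, hy⟩ : R₂), _⟩ = y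
    rw [hχe' _ (e'.symm ⟨y, hy⟩).2]
    simp
  have hB'N : (χ.comp (Subgroup.inclusion hBN)).range ≤ normalizerIn S R₃ := by
    rintro _ ⟨x, rfl⟩
    exact hχN _
  have hψ'in : ∀ x : (χ.comp (Subgroup.inclusion hBN)).range, (x : Ω) ∈ R₃ →
      ((χ.comp (Subgroup.inclusion hC)).range.subtype.comp (eB.symm.trans (ψi.trans eC)).toMonoidHom) x ∈ R₃ := by
    intro x hx
    have h1 : χ ⟨(eB.symm x : B), hBN (eB.symm x).2⟩ = x := by
      rw [← heB_apply, MulEquiv.apply_symm_apply]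
    have h2 : ((eB.symm x : B) : Ω) ∈ R₂ := by
      apply hχrefl ⟨(eB.symm x : B), hBN (eB.symm x).2⟩
      rw [h1]; exact hx
    have h3 : ψ (eB.symm x) ∈ R₂ := hψin _ h2
    show ((eC (ψi (eB.symm x)) : (χ.comp (Subgroup.inclusion hC)).range) : Ω) ∈ R₃
    rw [heC_apply]
    have h4 : χ ⟨((ψi (eB.symm x) : ψ.range) : Ω), hC (ψi (eB.symm x)).2⟩ = e' ⟨ψ (eB.symm x), h3⟩ :=
      hχe' _ h3 _
    rw [h4]
    exact (e' _).2
  have hψ'R := map_subgroupOf_eq_of_forall_mem hR₃B' _ (F.injective_of_mem hψ'F) hψ'in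
  have hψ'N := mem_normalizerHom_of_le F hR₃B' hB'N hψ'F hψ'R
  obtain ⟨N₃, hN₃⟩ := Cfsg.Agent.S5096.result F R₃ hR₃S
  have hR₃ne : R₃ ≠ ⊥ := by
    intro h
    apply hR₂ne
    rw [Subgroup.eq_bot_iff_forall]
    intro x hx
    have h1 : ((e ⟨x, hx⟩ : R₃) : Ω) ∈ (⊥ : Subgroup Ω) := (le_of_eq h) (e ⟨x, hx⟩).2
    have h2 : e ⟨x, hx⟩ = 1 := Subtype.ext (Subgroup.mem_bot.mp h1)
    have h3 : (⟨x, hx⟩ : R₂) = 1 := e.injective (h2.trans (map_one e).symm)
    exact congrArg Subtype.val h3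
  have hN₃W := hH R₃ hR₃ne hR₃fn N₃ hN₃
  have hψ'N₃ : ((χ.comp (Subgroup.inclusion hC)).range.subtype.comp (eB.symm.trans (ψi.trans eC)).toMonoidHom) ∈
      N₃.Hom (χ.comp (Subgroup.inclusion hBN)).range := by
    rw [hN₃]; exact hψ'N
  obtain ⟨ψ'', hψ''N, hψ''ext, hψ''W⟩ := hN₃W.2 _ _ hψ'N₃
  have hψ''F : ψ'' ∈ F.Hom ((χ.comp (Subgroup.inclusion hBN)).range ⊔ Wf W (normalizerIn S R₃)) := by
    rw [hN₃] at hψ''N; exact hψ''N.1
  have hT₃fin : Finite ↥(normalizerIn S R₃) := finite_of_le inf_le_left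
  have hT₃p : IsPGroup p ↥(normalizerIn S R₃) := hS.to_le inf_le_left
  have hψ''E : ψ'' ∈ E.Hom ((χ.comp (Subgroup.inclusion hBN)).range ⊔ Wf W (normalizerIn S R₃)) := by
    by_cases hT : normalizerIn S R₃ = S
    · have hW₃ : Wf W (normalizerIn S R₃) = Wf W S := congrArg (fun T => Wf W T) hT
      apply hEtop _ ψ'' (by rw [← hW₃]; exact le_sup_right) hψ''F
      rw [← hW₃]; exact hψ''W
    · have hT₃lt : normalizerIn S R₃ < S := lt_of_le_of_ne inf_le_left hT
      have hR₃T : R₃ ≤ normalizerIn S R₃ := le_normalizerIn hR₃S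
      have hnt : Nontrivial ↥(normalizerIn S R₃) := by
        obtain ⟨a, ha⟩ := (Subgroup.ne_bot_iff_exists_ne_one).mp hR₃ne
        refine ⟨⟨⟨a, hR₃T a.2⟩, 1, fun h => ha (Subtype.ext ?_)⟩⟩
        exact congrArg (fun z : ↥(normalizerIn S R₃) => (z : Ω)) h
      have hWne : W ↥(normalizerIn S R₃) ≠ ⊥ := hW1 _ hT₃p hnt
      have hW₃ne : Wf W (normalizerIn S R₃) ≠ ⊥ := by
        intro h
        exact hWne ((Subgroup.map_eq_bot_iff_of_injective _ (Subgroup.subtype_injective _)).mp h)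
      have hW₃T : Wf W (normalizerIn S R₃) ≤ normalizerIn S R₃ := Wf_le W _
      have hW₃S : Wf W (normalizerIn S R₃) ≤ S := hW₃T.trans inf_le_left
      have hTN : normalizerIn S (normalizerIn S R₃) ≤ normalizerIn S (Wf W (normalizerIn S R₃)) :=
        inf_le_inf_left S (normalizer_le_normalizer_Wf W hW2 _ hT₃p)
      have hTlt := lt_normalizerIn hS hT₃lt
      have hT₃N : normalizerIn S R₃ ≤ normalizerIn S (Wf W (normalizerIn S R₃)) := hTlt.le.trans hTN
      have hfinN : Finite ↥(normalizerIn S (Wf W (normalizerIn S R₃))) := finite_of_le inf_le_left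
      have hfinNT : Finite ↥(normalizerIn S (normalizerIn S R₃)) := finite_of_le inf_le_left
      have hc1 : Nat.card ↥(normalizerIn S R₃) < Nat.card ↥(normalizerIn S (normalizerIn S R₃)) :=
        card_lt_card_of_lt hTlt
      have hc2 : Nat.card ↥(normalizerIn S (normalizerIn S R₃)) ≤
          Nat.card ↥(normalizerIn S (Wf W (normalizerIn S R₃))) := Subgroup.card_le_of_le hTN
      have hc3 : Nat.card ↥(normalizerIn S (Wf W (normalizerIn S R₃))) ≤ Nat.card S :=
        Subgroup.card_le_of_le inf_le_left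
      have hc4 : Nat.card ↥(normalizerIn S R₂) ≤ Nat.card ↥(normalizerIn S R₃) :=
        hR₃fn.2 R₂ (isConj_symm F hconj)
      exact ih (Nat.card S - Nat.card ↥(normalizerIn S (Wf W (normalizerIn S R₃)))) (by omega) _ rfl hW₃S hW₃ne
        (by omega) _ ψ'' le_sup_right (sup_le (hB'N.trans hT₃N) (hW₃T.trans hT₃N)) hψ''F hψ''W
  -- back to `ψ`
  have hψ'E : IsIso E (eB.symm.trans (ψi.trans eC)) := by
    unfold IsIso
    exact mem_of_eq E (restrict_mem E hψ''E le_sup_left) (fun x => (hψ''ext x).symm)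
  have hfin : IsIso E (eB.trans ((eB.symm.trans (ψi.trans eC)).trans eC.symm)) :=
    heBE.trans (hψ'E.trans heCE.symm)
  exact mem_of_eq E hfin (fun x => by simp; rfl)

/-- The value of the functor on a subgroup containing a nontrivial subgroup is nontrivial. -/
theorem Wf_ne_bot (W : ∀ (Q : Type u) [Group Q], Subgroup Q)
    (hW1 : ∀ (Q : Type u) [Group Q] [Finite Q], IsPGroup p Q → Nontrivial Q → W Q ≠ ⊥)
    {T : Subgroup Ω} [Finite T] (hT : IsPGroup p T) {R : Subgroup Ω} (hRT : R ≤ T) (hR : R ≠ ⊥) : Wf W T ≠ ⊥ := by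
  have hnt : Nontrivial ↥T := by
    obtain ⟨a, ha⟩ := (Subgroup.ne_bot_iff_exists_ne_one).mp hR
    refine ⟨⟨⟨a, hRT a.2⟩, 1, fun h => ha (Subtype.ext ?_)⟩⟩
    exact congrArg (fun z : ↥T => (z : Ω)) h
  have hWne : W ↥T ≠ ⊥ := hW1 _ hT hnt
  intro h
  exact hWne ((Subgroup.map_eq_bot_iff_of_injective _ (Subgroup.subtype_injective _)).mp h)

/-- `T ≤ S` normalizes the value of the functor on it. -/
theorem le_normalizerIn_Wf (W : ∀ (Q : Type u) [Group Q], Subgroup Q)
    (hW2 : ∀ (Q R : Type u) [Group Q] [Group R] [Finite Q], IsPGroup p Q → ∀ φ : Q ≃* R,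
      (W Q).map φ.toMonoidHom = W R)
    {T : Subgroup Ω} [Finite T] (hT : IsPGroup p T) (hTS : T ≤ S) : T ≤ normalizerIn S (Wf W T) :=
  le_inf hTS (Subgroup.le_normalizer.trans (normalizer_le_normalizer_Wf W hW2 T hT))

/-- **Local to global.** If `W(N_S(R'))` is normal in the normalizer system of every nontrivial fully normalized `R'`, then
`W(S)` is normal in the saturated system `F`. -/
theorem isNormal_Wf_of_local [Finite S] (hS : IsPGroup p S) (W : ∀ (Q : Type u) [Group Q], Subgroup Q)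
    (hW1 : ∀ (Q : Type u) [Group Q] [Finite Q], IsPGroup p Q → Nontrivial Q → W Q ≠ ⊥)
    (hW2 : ∀ (Q R : Type u) [Group Q] [Group R] [Finite Q], IsPGroup p Q → ∀ φ : Q ≃* R,
      (W Q).map φ.toMonoidHom = W R)
    (F : FusionSystem S) (hF : F.IsSaturated p)
    (hH : ∀ R' : Subgroup Ω, R' ≠ ⊥ → F.IsFullyNormalized R' →
      ∀ N : FusionSystem (normalizerIn S R'), F.IsNormalizerSystem R' N → N.IsNormal (Wf W (normalizerIn S R'))) :
    F.IsNormal (Wf W S) := by
  have hWS : Wf W S ≤ S := Wf_le W S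
  have hNW : normalizerIn S (Wf W S) = S := le_antisymm inf_le_left (le_normalizerIn_Wf W hW2 hS le_rfl)
  obtain ⟨N₀, hN₀⟩ := Cfsg.Agent.S5096.result F (Wf W S) hWS
  have hEhom : ∀ P, (castSystem hNW N₀).Hom P = F.normalizerHom (Wf W S) P := fun P => by
    rw [castSystem_hom, hN₀ P]
  generalize castSystem hNW N₀ = E at hEhom
  have hEtop : ∀ (B : Subgroup Ω) (ψ : B →* Ω), Wf W S ≤ B → ψ ∈ F.Hom B →
      ((Wf W S).subgroupOf B).map ψ = Wf W S → ψ ∈ E.Hom B := by
    intro B ψ hWB hψ hψW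
    rw [hEhom]
    exact mem_normalizerHom_of_le F hWB (by rw [hNW]; exact (F.le_of_mem hψ).1) hψ hψW
  have htop : ∀ R : Subgroup Ω, S = R → F.autGroup R ≤ E.autGroup R := by
    intro R hR
    subst hR
    intro α hα
    rw [mem_autGroup_iff E le_rfl]
    have hαF : IsIso F (α : S ≃* S) := (mem_autGroup_iff F le_rfl α).mp hα
    apply hEtop S _ hWS hαF
    have hinj : Function.Injective (S.subtype.comp (α : S ≃* S).toMonoidHom) := F.injective_of_mem hαF
    have hrange : (S.subtype.comp (α : S ≃* S).toMonoidHom).range = S := by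
      ext y
      constructor
      · rintro ⟨x, rfl⟩
        exact (α x).2
      · intro hy
        exact ⟨α.symm ⟨y, hy⟩, by simp⟩
    rw [← Wf_range W hW2 S hS _ hinj]
    exact congrArg (fun T => Wf W T) hrange
  have hsub : ∀ P : Subgroup Ω, F.Hom P ⊆ E.Hom P := by
    apply hom_subset_of_autGroup_le hS F E hF
    intro R hRa hRr hbig
    have hRS : R ≤ S := hRa.1
    by_cases hRtop : S = R
    · exact htop R hRtop
    intro α hα
    rw [mem_autGroup_iff E hRS]
    have hαF : IsIso F (α : R ≃* R) := (mem_autGroup_iff F hRS α).mp hα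
    by_cases hRbot : R = ⊥
    · unfold IsIso
      refine mem_of_eq E (subtype_mem E hRS) (fun x => ?_)
      have h1 : (x : Ω) = 1 := Subgroup.mem_bot.mp ((le_of_eq hRbot) x.2)
      have h2 : ((α x : R) : Ω) = 1 := Subgroup.mem_bot.mp ((le_of_eq hRbot) (α x).2)
      show ((α x : R) : Ω) = (x : Ω)
      rw [h1, h2]
    have hRlt : R < S := lt_of_le_of_ne hRS (fun h => hRtop h.symm)
    have hRfn := isFullyNormalized_of_fullyAutomized_of_receptive hS F hRa hRr
    obtain ⟨NR, hNR⟩ := Cfsg.Agent.S5096.result F R hRS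
    have hWn := hH R hRbot hRfn NR hNR
    have hαN := Helper88.FS.mem_normalizerSystem_of_mem_autGroup F hRS NR hNR hα
    obtain ⟨ψ, hψN, hψext, hψW⟩ := hWn.2 R _ hαN
    have hψF : ψ ∈ F.Hom (R ⊔ Wf W (normalizerIn S R)) := by
      rw [hNR] at hψN; exact hψN.1
    have hTfin : Finite ↥(normalizerIn S R) := finite_of_le inf_le_left
    have hTp : IsPGroup p ↥(normalizerIn S R) := hS.to_le inf_le_left
    have hRT : R ≤ normalizerIn S R := le_normalizerIn hRS
    have hWT : Wf W (normalizerIn S R) ≤ normalizerIn S R := Wf_le W _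
    have hTN : normalizerIn S R ≤ normalizerIn S (Wf W (normalizerIn S R)) :=
      le_normalizerIn_Wf W hW2 hTp inf_le_left
    have hfinN : Finite ↥(normalizerIn S (Wf W (normalizerIn S R))) := finite_of_le inf_le_left
    have hc1 : Nat.card R < Nat.card ↥(normalizerIn S R) := card_lt_card_of_lt (lt_normalizerIn hS hRlt)
    have hc2 : Nat.card ↥(normalizerIn S R) ≤ Nat.card ↥(normalizerIn S (Wf W (normalizerIn S R))) :=
      Subgroup.card_le_of_le hTN
    have hψE := chain hS W hW1 hW2 F E hF hH hEtop (Nat.card R) hbig _ (Wf W (normalizerIn S R)) rfl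
      (hWT.trans inf_le_left) (Wf_ne_bot W hW1 hTp hRT hRbot) (by omega) _ ψ le_sup_right
      (sup_le (hRT.trans hTN) (hWT.trans hTN)) hψF hψW
    unfold IsIso
    exact mem_of_eq E (restrict_mem E hψE le_sup_left) (fun x => (hψext x).symm)
  refine ⟨hWS, fun P φ hφ => ?_⟩
  have h1 := hsub P hφ
  rw [hEhom] at h1
  exact h1.2.2.2

end Cfsg.Agent.Helper86.FusChain
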