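import Mathlib
import Cfsg.Prelude.Def_Solvable
import Cfsg.Prelude.Def_CaseTheorems

/-!
# (GEN) of helper42's S4385 GD farm (#14513): independent hedge by helper86

`Γ/O_2(Γ) ≅ D_n`, `n ≥ 3` odd, `O_2(Γ) ≤ S`, `|S| = 2 |O_2(Γ)|`: there is `g` with `⟨S, gSg⁻¹⟩ = Γ` and
`S ∩ gSg⁻¹ = O_2(Γ)`.
-/

set_option autoImplicit false

universe u

namespace Cfsg.Agent.Helper86.GD

open Pointwise Cfsg

/-- In `D_n`, `n` odd, an involution is a reflection. -/
theorem GEN_invol_is_sr {n : ℕ} (hn : Odd n) (t : DihedralGroup n) (ht1 : t ≠ 1) (ht2 : t * t = 1) :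
    ∃ i : ZMod n, t = DihedralGroup.sr i := by
  cases t with
  | r j =>
    exfalso
    apply ht1
    rw [DihedralGroup.r_mul_r, DihedralGroup.one_def] at ht2
    have h0 : j + j = 0 := by
      injection ht2
    obtain ⟨m, rfl⟩ := hn
    have h2 : ((m : ZMod (2 * m + 1)) + 1) * (j + j) = j := by
      have h3 : ((2 * m + 1 : ℕ) : ZMod (2 * m + 1)) = 0 := ZMod.natCast_self _
      push_cast at h3
      have : ((m : ZMod (2 * m + 1)) + 1) * (j + j) = j + (2 * (m : ZMod (2 * m + 1)) + 1) * j := by ring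
      rw [this, h3, zero_mul, add_zero]
    rw [h0, mul_zero] at h2
    rw [DihedralGroup.one_def, ← h2]
  | sr i => exact ⟨i, rfl⟩

/-- In `D_n`, `n` odd, a subgroup containing `sr i` and `sr (i - 2)` is everything. -/
theorem GEN_dihedral_top {n : ℕ} (hn : Odd n) (K : Subgroup (DihedralGroup n)) (i : ZMod n)
    (h1 : DihedralGroup.sr i ∈ K) (h2 : DihedralGroup.sr (i - 2) ∈ K) : K = ⊤ := by
  have hr2 : DihedralGroup.r (-2 : ZMod n) ∈ K := by
    have := K.mul_mem h1 h2
    rw [DihedralGroup.sr_mul_sr] at this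
    have e : i - 2 - i = (-2 : ZMod n) := by ring
    rwa [e] at this
  have hr : ∀ j : ZMod n, DihedralGroup.r j ∈ K := by
    intro j
    obtain ⟨m, rfl⟩ := hn
    have h3 : ((2 * m + 1 : ℕ) : ZMod (2 * m + 1)) = 0 := ZMod.natCast_self _
    push_cast at h3
    -- j = (-2) * (-(m+1) * j)
    have hz := K.zpow_mem hr2 ((-(((m : ZMod (2 * m + 1)) + 1) * j)).cast : ℤ)
    rw [DihedralGroup.r_zpow] at hz
    have e : (-2 : ZMod (2 * m + 1)) * (((-(((m : ZMod (2 * m + 1)) + 1) * j)).cast : ℤ) : ZMod (2 * m + 1)) = j := by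
      rw [ZMod.intCast_cast, ZMod.cast_id', id]
      have : (-2 : ZMod (2 * m + 1)) * (-(((m : ZMod (2 * m + 1)) + 1) * j)) =
          j + (2 * (m : ZMod (2 * m + 1)) + 1) * j := by ring
      rw [this, h3, zero_mul, add_zero]
    rwa [e] at hz
  rw [eq_top_iff]
  intro x _
  cases x with
  | r j => exact hr j
  | sr j =>
    have := K.mul_mem h1 (hr (j - i))
    rw [DihedralGroup.sr_mul_r] at this
    have e : i + (j - i) = j := by ring
    rwa [e] at this

/-- (GEN) -/
theorem exists_conj_gen_inf {Γ : Type*} [Group Γ] [Finite Γ] (S : Subgroup Γ)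
    (hQS : Cfsg.pCore 2 Γ ≤ S) (hcard : Nat.card S = 2 * Nat.card (Cfsg.pCore 2 Γ))
    {n : ℕ} (hn : Odd n) (hn3 : 3 ≤ n) (e : Γ ⧸ Cfsg.pCore 2 Γ ≃* DihedralGroup n) :
    ∃ g : Γ, S ⊔ MulAut.conj g • S = ⊤ ∧ S ⊓ MulAut.conj g • S = Cfsg.pCore 2 Γ := by
  classical
  set Q := Cfsg.pCore 2 Γ with hQdef
  haveI hQn : Q.Normal := inferInstance
  -- the projection
  let π : Γ →* DihedralGroup n := e.toMonoidHom.comp (QuotientGroup.mk' Q)
  have hπker : ∀ x : Γ, π x = 1 ↔ x ∈ Q := by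
    intro x
    show e (QuotientGroup.mk' Q x) = 1 ↔ x ∈ Q
    rw [MulEquiv.map_eq_one_iff, QuotientGroup.mk'_apply, QuotientGroup.eq_one_iff]
  have hπsurj : Function.Surjective π := by
    intro y
    obtain ⟨x, hx⟩ := QuotientGroup.mk'_surjective Q (e.symm y)
    exact ⟨x, by show e (QuotientGroup.mk' Q x) = y; rw [hx, MulEquiv.apply_symm_apply]⟩
  -- index 2
  have hidx : (Q.subgroupOf S).index = 2 := by
    have h1 := Subgroup.card_mul_index (Q.subgroupOf S)
    have h2 : Nat.card (Q.subgroupOf S) = Nat.card Q :=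
      Nat.card_congr (Subgroup.subgroupOfEquivOfLe hQS).toEquiv
    rw [h2, hcard] at h1
    have hpos : 0 < Nat.card Q := Nat.card_pos
    have : Nat.card Q * (Q.subgroupOf S).index = Nat.card Q * 2 := by rw [h1]; ring
    exact Nat.eq_of_mul_eq_mul_left hpos this
  -- s ∈ S \ Q
  obtain ⟨s, hsS, hsQ⟩ : ∃ s ∈ S, s ∉ Q := by
    by_contra hcon
    push_neg at hcon
    have hSQ : S = Q := le_antisymm hcon hQS
    have hpos : 0 < Nat.card Q := Nat.card_pos
    rw [hSQ] at hcard
    omega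
  have hmul : ∀ a ∈ S, ∀ b ∈ S, (a * b ∈ Q ↔ (a ∈ Q ↔ b ∈ Q)) := by
    intro a ha b hb
    have := Subgroup.mul_mem_iff_of_index_two hidx (a := ⟨a, ha⟩) (b := ⟨b, hb⟩)
    simpa [Subgroup.mem_subgroupOf] using this
  -- π s is a reflection
  have hs1 : π s ≠ 1 := fun h => hsQ ((hπker s).1 h)
  have hs2 : π s * π s = 1 := by
    rw [← map_mul, hπker]
    exact (hmul s hsS s hsS).2 Iff.rfl
  obtain ⟨i, hi⟩ := GEN_invol_is_sr hn (π s) hs1 hs2
  -- every element of S outside Q maps to sr i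
  have hSout : ∀ x ∈ S, x ∉ Q → π x = DihedralGroup.sr i := by
    intro x hx hxQ
    have h1 : s⁻¹ * x ∈ Q := by
      rw [hmul s⁻¹ (S.inv_mem hsS) x hx]
      constructor
      · intro h; exact absurd (by simpa using Q.inv_mem h) hsQ
      · intro h; exact absurd h hxQ
    have h2 : π (s⁻¹ * x) = 1 := (hπker _).2 h1
    rw [map_mul, map_inv, inv_mul_eq_one] at h2
    rw [← h2, hi]
  -- the conjugating element
  obtain ⟨g, hg⟩ := hπsurj (DihedralGroup.r 1)
  have hmemconj : ∀ x : Γ, x ∈ MulAut.conj g • S ↔ g⁻¹ * x * g ∈ S := by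
    intro x
    rw [Subgroup.mem_pointwise_smul_iff_inv_smul_mem, MulAut.smul_def, MulAut.conj_inv_apply]
  have hconjQ : ∀ x : Γ, g⁻¹ * x * g ∈ Q ↔ x ∈ Q := by
    intro x
    constructor
    · intro h
      have := hQn.conj_mem _ h g
      simpa [mul_assoc] using this
    · intro h
      have := hQn.conj_mem _ h g⁻¹
      simpa [mul_assoc] using this
  have hπconj : ∀ y : Γ, π y = DihedralGroup.sr i → π (g * y * g⁻¹) = DihedralGroup.sr (i - 2) := by
    intro y hy
    rw [map_mul, map_mul, map_inv, hg, hy, DihedralGroup.inv_r, DihedralGroup.r_mul_sr,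
      DihedralGroup.sr_mul_r]
    congr 1
    ring
  refine ⟨g, ?_, ?_⟩
  · -- generation
    have hQle : Q ≤ S ⊔ MulAut.conj g • S := hQS.trans le_sup_left
    have hmap : (S ⊔ MulAut.conj g • S).map π = ⊤ := by
      apply GEN_dihedral_top hn _ i
      · rw [← hi]
        exact Subgroup.mem_map_of_mem π (Subgroup.mem_sup_left hsS)
      · rw [← hπconj s hi]
        apply Subgroup.mem_map_of_mem π
        apply Subgroup.mem_sup_right
        rw [hmemconj]
        have : g⁻¹ * (g * s * g⁻¹) * g = s := by group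
        rwa [this]
    have hker : π.ker ≤ S ⊔ MulAut.conj g • S := by
      intro x hx
      exact hQle ((hπker x).1 (MonoidHom.mem_ker.1 hx))
    have h2 : ((S ⊔ MulAut.conj g • S).map π).comap π = S ⊔ MulAut.conj g • S := by
      rw [Subgroup.comap_map_eq, sup_eq_left.mpr hker]
    rw [← h2, hmap, Subgroup.comap_top]
  · -- intersection
    apply le_antisymm
    · intro x hx
      obtain ⟨hxS, hxc⟩ := Subgroup.mem_inf.1 hx
      by_contra hxQ
      have h1 := hSout x hxS hxQ
      rw [hmemconj] at hxc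
      have hyQ : g⁻¹ * x * g ∉ Q := fun h => hxQ ((hconjQ x).1 h)
      have h2 := hπconj _ (hSout _ hxc hyQ)
      have e1 : g * (g⁻¹ * x * g) * g⁻¹ = x := by group
      rw [e1, h1] at h2
      have h3 : i = i - 2 := by injection h2
      have h4 : (2 : ZMod n) = 0 := by
        have : (2 : ZMod n) = i - (i - 2) := by ring
        rw [this, ← h3, sub_self]
      have h5 : ((2 : ℕ) : ZMod n) = 0 := by exact_mod_cast h4
      rw [ZMod.natCast_eq_zero_iff] at h5
      have := Nat.le_of_dvd (by norm_num) h5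
      omega
    · intro x hx
      refine Subgroup.mem_inf.2 ⟨hQS hx, ?_⟩
      rw [hmemconj]
      exact hQS ((hconjQ x).2 hx)

end Cfsg.Agent.Helper86.GD
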