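-- helper86: local analysis at the prime `2` of a group `G` of automorphisms of an abelian `2`-group `H` whose maximal `2`-subgroup
-- `⟨t⟩` centralizes a hyperplane `Z` with `[H, t] = Z₀` of order `2` and is not normal in `G`: the conjugates of `t` are three
-- transvections generating a copy of `S₃`, `H = V × Z₁` with `V` a `G`-invariant four-group containing `Z₀` and `Z₁` a `G`-invariant
-- complement of `Z₀` in `Z` centralized by that copy of `S₃`.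
import Cfsg.Agent.Helper86.LocalSL2

set_option autoImplicit false

namespace Cfsg.Agent.Helper86

open Cfsg.Agent.Helper87

section pair

variable {H : Type*} [Group H]

/-- If the conjugate `g(Z₀)` of the commutator group of `t` lies in the fixed hyperplane `Z` of `t`, then `g t g⁻¹ ∈ ⟨t⟩`. -/
theorem conj_mem_zpowers_of_map_le [Finite H] {p : ℕ} [hp : Fact p.Prime] (hH : IsPGroup p H)
    (G : Subgroup (MulAut H)) (t : MulAut H) (htG : t ∈ G)
    (hmax : ∀ K : Subgroup (MulAut H), K ≤ G → IsPGroup p K → t ∈ K → K ≤ Subgroup.zpowers t)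
    (Z Z₀ : Subgroup H) (hZ₀Z : Z₀ ≤ Z) (hfix : ∀ z ∈ Z, t z = z) (hcm : ∀ x : H, x⁻¹ * t x ∈ Z₀)
    (g : MulAut H) (hgG : g ∈ G) (hle : Z₀.map (g : H ≃* H).toMonoidHom ≤ Z) :
    g * t * g⁻¹ ∈ Subgroup.zpowers t := by
  have : Finite (MulAut H) := MulEquiv.finite_left
  set t' : MulAut H := g * t * g⁻¹ with ht'
  set Z' : Subgroup H := Z.map (g : H ≃* H).toMonoidHom with hZ'
  set Z₀' : Subgroup H := Z₀.map (g : H ≃* H).toMonoidHom with hZ₀'
  have ht'G : t' ∈ G := G.mul_mem (G.mul_mem hgG htG) (G.inv_mem hgG)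
  have hZ₀'Z' : Z₀' ≤ Z' := Subgroup.map_mono hZ₀Z
  have hfix' : ∀ z ∈ Z', t' z = z := by
    rintro _ ⟨z, hz, rfl⟩
    show (g * t * g⁻¹) (g z) = g z
    rw [MulAut.mul_apply, MulAut.mul_apply, MulAut.inv_apply_self, hfix z hz]
  have hcm' : ∀ x : H, x⁻¹ * t' x ∈ Z₀' := by
    intro x
    refine ⟨(g⁻¹ x)⁻¹ * t (g⁻¹ x), hcm _, ?_⟩
    show g ((g⁻¹ x)⁻¹ * t (g⁻¹ x)) = x⁻¹ * (g * t * g⁻¹) x
    rw [map_mul, map_inv, MulAut.apply_inv_self, MulAut.mul_apply, MulAut.mul_apply]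
  have hW : Z₀' ≤ Z₀ ⊔ Z₀' := le_sup_right
  have hUZ : Z₀ ⊔ Z₀' ≤ Z := sup_le hZ₀Z hle
  set K := chainStab (chain4 (Z₀ ⊔ Z₀') Z₀') (chain4_antitone hW) ⊓ G with hK
  have hKp : IsPGroup p K := (isPGroup_chainStab_chain4 hH hW).to_le inf_le_left
  have htK : t ∈ K := by
    refine ⟨mem_chainStab_chain4 hW t (fun x => le_sup_left (a := Z₀) (hcm x)) (fun x hx => ?_)
      (fun x hx => hfix x (hle hx)), htG⟩
    rw [hfix x (hUZ hx)]
    simp
  have ht'K : t' ∈ K :=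
    ⟨mem_chainStab_chain4 hW t' (fun x => hW (hcm' x)) (fun x _ => hcm' x) (fun x hx => hfix' x (hZ₀'Z' hx)), ht'G⟩
  exact hmax K inf_le_right hKp htK ht'K

/-- If the commutator group `Z₀` of `t` lies in the fixed hyperplane `g(Z)` of `g t g⁻¹`, then `g t g⁻¹ ∈ ⟨t⟩`. -/
theorem conj_mem_zpowers_of_le_map [Finite H] {p : ℕ} [hp : Fact p.Prime] (hH : IsPGroup p H)
    (G : Subgroup (MulAut H)) (t : MulAut H) (htG : t ∈ G)
    (hmax : ∀ K : Subgroup (MulAut H), K ≤ G → IsPGroup p K → t ∈ K → K ≤ Subgroup.zpowers t)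
    (Z Z₀ : Subgroup H) (hZ₀Z : Z₀ ≤ Z) (hfix : ∀ z ∈ Z, t z = z) (hcm : ∀ x : H, x⁻¹ * t x ∈ Z₀)
    (g : MulAut H) (hgG : g ∈ G) (hle : Z₀ ≤ Z.map (g : H ≃* H).toMonoidHom) :
    g * t * g⁻¹ ∈ Subgroup.zpowers t := by
  have : Finite (MulAut H) := MulEquiv.finite_left
  set t' : MulAut H := g * t * g⁻¹ with ht'
  set Z' : Subgroup H := Z.map (g : H ≃* H).toMonoidHom with hZ'
  set Z₀' : Subgroup H := Z₀.map (g : H ≃* H).toMonoidHom with hZ₀'
  have ht'G : t' ∈ G := G.mul_mem (G.mul_mem hgG htG) (G.inv_mem hgG)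
  have hZ₀'Z' : Z₀' ≤ Z' := Subgroup.map_mono hZ₀Z
  have hfix' : ∀ z ∈ Z', t' z = z := by
    rintro _ ⟨z, hz, rfl⟩
    show (g * t * g⁻¹) (g z) = g z
    rw [MulAut.mul_apply, MulAut.mul_apply, MulAut.inv_apply_self, hfix z hz]
  have hcm' : ∀ x : H, x⁻¹ * t' x ∈ Z₀' := by
    intro x
    refine ⟨(g⁻¹ x)⁻¹ * t (g⁻¹ x), hcm _, ?_⟩
    show g ((g⁻¹ x)⁻¹ * t (g⁻¹ x)) = x⁻¹ * (g * t * g⁻¹) x
    rw [map_mul, map_inv, MulAut.apply_inv_self, MulAut.mul_apply, MulAut.mul_apply]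
  have hW : Z₀ ≤ Z₀' ⊔ Z₀ := le_sup_right
  have hUZ : Z₀' ⊔ Z₀ ≤ Z' := sup_le hZ₀'Z' hle
  set K := chainStab (chain4 (Z₀' ⊔ Z₀) Z₀) (chain4_antitone hW) ⊓ G with hK
  have hKp : IsPGroup p K := (isPGroup_chainStab_chain4 hH hW).to_le inf_le_left
  have ht'K : t' ∈ K := by
    refine ⟨mem_chainStab_chain4 hW t' (fun x => le_sup_left (a := Z₀') (hcm' x)) (fun x hx => ?_)
      (fun x hx => hfix' x (hle hx)), ht'G⟩
    rw [hfix' x (hUZ hx)]
    simp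
  have htK : t ∈ K :=
    ⟨mem_chainStab_chain4 hW t (fun x => hW (hcm x)) (fun x _ => hcm x) (fun x hx => hfix x (hZ₀Z hx)), htG⟩
  exact hmax K inf_le_right hKp htK ht'K

end pair

section two

variable {H : Type*} [Group H]

/-- The fixed points of an automorphism. -/
def autFix (β : MulAut H) : Subgroup H where
  carrier := {z | β z = z}
  one_mem' := map_one β
  mul_mem' := by
    intro a b ha hb
    show β (a * b) = a * b
    rw [map_mul, ha, hb]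
  inv_mem' := by
    intro a ha
    show β a⁻¹ = a⁻¹
    rw [map_inv, ha]

theorem mem_autFix (β : MulAut H) (z : H) : z ∈ autFix β ↔ β z = z := Iff.rfl

/-- In a commutative group, the elements displaced by `β` into the subgroup `W`. -/
def autDisp (hcomm : ∀ a b : H, a * b = b * a) (β : MulAut H) (W : Subgroup H) : Subgroup H where
  carrier := {x | x⁻¹ * β x ∈ W}
  one_mem' := by
    show (1 : H)⁻¹ * β 1 ∈ W
    rw [map_one, inv_one, one_mul]
    exact W.one_mem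
  mul_mem' := by
    intro a b ha hb
    show (a * b)⁻¹ * β (a * b) ∈ W
    have e : (a * b)⁻¹ * β (a * b) = (a⁻¹ * β a) * (b⁻¹ * β b) := by
      rw [map_mul, mul_inv_rev, hcomm b⁻¹ a⁻¹, mul_assoc, mul_assoc, ← mul_assoc b⁻¹, hcomm b⁻¹ (β a), mul_assoc]
    rw [e]
    exact W.mul_mem ha hb
  inv_mem' := by
    intro a ha
    show (a⁻¹)⁻¹ * β a⁻¹ ∈ W
    have e : (a⁻¹)⁻¹ * β a⁻¹ = (a⁻¹ * β a)⁻¹ := by
      rw [map_inv, mul_inv_rev, inv_inv, hcomm]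
    rw [e]
    exact W.inv_mem ha

theorem mem_autDisp (hcomm : ∀ a b : H, a * b = b * a) (β : MulAut H) (W : Subgroup H) (x : H) :
    x ∈ autDisp hcomm β W ↔ x⁻¹ * β x ∈ W := Iff.rfl

/-- The hypotheses of the local analysis at the prime `2`. -/
structure TwoData (G : Subgroup (MulAut H)) (t : MulAut H) (Z Z₀ : Subgroup H) : Prop where
  hH : IsPGroup 2 H
  hcomm : ∀ a b : H, a * b = b * a
  htG : t ∈ G
  ht1 : t ≠ 1
  hmax : ∀ K : Subgroup (MulAut H), K ≤ G → IsPGroup 2 K → t ∈ K → K ≤ Subgroup.zpowers t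
  hZi : Z.index = 2
  hZ₀c : Nat.card Z₀ = 2
  hZ₀Z : Z₀ ≤ Z
  hfix : ∀ z ∈ Z, t z = z
  hcm : ∀ x : H, x⁻¹ * t x ∈ Z₀

/-- The conclusions of the local analysis at the prime `2`. -/
structure TwoOut (G : Subgroup (MulAut H)) (t : MulAut H) (Z Z₀ V Z₁ : Subgroup H) (w : H) : Prop where
  hVinv : ∀ g ∈ G, ∀ v ∈ V, g v ∈ V
  hZ₁inv : ∀ g ∈ G, ∀ c ∈ Z₁, g c ∈ Z₁
  hZ₀V : Z₀ ≤ V
  hwV : w ∈ V
  hwZ : w ∉ Z
  hw2 : w * w = 1
  hV : ∀ v ∈ V, v ∈ Z₀ ∨ v * w ∈ Z₀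
  hZ₁Z : Z₁ ≤ Z
  hZ₁Z₀ : ∀ c ∈ Z₁, c ∈ Z₀ → c = 1
  hZdec : ∀ z ∈ Z, ∃ c ∈ Z₁, ∃ e ∈ Z₀, z = c * e
  hdec : ∀ r : H, ∃ v ∈ V, ∃ c ∈ Z₁, r = v * c
  hcent : ∀ g ∈ G, ∃ γ ∈ G, γ * t * γ⁻¹ = t ∧ ∀ c ∈ Z₁, g c = γ c

variable {G : Subgroup (MulAut H)} {t : MulAut H} {Z Z₀ : Subgroup H}

theorem TwoData.exists_gen (D : TwoData G t Z Z₀) :
    ∃ z₀ ∈ Z₀, z₀ ≠ 1 ∧ z₀ * z₀ = 1 ∧ ∀ z ∈ Z₀, z = 1 ∨ z = z₀ := by
  obtain ⟨⟨z₀, hz₀⟩, h1, h2⟩ := (Nat.card_eq_two_iff' (1 : Z₀)).mp D.hZ₀c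
  have hz₀1 : z₀ ≠ 1 := fun h => h1 (Subtype.ext h)
  have hall : ∀ z ∈ Z₀, z = 1 ∨ z = z₀ := by
    intro z hz
    by_cases hz1 : z = 1
    · exact Or.inl hz1
    · right
      have := h2 ⟨z, hz⟩ (fun h => hz1 (congrArg Subtype.val h))
      exact congrArg Subtype.val this
  refine ⟨z₀, hz₀, hz₀1, ?_, hall⟩
  rcases hall _ (Z₀.mul_mem hz₀ hz₀) with h | h
  · exact h
  · exfalso
    apply hz₀1
    have : z₀ * z₀ = z₀ * 1 := by rw [h, mul_one]
    exact mul_left_cancel this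

theorem TwoData.normal (D : TwoData G t Z Z₀) (M : Subgroup H) : M.Normal :=
  ⟨fun n hn a => by rw [D.hcomm a n, mul_inv_cancel_right]; exact hn⟩

/-- The fixed points of `t` are the elements of `Z`. -/
theorem TwoData.mem_of_fix (D : TwoData G t Z Z₀) {y : H} (hy : t y = y) : y ∈ Z := by
  by_contra hyZ
  haveI := D.normal Z
  exact D.ht1 (eq_one_of_fix_of_index_prime Nat.prime_two Z D.hZi t D.hfix hyZ hy)

/-- `t` multiplies the elements outside `Z` by the generator of `Z₀`. -/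
theorem TwoData.apply_of_not_mem (D : TwoData G t Z Z₀) {z₀ : H} (hz₀ : ∀ z ∈ Z₀, z = 1 ∨ z = z₀) {y : H}
    (hy : y ∉ Z) : t y = y * z₀ := by
  rcases hz₀ _ (D.hcm y) with h | h
  · exfalso
    apply hy
    apply D.mem_of_fix
    have : y * (y⁻¹ * t y) = y * 1 := by rw [h]
    rw [mul_inv_cancel_left, mul_one] at this
    exact this
  · rw [← h, mul_inv_cancel_left]

/-- The conjugate `g t g⁻¹` fixes the elements of `g(Z)` and multiplies the others by `g(z₀)`. -/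
theorem TwoData.conj_apply_of_mem (D : TwoData G t Z Z₀) (g : MulAut H) {y : H} (hy : g⁻¹ y ∈ Z) :
    (g * t * g⁻¹) y = y := by
  rw [MulAut.mul_apply, MulAut.mul_apply, D.hfix _ hy, MulAut.apply_inv_self]

theorem TwoData.conj_apply_of_not_mem (D : TwoData G t Z Z₀) {z₀ : H} (hz₀ : ∀ z ∈ Z₀, z = 1 ∨ z = z₀)
    (g : MulAut H) {y : H} (hy : g⁻¹ y ∉ Z) : (g * t * g⁻¹) y = y * g z₀ := by
  rw [MulAut.mul_apply, MulAut.mul_apply, D.apply_of_not_mem hz₀ hy, map_mul, MulAut.apply_inv_self]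

/-- `t` is an involution. -/
theorem TwoData.sq (D : TwoData G t Z Z₀) : t * t = 1 := by
  obtain ⟨z₀, hz₀, -, hz₀2, hall⟩ := D.exists_gen
  ext y
  rw [MulAut.mul_apply, MulAut.one_apply]
  by_cases hy : y ∈ Z
  · rw [D.hfix y hy, D.hfix y hy]
  · rw [D.apply_of_not_mem hall hy, map_mul, D.apply_of_not_mem hall hy, D.hfix z₀ (D.hZ₀Z hz₀), mul_assoc, hz₀2,
      mul_one]

theorem TwoData.inv_eq (D : TwoData G t Z Z₀) : t⁻¹ = t := inv_eq_of_mul_eq_one_left D.sq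

theorem TwoData.mem_zpowers (D : TwoData G t Z Z₀) {s : MulAut H} (hs : s ∈ Subgroup.zpowers t) : s = 1 ∨ s = t := by
  obtain ⟨k, rfl⟩ := Subgroup.mem_zpowers_iff.mp hs
  have h2 : t ^ (2 : ℤ) = 1 := by
    rw [show (2 : ℤ) = 1 + 1 from rfl, zpow_add, zpow_one]
    exact D.sq
  rcases Int.even_or_odd' k with ⟨m, rfl | rfl⟩
  · left
    rw [zpow_mul, h2, one_zpow]
  · right
    rw [zpow_add, zpow_mul, h2, one_zpow, one_mul, zpow_one]

/-- If `g` fixes the generator of `Z₀` then `g` centralizes `t`. -/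
theorem TwoData.conj_eq_of_apply_eq [Finite H] (D : TwoData G t Z Z₀) {z₀ : H} (hz₀ : ∀ z ∈ Z₀, z = 1 ∨ z = z₀)
    {g : MulAut H} (hgG : g ∈ G) (hg : g z₀ ∈ Z) : g * t * g⁻¹ = t := by
  haveI : Fact (Nat.Prime 2) := ⟨Nat.prime_two⟩
  have hle : Z₀.map (g : H ≃* H).toMonoidHom ≤ Z := by
    rintro _ ⟨z, hz, rfl⟩
    rcases hz₀ z hz with rfl | rfl
    · show g 1 ∈ Z
      rw [map_one]
      exact Z.one_mem
    · exact hg
  have h1 := conj_mem_zpowers_of_map_le D.hH G t D.htG D.hmax Z Z₀ D.hZ₀Z D.hfix D.hcm g hgG hle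
  rcases D.mem_zpowers h1 with h | h
  · exfalso
    apply D.ht1
    have : t = g⁻¹ * (g * t * g⁻¹) * g := by group
    rw [this, h]
    group
  · exact h

/-- If `g` centralizes `t` then `g` fixes the generator of `Z₀`. -/
theorem TwoData.apply_eq_of_conj_eq (D : TwoData G t Z Z₀) {z₀ : H} (hz₀1 : z₀ ≠ 1) (hz₀ : ∀ z ∈ Z₀, z = 1 ∨ z = z₀)
    {g : MulAut H} (hg : g * t * g⁻¹ = t) : g z₀ = z₀ := by
  have hne : Z ≠ ⊤ := by
    intro h
    have := D.hZi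
    rw [h, Subgroup.index_top] at this
    omega
  obtain ⟨y, -, hy⟩ := SetLike.exists_of_lt (lt_of_le_of_ne le_top hne)
  have h1 := D.apply_of_not_mem hz₀ hy
  by_cases hgy : g⁻¹ y ∈ Z
  · have h2 := D.conj_apply_of_mem g hgy
    rw [hg, h1] at h2
    exfalso
    apply hz₀1
    have : y * z₀ = y * 1 := by rw [h2, mul_one]
    exact mul_left_cancel this
  · have h2 := D.conj_apply_of_not_mem hz₀ g hgy
    rw [hg, h1] at h2
    exact (mul_left_cancel h2).symm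

/-- Conjugates of `t` outside `⟨t⟩`: the generator of `Z₀` is moved out of `Z` by `g` and by `g⁻¹`. -/
theorem TwoData.not_mem_of_conj_not_mem [Finite H] (D : TwoData G t Z Z₀) {z₀ : H}
    (hz₀ : ∀ z ∈ Z₀, z = 1 ∨ z = z₀) {g : MulAut H} (hgG : g ∈ G) (hg : g * t * g⁻¹ ∉ Subgroup.zpowers t) :
    g z₀ ∉ Z ∧ g⁻¹ z₀ ∉ Z := by
  haveI : Fact (Nat.Prime 2) := ⟨Nat.prime_two⟩
  constructor
  · intro h
    apply hg
    rw [D.conj_eq_of_apply_eq hz₀ hgG h]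
    exact Subgroup.mem_zpowers t
  · intro h
    apply hg
    apply conj_mem_zpowers_of_le_map D.hH G t D.htG D.hmax Z Z₀ D.hZ₀Z D.hfix D.hcm g hgG
    intro z hz
    rcases hz₀ z hz with rfl | rfl
    · exact Subgroup.one_mem _
    · exact ⟨g⁻¹ z, h, MulAut.apply_inv_self _ g z⟩

/-- The displacement of a conjugate of `t`. -/
theorem TwoData.conj_disp (D : TwoData G t Z Z₀) {z₀ : H} (hz₀ : ∀ z ∈ Z₀, z = 1 ∨ z = z₀) (g : MulAut H) (y : H) :
    y⁻¹ * (g * t * g⁻¹) y = 1 ∨ y⁻¹ * (g * t * g⁻¹) y = g z₀ := by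
  by_cases hy : g⁻¹ y ∈ Z
  · left
    rw [D.conj_apply_of_mem g hy, inv_mul_cancel]
  · right
    rw [D.conj_apply_of_not_mem hz₀ g hy, inv_mul_cancel_left]

/-- **Triple lemma**: the images of the generator of `Z₀` under `G` lie in the four-group spanned by `z₀` and `g₀ z₀`. -/
theorem TwoData.apply_gen_cases [Finite H] (D : TwoData G t Z Z₀) {z₀ : H} (hz₀Z₀ : z₀ ∈ Z₀) (hz₀1 : z₀ ≠ 1)
    (hz₀2 : z₀ * z₀ = 1) (hz₀ : ∀ z ∈ Z₀, z = 1 ∨ z = z₀) {g₀ : MulAut H} (hg₀G : g₀ ∈ G)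
    (hg₀ : g₀ * t * g₀⁻¹ ∉ Subgroup.zpowers t) {g : MulAut H} (hgG : g ∈ G) :
    g z₀ = z₀ ∨ g z₀ = g₀ z₀ ∨ g z₀ = z₀ * g₀ z₀ := by
  haveI : Fact (Nat.Prime 2) := ⟨Nat.prime_two⟩
  have : Finite (MulAut H) := MulEquiv.finite_left
  letI : CommGroup H := { (inferInstance : Group H) with mul_comm := D.hcomm }
  by_contra hcon
  push Not at hcon
  obtain ⟨hu0, hu1, hu2⟩ := hcon
  have ht1' : ∀ g' : MulAut H, g' * t * g'⁻¹ ≠ 1 := by
    intro g' h
    apply D.ht1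
    have : t = g'⁻¹ * (g' * t * g'⁻¹) * g' := by group
    rw [this, h]
    group
  have hs : g * t * g⁻¹ ∉ Subgroup.zpowers t := by
    intro h
    rcases D.mem_zpowers h with h | h
    · exact ht1' g h
    · exact hu0 (D.apply_eq_of_conj_eq hz₀1 hz₀ h)
  have hg₁G : g₀⁻¹ * g ∈ G := G.mul_mem (G.inv_mem hg₀G) hgG
  have hg₁ : (g₀⁻¹ * g) * t * (g₀⁻¹ * g)⁻¹ ∉ Subgroup.zpowers t := by
    intro h
    rcases D.mem_zpowers h with h | h
    · exact ht1' _ h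
    · have h1 := D.apply_eq_of_conj_eq hz₀1 hz₀ h
      rw [MulAut.mul_apply] at h1
      apply hu1
      rw [← h1, MulAut.apply_inv_self, h1]
  obtain ⟨w, hw⟩ : ∃ w : H, w = g₀ z₀ := ⟨_, rfl⟩
  obtain ⟨u, hu⟩ : ∃ u : H, u = g z₀ := ⟨_, rfl⟩
  rw [← hu, ← hw] at hu1 hu2
  obtain ⟨hwZ, hg₀z⟩ := D.not_mem_of_conj_not_mem hz₀ hg₀G hg₀
  obtain ⟨huZ, hgz⟩ := D.not_mem_of_conj_not_mem hz₀ hgG hs
  obtain ⟨h1, h2⟩ := D.not_mem_of_conj_not_mem hz₀ hg₁G hg₁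
  rw [← hw] at hwZ
  rw [← hu] at huZ
  have hg₀u : g₀⁻¹ u ∉ Z := by
    rw [MulAut.mul_apply, ← hu] at h1
    exact h1
  have hgw : g⁻¹ w ∉ Z := by
    have e : (g₀⁻¹ * g)⁻¹ = g⁻¹ * g₀ := by group
    rw [e, MulAut.mul_apply, ← hw] at h2
    exact h2
  obtain ⟨t', ht'⟩ : ∃ t' : MulAut H, t' = g₀ * t * g₀⁻¹ := ⟨_, rfl⟩
  obtain ⟨s, hsdef⟩ : ∃ s : MulAut H, s = g * t * g⁻¹ := ⟨_, rfl⟩
  have hz₀Z : z₀ ∈ Z := D.hZ₀Z hz₀Z₀
  have hg₀w : g₀⁻¹ w = z₀ := by rw [hw, MulAut.inv_apply_self]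
  have hgu : g⁻¹ u = z₀ := by rw [hu, MulAut.inv_apply_self]
  have htz : t z₀ = z₀ := D.hfix z₀ hz₀Z
  have htw : t w = w * z₀ := D.apply_of_not_mem hz₀ hwZ
  have htu : t u = u * z₀ := D.apply_of_not_mem hz₀ huZ
  have ht'z : t' z₀ = z₀ * w := by rw [ht', hw]; exact D.conj_apply_of_not_mem hz₀ g₀ hg₀z
  have ht'w : t' w = w := by rw [ht']; exact D.conj_apply_of_mem g₀ (by rw [hg₀w]; exact hz₀Z)
  have ht'u : t' u = u * w := by rw [ht', hw]; exact D.conj_apply_of_not_mem hz₀ g₀ hg₀u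
  have hsz : s z₀ = z₀ * u := by rw [hsdef, hu]; exact D.conj_apply_of_not_mem hz₀ g hgz
  have hsw : s w = w * u := by rw [hsdef, hu]; exact D.conj_apply_of_not_mem hz₀ g hgw
  have hsu : s u = u := by rw [hsdef]; exact D.conj_apply_of_mem g (by rw [hgu]; exact hz₀Z)
  have hw2 : w * w = 1 := by rw [hw, ← map_mul, hz₀2, map_one]
  have hu2' : u * u = 1 := by rw [hu, ← map_mul, hz₀2, map_one]
  have hwinv : w⁻¹ = w := inv_eq_of_mul_eq_one_left hw2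
  have huinv : u⁻¹ = u := inv_eq_of_mul_eq_one_left hu2'
  have ht'G : t' ∈ G := by rw [ht']; exact G.mul_mem (G.mul_mem hg₀G D.htG) (G.inv_mem hg₀G)
  have hsG : s ∈ G := by rw [hsdef]; exact G.mul_mem (G.mul_mem hgG D.htG) (G.inv_mem hgG)
  obtain ⟨β, hβ⟩ : ∃ β : MulAut H, β = t' * s * t' := ⟨_, rfl⟩
  have hβG : β ∈ G := by rw [hβ]; exact G.mul_mem (G.mul_mem ht'G hsG) ht'G
  have hβapp : ∀ y : H, β y = t' (s (t' y)) := fun y => by rw [hβ]; rfl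
  have hβz : β z₀ = z₀ := by
    rw [hβapp, ht'z, map_mul, hsz, hsw, map_mul, map_mul, map_mul, ht'z, ht'w, ht'u]
    calc z₀ * w * (u * w) * (w * (u * w)) = z₀ * (w * w) * (w * w) * (u * u) := by ac_rfl
      _ = z₀ := by rw [hw2, hu2', mul_one, mul_one, mul_one]
  have hβw : β w = u := by
    rw [hβapp, ht'w, hsw, map_mul, ht'w, ht'u]
    calc w * (u * w) = u * (w * w) := by ac_rfl
      _ = u := by rw [hw2, mul_one]
  have hβu : β u = w := by
    rw [hβapp, ht'u, map_mul, hsu, hsw, map_mul, map_mul, ht'u, ht'w]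
    calc u * w * (w * (u * w)) = w * (w * w) * (u * u) := by ac_rfl
      _ = w := by rw [hw2, hu2', mul_one, mul_one]
  have hβwu : β (w * u) = w * u := by rw [map_mul, hβw, hβu, mul_comm]
  set U : Subgroup H := Subgroup.closure {z₀, w, u} with hU
  set W : Subgroup H := Subgroup.closure {z₀, w * u} with hWdef
  have hzU : z₀ ∈ U := Subgroup.subset_closure (by simp)
  have hwU : w ∈ U := Subgroup.subset_closure (by simp)
  have huU : u ∈ U := Subgroup.subset_closure (by simp)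
  have hzW : z₀ ∈ W := Subgroup.subset_closure (by simp)
  have hwuW : w * u ∈ W := Subgroup.subset_closure (by simp)
  have hWU : W ≤ U := by
    rw [hWdef, Subgroup.closure_le]
    intro y hy
    rcases hy with rfl | rfl
    · exact hzU
    · exact U.mul_mem hwU huU
  have hZ₀W : Z₀ ≤ W := by
    intro z hz
    rcases hz₀ z hz with rfl | rfl
    · exact W.one_mem
    · exact hzW
  have htK : t ∈ chainStab (chain4 U W) (chain4_antitone hWU) := by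
    refine mem_chainStab_chain4 hWU t (fun x => hWU (hZ₀W (D.hcm x))) (fun x _ => hZ₀W (D.hcm x)) ?_
    have : W ≤ autFix t := by
      rw [hWdef, Subgroup.closure_le]
      intro y hy
      rcases hy with rfl | rfl
      · exact htz
      · show t (w * u) = w * u
        rw [map_mul, htw, htu]
        calc w * z₀ * (u * z₀) = w * u * (z₀ * z₀) := by ac_rfl
          _ = w * u := by rw [hz₀2, mul_one]
    exact fun x hx => this hx
  have hdt' : ∀ y : H, y⁻¹ * t' y ∈ U := by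
    intro y
    rcases D.conj_disp hz₀ g₀ y with h | h
    · rw [ht', h]; exact U.one_mem
    · rw [ht', h, ← hw]; exact hwU
  have hds : ∀ y : H, y⁻¹ * s y ∈ U := by
    intro y
    rcases D.conj_disp hz₀ g y with h | h
    · rw [hsdef, h]; exact U.one_mem
    · rw [hsdef, h, ← hu]; exact huU
  have hβK : β ∈ chainStab (chain4 U W) (chain4_antitone hWU) := by
    refine mem_chainStab_chain4 hWU β (fun x => ?_) ?_ ?_
    · have e : x⁻¹ * β x = (x⁻¹ * t' x) * ((t' x)⁻¹ * s (t' x)) * ((s (t' x))⁻¹ * t' (s (t' x))) := by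
        rw [hβapp]; group
      rw [e]
      exact U.mul_mem (U.mul_mem (hdt' _) (hds _)) (hdt' _)
    · have : U ≤ autDisp D.hcomm β W := by
        rw [hU, Subgroup.closure_le]
        intro y hy
        rcases hy with rfl | rfl | rfl
        · show y⁻¹ * β y ∈ W
          rw [hβz, inv_mul_cancel]
          exact W.one_mem
        · show y⁻¹ * β y ∈ W
          rw [hβw, hwinv]
          exact hwuW
        · show y⁻¹ * β y ∈ W
          rw [hβu, huinv, mul_comm]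
          exact hwuW
      exact fun x hx => this hx
    · have : W ≤ autFix β := by
        rw [hWdef, Subgroup.closure_le]
        intro y hy
        rcases hy with rfl | rfl
        · exact hβz
        · exact hβwu
      exact fun x hx => this hx
  have hKp : IsPGroup 2 (chainStab (chain4 U W) (chain4_antitone hWU) ⊓ G : Subgroup (MulAut H)) :=
    (isPGroup_chainStab_chain4 D.hH hWU).to_le inf_le_left
  have hβt := D.hmax _ inf_le_right hKp ⟨htK, D.htG⟩ ⟨hβK, hβG⟩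
  rcases D.mem_zpowers hβt with h | h
  · apply hu1
    rw [← hβw, h, MulAut.one_apply]
  · apply hu2
    rw [← hβw, h, htw, mul_comm]

/-- The conjugates of `t` in `G` are `t`, `t' = g₀ t g₀⁻¹` and `t t' t⁻¹`. -/
theorem TwoData.conj_cases [Finite H] (D : TwoData G t Z Z₀) {g₀ : MulAut H} (hg₀G : g₀ ∈ G)
    (hg₀ : g₀ * t * g₀⁻¹ ∉ Subgroup.zpowers t) {g : MulAut H} (hgG : g ∈ G) :
    g * t * g⁻¹ = t ∨ g * t * g⁻¹ = g₀ * t * g₀⁻¹ ∨ g * t * g⁻¹ = t * (g₀ * t * g₀⁻¹) * t⁻¹ := by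
  letI : CommGroup H := { (inferInstance : Group H) with mul_comm := D.hcomm }
  obtain ⟨z₀, hz₀Z₀, hz₀1, hz₀2, hz₀⟩ := D.exists_gen
  have hz₀Z : z₀ ∈ Z := D.hZ₀Z hz₀Z₀
  rcases D.apply_gen_cases hz₀Z₀ hz₀1 hz₀2 hz₀ hg₀G hg₀ hgG with h | h | h
  · left
    exact D.conj_eq_of_apply_eq hz₀ hgG (by rw [h]; exact hz₀Z)
  · right; left
    have hg₁G : g₀⁻¹ * g ∈ G := G.mul_mem (G.inv_mem hg₀G) hgG
    have h1 : (g₀⁻¹ * g) z₀ ∈ Z := by
      rw [MulAut.mul_apply, h, MulAut.inv_apply_self]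
      exact hz₀Z
    have h2 := D.conj_eq_of_apply_eq hz₀ hg₁G h1
    have e : g * t * g⁻¹ = g₀ * ((g₀⁻¹ * g) * t * (g₀⁻¹ * g)⁻¹) * g₀⁻¹ := by group
    rw [e, h2]
  · right; right
    have hg₂G : (t * g₀)⁻¹ * g ∈ G := G.mul_mem (G.inv_mem (G.mul_mem D.htG hg₀G)) hgG
    obtain ⟨hwZ, -⟩ := D.not_mem_of_conj_not_mem hz₀ hg₀G hg₀
    have htw : t (g₀ z₀) = g₀ z₀ * z₀ := D.apply_of_not_mem hz₀ hwZ
    have h1 : ((t * g₀)⁻¹ * g) z₀ ∈ Z := by
      have e : (t * g₀)⁻¹ = g₀⁻¹ * t⁻¹ := by group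
      rw [e, MulAut.mul_apply, MulAut.mul_apply, h, mul_comm, ← htw, MulAut.inv_apply_self, MulAut.inv_apply_self]
      exact hz₀Z
    have h2 := D.conj_eq_of_apply_eq hz₀ hg₂G h1
    have e : g * t * g⁻¹ = (t * g₀) * (((t * g₀)⁻¹ * g) * t * ((t * g₀)⁻¹ * g)⁻¹) * (t * g₀)⁻¹ := by group
    rw [e, h2]
    group

/-- The subgroup `Z₀ ∪ Z₀ w` for an involution `w` of a commutative group. -/
def fourSub (hcomm : ∀ a b : H, a * b = b * a) (Z₀ : Subgroup H) (w : H) (hw : w * w = 1) : Subgroup H where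
  carrier := {v | v ∈ Z₀ ∨ v * w ∈ Z₀}
  one_mem' := Or.inl Z₀.one_mem
  mul_mem' := by
    letI : CommGroup H := { (inferInstance : Group H) with mul_comm := hcomm }
    rintro a b (ha | ha) (hb | hb)
    · exact Or.inl (Z₀.mul_mem ha hb)
    · right
      rw [mul_assoc]
      exact Z₀.mul_mem ha hb
    · right
      have : a * b * w = (a * w) * b := by ac_rfl
      rw [this]
      exact Z₀.mul_mem ha hb
    · left
      have : a * b = (a * w) * (b * w) := by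
        calc a * b = a * b * 1 := (mul_one _).symm
          _ = a * b * (w * w) := by rw [hw]
          _ = (a * w) * (b * w) := by ac_rfl
      rw [this]
      exact Z₀.mul_mem ha hb
  inv_mem' := by
    letI : CommGroup H := { (inferInstance : Group H) with mul_comm := hcomm }
    have hwinv : w⁻¹ = w := inv_eq_of_mul_eq_one_left hw
    rintro a (ha | ha)
    · exact Or.inl (Z₀.inv_mem ha)
    · right
      have : a⁻¹ * w = (a * w)⁻¹ := by rw [mul_inv, hwinv]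
      rw [this]
      exact Z₀.inv_mem ha

theorem mem_fourSub (hcomm : ∀ a b : H, a * b = b * a) (Z₀ : Subgroup H) (w : H) (hw : w * w = 1) (v : H) :
    v ∈ fourSub hcomm Z₀ w hw ↔ v ∈ Z₀ ∨ v * w ∈ Z₀ := Iff.rfl

/-- **Structure theorem** for the local analysis at the prime `2`. -/
theorem TwoData.exists_out [Finite H] (D : TwoData G t Z Z₀) {g₀ : MulAut H} (hg₀G : g₀ ∈ G)
    (hg₀ : g₀ * t * g₀⁻¹ ∉ Subgroup.zpowers t) : ∃ (V Z₁ : Subgroup H) (w : H), TwoOut G t Z Z₀ V Z₁ w := by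
  letI : CommGroup H := { (inferInstance : Group H) with mul_comm := D.hcomm }
  obtain ⟨z₀, hz₀Z₀, hz₀1, hz₀2, hz₀⟩ := D.exists_gen
  have hz₀Z : z₀ ∈ Z := D.hZ₀Z hz₀Z₀
  obtain ⟨w, hw⟩ : ∃ w : H, w = g₀ z₀ := ⟨_, rfl⟩
  obtain ⟨t', ht'⟩ : ∃ t' : MulAut H, t' = g₀ * t * g₀⁻¹ := ⟨_, rfl⟩
  have ht'G : t' ∈ G := by rw [ht']; exact G.mul_mem (G.mul_mem hg₀G D.htG) (G.inv_mem hg₀G)
  obtain ⟨hwZ, hg₀z⟩ := D.not_mem_of_conj_not_mem hz₀ hg₀G hg₀
  rw [← hw] at hwZ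
  have hw2 : w * w = 1 := by rw [hw, ← map_mul, hz₀2, map_one]
  have hwinv : w⁻¹ = w := inv_eq_of_mul_eq_one_left hw2
  have hz₀inv : z₀⁻¹ = z₀ := inv_eq_of_mul_eq_one_left hz₀2
  have hg₀w : g₀⁻¹ w = z₀ := by rw [hw, MulAut.inv_apply_self]
  have htz : t z₀ = z₀ := D.hfix z₀ hz₀Z
  have htw : t w = w * z₀ := D.apply_of_not_mem hz₀ hwZ
  have ht'z : t' z₀ = z₀ * w := by rw [ht', hw]; exact D.conj_apply_of_not_mem hz₀ g₀ hg₀z
  have ht'w : t' w = w := by rw [ht']; exact D.conj_apply_of_mem g₀ (by rw [hg₀w]; exact hz₀Z)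
  have hcases : ∀ g ∈ G, g * t * g⁻¹ = t ∨ g * t * g⁻¹ = t' ∨ g * t * g⁻¹ = t * t' * t⁻¹ := by
    intro g hgG
    rw [ht']
    exact D.conj_cases hg₀G hg₀ hgG
  set V : Subgroup H := fourSub D.hcomm Z₀ w hw2 with hV
  set Z₁ : Subgroup H := Z ⊓ Z.comap (g₀⁻¹ : H ≃* H).toMonoidHom with hZ₁
  have hmemZ₁ : ∀ c : H, c ∈ Z₁ ↔ c ∈ Z ∧ g₀⁻¹ c ∈ Z := fun c => Iff.rfl
  have htc : ∀ c ∈ Z₁, t c = c := fun c hc => D.hfix c hc.1
  have ht'c : ∀ c ∈ Z₁, t' c = c := fun c hc => by rw [ht']; exact D.conj_apply_of_mem g₀ hc.2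
  have htinv : t⁻¹ = t := D.inv_eq
  -- every conjugate of `t` fixes `Z₁` pointwise
  have hconjc : ∀ g ∈ G, ∀ c ∈ Z₁, (g * t * g⁻¹) c = c := by
    intro g hgG c hc
    rcases hcases g hgG with h | h | h
    · rw [h]; exact htc c hc
    · rw [h]; exact ht'c c hc
    · rw [h, MulAut.mul_apply, MulAut.mul_apply, htinv, htc c hc, ht'c c hc, htc c hc]
  have hinvZ : ∀ g ∈ G, ∀ c ∈ Z₁, g c ∈ Z := by
    intro g hgG c hc
    apply D.mem_of_fix
    have h1 := hconjc g⁻¹ (G.inv_mem hgG) c hc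
    rw [inv_inv, MulAut.mul_apply, MulAut.mul_apply] at h1
    have h2 : g (g⁻¹ (t (g c))) = g c := by rw [h1]
    rw [MulAut.apply_inv_self] at h2
    exact h2
  have hZ₁inv : ∀ g ∈ G, ∀ c ∈ Z₁, g c ∈ Z₁ := by
    intro g hgG c hc
    refine ⟨hinvZ g hgG c hc, ?_⟩
    have := hinvZ (g₀⁻¹ * g) (G.mul_mem (G.inv_mem hg₀G) hgG) c hc
    rw [MulAut.mul_apply] at this
    exact this
  -- the images of `z₀` and `w`
  have hzV : z₀ ∈ V := Or.inl hz₀Z₀
  have hwV : w ∈ V := Or.inr (by rw [hw2]; exact Z₀.one_mem)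
  have hgz : ∀ g ∈ G, g z₀ ∈ V := by
    intro g hgG
    rcases D.apply_gen_cases hz₀Z₀ hz₀1 hz₀2 hz₀ hg₀G hg₀ hgG with h | h | h
    · rw [h]; exact hzV
    · rw [h, ← hw]; exact hwV
    · rw [h, ← hw]; exact V.mul_mem hzV hwV
  have hgw : ∀ g ∈ G, g w ∈ V := by
    intro g hgG
    have := hgz (g * g₀) (G.mul_mem hgG hg₀G)
    rw [MulAut.mul_apply, ← hw] at this
    exact this
  have hVinv : ∀ g ∈ G, ∀ v ∈ V, g v ∈ V := by
    intro g hgG v hv
    rcases hv with hv | hv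
    · rcases hz₀ v hv with rfl | rfl
      · rw [map_one]; exact V.one_mem
      · exact hgz g hgG
    · have e : v = (v * w) * w := by rw [mul_assoc, hw2, mul_one]
      rw [e, map_mul]
      refine V.mul_mem ?_ (hgw g hgG)
      rcases hz₀ _ hv with h | h
      · rw [h, map_one]; exact V.one_mem
      · rw [h]; exact hgz g hgG
  -- decompositions
  have hZdec' : ∀ z ∈ Z, z ∈ Z₁ ∨ z * z₀ ∈ Z₁ := by
    intro z hz
    by_cases h : g₀⁻¹ z ∈ Z
    · exact Or.inl ⟨hz, h⟩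
    · right
      refine ⟨Z.mul_mem hz hz₀Z, ?_⟩
      show g₀⁻¹ (z * z₀) ∈ Z
      rw [map_mul, Subgroup.mul_mem_iff_of_index_two D.hZi]
      exact ⟨fun h' => absurd h' h, fun h' => absurd h' hg₀z⟩
  have hZdec : ∀ z ∈ Z, ∃ c ∈ Z₁, ∃ e ∈ Z₀, z = c * e := by
    intro z hz
    rcases hZdec' z hz with h | h
    · exact ⟨z, h, 1, Z₀.one_mem, (mul_one z).symm⟩
    · refine ⟨z * z₀, h, z₀, hz₀Z₀, ?_⟩
      rw [mul_assoc, hz₀2, mul_one]
  have hdec : ∀ r : H, ∃ v ∈ V, ∃ c ∈ Z₁, r = v * c := by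
    intro r
    by_cases hr : r ∈ Z
    · obtain ⟨c, hc, e, he, hrce⟩ := hZdec r hr
      exact ⟨e, Or.inl he, c, hc, by rw [hrce, mul_comm]⟩
    · have hrw : r * w ∈ Z := by
        rw [Subgroup.mul_mem_iff_of_index_two D.hZi]
        exact ⟨fun h' => absurd h' hr, fun h' => absurd h' hwZ⟩
      obtain ⟨c, hc, e, he, hrce⟩ := hZdec _ hrw
      refine ⟨e * w, V.mul_mem (Or.inl he) hwV, c, hc, ?_⟩
      calc r = r * (w * w) := by rw [hw2, mul_one]
        _ = (r * w) * w := by rw [mul_assoc]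
        _ = c * e * w := by rw [hrce]
        _ = e * w * c := by ac_rfl
  -- the braid relation
  have ht'sq : t' * t' = 1 := by
    rw [ht']
    have : g₀ * t * g₀⁻¹ * (g₀ * t * g₀⁻¹) = g₀ * (t * t) * g₀⁻¹ := by group
    rw [this, D.sq]
    group
  have ht'inv : t'⁻¹ = t' := inv_eq_of_mul_eq_one_left ht'sq
  have ht'nt : t' ≠ t := by
    intro h
    apply hg₀
    rw [← ht', h]
    exact Subgroup.mem_zpowers t
  have hbraid : t' * t * t'⁻¹ = t * t' * t⁻¹ := by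
    rcases hcases t' ht'G with h | h | h
    · exfalso
      have h1 : (t' * t * t'⁻¹) z₀ = t z₀ := by rw [h]
      rw [MulAut.mul_apply, MulAut.mul_apply, ht'inv, ht'z, map_mul, htz, htw, map_mul, map_mul, ht'z, ht'w] at h1
      have h2 : z₀ * (w * z₀) = w := by
        calc z₀ * (w * z₀) = w * (z₀ * z₀) := by ac_rfl
          _ = w := by rw [hz₀2, mul_one]
      have h3 : z₀ * w * (w * (z₀ * w)) = w := by
        calc z₀ * w * (w * (z₀ * w)) = w * (w * w) * (z₀ * z₀) := by ac_rfl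
          _ = w := by rw [hz₀2, hw2, mul_one, mul_one]
      rw [h3] at h1
      apply hwZ
      rw [h1]
      exact hz₀Z
    · exfalso
      apply ht'nt
      have : t = t'⁻¹ * (t' * t * t'⁻¹) * t' := by group
      rw [this, h]
      group
    · exact h
  have hcent : ∀ g ∈ G, ∃ γ ∈ G, γ * t * γ⁻¹ = t ∧ ∀ c ∈ Z₁, g c = γ c := by
    intro g hgG
    have hkey : ∀ n ∈ G, (∀ c ∈ Z₁, n c = c) → n * t * n⁻¹ = g * t * g⁻¹ →
        ∃ γ ∈ G, γ * t * γ⁻¹ = t ∧ ∀ c ∈ Z₁, g c = γ c := by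
      intro n hnG hnc hnt
      refine ⟨n⁻¹ * g, G.mul_mem (G.inv_mem hnG) hgG, ?_, fun c hc => ?_⟩
      · have e : n⁻¹ * g * t * (n⁻¹ * g)⁻¹ = n⁻¹ * (g * t * g⁻¹) * n := by group
        rw [e, ← hnt]
        group
      · have h1 : n⁻¹ (g c) = g c := by
          have h2 := hnc _ (hZ₁inv g hgG c hc)
          have h3 : n⁻¹ (n (g c)) = n⁻¹ (g c) := by rw [h2]
          rw [MulAut.inv_apply_self] at h3
          exact h3.symm
        rw [MulAut.mul_apply, h1]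
    rcases hcases g hgG with h | h | h
    · exact ⟨g, hgG, h, fun c _ => rfl⟩
    · apply hkey (t * t') (G.mul_mem D.htG ht'G)
      · intro c hc
        rw [MulAut.mul_apply, ht'c c hc, htc c hc]
      · rw [h]
        have e : t * t' * t * (t * t')⁻¹ = t * (t' * t * t'⁻¹) * t⁻¹ := by group
        rw [e, hbraid]
        have e2 : t * (t * t' * t⁻¹) * t⁻¹ = (t * t) * t' * (t * t)⁻¹ := by group
        rw [e2, D.sq]
        group
    · apply hkey (t' * t) (G.mul_mem ht'G D.htG)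
      · intro c hc
        rw [MulAut.mul_apply, htc c hc, ht'c c hc]
      · rw [h]
        have e : t' * t * t * (t' * t)⁻¹ = t' * t * t'⁻¹ := by group
        rw [e, hbraid]
  refine ⟨V, Z₁, w, ⟨hVinv, hZ₁inv, fun z hz => Or.inl hz, hwV, hwZ, hw2, fun v hv => hv, inf_le_left, ?_, hZdec, hdec,
    hcent⟩⟩
  intro c hc hc0
  rcases hz₀ c hc0 with h | h
  · exact h
  · exfalso
    apply hg₀z
    rw [← h]
    exact hc.2

end two

end Cfsg.Agent.Helper86
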