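import Cfsg.Agent.Helper85.PPowerNormal
import Cfsg.Agent.Helper85.HyperfocalNormal
set_option autoImplicit false

/-!
Degree-tracked Frattini decompositions. For a subsystem `E` over `T` of a system `F` over `S` and a homomorphism
`χ : Aut_F(T) →* Δ`, a map `φ` with source `P ≤ T` *has degree* `d` when `φ = α ∘ φ₀` with `φ₀` a map of `E` and
`α ∈ Aut_F(T)` with `χ α = d`. (Degrees need not be unique.) The calculus: restriction, composition, inverses.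
-/

namespace Cfsg.Agent.Helper86.NQ

open Cfsg Cfsg.FusionSystem Cfsg.Agent.Helper87 Cfsg.Agent.Helper88.FS Cfsg.Agent.Helper85

variable {Ω : Type*} [Group Ω] {S T : Subgroup Ω} {Δ : Type*} [Group Δ]

/-- `φ = α ∘ φ₀` with `φ₀` in `E` and `χ α = d`. -/
def Dec (E : FusionSystem T) (F : FusionSystem S) (χ : ↥(F.autGroup T) →* Δ) {P : Subgroup Ω} (φ : P →* Ω)
    (d : Δ) : Prop :=
  ∃ (α : MulAut T) (hα : α ∈ F.autGroup T), χ ⟨α, hα⟩ = d ∧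
    ∃ φ₀ ∈ E.Hom P, ∀ (x : P) (hx : φ₀ x ∈ T), φ x = ((α ⟨φ₀ x, hx⟩ : T) : Ω)

variable {E : FusionSystem T} {F : FusionSystem S} {χ : ↥(F.autGroup T) →* Δ}

theorem Dec.fr {P : Subgroup Ω} {φ : P →* Ω} {d : Δ} (h : Dec E F χ φ d) : Fr E F φ := by
  obtain ⟨α, hα, -, φ₀, hφ₀, hx⟩ := h
  exact ⟨α, hα, φ₀, hφ₀, hx⟩

theorem Dec.of_fr {P : Subgroup Ω} {φ : P →* Ω} (h : Fr E F φ) : ∃ d : Δ, Dec E F χ φ d := by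
  obtain ⟨α, hα, φ₀, hφ₀, hx⟩ := h
  exact ⟨χ ⟨α, hα⟩, α, hα, rfl, φ₀, hφ₀, hx⟩

theorem Dec.le {P : Subgroup Ω} {φ : P →* Ω} {d : Δ} (h : Dec E F χ φ d) : P ≤ T := by
  obtain ⟨α, hα, -, φ₀, hφ₀, hx⟩ := h
  exact (E.le_of_mem hφ₀).1

theorem Dec.congr {P : Subgroup Ω} {φ φ' : P →* Ω} {d : Δ} (h : Dec E F χ φ d)
    (hφ : ∀ x, φ' x = φ x) : Dec E F χ φ' d := by
  have : φ' = φ := MonoidHom.ext hφ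
  rwa [this]

theorem Dec.restrict {P R : Subgroup Ω} {φ : P →* Ω} {d : Δ} (h : Dec E F χ φ d)
    (hRP : R ≤ P) : Dec E F χ (φ.comp (Subgroup.inclusion hRP)) d := by
  obtain ⟨α, hα, hd, φ₀, hφ₀, hx⟩ := h
  exact ⟨α, hα, hd, φ₀.comp (Subgroup.inclusion hRP), Helper87.restrict_mem E hφ₀ hRP, fun x hx' => hx _ hx'⟩

theorem Dec.of_mem {P : Subgroup Ω} {φ : P →* Ω} (h : φ ∈ E.Hom P) : Dec E F χ φ 1 :=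
  ⟨1, (F.autGroup T).one_mem, map_one χ, φ, h, fun _ _ => rfl⟩

/-- The restriction of an automorphism `α ∈ Aut_F(T)` to `P ≤ T`. -/
def resT (α : MulAut T) {P : Subgroup Ω} (hPT : P ≤ T) : P →* Ω :=
  (T.subtype.comp α.toMonoidHom).comp (Subgroup.inclusion hPT)

theorem resT_apply (α : MulAut T) {P : Subgroup Ω} (hPT : P ≤ T) (x : P) :
    resT α hPT x = ((α ⟨x, hPT x.2⟩ : T) : Ω) := rfl

theorem Dec.of_aut {α : MulAut T} (hα : α ∈ F.autGroup T) {P : Subgroup Ω} (hPT : P ≤ T) :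
    Dec E F χ (resT α hPT) (χ ⟨α, hα⟩) :=
  ⟨α, hα, rfl, P.subtype, Helper87.subtype_mem E hPT, fun _ _ => rfl⟩

/-- Composition of a map of degree `d` with a map of the subsystem. -/
theorem Dec.comp_mem (hAI : AutInv E (F.autGroup T))
    {P Q : Subgroup Ω} {φ : P →* Ω} {d : Δ} (h : Dec E F χ φ d) (hφQ : ∀ x : P, φ x ∈ Q) {θ : Q →* Ω}
    (hθ : θ ∈ E.Hom Q) : Dec E F χ (θ.comp (φ.codRestrict Q hφQ)) d := by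
  obtain ⟨α, hα, hd, φ₀, hφ₀, hx⟩ := h
  have hPT : P ≤ T := (E.le_of_mem hφ₀).1
  have hφ₀T : ∀ x : P, φ₀ x ∈ T := (E.le_of_mem hφ₀).2
  have hQT : Q ≤ T := (E.le_of_mem hθ).1
  have hαinv : α⁻¹ ∈ F.autGroup T := (F.autGroup T).inv_mem hα
  have hP₁Q : φ.range ≤ Q := by
    rintro y ⟨x, rfl⟩
    exact hφQ x
  have hP₁T : φ.range ≤ T := hP₁Q.trans hQT
  have hθ₁ : θ.comp (Subgroup.inclusion hP₁Q) ∈ E.Hom φ.range := Helper87.restrict_mem E hθ hP₁Q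
  have hφx : ∀ x : P, ((α⁻¹ ⟨φ x, hP₁T ⟨x, rfl⟩⟩ : T) : Ω) = φ₀ x := by
    intro x
    have e : (⟨φ x, hP₁T ⟨x, rfl⟩⟩ : T) = α ⟨φ₀ x, hφ₀T x⟩ := Subtype.ext (hx x (hφ₀T x))
    rw [e, MulAut.inv_apply_self]
  have hP' : ∀ y, y ∈ φ₀.range ↔ ∃ z : φ.range, ((α⁻¹ ⟨z, hP₁T z.2⟩ : T) : Ω) = y := by
    intro y
    constructor
    · rintro ⟨x, rfl⟩
      exact ⟨⟨φ x, ⟨x, rfl⟩⟩, hφx x⟩
    · rintro ⟨⟨_, ⟨x, rfl⟩⟩, rfl⟩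
      exact ⟨x, (hφx x).symm⟩
  obtain ⟨χ', hχ', hχx⟩ := hAI hP₁T hθ₁ hαinv _ hP'
  refine ⟨α, hα, hd, χ'.comp (φ₀.codRestrict φ₀.range (fun x => ⟨x, rfl⟩)),
    E.comp_mem hφ₀ hχ' (fun x => ⟨x, rfl⟩), fun x hx' => ?_⟩
  have hθT : θ ⟨φ x, hφQ x⟩ ∈ T := (E.le_of_mem hθ).2 _
  have h1 := hχx ⟨φ x, ⟨x, rfl⟩⟩ (by rw [hφx x]; exact ⟨x, rfl⟩) hθT
  have e : (⟨φ₀ x, ⟨x, rfl⟩⟩ : φ₀.range) =
      ⟨((α⁻¹ ⟨φ x, hP₁T ⟨x, rfl⟩⟩ : T) : Ω), by rw [hφx x]; exact ⟨x, rfl⟩⟩ := Subtype.ext (hφx x).symm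
  have h2 : (χ'.comp (φ₀.codRestrict φ₀.range (fun x => ⟨x, rfl⟩))) x = ((α⁻¹ ⟨θ ⟨φ x, hφQ x⟩, hθT⟩ : T) : Ω) := by
    show χ' ⟨φ₀ x, ⟨x, rfl⟩⟩ = _
    rw [e]
    exact h1
  have h3 : (⟨(χ'.comp (φ₀.codRestrict φ₀.range (fun x => ⟨x, rfl⟩))) x, hx'⟩ : T) = α⁻¹ ⟨θ ⟨φ x, hφQ x⟩, hθT⟩ :=
    Subtype.ext h2
  rw [h3, MulAut.apply_inv_self]
  rfl

/-- Degrees multiply under composition. -/
theorem Dec.comp (hAI : AutInv E (F.autGroup T))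
    {P Q : Subgroup Ω} {φ : P →* Ω} {d d' : Δ} (h : Dec E F χ φ d) (hφQ : ∀ x : P, φ x ∈ Q) {ψ : Q →* Ω}
    (hψ : Dec E F χ ψ d') : Dec E F χ (ψ.comp (φ.codRestrict Q hφQ)) (d' * d) := by
  obtain ⟨α₂, hα₂, hd₂, ψ₀, hψ₀, hψx⟩ := hψ
  obtain ⟨α, hα, hd, φ₀, hφ₀, hx⟩ := Dec.comp_mem hAI h hφQ hψ₀
  refine ⟨α₂ * α, (F.autGroup T).mul_mem hα₂ hα, ?_, φ₀, hφ₀, fun x hx' => ?_⟩
  · have : (⟨α₂ * α, (F.autGroup T).mul_mem hα₂ hα⟩ : ↥(F.autGroup T)) = ⟨α₂, hα₂⟩ * ⟨α, hα⟩ := rfl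
    rw [this, map_mul, hd₂, hd]
  · have h1 := hx x hx'
    have hψ₀T : ψ₀ ⟨φ x, hφQ x⟩ ∈ T := (E.le_of_mem hψ₀).2 _
    have h2 := hψx ⟨φ x, hφQ x⟩ hψ₀T
    show ψ ⟨φ x, hφQ x⟩ = _
    rw [h2, MulAut.mul_apply]
    congr 2
    exact Subtype.ext h1

/-- The inverse of a map of degree `d` has degree `d⁻¹`. -/
theorem Dec.inv (hAI : AutInv E (F.autGroup T))
    {P : Subgroup Ω} {φ : P →* Ω} {d : Δ} (h : Dec E F χ φ d) {ρ : φ.range →* Ω}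
    (hρ : ∀ x : P, ρ ⟨φ x, ⟨x, rfl⟩⟩ = (x : Ω)) : Dec E F χ ρ d⁻¹ := by
  obtain ⟨α, hα, hd, φ₀, hφ₀, hx⟩ := h
  have hPT : P ≤ T := (E.le_of_mem hφ₀).1
  have hφ₀T : ∀ x : P, φ₀ x ∈ T := (E.le_of_mem hφ₀).2
  have hαinv : α⁻¹ ∈ F.autGroup T := (F.autGroup T).inv_mem hα
  have hP₀T : φ₀.range ≤ T := by
    rintro y ⟨x, rfl⟩
    exact hφ₀T x
  obtain ⟨ρ₀, hρ₀, hρ₀x⟩ := E.inv_mem hφ₀
  have hP' : ∀ y, y ∈ φ.range ↔ ∃ z : φ₀.range, ((α ⟨z, hP₀T z.2⟩ : T) : Ω) = y := by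
    intro y
    constructor
    · rintro ⟨x, rfl⟩
      exact ⟨⟨φ₀ x, ⟨x, rfl⟩⟩, (hx x (hφ₀T x)).symm⟩
    · rintro ⟨⟨_, ⟨x, rfl⟩⟩, rfl⟩
      exact ⟨x, hx x (hφ₀T x)⟩
  obtain ⟨χ', hχ', hχx⟩ := hAI hP₀T hρ₀ hα _ hP'
  refine ⟨α⁻¹, hαinv, ?_, χ', hχ', ?_⟩
  · have : (⟨α⁻¹, hαinv⟩ : ↥(F.autGroup T)) = (⟨α, hα⟩ : ↥(F.autGroup T))⁻¹ := rfl
    rw [this, map_inv, hd]
  rintro ⟨_, ⟨x, rfl⟩⟩ hx'
  have hxT : ρ₀ ⟨φ₀ x, ⟨x, rfl⟩⟩ ∈ T := by rw [hρ₀x x]; exact hPT x.2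
  have h1 := hχx ⟨φ₀ x, ⟨x, rfl⟩⟩ (by rw [← hx x (hφ₀T x)]; exact ⟨x, rfl⟩) hxT
  have e : (⟨φ x, ⟨x, rfl⟩⟩ : φ.range) =
      ⟨((α ⟨φ₀ x, hφ₀T x⟩ : T) : Ω), by rw [← hx x (hφ₀T x)]; exact ⟨x, rfl⟩⟩ := Subtype.ext (hx x (hφ₀T x))
  have h2 : χ' ⟨φ x, ⟨x, rfl⟩⟩ = ((α ⟨ρ₀ ⟨φ₀ x, ⟨x, rfl⟩⟩, hxT⟩ : T) : Ω) := by
    rw [e]
    exact h1
  have h3 : (⟨χ' ⟨φ x, ⟨x, rfl⟩⟩, hx'⟩ : T) = α ⟨ρ₀ ⟨φ₀ x, ⟨x, rfl⟩⟩, hxT⟩ := Subtype.ext h2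
  rw [h3, MulAut.inv_apply_self, hρ x]
  exact (hρ₀x x).symm

/-- Moving a degree along an equality of sources. -/
theorem Dec.of_eq {A B : Subgroup Ω} (h : A = B) {ρA : A →* Ω} {d : Δ}
    {ρB : B →* Ω} (hAB : ∀ (y : Ω) (hA : y ∈ A) (hB : y ∈ B), ρB ⟨y, hB⟩ = ρA ⟨y, hA⟩) (hA : Dec E F χ ρA d) :
    Dec E F χ ρB d := by
  subst h
  have : ρB = ρA := MonoidHom.ext (fun y => hAB y y.2 y.2)
  rwa [this]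

/-- Inverse, general form: `ρ` defined on a subgroup `Q` equal to the image of `φ`, with `ρ (φ x) = x`. -/
theorem Dec.inv' (hAI : AutInv E (F.autGroup T))
    {P Q : Subgroup Ω} {φ : P →* Ω} {d : Δ} (h : Dec E F χ φ d) (hφQ : ∀ x : P, φ x ∈ Q)
    (hQ : ∀ y ∈ Q, ∃ x : P, φ x = y) {ρ : Q →* Ω} (hρ : ∀ x : P, ρ ⟨φ x, hφQ x⟩ = (x : Ω)) :
    Dec E F χ ρ d⁻¹ := by
  have hEq : φ.range = Q := by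
    ext y
    constructor
    · rintro ⟨x, rfl⟩
      exact hφQ x
    · intro hy
      obtain ⟨x, rfl⟩ := hQ y hy
      exact ⟨x, rfl⟩
  have hle : φ.range ≤ Q := hEq.le
  have h1 : Dec E F χ (ρ.comp (Subgroup.inclusion hle)) d⁻¹ := Dec.inv hAI h (fun x => hρ x)
  exact Dec.of_eq hEq (fun y hA hB => rfl) h1

end Cfsg.Agent.Helper86.NQ
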