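import Cfsg.Agent.Helper86.NQBad
set_option autoImplicit false

/-!
The Frattini property `F = Aut_F(S) · sysZero` and the index prime to `p`.
-/

namespace Cfsg.Agent.Helper86.NQ

open Cfsg Cfsg.FusionSystem Cfsg.Agent.Helper87 Cfsg.Agent.Helper88.FS Cfsg.Agent.Helper85

variable {Ω : Type*} [Group Ω] {S T : Subgroup Ω} {Δ : Type*} [Group Δ]
variable {p : ℕ} {F : FusionSystem S} {E : FusionSystem T} {χ : ↥(F.autGroup T) →* Δ}

theorem stronglyClosed_self (F : FusionSystem S) : F.StronglyClosed S :=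
  ⟨le_rfl, fun _ _ _ hφ x => (F.le_of_mem hφ).2 x⟩

/-- An automorphism of `p`-power order is, after transport to a fully normalized conjugate, induced by `S`. -/
theorem exists_iso_conj_of_pow [Finite S] [Fact p.Prime] (hS : IsPGroup p S) (hF : F.IsSaturated p)
    {R : Subgroup Ω} (hRS : R ≤ S) {γ : MulAut R} (hγ : γ ∈ F.autGroup R) {k : ℕ} (hk : γ ^ p ^ k = 1) :
    ∃ (R' : Subgroup Ω) (e' : R ≃* R') (s : Ω), IsIso F e' ∧ s ∈ S ∧
      ∀ x : R, ((e' (γ x) : R') : Ω) = s * ((e' x : R') : Ω) * s⁻¹ := by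
  obtain ⟨R', hconj, hR'n⟩ := exists_isConj_fullyNormalized F hRS
  obtain ⟨-, hR'a⟩ := fullyAutomized_fullyCentralized_of_fullyNormalized hS F hF hR'n
  obtain ⟨e, he⟩ := (isConj_iff F R R').mp hconj
  have hR'S : R' ≤ S := he.le_right
  obtain ⟨-, Sy, hSy⟩ := hR'a
  have : Finite (MulAut R') := finite_mulAut_of_le hR'S
  have hγiso : IsIso F (γ : R ≃* R) := (mem_autGroup_iff F hRS γ).mp hγ
  have hγ' : MulAut.congr e γ ∈ F.autGroup R' :=
    (mem_autGroup_iff F hR'S _).mpr (he.symm.trans (hγiso.trans he))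
  have hg'pow : (⟨MulAut.congr e γ, hγ'⟩ : ↥(F.autGroup R')) ^ p ^ k = 1 := by
    apply Subtype.ext
    show (MulAut.congr e γ) ^ p ^ k = 1
    rw [← map_pow, hk, map_one]
  have hB : IsPGroup p (Subgroup.zpowers (⟨MulAut.congr e γ, hγ'⟩ : ↥(F.autGroup R'))) := by
    rintro ⟨b, hb⟩
    obtain ⟨n, rfl⟩ := Subgroup.mem_zpowers_iff.mp hb
    refine ⟨k, Subtype.ext ?_⟩
    show ((⟨MulAut.congr e γ, hγ'⟩ : ↥(F.autGroup R')) ^ n) ^ p ^ k = 1
    rw [← zpow_natCast, ← zpow_mul, mul_comm, zpow_mul, zpow_natCast, hg'pow, one_zpow]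
  obtain ⟨a, ha⟩ := exists_conj_mem_sylow_of_isPGroup Sy _ hB
  have h1 : a * ⟨MulAut.congr e γ, hγ'⟩ * a⁻¹ ∈ (Sy : Subgroup (F.autGroup R')) :=
    ha _ (Subgroup.mem_zpowers _)
  rw [hSy, Subgroup.mem_subgroupOf, mem_autInducedBy_iff] at h1
  obtain ⟨s, hsS, hs⟩ := h1
  have haiso : IsIso F ((a : MulAut R') : R' ≃* R') := (mem_autGroup_iff F hR'S a).mp a.2
  refine ⟨R', e.trans (a : MulAut R'), s, he.trans haiso, hsS, fun x => ?_⟩
  rw [← hs ((e.trans (a : MulAut R')) x)]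
  congr 1
  simp [MulAut.congr, MulAut.mul_apply, MulAut.inv_apply]

theorem sysZero_frattini [Finite S] [Fact p.Prime] (h : Hyp p F E χ) (hχ : Function.Surjective χ) :
    ∀ (P : Subgroup Ω) (φ : P →* Ω), φ ∈ F.Hom P → Fr (sysZero h) F φ := by
  have hSc := stronglyClosed_self F
  have hAI : AutInv (sysZero h) (F.autGroup S) := sysZero_autInv h
  have hTn : ∀ g ∈ S, ∀ x ∈ T, g * x * g⁻¹ ∈ T := fun g hg x hx => conj_mem_of_stronglyClosed F h.closed hg hx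
  have key := hom_subset_of_autGroup_le h.pS F (frSystem F (sysZero h) hSc hAI) h.satF (fun R hRa hRr ih => by
    have hRS := hRa.1
    intro δ hδ
    rw [mem_autGroup_iff _ hRS]
    have hδF : R.subtype.comp (δ : R ≃* R).toMonoidHom ∈ F.Hom R := (mem_autGroup_iff F hRS δ).mp hδ
    refine ⟨hδF, fun P hPR hPS => ?_⟩
    suffices hfr : Fr (sysZero h) F (R.subtype.comp (δ : R ≃* R).toMonoidHom) from
      (hfr.restrict hPR).congr (fun x => rfl)
    -- a proper extension gives the result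
    have hext : ∀ c ∈ extender S R (R.subtype.comp (δ : R ≃* R).toMonoidHom), c ∉ R →
        Fr (sysZero h) F (R.subtype.comp (δ : R ≃* R).toMonoidHom) := by
      intro c hcN hcR
      obtain ⟨ψ, hψ, hψx⟩ := hRr.2 R _ hδF (range_subtype_comp_equiv (δ : R ≃* R))
      have hle : R ≤ extender S R (R.subtype.comp (δ : R ≃* R).toMonoidHom) := le_extender_of_mem F hδF
      have hlt : R < extender S R (R.subtype.comp (δ : R ≃* R).toMonoidHom) :=
        lt_of_le_of_ne hle (fun heq => hcR (by rw [heq]; exact hcN))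
      have hfin : Finite ↥(extender S R (R.subtype.comp (δ : R ≃* R).toMonoidHom)) :=
        finite_of_le (F.le_of_mem hψ).1
      have hcard := card_lt_card_of_lt hlt
      have hψfr := ih _ ψ hcard hψ
      have := hψfr.2 R hle hRS
      exact this.congr (fun x => (hψx x x.2 (hle x.2)).symm)
    by_cases hH : HH F T R
    · obtain ⟨d, hd⟩ := h.exists_th hδF
      obtain ⟨α, hα⟩ := h.degS_surjective hχ d
      have hvalS : ∀ x : R, (R.subtype.comp (δ : R ≃* R).toMonoidHom) x ∈ S := (F.le_of_mem hδF).2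
      have hαinv : ((α⁻¹ : ↥(F.autGroup S)) : MulAut S) ∈ F.autGroup S := (α⁻¹).2
      have hφ₀F := F.comp_mem hδF (resS_mem hαinv le_rfl) hvalS
      have hth := h.th_comp hδF hvalS hd (h.th_autS α⁻¹ le_rfl)
      have hone : h.degS α⁻¹ * d = 1 := by rw [map_inv, hα]; group
      rw [hone] at hth
      refine ⟨(α : MulAut S), α.2, _, mem_sysZero h hH hφ₀F hth, fun x hx => ?_⟩
      have e : (⟨((resS ((α⁻¹ : ↥(F.autGroup S)) : MulAut S) (le_refl S)).comp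
          ((R.subtype.comp (δ : R ≃* R).toMonoidHom).codRestrict S hvalS)) x, hx⟩ : S) =
          (α : MulAut S)⁻¹ ⟨((δ x : R) : Ω), hvalS x⟩ := Subtype.ext rfl
      rw [e, MulAut.apply_inv_self]
      rfl
    · by_cases hRc : F.IsCentric R
      · have hQ : ¬ QT F T (R ⊓ T) := fun hq => hH ⟨hRc, hq⟩
        obtain ⟨R₁, hR₁c, hR₁⟩ := exists_conj_not_le h.pS h.satF h.closed hRS hQ
        obtain ⟨e₁, he₁⟩ := (isConj_iff F R R₁).mp hR₁c
        obtain ⟨c₁, hc₁⟩ := exists_badElt h.pS h.le hTn he₁.le_right hR₁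
        obtain ⟨c, hc⟩ := hc₁.transfer h.pS h.closed hRa hRr (isConj_symm F hR₁c)
        exact hext c (hc.mem_extender h.pS h.closed hRa hδ) hc.2.2.2
      · unfold IsCentric at hRc
        push_neg at hRc
        obtain ⟨Q, hQc, hQ⟩ := hRc hRS
        obtain ⟨c₀, hc₀C, hc₀Q⟩ := SetLike.not_le_iff_exists.mp hQ
        obtain ⟨e, he⟩ := (isConj_iff F Q R).mp (isConj_symm F hQc)
        obtain ⟨φ, hφ, e', he', -, -, hcent, hback⟩ := exists_extension_normalizerIn' h.pS F hRa hRr e he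
        have hc₀N : c₀ ∈ normalizerIn S Q := centralizerIn_le_normalizerIn S Q hc₀C
        have h1 := hcent ⟨c₀, hc₀N⟩ hc₀C
        exact hext _ (centralizerIn_le_extender R _ h1) (fun hmem => hc₀Q (hback _ hmem)))
  intro P φ hφ
  have := (key P hφ).2 P le_rfl (F.le_of_mem hφ).1
  exact this.congr (fun x => rfl)

/-- The generated subsystem has index prime to `p`. -/
theorem sysZero_primeIndex [Finite S] [Fact p.Prime] (h : Hyp p F E χ) (hχ : Function.Surjective χ) :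
    (sysZero h).HasPrimeToPIndexIn F p := by
  refine ⟨sysZero_le h, fun P hPS => ?_⟩
  rw [Subgroup.map_le_iff_le_comap, Subgroup.closure_le]
  rintro γ ⟨k, hk⟩
  show ((γ : MulAut P)) ∈ (sysZero h).autGroup P
  have hpow : (γ : MulAut P) ^ p ^ k = 1 := by
    have h1 : γ ^ p ^ k = 1 := by rw [← hk]; exact pow_orderOf_eq_one γ
    have := congrArg Subtype.val h1
    simpa using this
  obtain ⟨R', e', s, he', hsS, hkey⟩ := exists_iso_conj_of_pow h.pS h.satF hPS γ.2 hpow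
  have hσF : R'.subtype.comp e'.toMonoidHom ∈ F.Hom P := he'
  obtain ⟨α, hα, τ, hτ, hτx⟩ := sysZero_frattini h hχ P _ hσF
  have hτS : ∀ x : P, τ x ∈ S := ((sysZero h).le_of_mem hτ).2
  have hrS : τ.range ≤ S := by
    rintro _ ⟨x, rfl⟩
    exact hτS x
  obtain ⟨ρ, hρ, hρx⟩ := (sysZero h).inv_mem hτ
  -- the conjugating element
  have hs₁ : ((α⁻¹ ⟨s, hsS⟩ : S) : Ω) ∈ S := (α⁻¹ ⟨s, hsS⟩).2
  have hc := (sysZero h).conj_mem hrS hs₁
  have hτeq : ∀ x : P, ((α⁻¹ ⟨s, hsS⟩ : S) : Ω) * τ x * ((α⁻¹ ⟨s, hsS⟩ : S) : Ω)⁻¹ = τ ((γ : MulAut P) x) := by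
    intro x
    have h1 := hτx x (hτS x)
    have h2 := hτx ((γ : MulAut P) x) (hτS _)
    have h3 := hkey x
    have h1' : ((e' x : R') : Ω) = ((α ⟨τ x, hτS x⟩ : S) : Ω) := h1
    have h2' : ((e' ((γ : MulAut P) x) : R') : Ω) = ((α ⟨τ ((γ : MulAut P) x), hτS _⟩ : S) : Ω) := h2
    rw [h1', h2'] at h3
    have h4 : α ⟨τ ((γ : MulAut P) x), hτS _⟩ = ⟨s, hsS⟩ * α ⟨τ x, hτS x⟩ * ⟨s, hsS⟩⁻¹ := Subtype.ext h3
    have h5 := congrArg (α⁻¹ : MulAut S) h4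
    rw [MulAut.inv_apply_self, map_mul, map_mul, map_inv, MulAut.inv_apply_self] at h5
    have h6 := congrArg Subtype.val h5
    exact h6.symm
  have hval1 : ∀ x : P, τ x ∈ τ.range := fun x => ⟨x, rfl⟩
  have hc1 := (sysZero h).comp_mem hτ hc hval1
  have hval2 : ∀ x : P, ((conjHom τ.range ((α⁻¹ ⟨s, hsS⟩ : S) : Ω)).comp (τ.codRestrict τ.range hval1)) x ∈ τ.range := by
    intro x
    show ((α⁻¹ ⟨s, hsS⟩ : S) : Ω) * τ x * ((α⁻¹ ⟨s, hsS⟩ : S) : Ω)⁻¹ ∈ τ.range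
    rw [hτeq x]
    exact ⟨_, rfl⟩
  have hc2 := (sysZero h).comp_mem hc1 hρ hval2
  rw [mem_autGroup_iff _ hPS]
  unfold IsIso
  refine mem_of_eq (sysZero h) hc2 (fun x => ?_)
  show (((γ : MulAut P) x : P) : Ω) = ρ ⟨((α⁻¹ ⟨s, hsS⟩ : S) : Ω) * τ x * ((α⁻¹ ⟨s, hsS⟩ : S) : Ω)⁻¹, _⟩
  have e : (⟨((α⁻¹ ⟨s, hsS⟩ : S) : Ω) * τ x * ((α⁻¹ ⟨s, hsS⟩ : S) : Ω)⁻¹, hval2 x⟩ : τ.range) =
      ⟨τ ((γ : MulAut P) x), ⟨_, rfl⟩⟩ := Subtype.ext (hτeq x)
  rw [e, hρx]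

/-- Centric subgroups of the generated subsystem are centric in `F`. -/
theorem isCentric_of_sysZero [Finite S] [Fact p.Prime] (h : Hyp p F E χ) (hχ : Function.Surjective χ)
    {P : Subgroup Ω} (hP : (sysZero h).IsCentric P) : F.IsCentric P := by
  refine ⟨hP.1, fun Q hQ => ?_⟩
  obtain ⟨φ, hφ, rfl⟩ := hQ
  obtain ⟨α, hα, τ, hτ, hτx⟩ := sysZero_frattini h hχ P φ hφ
  have hτS : ∀ x : P, τ x ∈ S := ((sysZero h).le_of_mem hτ).2
  have h1 := hP.2 τ.range ⟨τ, hτ, rfl⟩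
  intro c hc
  -- `α⁻¹ c` centralizes `τ(P)`
  have hc' : ((α⁻¹ ⟨c, hc.1⟩ : S) : Ω) ∈ centralizerIn S τ.range := by
    refine ⟨(α⁻¹ ⟨c, hc.1⟩ : S).2, ?_⟩
    show _ ∈ Subgroup.centralizer (τ.range : Set Ω)
    rw [Subgroup.mem_centralizer_iff]
    rintro _ ⟨x, rfl⟩
    have h2 := Subgroup.mem_centralizer_iff.mp hc.2 (φ x) ⟨x, rfl⟩
    have h3 := hτx x (hτS x)
    have h4 : α ⟨τ x, hτS x⟩ * ⟨c, hc.1⟩ = ⟨c, hc.1⟩ * α ⟨τ x, hτS x⟩ := by
      apply Subtype.ext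
      show ((α ⟨τ x, hτS x⟩ : S) : Ω) * c = c * ((α ⟨τ x, hτS x⟩ : S) : Ω)
      rw [← h3]
      exact h2
    have h5 := congrArg (α⁻¹ : MulAut S) h4
    rw [map_mul, map_mul, MulAut.inv_apply_self] at h5
    exact congrArg Subtype.val h5
  obtain ⟨x, hx⟩ := h1 hc'
  refine ⟨x, ?_⟩
  rw [hτx x (hτS x)]
  have e : (⟨τ x, hτS x⟩ : S) = α⁻¹ ⟨c, hc.1⟩ := Subtype.ext hx
  rw [e, MulAut.apply_inv_self]

end Cfsg.Agent.Helper86.NQ
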