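import Cfsg.Agent.Helper86.NQSurj
set_option autoImplicit false

/-!
The generated subsystem `sysZero` is invariant under `Aut_F(S)`.
-/

namespace Cfsg.Agent.Helper86.NQ

open Cfsg Cfsg.FusionSystem Cfsg.Agent.Helper87 Cfsg.Agent.Helper88.FS Cfsg.Agent.Helper85

variable {Ω : Type*} [Group Ω] {S T : Subgroup Ω} {Δ : Type*} [Group Δ]
variable {p : ℕ} {F : FusionSystem S} {E : FusionSystem T} {χ : ↥(F.autGroup T) →* Δ}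

/-- The inverse of a map of the system onto a subgroup `Q`, as a map with source `Q`. -/
theorem exists_inv_on (F : FusionSystem S) {P Q : Subgroup Ω} {φ : P →* Ω} (hφ : φ ∈ F.Hom P)
    (hφQ : ∀ x, φ x ∈ Q) (hQ : ∀ y ∈ Q, ∃ x : P, φ x = y) :
    ∃ ρ ∈ F.Hom Q, ∀ x : P, ρ ⟨φ x, hφQ x⟩ = (x : Ω) := by
  have hEq : φ.range = Q := by
    ext y
    constructor
    · rintro ⟨x, rfl⟩
      exact hφQ x
    · intro hy
      obtain ⟨x, rfl⟩ := hQ y hy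
      exact ⟨x, rfl⟩
  obtain ⟨ρ, hρ, hρx⟩ := F.inv_mem hφ
  obtain ⟨ρ', hρ', hρ'x⟩ := exists_hom_of_eq F hEq hρ
  refine ⟨ρ', hρ', fun x => ?_⟩
  rw [hρ'x _ ⟨x, rfl⟩ (hφQ x)]
  exact hρx x

theorem sysZero_autInv [Finite S] [Fact p.Prime] (h : Hyp p F E χ) : AutInv (sysZero h) (F.autGroup S) := by
  apply autInv_of_le_core
  intro P
  apply sysZero_le_of h
  intro R hR ψ hψ
  refine ⟨hψ, fun α hα hRS => ?_⟩
  intro P' hP'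
  have hψF : ψ ∈ F.Hom R := sysZero_le h R hψ
  have hψth : Th E F χ ψ 1 := th_of_mem_sysZero h hR hψ
  have ha₁ : resS α hRS ∈ F.Hom R := resS_mem hα hRS
  have ha₁P' : ∀ x : R, resS α hRS x ∈ P' := fun x => (hP' _).mpr ⟨x, rfl⟩
  have hsurj : ∀ y ∈ P', ∃ x : R, resS α hRS x = y := fun y hy => (hP' y).mp hy
  obtain ⟨ρ₁, hρ₁, hρ₁x⟩ := exists_inv_on F ha₁ ha₁P' hsurj
  have hth₁ : Th E F χ (resS α hRS) (h.degS ⟨α, hα⟩) := h.th_autS ⟨α, hα⟩ hRS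
  have hthρ : Th E F χ ρ₁ (h.degS ⟨α, hα⟩)⁻¹ := h.th_inv ha₁ ha₁P' hsurj hρ₁ hρ₁x hth₁
  have hρ₁R : ∀ y : P', ρ₁ y ∈ R := by
    rintro ⟨y, hy⟩
    obtain ⟨x, hx⟩ := hsurj y hy
    have e : (⟨y, hy⟩ : P') = ⟨resS α hRS x, ha₁P' x⟩ := Subtype.ext hx.symm
    rw [e, hρ₁x]
    exact x.2
  have hc1 := F.comp_mem hρ₁ hψF hρ₁R
  have hth1 := h.th_comp hρ₁ hρ₁R hthρ hψth
  have hval : ∀ y : P', (ψ.comp (ρ₁.codRestrict R hρ₁R)) y ∈ S := (F.le_of_mem hc1).2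
  have haS : resS α (le_refl S) ∈ F.Hom S := resS_mem hα le_rfl
  have hc2 := F.comp_mem hc1 haS hval
  have hth2 := h.th_comp hc1 hval hth1 (h.th_autS ⟨α, hα⟩ le_rfl)
  have hone : h.degS ⟨α, hα⟩ * (1 * (h.degS ⟨α, hα⟩)⁻¹) = 1 := by group
  rw [hone] at hth2
  have hP'conj : F.IsConj R P' := by
    refine ⟨resS α hRS, ha₁, ?_⟩
    ext y
    constructor
    · rintro ⟨x, rfl⟩
      exact ha₁P' x
    · intro hy
      obtain ⟨x, hx⟩ := hsurj y hy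
      exact ⟨x, hx⟩
  have hHP' : HH F T P' := hR.of_isConj h.closed hP'conj
  refine ⟨_, mem_sysZero h hHP' hc2 hth2, fun x hx hθx => ?_⟩
  show ((α ⟨ψ ⟨ρ₁ ⟨((α ⟨x, hRS x.2⟩ : S) : Ω), hx⟩, _⟩, _⟩ : S) : Ω) = _
  have e : (⟨ρ₁ ⟨((α ⟨x, hRS x.2⟩ : S) : Ω), hx⟩, hρ₁R ⟨_, hx⟩⟩ : R) = x := Subtype.ext (hρ₁x x)
  congr 3
  rw [e]

end Cfsg.Agent.Helper86.NQ
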