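import Cfsg.Agent.Helper86.NQSub
set_option autoImplicit false

/-!
Assembly: the generated subsystem `sysZero` is a proper normal subsystem of `F` over `S` containing `E`, of index prime
to `p`, whose automorphism group on `S` is the kernel of the degree map.
-/

namespace Cfsg.Agent.Helper86.NQ

open Cfsg Cfsg.FusionSystem Cfsg.Agent.Helper87 Cfsg.Agent.Helper88.FS Cfsg.Agent.Helper85

variable {Ω : Type*} [Group Ω] {S T : Subgroup Ω} {Δ : Type*} [Group Δ]
variable {p : ℕ} {F : FusionSystem S} {E : FusionSystem T} {χ : ↥(F.autGroup T) →* Δ}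

/-- The extension condition for a subsystem over the same group `S`. -/
theorem extension_self (D F : FusionSystem S) (hDF : D ≤ F) :
    ∀ α ∈ D.autGroup S, ∃ β ∈ F.autGroup (S ⊔ centralizerIn S S),
      (∀ x : S, ((β (Subgroup.inclusion le_sup_left x) : ↥(S ⊔ centralizerIn S S)) : Ω) = ((α x : S) : Ω)) ∧
      ∀ c : ↥(S ⊔ centralizerIn S S), (c : Ω) ∈ centralizerIn S S →
        (c : Ω)⁻¹ * ((β c : ↥(S ⊔ centralizerIn S S)) : Ω) ∈ S ⊓ Subgroup.centralizer (S : Set Ω) := by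
  intro α hα
  have hEq : S ⊔ centralizerIn S S = S := sup_eq_left.mpr inf_le_left
  have hαF : S.subtype.comp (α : S ≃* S).toMonoidHom ∈ F.Hom S :=
    hDF S ((mem_autGroup_iff D le_rfl α).mp hα)
  let ε : ↥(S ⊔ centralizerIn S S) ≃* ↥S := MulEquiv.subgroupCongr hEq
  have hε : ∀ x : ↥(S ⊔ centralizerIn S S), ((ε x : S) : Ω) = x := fun x => rfl
  have hεs : ∀ x : S, ((ε.symm x : ↥(S ⊔ centralizerIn S S)) : Ω) = x := fun x => rfl
  let β : MulAut ↥(S ⊔ centralizerIn S S) := ε.trans ((α : S ≃* S).trans ε.symm)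
  have hβx : ∀ x : ↥(S ⊔ centralizerIn S S), ((β x : ↥(S ⊔ centralizerIn S S)) : Ω) = ((α (ε x) : S) : Ω) :=
    fun x => rfl
  refine ⟨β, ?_, ?_, ?_⟩
  · rw [mem_autGroup_iff F hEq.le]
    unfold IsIso
    obtain ⟨χ', hχ', hχ'x⟩ := exists_hom_of_eq F hEq.symm hαF
    refine mem_of_eq F hχ' (fun x => ?_)
    have hxS : (x : Ω) ∈ S := hEq.le x.2
    rw [hχ'x x hxS x.2]
    rfl
  · intro x
    rw [hβx]
    congr 2
  · intro c hc
    rw [hβx]
    have hεc : ε c = ⟨c, hc.1⟩ := Subtype.ext rfl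
    rw [hεc]
    refine ⟨S.mul_mem (S.inv_mem hc.1) (α ⟨c, hc.1⟩).2, ?_⟩
    apply Subgroup.mul_mem _ (Subgroup.inv_mem _ hc.2)
    rw [Subgroup.mem_centralizer_iff]
    intro y hy
    have h1 : α.symm ⟨y, hy⟩ * ⟨c, hc.1⟩ = ⟨c, hc.1⟩ * α.symm ⟨y, hy⟩ :=
      Subtype.ext (Subgroup.mem_centralizer_iff.mp hc.2 _ (α.symm ⟨y, hy⟩).2)
    have h2 := congrArg α h1
    rw [map_mul, map_mul, MulEquiv.apply_symm_apply] at h2
    exact congrArg Subtype.val h2

/-- `T` itself is in the class `QT`. -/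
theorem qt_top [Finite S] (h : Hyp p F E χ) : QT F T T := by
  refine ⟨le_rfl, fun Q' hQ' => ?_⟩
  obtain ⟨φ, hφ, rfl⟩ := hQ'
  have : Finite T := finite_of_le h.le
  have hle : φ.range ≤ T := by
    rintro _ ⟨x, rfl⟩
    exact h.closed.2 T le_rfl φ hφ x
  have hcard : Nat.card φ.range = Nat.card T := card_range_eq_of_mem F hφ
  have hEq : φ.range = T := Subgroup.eq_of_le_of_card_ge hle (le_of_eq hcard.symm)
  rw [hEq]
  exact inf_le_left

theorem hh_top [Finite S] (h : Hyp p F E χ) : HH F T S := by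
  refine ⟨⟨le_rfl, fun Q hQ => ?_⟩, ?_⟩
  · rw [Cfsg.Agent.Helper84.eq_of_isConj_top F hQ]
    exact inf_le_left
  · have : S ⊓ T = T := inf_eq_right.mpr h.le
    rw [this]
    exact qt_top h

/-- The automorphisms of `sysZero` on `S` are the automorphisms of `F` on `S` of degree one. -/
theorem mem_autGroup_sysZero_iff [Finite S] [Fact p.Prime] (h : Hyp p F E χ) (α : MulAut S) :
    α ∈ (sysZero h).autGroup S ↔ ∃ hα : α ∈ F.autGroup S, h.degS ⟨α, hα⟩ = 1 := by
  constructor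
  · intro hα
    have h1 : S.subtype.comp (α : S ≃* S).toMonoidHom ∈ (sysZero h).Hom S := (mem_autGroup_iff _ le_rfl α).mp hα
    have hαF : α ∈ F.autGroup S := (mem_autGroup_iff F le_rfl α).mpr (sysZero_le h S h1)
    refine ⟨hαF, ?_⟩
    have h2 : Th E F χ (S.subtype.comp (α : S ≃* S).toMonoidHom) 1 := th_of_mem_sysZero h (hh_top h) h1
    have h3 : Th E F χ (S.subtype.comp (α : S ≃* S).toMonoidHom) (h.degS ⟨α, hαF⟩) :=
      (h.th_autS ⟨α, hαF⟩ le_rfl).congr (fun x => rfl)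
    exact h.th_unique (hh_top h).2 h3 h2
  · rintro ⟨hα, hd⟩
    rw [mem_autGroup_iff _ le_rfl]
    have h3 : Th E F χ (S.subtype.comp (α : S ≃* S).toMonoidHom) (h.degS ⟨α, hα⟩) :=
      (h.th_autS ⟨α, hα⟩ le_rfl).congr (fun x => rfl)
    rw [hd] at h3
    exact mem_sysZero h (hh_top h) ((mem_autGroup_iff F le_rfl α).mp hα) h3

theorem sysZero_isNormalIn [Finite S] [Fact p.Prime] (h : Hyp p F E χ) (hχ : Function.Surjective χ) :
    (sysZero h).IsNormalIn F p := by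
  have hAI : AutInv (sysZero h) (F.autGroup S) := sysZero_autInv h
  refine ⟨⟨sysZero_saturated h hχ, h.satF, sysZero_le h, stronglyClosed_self F, ?_, ?_⟩,
    extension_self (sysZero h) F (sysZero_le h)⟩
  · intro P hPS φ hφ α hα
    obtain ⟨χ', hχ', hχ'x⟩ := hAI hPS hφ hα (imgT α P) (imgT_spec α hPS)
    exact ⟨χ', hχ', fun x hφx hαx => hχ'x x hαx hφx⟩
  · intro P _ φ hφ
    exact sysZero_frattini h hχ P φ hφ

theorem sysZero_ne [Finite S] [Fact p.Prime] [Nontrivial Δ] (h : Hyp p F E χ) (hχ : Function.Surjective χ) :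
    ¬ ∀ P : Subgroup Ω, (sysZero h).Hom P = F.Hom P := by
  intro hall
  obtain ⟨d, hd⟩ := exists_ne (1 : Δ)
  obtain ⟨α, hα⟩ := h.degS_surjective hχ d
  have h1 : (α : MulAut S) ∈ (sysZero h).autGroup S := by
    rw [mem_autGroup_iff _ le_rfl]
    unfold IsIso
    rw [hall S]
    exact (mem_autGroup_iff F le_rfl _).mp α.2
  obtain ⟨hα', hd'⟩ := (mem_autGroup_sysZero_iff h _).mp h1
  apply hd
  rw [← hα]
  exact hd'

end Cfsg.Agent.Helper86.NQ
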