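import Cfsg.Agent.Helper86.NQFrat
import Cfsg.Agent.Helper84.SatCrit4
set_option autoImplicit false

/-!
The generated subsystem `sysZero` is saturated (criterion of Broto–Castellana–Grodal–Levi–Oliver).
-/

namespace Cfsg.Agent.Helper86.NQ

open Cfsg Cfsg.FusionSystem Cfsg.Agent.Helper87 Cfsg.Agent.Helper88.FS Cfsg.Agent.Helper85

variable {Ω : Type*} [Group Ω] {S T : Subgroup Ω} {Δ : Type*} [Group Δ]
variable {p : ℕ} {F : FusionSystem S} {E : FusionSystem T} {χ : ↥(F.autGroup T) →* Δ}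

theorem sysZero_closed (h : Hyp p F E χ) : (sysZero h).StronglyClosed T :=
  ⟨h.le, fun R hR φ hφ x => h.closed.2 R hR φ (sysZero_le h R hφ) x⟩

theorem sysZero_isConj (h : Hyp p F E χ) {P Q : Subgroup Ω} (hc : (sysZero h).IsConj P Q) : F.IsConj P Q := by
  obtain ⟨φ, hφ, hr⟩ := hc
  exact ⟨φ, sysZero_le h P hφ, hr⟩

theorem sysZero_saturated [Finite S] [Fact p.Prime] (h : Hyp p F E χ) (hχ : Function.Surjective χ) :
    (sysZero h).IsSaturated p := by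
  have hEF : sysZero h ≤ F := sysZero_le h
  refine Cfsg.Agent.Helper84.saturated_of_criterion p h.pS (sysZero h) {P : Subgroup Ω | HH F T P}
    ?_ ?_ (fun E' hE' => sysZero_le_of h hE') ?_
  · intro P hP Q hPQ
    exact HH.of_isConj hP h.closed (sysZero_isConj h hPQ)
  · intro P hP
    have hPS : P ≤ S := hP.1.1
    obtain ⟨Q₀, hPQ₀, hQ₀n⟩ := exists_isConj_fullyNormalized F hPS
    obtain ⟨φ, hφ, hφr⟩ := hPQ₀
    obtain ⟨α, hα, φ₀, hφ₀, hαφ⟩ := sysZero_frattini h hχ P φ hφ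
    have hφ₀S : ∀ x, φ₀ x ∈ S := ((sysZero h).le_of_mem hφ₀).2
    have hQS : φ₀.range ≤ S := by
      rintro _ ⟨x, rfl⟩
      exact hφ₀S x
    have hEconj : (sysZero h).IsConj P φ₀.range := ⟨φ₀, hφ₀, rfl⟩
    have hFconjPQ : F.IsConj P φ₀.range := ⟨φ₀, hEF P hφ₀, rfl⟩
    have hFconjQQ₀ : F.IsConj φ₀.range Q₀ := isConj_trans F (isConj_symm F hFconjPQ) ⟨φ, hφ, hφr⟩
    have hαQ : ∀ x : S, (x : Ω) ∈ φ₀.range ↔ ((α x : S) : Ω) ∈ Q₀ := by
      intro x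
      constructor
      · rintro ⟨y, hy⟩
        have hx : x = ⟨φ₀ y, hφ₀S y⟩ := Subtype.ext hy.symm
        rw [hx, ← hαφ y (hφ₀S y), ← hφr]
        exact ⟨y, rfl⟩
      · intro hx
        rw [← hφr] at hx
        obtain ⟨y, hy⟩ := hx
        have h1 := hαφ y (hφ₀S y)
        have h2 : (α ⟨φ₀ y, hφ₀S y⟩ : S) = α x := Subtype.ext (h1.symm.trans hy)
        have h3 := α.injective h2
        exact ⟨y, congrArg Subtype.val h3⟩
    have hcard := card_normalizerIn_le_of_aut α hQS hαQ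
    have hQn : F.IsFullyNormalized φ₀.range :=
      ⟨hQS, fun R hR => (hQ₀n.2 R (isConj_trans F (isConj_symm F hFconjQQ₀) hR)).trans hcard⟩
    obtain ⟨hQc, hQa⟩ := fullyAutomized_fullyCentralized_of_fullyNormalized h.pS F h.satF hQn
    have hQr : F.IsReceptive φ₀.range := receptive_of_fullyCentralized h.pS F h.satF hQc
    have hHQ : HH F T φ₀.range := HH.of_isConj hP h.closed hFconjPQ
    refine ⟨φ₀.range, hEconj, isFullyAutomized_of_le hEF hQa, hQS, fun R ψ hψ hψr => ?_⟩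
    have hψF : ψ ∈ F.Hom R := hEF R hψ
    obtain ⟨ψ', hψ', hψ'x⟩ := hQr.2 R ψ hψF hψr
    have hRN : R ≤ extender S R ψ := le_extender_of_mem F hψF
    have hNS : extender S R ψ ≤ S := (F.le_of_mem hψ').1
    have hHR : HH F T R := HH.of_isConj hHQ h.closed (isConj_symm F ⟨ψ, hψF, hψr⟩)
    have hHN : HH F T (extender S R ψ) := hHR.of_le hRN hNS
    refine ⟨ψ', ?_, hψ'x⟩
    obtain ⟨d, hd⟩ := h.exists_th (χ := χ) hψ'
    have h1 : Th E F χ ψ d := (hd.restrict hRN).congr (fun x => (hψ'x x x.2 (hRN x.2)).symm)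
    have h2 : Th E F χ ψ 1 := th_of_mem_sysZero h hHR hψ
    have hd1 : d = 1 := h.th_unique hHR.2 h1 h2
    rw [hd1] at hd
    exact mem_sysZero h hHN hψ' hd
  · intro P hPc hPn
    have hPF : F.IsCentric P := isCentric_of_sysZero h hχ hPc
    have hPS : P ≤ S := hPF.1
    have hQ : ¬ QT F T (P ⊓ T) := fun hq => hPn ⟨hPF, hq⟩
    obtain ⟨R₁, hR₁c, hR₁⟩ := exists_conj_not_le h.pS h.satF h.closed hPS hQ
    obtain ⟨φ, hφ, hφr⟩ := hR₁c
    obtain ⟨α, hα, τ, hτ, hτx⟩ := sysZero_frattini h hχ P φ hφ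
    have hτS : ∀ x : P, τ x ∈ S := ((sysZero h).le_of_mem hτ).2
    have hQS : τ.range ≤ S := by
      rintro _ ⟨x, rfl⟩
      exact hτS x
    have hTn : ∀ g ∈ S, ∀ x ∈ T, g * x * g⁻¹ ∈ T := fun g hg x hx => conj_mem_of_stronglyClosed F h.closed hg hx
    have hαinv : α⁻¹ ∈ F.autGroup S := (F.autGroup S).inv_mem hα
    have hnot : ¬ centralizerIn T (τ.range ⊓ T) ≤ τ.range ⊓ T := by
      intro hle
      apply hR₁
      intro c hc
      have hcS : c ∈ S := h.le hc.1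
      have h1 : ((α⁻¹ ⟨c, hcS⟩ : S) : Ω) ∈ T := aut_mem_of_stronglyClosed F h.closed le_rfl hαinv ⟨c, hcS⟩ hc.1
      have h2 : ((α⁻¹ ⟨c, hcS⟩ : S) : Ω) ∈ centralizerIn T (τ.range ⊓ T) := by
        refine ⟨h1, ?_⟩
        show _ ∈ Subgroup.centralizer ((τ.range ⊓ T : Subgroup Ω) : Set Ω)
        rw [Subgroup.mem_centralizer_iff]
        rintro y ⟨⟨x, rfl⟩, hyT⟩
        have h3 : ((α ⟨τ x, hτS x⟩ : S) : Ω) ∈ R₁ ⊓ T := by
          refine ⟨?_, aut_mem_of_stronglyClosed F h.closed le_rfl hα ⟨τ x, hτS x⟩ hyT⟩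
          rw [← hφr, ← hτx x (hτS x)]
          exact ⟨x, rfl⟩
        have h4 := Subgroup.mem_centralizer_iff.mp hc.2 _ h3
        have h5 : α ⟨τ x, hτS x⟩ * ⟨c, hcS⟩ = ⟨c, hcS⟩ * α ⟨τ x, hτS x⟩ := Subtype.ext h4
        have h6 := congrArg (α⁻¹ : MulAut S) h5
        rw [map_mul, map_mul, MulAut.inv_apply_self] at h6
        exact congrArg Subtype.val h6
      obtain ⟨⟨x, hx⟩, hxT⟩ := hle h2
      have e : (⟨τ x, hτS x⟩ : S) = α⁻¹ ⟨c, hcS⟩ := Subtype.ext hx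
      refine ⟨?_, hc.1⟩
      rw [← hφr]
      refine ⟨x, ?_⟩
      rw [hτx x (hτS x), e, MulAut.apply_inv_self]
    obtain ⟨c, hc⟩ := exists_badElt h.pS h.le hTn hQS hnot
    have hQc : (sysZero h).IsCentric τ.range := isCentric_of_isConj (sysZero h) hPc ⟨τ, hτ, rfl⟩
    exact ⟨τ.range, ⟨τ, hτ, rfl⟩, hc.not_le_inn h.pS (sysZero h) (sysZero_closed h) hQc⟩

end Cfsg.Agent.Helper86.NQ
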