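import Cfsg.Agent.Helper86.NQSat
import Cfsg.Agent.S5119
set_option autoImplicit false

/-!
The subsystem `E` is contained in the generated subsystem `sysZero`.
-/

namespace Cfsg.Agent.Helper86.NQ

open Cfsg Cfsg.FusionSystem Cfsg.Agent.Helper87 Cfsg.Agent.Helper88.FS Cfsg.Agent.Helper85

variable {Ω : Type*} [Group Ω] {S T : Subgroup Ω} {Δ : Type*} [Group Δ]
variable {p : ℕ} {F : FusionSystem S} {E : FusionSystem T} {χ : ↥(F.autGroup T) →* Δ}

/-- The restriction of `sysZero` to `T`. -/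
def resSys (h : Hyp p F E χ) : FusionSystem T where
  Hom P := {φ | φ ∈ (sysZero h).Hom P ∧ P ≤ T}
  le_of_mem := by
    intro P φ hφ
    exact ⟨hφ.2, fun x => (sysZero_closed h).2 P hφ.2 φ hφ.1 x⟩
  injective_of_mem hφ := (sysZero h).injective_of_mem hφ.1
  conj_mem hP hg := ⟨(sysZero h).conj_mem (hP.trans h.le) (h.le hg), hP⟩
  comp_mem hφ hψ hval := ⟨(sysZero h).comp_mem hφ.1 hψ.1 hval, hφ.2⟩
  inv_mem := by
    intro P φ hφ
    obtain ⟨ρ, hρ, hρx⟩ := (sysZero h).inv_mem hφ.1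
    refine ⟨ρ, ⟨hρ, ?_⟩, hρx⟩
    rintro _ ⟨x, rfl⟩
    exact (sysZero_closed h).2 P hφ.2 φ hφ.1 x

/-- For a fully centralized `R`, the subgroup `R C_S(R)` is centric. -/
theorem centric_sup [Finite S] (F : FusionSystem S) {R : Subgroup Ω} (hfc : F.IsFullyCentralized R) :
    F.IsCentric (R ⊔ centralizerIn S R) := by
  have hRS := hfc.1
  have hPS : R ⊔ centralizerIn S R ≤ S := sup_le hRS inf_le_left
  refine ⟨hPS, fun P' hP' => ?_⟩
  obtain ⟨φ, hφ, rfl⟩ := hP'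
  have hφR : φ.comp (Subgroup.inclusion (le_sup_left : R ≤ R ⊔ centralizerIn S R)) ∈ F.Hom R :=
    Helper87.restrict_mem F hφ le_sup_left
  have hcard := hfc.2 _ ⟨_, hφR, rfl⟩
  have hfin : Finite ↥(centralizerIn S R) := finite_of_le inf_le_left
  have hfin' : Finite ↥(centralizerIn S (φ.comp (Subgroup.inclusion
      (le_sup_left : R ≤ R ⊔ centralizerIn S R))).range) := finite_of_le inf_le_left
  -- the map `C_S(R) → C_S(φ R)`
  have hmem : ∀ c : ↥(centralizerIn S R), φ ⟨c, Subgroup.mem_sup_right c.2⟩ ∈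
      centralizerIn S (φ.comp (Subgroup.inclusion (le_sup_left : R ≤ R ⊔ centralizerIn S R))).range := by
    intro c
    refine ⟨(F.le_of_mem hφ).2 _, ?_⟩
    show _ ∈ Subgroup.centralizer (_ : Set Ω)
    rw [Subgroup.mem_centralizer_iff]
    rintro _ ⟨x, rfl⟩
    show φ (Subgroup.inclusion le_sup_left x) * φ ⟨c, _⟩ = φ ⟨c, _⟩ * φ (Subgroup.inclusion le_sup_left x)
    rw [← map_mul, ← map_mul]
    congr 1
    apply Subtype.ext
    exact Subgroup.mem_centralizer_iff.mp c.2.2 x x.2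
  let f : ↥(centralizerIn S R) → ↥(centralizerIn S (φ.comp (Subgroup.inclusion
      (le_sup_left : R ≤ R ⊔ centralizerIn S R))).range) := fun c => ⟨_, hmem c⟩
  have hf : Function.Injective f := by
    intro a b hab
    have h1 : φ ⟨a, Subgroup.mem_sup_right a.2⟩ = φ ⟨b, Subgroup.mem_sup_right b.2⟩ := congrArg Subtype.val hab
    have h2 := F.injective_of_mem hφ h1
    exact Subtype.ext (congrArg (fun z : ↥(R ⊔ centralizerIn S R) => (z : Ω)) h2)
  have hbij := hf.bijective_of_nat_card_le hcard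
  intro c hc
  have hc' : c ∈ centralizerIn S (φ.comp (Subgroup.inclusion
      (le_sup_left : R ≤ R ⊔ centralizerIn S R))).range := by
    refine ⟨hc.1, ?_⟩
    show c ∈ Subgroup.centralizer (_ : Set Ω)
    rw [Subgroup.mem_centralizer_iff]
    rintro _ ⟨x, rfl⟩
    exact Subgroup.mem_centralizer_iff.mp hc.2 _ ⟨_, rfl⟩
  obtain ⟨c₀, hc₀⟩ := hbij.2 ⟨c, hc'⟩
  have : φ ⟨c₀, Subgroup.mem_sup_right c₀.2⟩ = c := congrArg Subtype.val hc₀
  rw [← this]
  exact ⟨_, rfl⟩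

/-- Elements of `R C_S(R)` are products. -/
theorem mem_sup_centralizerIn_self {R : Subgroup Ω} (hRS : R ≤ S) (x : Ω) (hx : x ∈ R ⊔ centralizerIn S R) :
    ∃ r ∈ R, ∃ c ∈ centralizerIn S R, r * c = x := by
  have key : ∀ r ∈ R, ∀ c ∈ centralizerIn S R, r * c * r⁻¹ ∈ centralizerIn S R := by
    intro r hr c hc
    have hrS := hRS hr
    refine ⟨S.mul_mem (S.mul_mem hrS hc.1) (S.inv_mem hrS), ?_⟩
    show _ ∈ Subgroup.centralizer (R : Set Ω)
    rw [Subgroup.mem_centralizer_iff]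
    intro y hy
    have h1 : r⁻¹ * y * r ∈ R := R.mul_mem (R.mul_mem (R.inv_mem hr) hy) hr
    have h2 := Subgroup.mem_centralizer_iff.mp hc.2 _ h1
    calc y * (r * c * r⁻¹) = r * ((r⁻¹ * y * r) * c) * r⁻¹ := by group
      _ = r * (c * (r⁻¹ * y * r)) * r⁻¹ := by rw [h2]
      _ = r * c * r⁻¹ * y := by group
  have hle : R ≤ Subgroup.normalizer ((centralizerIn S R : Subgroup Ω) : Set Ω) := by
    intro r hr
    apply mem_normalizer_of_conj_mem_of_inv_conj_mem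
    · exact key r hr
    · intro c hc
      have := key r⁻¹ (R.inv_mem hr) c hc
      rwa [inv_inv] at this
  rw [← SetLike.mem_coe, Subgroup.coe_mul_of_left_le_normalizer_right R _ hle] at hx
  exact Set.mem_mul.mp hx

/-- If `R ≤ T` contains its centralizer in `T`, then `R C_S(R) ∩ T = R`. -/
theorem sup_centralizerIn_inf {R : Subgroup Ω} (hRT : R ≤ T) (hTS : T ≤ S) (hC : centralizerIn T R ≤ R) :
    (R ⊔ centralizerIn S R) ⊓ T = R := by
  apply le_antisymm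
  · rintro x ⟨hx, hxT⟩
    obtain ⟨r, hr, c, hc, rfl⟩ := mem_sup_centralizerIn_self (hRT.trans hTS) x hx
    have hcT : c ∈ T := by
      have : c = r⁻¹ * (r * c) := by group
      rw [this]
      exact T.mul_mem (T.inv_mem (hRT hr)) hxT
    exact R.mul_mem hr (hC ⟨hcT, hc.2⟩)
  · exact le_inf le_sup_left hRT

/-- Automorphisms in `E` of a fully normalized (in `F`) subgroup in the class `QT` are maps of `sysZero`. -/
theorem autE_mem_of_fullyNormalized [Finite S] [Fact p.Prime] (h : Hyp p F E χ) {R : Subgroup Ω}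
    (hQT : QT F T R) (hfn : F.IsFullyNormalized R) {ψ : MulAut R} (hψ : ψ ∈ E.autGroup R) :
    R.subtype.comp (ψ : R ≃* R).toMonoidHom ∈ (sysZero h).Hom R := by
  have hRT := hQT.1
  have hTS := h.le
  have hRS : R ≤ S := hRT.trans hTS
  obtain ⟨hfc, hfa⟩ := fullyAutomized_fullyCentralized_of_fullyNormalized h.pS F h.satF hfn
  have hrec := receptive_of_fullyCentralized h.pS F h.satF hfc
  have hψE : R.subtype.comp (ψ : R ≃* R).toMonoidHom ∈ E.Hom R := (mem_autGroup_iff E hRT ψ).mp hψ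
  have hψF : R.subtype.comp (ψ : R ≃* R).toMonoidHom ∈ F.Hom R := h.sub R hψE
  obtain ⟨ψ', hψ', hψ'x⟩ := hrec.2 R _ hψF (range_subtype_comp_equiv (ψ : R ≃* R))
  have hPle : R ⊔ centralizerIn S R ≤ extender S R (R.subtype.comp (ψ : R ≃* R).toMonoidHom) :=
    sup_le (le_extender_of_mem F hψF) (centralizerIn_le_extender R _)
  have hψP : ψ'.comp (Subgroup.inclusion hPle) ∈ F.Hom (R ⊔ centralizerIn S R) := Helper87.restrict_mem F hψ' hPle
  have hEq : (R ⊔ centralizerIn S R) ⊓ T = R := sup_centralizerIn_inf hRT hTS (hQT.self_le hTS)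
  have hHP : HH F T (R ⊔ centralizerIn S R) := ⟨centric_sup F hfc, by rw [hEq]; exact hQT⟩
  have hth : Th E F χ (ψ'.comp (Subgroup.inclusion hPle)) 1 := by
    apply h.th_of_mem
    obtain ⟨χ', hχ', hχ'x⟩ := exists_hom_of_eq E hEq.symm hψE
    refine mem_of_eq E hχ' (fun y => ?_)
    have hyR : (y : Ω) ∈ R := hEq.le y.2
    rw [hχ'x y hyR y.2]
    exact hψ'x y hyR _
  have hmem := mem_sysZero h hHP hψP hth
  have hres := Helper87.restrict_mem (sysZero h) hmem (le_sup_left : R ≤ R ⊔ centralizerIn S R)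
  refine mem_of_eq (sysZero h) hres (fun x => ?_)
  exact (hψ'x x x.2 _).symm

/-- Conjugating back along an isomorphism of `F`. -/
theorem mem_sysZero_of_congr [Finite S] [Fact p.Prime] (h : Hyp p F E χ) (hχ : Function.Surjective χ)
    {R R' : Subgroup Ω} {e : R ≃* R'} (he : IsIso F e) {ψ : MulAut R}
    (hψ : R'.subtype.comp ((MulAut.congr e ψ : MulAut R') : R' ≃* R').toMonoidHom ∈ (sysZero h).Hom R') :
    R.subtype.comp (ψ : R ≃* R).toMonoidHom ∈ (sysZero h).Hom R := by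
  have hRS : R ≤ S := he.le_left
  have hR'S : R' ≤ S := he.le_right
  have hσF : R'.subtype.comp e.toMonoidHom ∈ F.Hom R := he
  obtain ⟨α, hα, τ, hτ, hτx⟩ := sysZero_frattini h hχ R _ hσF
  have hτS : ∀ x : R, τ x ∈ S := ((sysZero h).le_of_mem hτ).2
  have hαinv : α⁻¹ ∈ F.autGroup S := (F.autGroup S).inv_mem hα
  have hτe : ∀ x : R, ((α⁻¹ ⟨((e x : R') : Ω), hR'S (e x).2⟩ : S) : Ω) = τ x := by
    intro x
    have h1 : ((e x : R') : Ω) = ((α ⟨τ x, hτS x⟩ : S) : Ω) := hτx x (hτS x)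
    have e1 : (⟨((e x : R') : Ω), hR'S (e x).2⟩ : S) = α ⟨τ x, hτS x⟩ := Subtype.ext h1
    rw [e1, MulAut.inv_apply_self]
  have hP' : ∀ y, y ∈ τ.range ↔ ∃ x : R', ((α⁻¹ ⟨x, hR'S x.2⟩ : S) : Ω) = y := by
    intro y
    constructor
    · rintro ⟨z, rfl⟩
      exact ⟨e z, hτe z⟩
    · rintro ⟨x, rfl⟩
      refine ⟨e.symm x, ?_⟩
      rw [← hτe (e.symm x)]
      congr 3
      rw [MulEquiv.apply_symm_apply]
  have hAI : AutInv (sysZero h) (F.autGroup S) := sysZero_autInv h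
  obtain ⟨χ', hχ', hχ'x⟩ := hAI hR'S hψ hαinv τ.range hP'
  obtain ⟨ρ, hρ, hρx⟩ := (sysZero h).inv_mem hτ
  have hval1 : ∀ x : R, τ x ∈ τ.range := fun x => ⟨x, rfl⟩
  have hc1 := (sysZero h).comp_mem hτ hχ' hval1
  -- `χ' (τ z) = τ (ψ z)`
  have hkey : ∀ z : R, χ' ⟨τ z, ⟨z, rfl⟩⟩ = τ (ψ z) := by
    intro z
    have hmem : ((α⁻¹ ⟨((e z : R') : Ω), hR'S (e z).2⟩ : S) : Ω) ∈ τ.range := by rw [hτe z]; exact ⟨z, rfl⟩
    have hψS : (R'.subtype.comp ((MulAut.congr e ψ : MulAut R') : R' ≃* R').toMonoidHom) (e z) ∈ S :=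
      ((sysZero h).le_of_mem hψ).2 _
    have h1 := hχ'x (e z) hmem hψS
    have e1 : (⟨τ z, ⟨z, rfl⟩⟩ : τ.range) = ⟨((α⁻¹ ⟨((e z : R') : Ω), hR'S (e z).2⟩ : S) : Ω), hmem⟩ :=
      Subtype.ext (hτe z).symm
    rw [e1, h1, ← hτe (ψ z)]
    congr 3
    show (((MulAut.congr e ψ) (e z) : R') : Ω) = ((e (ψ z) : R') : Ω)
    simp [MulAut.congr]
  have hval2 : ∀ x : R, (χ'.comp (τ.codRestrict τ.range hval1)) x ∈ τ.range := by
    intro x
    show χ' ⟨τ x, ⟨x, rfl⟩⟩ ∈ τ.range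
    rw [hkey x]
    exact ⟨_, rfl⟩
  have hc2 := (sysZero h).comp_mem hc1 hρ hval2
  refine mem_of_eq (sysZero h) hc2 (fun x => ?_)
  show ((ψ x : R) : Ω) = ρ ⟨χ' ⟨τ x, ⟨x, rfl⟩⟩, _⟩
  have e2 : (⟨χ' ⟨τ x, ⟨x, rfl⟩⟩, hval2 x⟩ : τ.range) = ⟨τ (ψ x), ⟨_, rfl⟩⟩ := Subtype.ext (hkey x)
  rw [e2, hρx]

/-- A subgroup of `T` containing its centralizer in `T`, fully automized and receptive in `E`, is in the class `QT`. -/
theorem qt_of_receptive [Finite S] [Fact p.Prime] (h : Hyp p F E χ) {R : Subgroup Ω} (hRa : E.IsFullyAutomized p R)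
    (hRr : E.IsReceptive R) (hC : centralizerIn T R ≤ R) : QT F T R := by
  have hRT := hRa.1
  have hTS := h.le
  have hfinT : Finite T := finite_of_le hTS
  have hTp : IsPGroup p T := h.pS.to_le hTS
  refine ⟨hRT, fun R' hR' => ?_⟩
  obtain ⟨φ, hφ, rfl⟩ := hR'
  obtain ⟨α, hα, φ₀, hφ₀, hφx⟩ := h.frat hRT hφ
  have hφ₀T : ∀ x : R, φ₀ x ∈ T := (E.le_of_mem hφ₀).2
  -- the `E`-conjugate `φ₀(R)` contains its centralizer
  have hC₁ : centralizerIn T φ₀.range ≤ φ₀.range := by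
    have hconj : E.IsConj φ₀.range R := isConj_symm E ⟨φ₀, hφ₀, rfl⟩
    obtain ⟨e₁, he₁⟩ := (isConj_iff E φ₀.range R).mp hconj
    obtain ⟨φ', hφ', e', he', -, -, hcent, hback⟩ := exists_extension_normalizerIn' hTp E hRa hRr e₁ he₁
    intro c hc
    have hcN : c ∈ normalizerIn T φ₀.range := centralizerIn_le_normalizerIn T _ hc
    exact hback ⟨c, hcN⟩ (hC (hcent ⟨c, hcN⟩ hc))
  intro c hc
  have hαinv : α⁻¹ ∈ F.autGroup T := (F.autGroup T).inv_mem hα
  have hc' : ((α⁻¹ ⟨c, hc.1⟩ : T) : Ω) ∈ centralizerIn T φ₀.range := by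
    refine ⟨(α⁻¹ ⟨c, hc.1⟩ : T).2, ?_⟩
    show _ ∈ Subgroup.centralizer (φ₀.range : Set Ω)
    rw [Subgroup.mem_centralizer_iff]
    rintro _ ⟨x, rfl⟩
    have h2 := Subgroup.mem_centralizer_iff.mp hc.2 (φ x) ⟨x, rfl⟩
    have h3 := hφx x (hφ₀T x)
    have h4 : α ⟨φ₀ x, hφ₀T x⟩ * ⟨c, hc.1⟩ = ⟨c, hc.1⟩ * α ⟨φ₀ x, hφ₀T x⟩ := by
      apply Subtype.ext
      show ((α ⟨φ₀ x, hφ₀T x⟩ : T) : Ω) * c = c * ((α ⟨φ₀ x, hφ₀T x⟩ : T) : Ω)
      rw [← h3]
      exact h2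
    have h5 := congrArg (α⁻¹ : MulAut T) h4
    rw [map_mul, map_mul, MulAut.inv_apply_self] at h5
    exact congrArg Subtype.val h5
  obtain ⟨x, hx⟩ := hC₁ hc'
  refine ⟨x, ?_⟩
  rw [hφx x (hφ₀T x)]
  have e : (⟨φ₀ x, hφ₀T x⟩ : T) = α⁻¹ ⟨c, hc.1⟩ := Subtype.ext hx
  rw [e, MulAut.apply_inv_self]

/-- `E` is contained in the generated subsystem. -/
theorem sub_sysZero [Finite S] [Fact p.Prime] (h : Hyp p F E χ) (hχ : Function.Surjective χ) :
    E.IsSubsystemOf (sysZero h) := by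
  have hTS := h.le
  have hfinT : Finite T := finite_of_le hTS
  have hTp : IsPGroup p T := h.pS.to_le hTS
  have hSI : StrongInv E F := (Cfsg.Agent.S5119.result p h.pS F h.satF E h.sub h.closed).mp h.inv
  have key := hom_subset_of_autGroup_le hTp E (resSys h) h.satE (fun R hRa hRr ih => by
    have hRT := hRa.1
    have hRS : R ≤ S := hRT.trans hTS
    intro ψ hψ
    rw [mem_autGroup_iff _ hRT]
    refine ⟨?_, hRT⟩
    have hψE : R.subtype.comp (ψ : R ≃* R).toMonoidHom ∈ E.Hom R := (mem_autGroup_iff E hRT ψ).mp hψ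
    by_cases hC : centralizerIn T R ≤ R
    · have hQT : QT F T R := qt_of_receptive h hRa hRr hC
      obtain ⟨R', hconj, hR'n⟩ := exists_isConj_fullyNormalized F hRS
      obtain ⟨e, he⟩ := (isConj_iff F R R').mp hconj
      have hψ' : MulAut.congr e ψ ∈ E.autGroup R' := hSI.congr_mem_autGroup h.closed hRT he hψ
      have hQT' : QT F T R' := hQT.of_isConj h.closed hconj
      exact mem_sysZero_of_congr h hχ he (autE_mem_of_fullyNormalized h hQT' hR'n hψ')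
    · obtain ⟨c, hcC, hcR⟩ := SetLike.not_le_iff_exists.mp hC
      obtain ⟨ψ', hψ', hψ'x⟩ := hRr.2 R _ hψE (range_subtype_comp_equiv (ψ : R ≃* R))
      have hle : R ≤ extender T R (R.subtype.comp (ψ : R ≃* R).toMonoidHom) := le_extender_of_mem E hψE
      have hcN : c ∈ extender T R (R.subtype.comp (ψ : R ≃* R).toMonoidHom) := centralizerIn_le_extender R _ hcC
      have hlt : R < extender T R (R.subtype.comp (ψ : R ≃* R).toMonoidHom) :=
        lt_of_le_of_ne hle (fun heq => hcR (by rw [heq]; exact hcN))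
      have hfin : Finite ↥(extender T R (R.subtype.comp (ψ : R ≃* R).toMonoidHom)) :=
        finite_of_le (E.le_of_mem hψ').1
      have hcard := card_lt_card_of_lt hlt
      have h1 := (ih _ ψ' hcard hψ').1
      have h2 := Helper87.restrict_mem (sysZero h) h1 hle
      exact mem_of_eq (sysZero h) h2 (fun x => (hψ'x x x.2 _).symm))
  intro P φ hφ
  exact (key P hφ).1

end Cfsg.Agent.Helper86.NQ
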