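import Cfsg.Agent.Helper86.NQSys
set_option autoImplicit false

/-!
Every degree is realized by an automorphism of the system on `S` (Frattini argument in `Aut_F(T)`, then extension).
-/

namespace Cfsg.Agent.Helper86.NQ

open Cfsg Cfsg.FusionSystem Cfsg.Agent.Helper87 Cfsg.Agent.Helper88.FS Cfsg.Agent.Helper85

variable {Ω : Type*} [Group Ω] {S T : Subgroup Ω} {Δ : Type*} [Group Δ]
variable {p : ℕ} {F : FusionSystem S} {E : FusionSystem T} {χ : ↥(F.autGroup T) →* Δ}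

theorem Hyp.degS_surjective [Finite S] [Fact p.Prime] (h : Hyp p F E χ) (hχ : Function.Surjective χ) :
    Function.Surjective h.degS := by
  intro d
  obtain ⟨β, rfl⟩ := hχ d
  have hTS := h.le
  have hfn := isFullyNormalized_of_stronglyClosed F h.closed
  obtain ⟨hTc, hTa⟩ := fullyAutomized_fullyCentralized_of_fullyNormalized h.pS F h.satF hfn
  have hTr := receptive_of_fullyCentralized h.pS F h.satF hTc
  obtain ⟨-, Sy, hSy⟩ := hTa
  have : Finite (MulAut T) := finite_mulAut_of_le hTS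
  have hSyK : (Sy : Subgroup ↥(F.autGroup T)) ≤ χ.ker := by
    intro a ha
    rw [MonoidHom.mem_ker]
    obtain ⟨k, hk⟩ := Sy.2 ⟨a, ha⟩
    have hk' : a ^ p ^ k = 1 := by simpa using congrArg Subtype.val hk
    apply h.pfree _ k
    rw [← map_pow, hk', map_one]
  obtain ⟨ν, hν, n, hn, hβ⟩ := exists_mul_of_normal Sy χ.ker β
  have hinf : (Sy : Subgroup ↥(F.autGroup T)) ⊓ χ.ker = (Sy : Subgroup ↥(F.autGroup T)) := inf_eq_left.mpr hSyK
  rw [hinf] at hν
  have hχβ : χ β = χ ν := by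
    rw [hβ, map_mul, MonoidHom.mem_ker.mp hn, mul_one]
  rw [hχβ]
  -- extend `ν` to `S`
  have hνiso := (mem_autGroup_iff F hTS _).mp ν.2
  obtain ⟨ψ, hψ, hψx⟩ := hTr.2 T _ hνiso (range_subtype_comp_equiv ((ν : MulAut T) : T ≃* T))
  have hle : S ≤ extender S T (T.subtype.comp ((ν : MulAut T) : T ≃* T).toMonoidHom) := by
    intro s hs
    rw [mem_extender_iff]
    have hsN : s ∈ Subgroup.normalizer (T : Set Ω) := le_normalizer_of_stronglyClosed F h.closed hs
    refine ⟨hs, hsN, ?_⟩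
    have hc : conjAut T s hsN ∈ F.autGroup T := (mem_autGroup_iff F hTS _).mpr (isIso_conjAut F hTS hs hsN)
    have hcSy : (⟨conjAut T s hsN, hc⟩ : ↥(F.autGroup T)) ∈ (Sy : Subgroup ↥(F.autGroup T)) := by
      rw [hSy, Subgroup.mem_subgroupOf, mem_autInducedBy_iff]
      exact ⟨s, hs, fun x => rfl⟩
    have h1 : ν * ⟨conjAut T s hsN, hc⟩ * ν⁻¹ ∈ (Sy : Subgroup ↥(F.autGroup T)) :=
      (Subgroup.mem_normalizer_iff.mp hν _).mp hcSy
    rw [hSy, Subgroup.mem_subgroupOf, mem_autInducedBy_iff] at h1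
    obtain ⟨s', hs', hs'x⟩ := h1
    refine ⟨s', hs', fun x hx => ?_⟩
    have h2 := hs'x ((ν : MulAut T) x)
    show (((ν : MulAut T) ⟨s * (x : Ω) * s⁻¹, hx⟩ : T) : Ω) = s' * (((ν : MulAut T) x : T) : Ω) * s'⁻¹
    rw [← h2]
    have e : ((ν * ⟨conjAut T s hsN, hc⟩ * ν⁻¹ : ↥(F.autGroup T)) : MulAut T) ((ν : MulAut T) x) =
        (ν : MulAut T) (conjAut T s hsN x) := by
      simp [MulAut.mul_apply]
    rw [e]
    rfl
  have hψ' : ψ.comp (Subgroup.inclusion hle) ∈ F.Hom S := Helper87.restrict_mem F hψ hle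
  have hψ'S : ∀ x, (ψ.comp (Subgroup.inclusion hle)) x ∈ S := (F.le_of_mem hψ').2
  have hinj : Function.Injective ((ψ.comp (Subgroup.inclusion hle)).codRestrict _ hψ'S) := by
    intro a b hab
    exact F.injective_of_mem hψ' (congrArg Subtype.val hab)
  let α₀ : MulAut S :=
    MulEquiv.ofBijective ((ψ.comp (Subgroup.inclusion hle)).codRestrict _ hψ'S)
      ⟨hinj, Finite.injective_iff_surjective.mp hinj⟩
  have hα₀ : α₀ ∈ F.autGroup S := by
    rw [mem_autGroup_iff F le_rfl]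
    unfold IsIso
    exact mem_of_eq F hψ' (fun x => rfl)
  refine ⟨⟨α₀, hα₀⟩, ?_⟩
  show χ (h.resST ⟨α₀, hα₀⟩) = χ ν
  congr 1
  apply Subtype.ext
  ext x
  rw [h.resST_apply]
  show ψ (Subgroup.inclusion hle ⟨x, _⟩) = _
  exact hψx x x.2 _

end Cfsg.Agent.Helper86.NQ
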