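import Cfsg.Agent.Helper86.NQW2
import Cfsg.Agent.Helper85.PPrimeResidual
set_option autoImplicit false

/-!
Degrees of maps of `F` with arbitrary source `P ≤ S`, read off on `P ∩ T`; the class of subgroups on which degrees
are unique; the system of all maps of degree one on that class, and the subsystem generated by them.
-/

namespace Cfsg.Agent.Helper86.NQ

open Cfsg Cfsg.FusionSystem Cfsg.Agent.Helper87 Cfsg.Agent.Helper88.FS Cfsg.Agent.Helper85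

variable {Ω : Type*} [Group Ω] {S T : Subgroup Ω} {Δ : Type*} [Group Δ]
variable {p : ℕ} {F : FusionSystem S} {E : FusionSystem T} {χ : ↥(F.autGroup T) →* Δ}

/-- The map `φ` with source `P ≤ S` has degree `d`: its restriction to `P ∩ T` does. -/
def Th (E : FusionSystem T) (F : FusionSystem S) (χ : ↥(F.autGroup T) →* Δ) {P : Subgroup Ω} (φ : P →* Ω)
    (d : Δ) : Prop :=
  Dec E F χ (φ.comp (Subgroup.inclusion (inf_le_left : P ⊓ T ≤ P))) d

theorem Th.congr {P : Subgroup Ω} {φ φ' : P →* Ω} {d : Δ} (h : Th E F χ φ d) (hφ : ∀ x, φ' x = φ x) :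
    Th E F χ φ' d := by
  have : φ' = φ := MonoidHom.ext hφ
  rwa [this]

theorem Hyp.exists_th (h : Hyp p F E χ) {P : Subgroup Ω} {φ : P →* Ω} (hφ : φ ∈ F.Hom P) :
    ∃ d : Δ, Th E F χ φ d :=
  h.exists_dec inf_le_right (Helper87.restrict_mem F hφ inf_le_left)

theorem Th.restrict {P R : Subgroup Ω} {φ : P →* Ω} {d : Δ} (h : Th E F χ φ d) (hRP : R ≤ P) :
    Th E F χ (φ.comp (Subgroup.inclusion hRP)) d := by
  have hle : R ⊓ T ≤ P ⊓ T := inf_le_inf_right T hRP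
  exact (Dec.restrict h hle).congr (fun x => rfl)

theorem Hyp.th_comp (h : Hyp p F E χ) {P Q : Subgroup Ω} {φ : P →* Ω} {ψ : Q →* Ω} {d d' : Δ}
    (hφ : φ ∈ F.Hom P) (hφQ : ∀ x : P, φ x ∈ Q) (h1 : Th E F χ φ d) (h2 : Th E F χ ψ d') :
    Th E F χ (ψ.comp (φ.codRestrict Q hφQ)) (d' * d) := by
  have hval : ∀ x : ↥(P ⊓ T), (φ.comp (Subgroup.inclusion (inf_le_left : P ⊓ T ≤ P))) x ∈ Q ⊓ T :=
    fun x => ⟨hφQ _, h.closed.2 (P ⊓ T) inf_le_right _ (Helper87.restrict_mem F hφ inf_le_left) x⟩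
  exact (Dec.comp h.autInv h1 hval h2).congr (fun x => rfl)

theorem Hyp.th_inv (h : Hyp p F E χ) {P Q : Subgroup Ω} {φ : P →* Ω} {d : Δ} (hφ : φ ∈ F.Hom P)
    (hφQ : ∀ x : P, φ x ∈ Q) (hQ : ∀ y ∈ Q, ∃ x : P, φ x = y) {ρ : Q →* Ω} (hρF : ρ ∈ F.Hom Q)
    (hρ : ∀ x : P, ρ ⟨φ x, hφQ x⟩ = (x : Ω)) (h1 : Th E F χ φ d) : Th E F χ ρ d⁻¹ := by
  have hval : ∀ x : ↥(P ⊓ T), (φ.comp (Subgroup.inclusion (inf_le_left : P ⊓ T ≤ P))) x ∈ Q ⊓ T :=
    fun x => ⟨hφQ _, h.closed.2 (P ⊓ T) inf_le_right _ (Helper87.restrict_mem F hφ inf_le_left) x⟩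
  refine Dec.inv' h.autInv h1 hval (fun y hy => ?_) (fun x => ?_)
  · obtain ⟨x, hx⟩ := hQ y hy.1
    have hxT : (x : Ω) ∈ T := by
      have h2 := h.closed.2 (Q ⊓ T) inf_le_right _ (Helper87.restrict_mem F hρF inf_le_left) ⟨y, hy⟩
      have h3 : (ρ.comp (Subgroup.inclusion (inf_le_left : Q ⊓ T ≤ Q))) ⟨y, hy⟩ = (x : Ω) := by
        show ρ ⟨y, hy.1⟩ = x
        have e : (⟨y, hy.1⟩ : Q) = ⟨φ x, hφQ x⟩ := Subtype.ext hx.symm
        rw [e, hρ]
      rwa [h3] at h2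
    exact ⟨⟨x, x.2, hxT⟩, hx⟩
  · exact hρ _

theorem Hyp.th_conj (h : Hyp p F E χ) (P : Subgroup Ω) {s : Ω} (hs : s ∈ S) : Th E F χ (conjHom P s) 1 :=
  (h.dec_conj (inf_le_right : P ⊓ T ≤ T) hs).congr (fun x => rfl)

theorem Hyp.th_of_mem (h : Hyp p F E χ) {P : Subgroup Ω} {φ : P →* Ω}
    (hφ : φ.comp (Subgroup.inclusion (inf_le_left : P ⊓ T ≤ P)) ∈ E.Hom (P ⊓ T)) : Th E F χ φ 1 :=
  Dec.of_mem hφ

/-- Restriction of the automorphisms of the system on `S` to the strongly closed `T`. -/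
def Hyp.resST (h : Hyp p F E χ) : ↥(F.autGroup S) →* ↥(F.autGroup T) :=
  resAutHom F le_rfl h.le (fun _ hγ x => aut_mem_iff_of_stronglyClosed F h.closed le_rfl hγ x)

theorem Hyp.resST_apply (h : Hyp p F E χ) (α : ↥(F.autGroup S)) (x : T) :
    ((((h.resST α : ↥(F.autGroup T)) : MulAut T) x : T) : Ω) = (((α : MulAut S) ⟨x, h.le x.2⟩ : S) : Ω) := rfl

/-- The degree of an automorphism of the system on `S`. -/
def Hyp.degS (h : Hyp p F E χ) : ↥(F.autGroup S) →* Δ := χ.comp h.resST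

/-- The restriction of an automorphism of `S` to a subgroup. -/
def resS (α : MulAut S) {P : Subgroup Ω} (hPS : P ≤ S) : P →* Ω :=
  (S.subtype.comp α.toMonoidHom).comp (Subgroup.inclusion hPS)

theorem resS_apply (α : MulAut S) {P : Subgroup Ω} (hPS : P ≤ S) (x : P) :
    resS α hPS x = ((α ⟨x, hPS x.2⟩ : S) : Ω) := rfl

theorem resS_mem {α : MulAut S} (hα : α ∈ F.autGroup S) {P : Subgroup Ω} (hPS : P ≤ S) :
    resS α hPS ∈ F.Hom P :=
  Helper87.restrict_mem F ((mem_autGroup_iff F le_rfl α).mp hα) hPS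

theorem Hyp.th_autS (h : Hyp p F E χ) (α : ↥(F.autGroup S)) {P : Subgroup Ω} (hPS : P ≤ S) :
    Th E F χ (resS (α : MulAut S) hPS) (h.degS α) := by
  have h1 : Dec E F χ (resT ((h.resST α : ↥(F.autGroup T)) : MulAut T) (inf_le_right : P ⊓ T ≤ T))
      (χ ⟨((h.resST α : ↥(F.autGroup T)) : MulAut T), (h.resST α).2⟩) := Dec.of_aut (h.resST α).2 inf_le_right
  exact h1.congr (fun x => rfl)

theorem Hyp.th_unique [Finite S] [Fact p.Prime] (h : Hyp p F E χ) {P : Subgroup Ω} (hP : QT F T (P ⊓ T))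
    {φ : P →* Ω} {d d' : Δ} (h1 : Th E F χ φ d) (h2 : Th E F χ φ d') : d = d' :=
  h.dec_unique hP h1 h2

/-- Automorphisms of `p`-power order have degree one. -/
theorem Hyp.th_of_pow [Finite S] [Fact p.Prime] (h : Hyp p F E χ) {P : Subgroup Ω} (hPS : P ≤ S) {γ : MulAut P}
    (hγ : γ ∈ F.autGroup P) {k : ℕ} (hk : γ ^ p ^ k = 1) : Th E F χ (P.subtype.comp γ.toMonoidHom) 1 := by
  have hinv : ∀ γ ∈ F.autGroup P, ∀ x : P, ((γ x : P) : Ω) ∈ P ⊓ T ↔ (x : Ω) ∈ P ⊓ T := by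
    intro γ hγ x
    constructor
    · intro hx
      exact ⟨x.2, (aut_mem_iff_of_stronglyClosed F h.closed hPS hγ x).mp hx.2⟩
    · intro hx
      exact ⟨(γ x).2, (aut_mem_iff_of_stronglyClosed F h.closed hPS hγ x).mpr hx.2⟩
  have hpow : ((resAutHom F hPS inf_le_left hinv ⟨γ, hγ⟩ : ↥(F.autGroup (P ⊓ T))) : MulAut ↥(P ⊓ T)) ^ p ^ k = 1 := by
    have h1 : (⟨γ, hγ⟩ : ↥(F.autGroup P)) ^ p ^ k = 1 := Subtype.ext (by simpa using hk)
    have h2 := congrArg (resAutHom F hPS inf_le_left hinv) h1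
    rw [map_pow, map_one] at h2
    have h3 := congrArg Subtype.val h2
    simpa using h3
  have h1 := h.dec_of_pow (inf_le_right : P ⊓ T ≤ T) (resAutHom F hPS inf_le_left hinv ⟨γ, hγ⟩).2 hpow
  exact h1.congr (fun x => rfl)

/-! ### The class of subgroups -/

/-- Centric subgroups `P` of `F` such that all conjugates of `P ∩ T` contain their centralizers in `T`. -/
def HH (F : FusionSystem S) (T P : Subgroup Ω) : Prop := F.IsCentric P ∧ QT F T (P ⊓ T)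

theorem isConj_inf_of_isConj {P P' : Subgroup Ω} (hT : F.StronglyClosed T) (hc : F.IsConj P P') :
    F.IsConj (P ⊓ T) (P' ⊓ T) := by
  obtain ⟨e, he⟩ := (isConj_iff F P P').mp hc
  have hPS := he.le_left
  have h1 := isConj_imageSub F he (inf_le_left : P ⊓ T ≤ P)
  have h2 : imageSub e (P ⊓ T) = P' ⊓ T := by
    ext y
    constructor
    · rintro ⟨x, hx, rfl⟩
      have hx : (x : Ω) ∈ P ⊓ T := hx
      refine ⟨(e x).2, ?_⟩
      exact hT.2 (P ⊓ T) inf_le_right _ (Helper87.restrict_mem F he inf_le_left) ⟨x, hx⟩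
    · intro hy
      have h3 := hT.2 (P' ⊓ T) inf_le_right _ (Helper87.restrict_mem F he.symm inf_le_left) ⟨y, hy⟩
      have h4 : ((e.symm ⟨y, hy.1⟩ : P) : Ω) ∈ T := h3
      have := mem_imageSub e (P ⊓ T) (e.symm ⟨y, hy.1⟩) ⟨(e.symm ⟨y, hy.1⟩).2, h4⟩
      rwa [MulEquiv.apply_symm_apply] at this
  rwa [h2] at h1

theorem HH.of_isConj {P P' : Subgroup Ω} (hP : HH F T P) (hT : F.StronglyClosed T) (hc : F.IsConj P P') :
    HH F T P' :=
  ⟨isCentric_of_isConj F hP.1 hc, hP.2.of_isConj hT (isConj_inf_of_isConj hT hc)⟩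

theorem HH.of_le {P P' : Subgroup Ω} (hP : HH F T P) (hle : P ≤ P') (hP'S : P' ≤ S) : HH F T P' :=
  ⟨isCentric_of_le F hP.1 hle hP'S, hP.2.of_le (inf_le_inf_right T hle) inf_le_right⟩

theorem isConj_range {P : Subgroup Ω} {φ : P →* Ω} (hφ : φ ∈ F.Hom P) : F.IsConj P φ.range := ⟨φ, hφ, rfl⟩

/-! ### The two systems -/

/-- The maps of `F` that have degree one whenever their source is in the class. -/
def sysOne (h : Hyp p F E χ) : FusionSystem S where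
  Hom P := {φ | φ ∈ F.Hom P ∧ (HH F T P → Th E F χ φ 1)}
  le_of_mem hφ := F.le_of_mem hφ.1
  injective_of_mem hφ := F.injective_of_mem hφ.1
  conj_mem hP hg := ⟨F.conj_mem hP hg, fun _ => h.th_conj _ hg⟩
  comp_mem := by
    intro P Q φ ψ hφ hψ hval
    refine ⟨F.comp_mem hφ.1 hψ.1 hval, fun hHP => ?_⟩
    have hQS : Q ≤ S := (F.le_of_mem hψ.1).1
    have hle : φ.range ≤ Q := by
      rintro _ ⟨x, rfl⟩
      exact hval x
    have hHQ : HH F T Q := (hHP.of_isConj h.closed (isConj_range hφ.1)).of_le hle hQS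
    have := h.th_comp hφ.1 hval (hφ.2 hHP) (hψ.2 hHQ)
    rwa [mul_one] at this
  inv_mem := by
    intro P φ hφ
    obtain ⟨ρ, hρ, hρx⟩ := F.inv_mem hφ.1
    refine ⟨ρ, ⟨hρ, fun hHr => ?_⟩, hρx⟩
    have hHP : HH F T P := hHr.of_isConj h.closed (isConj_symm F (isConj_range hφ.1))
    have := h.th_inv hφ.1 (fun x => (⟨x, rfl⟩ : φ x ∈ φ.range)) (fun y hy => hy) hρ hρx (hφ.2 hHP)
    rwa [inv_one] at this

theorem sysOne_le (h : Hyp p F E χ) : sysOne h ≤ F := fun _ _ hφ => hφ.1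

/-- The subsystem generated by the maps of degree one with source in the class. -/
def sysZero (h : Hyp p F E χ) : FusionSystem S :=
  interSystem F {E' | ∀ R : Subgroup Ω, HH F T R → ∀ ψ ∈ F.Hom R, Th E F χ ψ 1 → ψ ∈ E'.Hom R}

theorem sysZero_le (h : Hyp p F E χ) : sysZero h ≤ F := interSystem_le F _

theorem sysZero_le_sysOne (h : Hyp p F E χ) : sysZero h ≤ sysOne h :=
  interSystem_le_of_mem F (fun _ _ ψ hψ hth => ⟨hψ, fun _ => hth⟩)

theorem mem_sysZero (h : Hyp p F E χ) {R : Subgroup Ω} (hR : HH F T R) {ψ : R →* Ω} (hψ : ψ ∈ F.Hom R)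
    (hth : Th E F χ ψ 1) : ψ ∈ (sysZero h).Hom R :=
  ⟨hψ, fun _ hE' => hE' R hR ψ hψ hth⟩

theorem th_of_mem_sysZero (h : Hyp p F E χ) {R : Subgroup Ω} (hR : HH F T R) {ψ : R →* Ω}
    (hψ : ψ ∈ (sysZero h).Hom R) : Th E F χ ψ 1 :=
  (sysZero_le_sysOne h R hψ).2 hR

theorem sysZero_le_of (h : Hyp p F E χ) {D : FusionSystem S}
    (hD : ∀ R : Subgroup Ω, HH F T R → (sysZero h).Hom R ⊆ D.Hom R) : sysZero h ≤ D :=
  interSystem_le_of_mem F (fun R hR ψ hψ hth => hD R hR (mem_sysZero h hR hψ hth))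

end Cfsg.Agent.Helper86.NQ
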