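import Cfsg.Agent.Helper86.NQDec
set_option autoImplicit false

/-!
Well-definedness of degrees. Setting: `E` over `T` saturated and invariant in the saturated system `F` over `S`, and
`χ : Aut_F(T) →* Δ` with `Δ` without `p`-torsion, trivial on `Aut_E(T)`. Then automorphisms of `p`-power order of
subgroups of `T` have degree `1`, and on subgroups `Q ≤ T` all of whose `F`-conjugates contain their centralizer in
`T`, degrees are unique.
-/

namespace Cfsg.Agent.Helper86.NQ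

open Cfsg Cfsg.FusionSystem Cfsg.Agent.Helper87 Cfsg.Agent.Helper88.FS Cfsg.Agent.Helper85

variable {Ω : Type*} [Group Ω] {S T : Subgroup Ω} {Δ : Type*} [Group Δ]

/-- The standing hypotheses. -/
structure Hyp (p : ℕ) (F : FusionSystem S) (E : FusionSystem T) (χ : ↥(F.autGroup T) →* Δ) : Prop where
  pS : IsPGroup p S
  satF : F.IsSaturated p
  satE : E.IsSaturated p
  inv : E.IsInvariantIn F
  ker : ∀ (α : MulAut T) (hα : α ∈ F.autGroup T), α ∈ E.autGroup T → χ ⟨α, hα⟩ = 1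
  pfree : ∀ (d : Δ) (k : ℕ), d ^ p ^ k = 1 → d = 1

variable {p : ℕ} {F : FusionSystem S} {E : FusionSystem T} {χ : ↥(F.autGroup T) →* Δ}

theorem Hyp.closed (h : Hyp p F E χ) : F.StronglyClosed T := h.inv.2.1

theorem Hyp.le (h : Hyp p F E χ) : T ≤ S := h.inv.2.1.1

theorem Hyp.autInv (h : Hyp p F E χ) : AutInv E (F.autGroup T) := autInv_of_isInvariantIn h.inv

theorem Hyp.sub (h : Hyp p F E χ) : E.IsSubsystemOf F := h.inv.1

theorem Hyp.frat (h : Hyp p F E χ) {P : Subgroup Ω} (hPT : P ≤ T) {φ : P →* Ω} (hφ : φ ∈ F.Hom P) : Fr E F φ :=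
  h.inv.2.2.2 P hPT φ hφ

theorem Hyp.exists_dec (h : Hyp p F E χ) {P : Subgroup Ω} (hPT : P ≤ T) {φ : P →* Ω} (hφ : φ ∈ F.Hom P) :
    ∃ d : Δ, Dec E F χ φ d := Dec.of_fr (h.frat hPT hφ)

theorem Hyp.chi_eq_one_of_pow (h : Hyp p F E χ) {α : MulAut T} (hα : α ∈ F.autGroup T) {k : ℕ}
    (hk : α ^ p ^ k = 1) : χ ⟨α, hα⟩ = 1 := by
  apply h.pfree _ k
  rw [← map_pow]
  have : (⟨α, hα⟩ : ↥(F.autGroup T)) ^ p ^ k = 1 := Subtype.ext (by simpa using hk)
  rw [this, map_one]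

/-- Conjugation by an element of `S` has degree `1`. -/
theorem Hyp.dec_conj (h : Hyp p F E χ) {P : Subgroup Ω} (hPT : P ≤ T) {s : Ω} (hs : s ∈ S) :
    Dec E F χ (conjHom P s) 1 := by
  have hTS := h.le
  have hN : s ∈ Subgroup.normalizer (T : Set Ω) := le_normalizer_of_stronglyClosed F h.closed hs
  have hα : conjAut T s hN ∈ F.autGroup T := (mem_autGroup_iff F hTS _).mpr (isIso_conjAut F hTS hs hN)
  obtain ⟨k, hk⟩ := h.pS ⟨s, hs⟩
  have hk' : s ^ p ^ k = 1 := by simpa using congrArg Subtype.val hk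
  have hpow : conjAut T s hN ^ p ^ k = 1 := by
    rw [conjAut_pow]
    have e : conjAut T (s ^ p ^ k) (Subgroup.pow_mem _ hN _) = conjAut T 1 (Subgroup.one_mem _) := by
      ext x
      rw [conjAut_apply, conjAut_apply, hk']
    rw [e, conjAut_one]
  have h1 := h.chi_eq_one_of_pow hα hpow
  have h2 : Dec E F χ (resT (conjAut T s hN) hPT) (χ ⟨conjAut T s hN, hα⟩) := Dec.of_aut hα hPT
  rw [h1] at h2
  exact h2.congr (fun x => rfl)

/-- Automorphisms of `p`-power order of a subgroup of `T` have degree `1`. -/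
theorem Hyp.dec_of_pow [Finite S] [Fact p.Prime] (h : Hyp p F E χ) {R : Subgroup Ω} (hRT : R ≤ T) {γ : MulAut R}
    (hγ : γ ∈ F.autGroup R) {k : ℕ} (hk : γ ^ p ^ k = 1) :
    Dec E F χ (R.subtype.comp γ.toMonoidHom) 1 := by
  have hTS := h.le
  have hRS : R ≤ S := hRT.trans hTS
  obtain ⟨R', hconj, hR'n⟩ := exists_isConj_fullyNormalized F hRS
  obtain ⟨-, hR'a⟩ := fullyAutomized_fullyCentralized_of_fullyNormalized h.pS F h.satF hR'n
  obtain ⟨e, he⟩ := (isConj_iff F R R').mp hconj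
  have hR'S : R' ≤ S := he.le_right
  have hR'T : R' ≤ T := by
    intro y hy
    have := h.closed.2 R hRT _ he (e.symm ⟨y, hy⟩)
    simpa using this
  obtain ⟨-, Sy, hSy⟩ := hR'a
  have : Finite (MulAut R') := finite_mulAut_of_le hR'S
  have hγiso : IsIso F (γ : R ≃* R) := (mem_autGroup_iff F hRS γ).mp hγ
  have hγ' : MulAut.congr e γ ∈ F.autGroup R' :=
    (mem_autGroup_iff F hR'S _).mpr (he.symm.trans (hγiso.trans he))
  have hg'pow : (⟨MulAut.congr e γ, hγ'⟩ : ↥(F.autGroup R')) ^ p ^ k = 1 := by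
    apply Subtype.ext
    show (MulAut.congr e γ) ^ p ^ k = 1
    rw [← map_pow, hk, map_one]
  have hB : IsPGroup p (Subgroup.zpowers (⟨MulAut.congr e γ, hγ'⟩ : ↥(F.autGroup R'))) := by
    rintro ⟨b, hb⟩
    obtain ⟨n, rfl⟩ := Subgroup.mem_zpowers_iff.mp hb
    refine ⟨k, Subtype.ext ?_⟩
    show ((⟨MulAut.congr e γ, hγ'⟩ : ↥(F.autGroup R')) ^ n) ^ p ^ k = 1
    rw [← zpow_natCast, ← zpow_mul, mul_comm, zpow_mul, zpow_natCast, hg'pow, one_zpow]
  obtain ⟨a, ha⟩ := exists_conj_mem_sylow_of_isPGroup Sy _ hB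
  have h1 : a * ⟨MulAut.congr e γ, hγ'⟩ * a⁻¹ ∈ (Sy : Subgroup (F.autGroup R')) :=
    ha _ (Subgroup.mem_zpowers _)
  rw [hSy, Subgroup.mem_subgroupOf, mem_autInducedBy_iff] at h1
  obtain ⟨s, hsS, hs⟩ := h1
  have haiso : IsIso F ((a : MulAut R') : R' ≃* R') := (mem_autGroup_iff F hR'S a).mp a.2
  set e' : R ≃* R' := e.trans (a : MulAut R') with he'def
  have he' : IsIso F e' := he.trans haiso
  have key : ∀ x : R, ((e' (γ x) : R') : Ω) = s * ((e' x : R') : Ω) * s⁻¹ := by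
    intro x
    rw [← hs (e' x)]
    congr 1
    simp [he'def, MulAut.congr, MulAut.mul_apply, MulAut.inv_apply]
  -- degrees
  set σ : R →* Ω := R'.subtype.comp e'.toMonoidHom with hσ
  have hσF : σ ∈ F.Hom R := he'
  obtain ⟨d, hd⟩ := h.exists_dec (χ := χ) hRT hσF
  have hc : Dec E F χ (conjHom R' s) 1 := h.dec_conj hR'T hsS
  have hσR' : ∀ x, σ x ∈ R' := fun x => (e' x).2
  have h2 : Dec E F χ ((conjHom R' s).comp (σ.codRestrict R' hσR')) (1 * d) := Dec.comp h.autInv hd hσR' hc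
  set ρ : R' →* Ω := R.subtype.comp e'.symm.toMonoidHom with hρdef
  have hρ : Dec E F χ ρ d⁻¹ := by
    refine Dec.inv' h.autInv hd hσR' (fun y hy => ⟨e'.symm ⟨y, hy⟩, ?_⟩) (fun x => ?_)
    · show ((e' (e'.symm ⟨y, hy⟩) : R') : Ω) = y
      rw [MulEquiv.apply_symm_apply]
    · show ((e'.symm ⟨((e' x : R') : Ω), _⟩ : R) : Ω) = x
      have : (⟨((e' x : R') : Ω), hσR' x⟩ : R') = e' x := Subtype.ext rfl
      rw [this, MulEquiv.symm_apply_apply]
  have hval : ∀ x, ((conjHom R' s).comp (σ.codRestrict R' hσR')) x ∈ R' := by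
    intro x
    show s * ((e' x : R') : Ω) * s⁻¹ ∈ R'
    rw [← key x]
    exact (e' (γ x)).2
  have h3 := Dec.comp h.autInv h2 hval hρ
  have hone : d⁻¹ * (1 * d) = 1 := by group
  rw [hone] at h3
  refine h3.congr (fun x => ?_)
  show ((γ x : R) : Ω) = ((e'.symm ⟨s * ((e' x : R') : Ω) * s⁻¹, _⟩ : R) : Ω)
  have : (⟨s * ((e' x : R') : Ω) * s⁻¹, hval x⟩ : R') = e' (γ x) := Subtype.ext (key x).symm
  rw [this, MulEquiv.symm_apply_apply]

/-- `Q ≤ T`, and every conjugate of `Q` in `F` contains its centralizer in `T`. -/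
def QT (F : FusionSystem S) (T Q : Subgroup Ω) : Prop :=
  Q ≤ T ∧ ∀ Q' : Subgroup Ω, F.IsConj Q Q' → centralizerIn T Q' ≤ Q'

theorem QT.of_isConj {Q Q' : Subgroup Ω} (hQ : QT F T Q) (hT : F.StronglyClosed T) (hc : F.IsConj Q Q') :
    QT F T Q' := by
  refine ⟨?_, fun Q'' h' => hQ.2 Q'' (isConj_trans F hc h')⟩
  obtain ⟨φ, hφ, rfl⟩ := hc
  rintro _ ⟨x, rfl⟩
  exact hT.2 Q hQ.1 φ hφ x

theorem QT.of_le {Q R : Subgroup Ω} (hQ : QT F T Q) (hQR : Q ≤ R) (hRT : R ≤ T) : QT F T R := by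
  refine ⟨hRT, fun R' hR' => ?_⟩
  obtain ⟨e, he⟩ := (isConj_iff F R R').mp hR'
  have h1 := hQ.2 _ (isConj_imageSub F he hQR)
  have h2 : centralizerIn T R' ≤ centralizerIn T (imageSub e Q) :=
    inf_le_inf_left T (Subgroup.centralizer_le (imageSub_le e Q))
  exact (h2.trans h1).trans (imageSub_le e Q)

theorem QT.isCentric {Q : Subgroup Ω} (hQ : QT F T Q) (hsub : E.IsSubsystemOf F) : E.IsCentric Q :=
  ⟨hQ.1, fun Q' hQ' => hQ.2 Q' (by obtain ⟨φ, hφ, hr⟩ := hQ'; exact ⟨φ, hsub Q hφ, hr⟩)⟩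

theorem QT.self_le {Q : Subgroup Ω} (hQ : QT F T Q) (hTS : T ≤ S) : centralizerIn T Q ≤ Q :=
  hQ.2 Q (isConj_refl F (hQ.1.trans hTS))

end Cfsg.Agent.Helper86.NQ
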