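import Cfsg.Agent.Helper86.NQW
set_option autoImplicit false

/-!
The key lemma: if `β ∈ Aut_F(T)` restricted to `Q` has degree `1`, where all `F`-conjugates of `Q ≤ T` contain their
centralizers in `T`, then `χ β = 1`. Consequently degrees are unique on such `Q`.
-/

namespace Cfsg.Agent.Helper86.NQ

open Cfsg Cfsg.FusionSystem Cfsg.Agent.Helper87 Cfsg.Agent.Helper88.FS Cfsg.Agent.Helper85

variable {Ω : Type*} [Group Ω] {S T : Subgroup Ω} {Δ : Type*} [Group Δ]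
variable {p : ℕ} {F : FusionSystem S} {E : FusionSystem T} {χ : ↥(F.autGroup T) →* Δ}

/-- An automorphism `γ` of `R` fixing `Q ≤ R` pointwise with `x⁻¹ γ(x) ∈ Q` for all `x` satisfies
`γ ^ m (x) = x (x⁻¹ γ x) ^ m`. -/
theorem pow_apply_of_fix {R Q : Subgroup Ω} (γ : MulAut R) (hfix : ∀ x : R, (x : Ω) ∈ Q → γ x = x)
    (hz : ∀ x : R, (x : Ω)⁻¹ * ((γ x : R) : Ω) ∈ Q) (m : ℕ) (x : R) :
    (γ ^ m) x = x * (x⁻¹ * γ x) ^ m := by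
  induction m with
  | zero => simp
  | succ m ih =>
    have hzfix : γ (x⁻¹ * γ x) = x⁻¹ * γ x := hfix _ (hz x)
    rw [pow_succ', MulAut.mul_apply, ih, map_mul, map_pow, hzfix, pow_succ' (x⁻¹ * γ x) m, ← mul_assoc x,
      mul_inv_cancel_left]

theorem pow_card_eq_one_of_fix [Finite S] {R Q : Subgroup Ω} (hQS : Q ≤ S) (γ : MulAut R)
    (hfix : ∀ x : R, (x : Ω) ∈ Q → γ x = x)
    (hz : ∀ x : R, (x : Ω)⁻¹ * ((γ x : R) : Ω) ∈ Q) : γ ^ Nat.card Q = 1 := by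
  have : Finite Q := finite_of_le hQS
  ext x
  rw [pow_apply_of_fix γ hfix hz]
  have h1 : ((⟨(x : Ω)⁻¹ * ((γ x : R) : Ω), hz x⟩ : Q)) ^ Nat.card Q = 1 := pow_card_eq_one'
  have h2 : ((x : Ω)⁻¹ * ((γ x : R) : Ω)) ^ Nat.card Q = 1 := by
    have := congrArg (fun q : Q => (q : Ω)) h1
    simpa only [Subgroup.coe_pow, Subgroup.coe_one] using this
  have h3 : (x⁻¹ * γ x) ^ Nat.card Q = 1 := by
    apply Subtype.ext
    rw [Subgroup.coe_pow, Subgroup.coe_mul, Subgroup.coe_inv, Subgroup.coe_one]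
    exact h2
  rw [h3, mul_one]
  rfl

theorem Hyp.chi_eq_one_of_dec [Finite S] [Fact p.Prime] (h : Hyp p F E χ) :
    ∀ (n : ℕ) (Q : Subgroup Ω) (hQ : QT F T Q), Nat.card T - Nat.card Q = n →
      ∀ (β : MulAut T) (hβ : β ∈ F.autGroup T), Dec E F χ (resT β hQ.1) 1 → χ ⟨β, hβ⟩ = 1 := by
  intro n
  induction n using Nat.strong_induction_on with
  | _ n ih =>
  intro Q hQ hn β hβ hdec
  have hTS := h.le
  have hfinT : Finite T := finite_of_le hTS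
  have hTp : IsPGroup p T := h.pS.to_le hTS
  obtain ⟨κ, hκ, hκ1, ψ₀, hψ₀, hx⟩ := hdec
  have hβ₁ : κ⁻¹ * β ∈ F.autGroup T := (F.autGroup T).mul_mem ((F.autGroup T).inv_mem hκ) hβ
  suffices hmain : χ ⟨κ⁻¹ * β, hβ₁⟩ = 1 by
    have e : (⟨β, hβ⟩ : ↥(F.autGroup T)) = ⟨κ, hκ⟩ * ⟨κ⁻¹ * β, hβ₁⟩ := Subtype.ext (by simp)
    rw [e, map_mul, hκ1, hmain, one_mul]
  have hψ₀T : ∀ x : Q, ψ₀ x ∈ T := (E.le_of_mem hψ₀).2
  have hβ₁x : ∀ x : Q, (((κ⁻¹ * β) ⟨x, hQ.1 x.2⟩ : T) : Ω) = ψ₀ x := by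
    intro x
    have h1 := hx x (hψ₀T x)
    have h2 : β ⟨x, hQ.1 x.2⟩ = κ ⟨ψ₀ x, hψ₀T x⟩ := Subtype.ext h1
    rw [MulAut.mul_apply, h2, MulAut.inv_apply_self]
  generalize κ⁻¹ * β = β₁ at hβ₁ hβ₁x ⊢
  rcases eq_or_lt_of_le hQ.1 with hQT | hQlt
  · subst hQT
    apply h.ker β₁ hβ₁
    rw [mem_autGroup_iff E le_rfl]
    unfold IsIso
    exact mem_of_eq E hψ₀ (fun x => hβ₁x x)
  · have hQR : Q ≤ normalizerIn T Q := le_normalizerIn hQ.1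
    have hQltR : Q < normalizerIn T Q := lt_normalizerIn hTp hQlt
    have hRT : normalizerIn T Q ≤ T := inf_le_left
    have hQS : Q ≤ S := hQ.1.trans hTS
    have hQ'QT : QT F T ψ₀.range := hQ.of_isConj h.closed ⟨ψ₀, h.sub Q hψ₀, rfl⟩
    have hrec : E.IsReceptive ψ₀.range := isReceptive_of_isCentric hTp E h.satE (hQ'QT.isCentric h.sub)
    obtain ⟨ψ', hψ', hψ'x⟩ := hrec.2 Q ψ₀ hψ₀ rfl
    have hRext : normalizerIn T Q ≤ extender T Q ψ₀ := by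
      rintro g ⟨hgT, hgN⟩
      rw [mem_extender_iff]
      refine ⟨hgT, hgN, ((β₁ ⟨g, hgT⟩ : T) : Ω), (β₁ ⟨g, hgT⟩).2, fun x hx' => ?_⟩
      rw [← hβ₁x, ← hβ₁x]
      have e : (⟨g * (x : Ω) * g⁻¹, hQ.1 hx'⟩ : T) = ⟨g, hgT⟩ * ⟨x, hQ.1 x.2⟩ * ⟨g, hgT⟩⁻¹ := Subtype.ext rfl
      show ((β₁ ⟨g * (x : Ω) * g⁻¹, _⟩ : T) : Ω) = _
      rw [e, map_mul, map_mul, map_inv]
      rfl
    have hψ'' : ψ'.comp (Subgroup.inclusion hRext) ∈ E.Hom (normalizerIn T Q) := Helper87.restrict_mem E hψ' hRext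
    generalize hψ''def : ψ'.comp (Subgroup.inclusion hRext) = ψ'' at hψ''
    have hψ''T : ∀ x : normalizerIn T Q, ψ'' x ∈ T := (E.le_of_mem hψ'').2
    have hψ''Q : ∀ (x : normalizerIn T Q) (hxQ : (x : Ω) ∈ Q), ψ'' x = ψ₀ ⟨x, hxQ⟩ := by
      intro x hxQ
      rw [← hψ''def]
      exact hψ'x x hxQ _
    have hβ₁inv : β₁⁻¹ ∈ F.autGroup T := (F.autGroup T).inv_mem hβ₁
    have hβ₁iso : T.subtype.comp (β₁⁻¹ : MulAut T).toMonoidHom ∈ F.Hom T := (mem_autGroup_iff F hTS _).mp hβ₁inv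
    have hγ₀F := F.comp_mem (h.sub _ hψ'') hβ₁iso hψ''T
    generalize hγ₀def : (T.subtype.comp (β₁⁻¹ : MulAut T).toMonoidHom).comp (ψ''.codRestrict T hψ''T) = γ₀ at hγ₀F
    have hγ₀x : ∀ x : normalizerIn T Q, γ₀ x = ((β₁⁻¹ ⟨ψ'' x, hψ''T x⟩ : T) : Ω) := by
      intro x; rw [← hγ₀def]; rfl
    have hψ''γ : ∀ x : normalizerIn T Q, ∀ hT' : γ₀ x ∈ T, ψ'' x = ((β₁ ⟨γ₀ x, hT'⟩ : T) : Ω) := by
      intro x hT'
      have e : (⟨γ₀ x, hT'⟩ : T) = β₁⁻¹ ⟨ψ'' x, hψ''T x⟩ := Subtype.ext (hγ₀x x)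
      rw [e, MulAut.apply_inv_self]
    -- `γ₀` fixes `Q`
    have hγQ : ∀ x : normalizerIn T Q, (x : Ω) ∈ Q → γ₀ x = x := by
      intro x hxQ
      rw [hγ₀x]
      have e : (⟨ψ'' x, hψ''T x⟩ : T) = β₁ ⟨x, hQ.1 hxQ⟩ := Subtype.ext ((hψ''Q x hxQ).trans (hβ₁x ⟨x, hxQ⟩).symm)
      rw [e, MulAut.inv_apply_self]
    have hγ₀T : ∀ x : normalizerIn T Q, γ₀ x ∈ T := fun x => by rw [hγ₀x]; exact (β₁⁻¹ _).2
    -- `x⁻¹ γ₀(x)` centralizes `Q`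
    have hzQ : ∀ x : normalizerIn T Q, (x : Ω)⁻¹ * γ₀ x ∈ Q := by
      intro x
      apply hQ.self_le hTS
      refine ⟨T.mul_mem (T.inv_mem (hRT x.2)) (hγ₀T x), ?_⟩
      show _ ∈ Subgroup.centralizer (Q : Set Ω)
      rw [Subgroup.mem_centralizer_iff]
      intro y hy
      have hxN : (x : Ω) ∈ Subgroup.normalizer (Q : Set Ω) := x.2.2
      have hconj : (x : Ω) * y * (x : Ω)⁻¹ ∈ Q := (Subgroup.mem_normalizer_iff.mp hxN y).mp hy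
      have hyN : y ∈ normalizerIn T Q := hQR hy
      have h1 : γ₀ (x * ⟨y, hyN⟩ * x⁻¹) = (x : Ω) * y * (x : Ω)⁻¹ := hγQ _ hconj
      rw [map_mul, map_mul, map_inv, hγQ ⟨y, hyN⟩ hy] at h1
      have h2 : γ₀ x * y = (x : Ω) * y * (x : Ω)⁻¹ * γ₀ x := by
        have : γ₀ x * y = (γ₀ x * y * (γ₀ x)⁻¹) * γ₀ x := by group
        rw [this]
        exact congrArg (· * γ₀ x) h1
      calc y * ((x : Ω)⁻¹ * γ₀ x) = (x : Ω)⁻¹ * ((x : Ω) * y * (x : Ω)⁻¹ * γ₀ x) := by group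
        _ = (x : Ω)⁻¹ * (γ₀ x * y) := by rw [h2]
        _ = (x : Ω)⁻¹ * γ₀ x * y := by group
    have hγ₀R : ∀ x : normalizerIn T Q, γ₀ x ∈ normalizerIn T Q := by
      intro x
      have : γ₀ x = (x : Ω) * ((x : Ω)⁻¹ * γ₀ x) := by group
      rw [this]
      exact (normalizerIn T Q).mul_mem x.2 (hQR (hzQ x))
    have hfinR : Finite (normalizerIn T Q) := finite_of_le (hRT.trans hTS)
    have hinj : Function.Injective (γ₀.codRestrict _ hγ₀R) := by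
      intro a b hab
      exact F.injective_of_mem hγ₀F (congrArg Subtype.val hab)
    set γ : MulAut (normalizerIn T Q) :=
      MulEquiv.ofBijective (γ₀.codRestrict _ hγ₀R) ⟨hinj, Finite.injective_iff_surjective.mp hinj⟩ with hγdef
    have hγx : ∀ x, ((γ x : normalizerIn T Q) : Ω) = γ₀ x := fun x => rfl
    have hRS : normalizerIn T Q ≤ S := hRT.trans hTS
    have hγF : γ ∈ F.autGroup (normalizerIn T Q) := by
      rw [mem_autGroup_iff F hRS]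
      unfold IsIso
      exact mem_of_eq F hγ₀F (fun x => rfl)
    have hpow : γ ^ Nat.card Q = 1 := by
      apply pow_card_eq_one_of_fix hQS γ
      · intro x hxQ
        exact Subtype.ext ((hγx x).trans (hγQ x hxQ))
      · intro x
        rw [hγx]
        exact hzQ x
    have : Finite Q := finite_of_le hQS
    obtain ⟨k, hk⟩ := (hTp.to_le hQ.1).exists_card_eq
    rw [hk] at hpow
    have hpow' : γ⁻¹ ^ p ^ k = 1 := by rw [inv_pow, hpow, inv_one]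
    have hγinvF : γ⁻¹ ∈ F.autGroup (normalizerIn T Q) := (F.autGroup _).inv_mem hγF
    have hd1 := h.dec_of_pow hRT hγinvF hpow'
    have hvalR : ∀ x, ((normalizerIn T Q).subtype.comp (γ⁻¹ : MulAut _).toMonoidHom) x ∈ normalizerIn T Q :=
      fun x => (γ⁻¹ x).2
    have hd2 := Dec.comp_mem h.autInv hd1 hvalR hψ''
    have hd3 : Dec E F χ (resT β₁ hRT) 1 := by
      refine hd2.congr (fun x => ?_)
      show ((β₁ ⟨x, hRT x.2⟩ : T) : Ω) = ψ'' (γ⁻¹ x)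
      rw [hψ''γ (γ⁻¹ x) (hγ₀T _)]
      congr 2
      apply Subtype.ext
      show (x : Ω) = γ₀ (γ⁻¹ x)
      rw [← hγx, MulAut.apply_inv_self]
    have hcard1 : Nat.card Q < Nat.card (normalizerIn T Q) := card_lt_card_of_lt hQltR
    have hcard2 : Nat.card (normalizerIn T Q) ≤ Nat.card T := Subgroup.card_le_of_le hRT
    exact ih (Nat.card T - Nat.card (normalizerIn T Q)) (by omega) (normalizerIn T Q) (hQ.of_le hQR hRT) rfl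
      β₁ hβ₁ hd3

/-- Degrees are unique on subgroups in the class `QT`. -/
theorem Hyp.dec_unique [Finite S] [Fact p.Prime] (h : Hyp p F E χ) {Q : Subgroup Ω} (hQ : QT F T Q)
    {φ : Q →* Ω} {d d' : Δ} (h1 : Dec E F χ φ d) (h2 : Dec E F χ φ d') : d = d' := by
  obtain ⟨α, hα, hd, φ₀, hφ₀, hx⟩ := h1
  obtain ⟨α', hα', hd', φ₀', hφ₀', hx'⟩ := h2
  have hφ₀T : ∀ x : Q, φ₀ x ∈ T := (E.le_of_mem hφ₀).2
  have hφ₀'T : ∀ x : Q, φ₀' x ∈ T := (E.le_of_mem hφ₀').2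
  have hQ₀ : QT F T φ₀.range := hQ.of_isConj h.closed ⟨φ₀, h.sub Q hφ₀, rfl⟩
  obtain ⟨ρ₀, hρ₀, hρ₀x⟩ := E.inv_mem hφ₀
  have hρ₀Q : ∀ y : φ₀.range, ρ₀ y ∈ Q := by
    rintro ⟨_, ⟨x, rfl⟩⟩
    rw [hρ₀x]
    exact x.2
  have hψ := E.comp_mem hρ₀ hφ₀' hρ₀Q
  have hβ : α'⁻¹ * α ∈ F.autGroup T := (F.autGroup T).mul_mem ((F.autGroup T).inv_mem hα') hα
  have hdec : Dec E F χ (resT (α'⁻¹ * α) hQ₀.1) 1 := by
    refine (Dec.of_mem hψ).congr ?_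
    rintro ⟨_, ⟨x, rfl⟩⟩
    show (((α'⁻¹ * α) ⟨φ₀ x, _⟩ : T) : Ω) = φ₀' ⟨ρ₀ ⟨φ₀ x, ⟨x, rfl⟩⟩, _⟩
    have e1 : (⟨ρ₀ ⟨φ₀ x, ⟨x, rfl⟩⟩, hρ₀Q ⟨φ₀ x, ⟨x, rfl⟩⟩⟩ : Q) = x := Subtype.ext (hρ₀x x)
    rw [e1, MulAut.mul_apply]
    have e2 : α ⟨φ₀ x, hφ₀T x⟩ = α' ⟨φ₀' x, hφ₀'T x⟩ :=
      Subtype.ext ((hx x (hφ₀T x)).symm.trans (hx' x (hφ₀'T x)))
    rw [e2, MulAut.inv_apply_self]
  have h3 := h.chi_eq_one_of_dec _ _ hQ₀ rfl _ hβ hdec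
  have e : (⟨α'⁻¹ * α, hβ⟩ : ↥(F.autGroup T)) = (⟨α', hα'⟩ : ↥(F.autGroup T))⁻¹ * ⟨α, hα⟩ := rfl
  rw [e, map_mul, map_inv, hd, hd'] at h3
  have : d = d' * (d'⁻¹ * d) := by group
  rw [this, h3, mul_one]

end Cfsg.Agent.Helper86.NQ
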