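-- A saturated subsystem `E` (over `T`) of `F_S(G)` lies in `F_T(H)`, `H` a normal subgroup of `G` containing `T`, as
-- soon as the automorphisms of `T` in `E` are induced by `H` (helper86, for helper85's S5121; Alperin--Goldschmidt
-- induction after S5114).
import Cfsg.Agent.Helper85.NSSat
import Cfsg.Agent.Helper88.FusionFrattini
import Cfsg.Agent.S5114

set_option autoImplicit false

namespace Cfsg.Agent.Helper86.NSAlperin

open Cfsg Cfsg.FusionSystem Cfsg.Agent.Helper85 Cfsg.Agent.Helper85.NS Cfsg.Agent.Helper87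

variable {G : Type*} [Group G] {S T : Subgroup G}

/-- An automorphism of `R ≤ T` given by conjugation with an element of `H` is an automorphism of `F_T(H)`. -/
theorem mem_autGroup_subgroup_of_conj (H : Subgroup G) (hTH : T ≤ H) {R : Subgroup G} (hR : R ≤ T) (β : MulAut R)
    {h : G} (hh : h ∈ H) (hx : ∀ y : R, ((β y : R) : G) = h * y * h⁻¹) :
    β ∈ (fusionSystemOfSubgroup H T hTH).autGroup R := by
  rw [mem_autGroup_iff _ hR]
  exact ⟨hR, fun y => hR (β y).2, h, hh, fun y => hx y⟩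

/-- Automorphisms of `p`-power order of `R` in `E`, `R` fully automized, are induced by `H`. -/
theorem pElement_mem_autGroup_subgroup [Finite T] (p : ℕ) [Fact p.Prime] (E : FusionSystem T)
    (hsub : E.IsSubsystemOf (groupFusionSystem S)) (H : Subgroup G) (hHn : H.Normal) (hTH : T ≤ H)
    {R : Subgroup G} (hR : R ≤ T) (hfa : E.IsFullyAutomized p R) (β : E.autGroup R) (k : ℕ)
    (hk : orderOf β = p ^ k) : (β : MulAut R) ∈ (fusionSystemOfSubgroup H T hTH).autGroup R := by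
  have : Finite (MulAut R) := finite_mulAut_of_le hR
  obtain ⟨Sy, hSy⟩ := hfa.2
  have hB : IsPGroup p (Subgroup.zpowers β) := by
    rw [IsPGroup.iff_card]
    exact ⟨k, by rw [Nat.card_zpowers, hk]⟩
  obtain ⟨γ, hγ⟩ := exists_conj_mem_sylow_of_isPGroup Sy _ hB
  have h1 := hγ β (Subgroup.mem_zpowers β)
  rw [hSy, Subgroup.mem_subgroupOf] at h1
  obtain ⟨s, hs, hsx⟩ := (mem_autInducedBy_iff T R _).mp h1
  obtain ⟨x, hxn, -, hγx⟩ := exists_ec_of_mem_autGroup hsub hR γ.2
  refine mem_autGroup_subgroup_of_conj H hTH hR (β : MulAut R) (h := x⁻¹ * s * x) ?_ (fun y => ?_)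
  · have := hHn.conj_mem s (hTH hs) x⁻¹
    rwa [inv_inv] at this
  · have h2 := hsx ((γ : MulAut R) y)
    have h3 : ((γ * β * γ⁻¹ : E.autGroup R) : MulAut R) ((γ : MulAut R) y) = (γ : MulAut R) ((β : MulAut R) y) := by
      show (γ : MulAut R) ((β : MulAut R) ((γ : MulAut R)⁻¹ ((γ : MulAut R) y))) = _
      rw [MulAut.inv_apply_self]
    rw [h3, hγx] at h2
    have h4 : x * (((β : MulAut R) y : R) : G) * x⁻¹ = s * (x * (y : G) * x⁻¹) * s⁻¹ := h2
    have h5 : (((β : MulAut R) y : R) : G) = x⁻¹ * (x * (((β : MulAut R) y : R) : G) * x⁻¹) * x := by group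
    rw [h5, h4]
    group

/-- The essential case of the induction. -/
theorem autGroup_le_subgroup_of_essential [Finite T] (p : ℕ) [Fact p.Prime] (hTp : IsPGroup p T)
    (E : FusionSystem T) (hEsat : E.IsSaturated p) (hsub : E.IsSubsystemOf (groupFusionSystem S))
    (H : Subgroup G) (hHn : H.Normal) (hTH : T ≤ H)
    (hE₁ : E.autGroup T ≤ (fusionSystemOfSubgroup H T hTH).autGroup T)
    {R : Subgroup G} (hRess : E.IsEssential p R)
    (ih : ∀ (N : Subgroup G) (ψ : N →* G), R < N → ψ ∈ E.Hom N → ψ ∈ (fusionSystemOfSubgroup H T hTH).Hom N) :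
    E.autGroup R ≤ (fusionSystemOfSubgroup H T hTH).autGroup R := by
  obtain ⟨hRc, hRn, -⟩ := hRess
  have hRT : R ≤ T := hRc.1
  by_cases hReq : R = T
  · subst hReq
    exact hE₁
  have hRlt : R < T := lt_of_le_of_ne hRT hReq
  obtain ⟨hfc, hfa⟩ := fullyAutomized_fullyCentralized_of_fullyNormalized hTp E hEsat hRn
  have hrec := receptive_of_fullyCentralized hTp E hEsat hfc
  have : Finite (MulAut R) := finite_mulAut_of_le hRT
  obtain ⟨Sy, hSy⟩ := hfa.2
  have hNn : (Subgroup.closure {α : ↥(E.autGroup R) | ∃ k : ℕ, orderOf α = p ^ k}).Normal :=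
    Cfsg.Agent.S5114.oPrime_normal p _
  have hSyN : (Sy : Subgroup (E.autGroup R)) ≤
      Subgroup.closure {α : ↥(E.autGroup R) | ∃ k : ℕ, orderOf α = p ^ k} := by
    intro a ha
    apply Subgroup.subset_closure
    obtain ⟨k, hk⟩ := (IsPGroup.iff_orderOf.mp Sy.2) ⟨a, ha⟩
    exact ⟨k, by rw [← hk]; exact (Subgroup.orderOf_mk a ha).symm⟩
  obtain ⟨s, hsN, hsR⟩ := SetLike.exists_of_lt (lt_normalizerIn hTp hRlt)
  intro a ha
  obtain ⟨g, hg, n, hn, hgn⟩ := exists_mul_of_normal Sy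
    (Subgroup.closure {α : ↥(E.autGroup R) | ∃ k : ℕ, orderOf α = p ^ k}) ⟨a, ha⟩
  have ha' : a = (g : MulAut R) * (n : MulAut R) := congrArg Subtype.val hgn
  rw [ha']
  refine Subgroup.mul_mem _ ?_ ?_
  · rw [inf_eq_left.mpr hSyN] at hg
    have hgF : IsIso E ((g : MulAut R) : R ≃* R) := (mem_autGroup_iff E hRT _).mp g.2
    rw [mem_autGroup_iff _ hRT]
    refine isIso_of_extender_gt E _ hrec (g : MulAut R) hgF ih s ?_ hsR
    rw [mem_extender_iff]
    refine ⟨hsN.1, hsN.2, ?_⟩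
    have hcs : conjAut R s hsN.2 ∈ E.autGroup R := (mem_autGroup_iff E hRT _).mpr (isIso_conjAut E hRT hsN.1 hsN.2)
    have hcsSy : (⟨conjAut R s hsN.2, hcs⟩ : E.autGroup R) ∈ (Sy : Subgroup (E.autGroup R)) := by
      rw [hSy, Subgroup.mem_subgroupOf]
      exact (mem_autInducedBy_iff T R _).mpr ⟨s, hsN.1, fun x => rfl⟩
    have h1 := (Subgroup.mem_normalizer_iff.mp hg _).mp hcsSy
    rw [hSy, Subgroup.mem_subgroupOf] at h1
    obtain ⟨t, htS, htx⟩ := (mem_autInducedBy_iff T R _).mp h1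
    refine ⟨t, htS, fun x hx => ?_⟩
    have h2 := htx ((g : MulAut R) x)
    rw [← show (((g : MulAut R) x : R) : G) = (R.subtype.comp ((g : MulAut R) : R ≃* R).toMonoidHom) x from rfl, ← h2]
    show (((g : MulAut R) ⟨s * x * s⁻¹, hx⟩ : R) : G) =
      (((g : MulAut R) ((conjAut R s hsN.2) ((g : MulAut R)⁻¹ ((g : MulAut R) x))) : R) : G)
    rw [MulAut.inv_apply_self]
    rfl
  · have hle : Subgroup.closure {α : ↥(E.autGroup R) | ∃ k : ℕ, orderOf α = p ^ k} ≤
        ((fusionSystemOfSubgroup H T hTH).autGroup R).comap (E.autGroup R).subtype := by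
      rw [Subgroup.closure_le]
      rintro β ⟨k, hk⟩
      exact pElement_mem_autGroup_subgroup p E hsub H hHn hTH hRT hfa β k hk
    exact hle hn

/-- Lemma (D) for S5121. -/
theorem hom_subset_of_normal {G : Type*} [Group G] (p : ℕ) [Fact p.Prime] {S T : Subgroup G} [Finite T]
    (hTp : IsPGroup p T) (E : FusionSystem T) (hEsat : E.IsSaturated p)
    (hsub : E.IsSubsystemOf (groupFusionSystem S)) (H : Subgroup G) (hHn : H.Normal) (hTH : T ≤ H)
    (htop : ∀ g : G, EC E g T → ∃ h ∈ H, ∀ x ∈ T, g * x * g⁻¹ = h * x * h⁻¹) :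
    ∀ P : Subgroup G, E.Hom P ⊆ (fusionSystemOfSubgroup H T hTH).Hom P := by
  have hE₁ : E.autGroup T ≤ (fusionSystemOfSubgroup H T hTH).autGroup T := by
    intro α hα
    obtain ⟨g, hg, hec, rfl⟩ := exists_ec_of_mem_autGroup hsub le_rfl hα
    obtain ⟨h, hh, hx⟩ := htop g hec
    exact mem_autGroup_subgroup_of_conj H hTH le_rfl _ hh (fun y => hx y y.2)
  exact Cfsg.Agent.Helper88.FS.alperin_ind hTp E (fusionSystemOfSubgroup H T hTH) hEsat hE₁
    (fun R hR ih => autGroup_le_subgroup_of_essential p hTp E hEsat hsub H hHn hTH hE₁ hR ih)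

end Cfsg.Agent.Helper86.NSAlperin
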