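import Mathlib
import Cfsg.Agent.Helper99.O9.Defs

set_option autoImplicit false
set_option linter.unusedSectionVars false
set_option linter.unusedVariables false

/-!
# (SPLIT) for helper99's S2517 farm: the splitting lemma `SplitStmt F`

An orthogonal decomposition `V = U ⊕ W` into subspaces invariant under the isometry splits the pair.
-/

namespace Cfsg.Agent.Helper86.O9

open Matrix QuadraticMap Cfsg.Agent.Helper44 Cfsg.Agent.Helper44.QType Cfsg.Agent.Helper99.O9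

universe u

variable {F : Type u} [Field F]

section res

variable {ι : Type} [Fintype ι] [DecidableEq ι] {κ : Type} [Fintype κ] [DecidableEq κ]

/-- the matrix of the restriction of `M` to the invariant subspace `U`, in the coordinates `e` -/
noncomputable def resMat (M : Matrix ι ι F) (U : Submodule F (ι → F)) (hU : ∀ u ∈ U, M *ᵥ u ∈ U)
    (e : (κ → F) ≃ₗ[F] U) : Matrix κ κ F :=
  LinearMap.toMatrix' (((e.symm : U →ₗ[F] (κ → F)) ∘ₗ
    (LinearMap.restrict (Matrix.toLin' M) (p := U) (q := U)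
      (fun u hu => by rw [Matrix.toLin'_apply]; exact hU u hu))) ∘ₗ (e : (κ → F) →ₗ[F] U))

theorem resMat_mulVec (M : Matrix ι ι F) (U : Submodule F (ι → F)) (hU : ∀ u ∈ U, M *ᵥ u ∈ U)
    (e : (κ → F) ≃ₗ[F] U) (x : κ → F) :
    ((e (resMat M U hU e *ᵥ x) : U) : ι → F) = M *ᵥ ((e x : U) : ι → F) := by
  unfold resMat
  rw [LinearMap.toMatrix'_mulVec]
  simp only [LinearMap.coe_comp, LinearEquiv.coe_coe, Function.comp_apply,
    LinearEquiv.apply_symm_apply, LinearMap.coe_restrict_apply, Matrix.toLin'_apply]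

theorem resMat_isUnit (M : Matrix ι ι F) (hM : IsUnit M) (U : Submodule F (ι → F))
    (hU : ∀ u ∈ U, M *ᵥ u ∈ U) (e : (κ → F) ≃ₗ[F] U) : IsUnit (resMat M U hU e) := by
  rw [← Matrix.mulVec_injective_iff_isUnit]
  intro x y hxy
  have h1 : M *ᵥ ((e x : U) : ι → F) = M *ᵥ ((e y : U) : ι → F) := by
    rw [← resMat_mulVec M U hU e x, ← resMat_mulVec M U hU e y]
    exact congrArg (fun z => ((e z : U) : ι → F)) hxy
  have h2 : ((e x : U) : ι → F) = ((e y : U) : ι → F) :=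
    (Matrix.mulVec_injective_iff_isUnit.2 hM) h1
  exact e.injective (Subtype.ext h2)

end res

/-- the restriction of a pair to an invariant subspace with coordinates `e` -/
noncomputable def resPair (P : OPair F) (U : Submodule F (P.ι → F))
    (hU : ∀ u ∈ U, P.M *ᵥ u ∈ U) (n : ℕ) (e : (Fin n → F) ≃ₗ[F] U) : OPair F where
  ι := Fin n
  Q := P.Q.comp ((U.subtype : U →ₗ[F] (P.ι → F)) ∘ₗ (e : (Fin n → F) →ₗ[F] U))
  g := ⟨(resMat_isUnit P.M (by rw [OPair.M_def]; exact Units.isUnit _) U hU e).unit, by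
    rw [Cfsg.Agent.Helper44.mem_isometryGroup_iff]
    intro v
    rw [IsUnit.unit_spec]
    show P.Q ((e (resMat P.M U hU e *ᵥ v) : U) : P.ι → F) = P.Q ((e v : U) : P.ι → F)
    rw [resMat_mulVec]
    have h := isometryGroup_apply P.g ((e v : U) : P.ι → F)
    rw [OPair.M_def]
    exact h⟩

theorem resPair_M (P : OPair F) (U : Submodule F (P.ι → F))
    (hU : ∀ u ∈ U, P.M *ᵥ u ∈ U) (n : ℕ) (e : (Fin n → F) ≃ₗ[F] U) :
    (resPair P U hU n e).M = resMat P.M U hU e := by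
  rw [OPair.M_def]
  unfold resPair
  exact IsUnit.unit_spec _

theorem resPair_Q (P : OPair F) (U : Submodule F (P.ι → F))
    (hU : ∀ u ∈ U, P.M *ᵥ u ∈ U) (n : ℕ) (e : (Fin n → F) ≃ₗ[F] U) (x : Fin n → F) :
    (resPair P U hU n e).Q x = P.Q ((e x : U) : P.ι → F) := rfl

/-- non-degeneracy of a summand of an orthogonal decomposition -/
theorem nd_of_orth (P P₁ : OPair F) (hP : P.ND) (U W : Submodule F (P.ι → F)) (hUW : U ⊔ W = ⊤)
    (horth : ∀ u ∈ U, ∀ w ∈ W, polar P.Q u w = 0)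
    (e : (P₁.ι → F) ≃ₗ[F] U) (hQ : ∀ x, P₁.Q x = P.Q ((e x : U) : P.ι → F)) :
    P₁.ND := by
  rw [OPair.nd_def]
  intro x hx
  rw [OPair.nd_def] at hP
  have hpol : ∀ x y, polar P₁.Q x y = polar P.Q ((e x : U) : P.ι → F) ((e y : U) : P.ι → F) := by
    intro x y
    simp only [polar, hQ, map_add, Submodule.coe_add]
  have h0 : ((e x : U) : P.ι → F) = 0 := by
    apply hP
    intro z
    have hz : z ∈ U ⊔ W := by rw [hUW]; exact Submodule.mem_top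
    obtain ⟨a, ha, b, hb, rfl⟩ := Submodule.mem_sup.1 hz
    rw [polar_add_right, horth _ (e x).2 b hb, add_zero]
    have h1 := hx (e.symm ⟨a, ha⟩)
    rw [hpol, LinearEquiv.apply_symm_apply] at h1
    exact h1
  have h1 : e x = 0 := Subtype.ext h0
  exact e.map_eq_zero_iff.1 h1

/-- the isometry with the orthogonal sum, for explicit data -/
theorem transport_of_orth {ι ι₁ ι₂ : Type} [Fintype ι] [DecidableEq ι] [Fintype ι₁] [DecidableEq ι₁]
    [Fintype ι₂] [DecidableEq ι₂] (Q : QuadraticForm F (ι → F)) (Q₁ : QuadraticForm F (ι₁ → F))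
    (Q₂ : QuadraticForm F (ι₂ → F)) (g : ↥(Cfsg.isometryGroup F ⇑Q))
    (g₁ : ↥(Cfsg.isometryGroup F ⇑Q₁)) (g₂ : ↥(Cfsg.isometryGroup F ⇑Q₂))
    (U W : Submodule F (ι → F)) (hUW : IsCompl U W)
    (horth : ∀ u ∈ U, ∀ w ∈ W, polar Q u w = 0)
    (e₁ : (ι₁ → F) ≃ₗ[F] U) (e₂ : (ι₂ → F) ≃ₗ[F] W)
    (hM₁ : ∀ x, ((e₁ (((g₁ : GL ι₁ F) : Matrix ι₁ ι₁ F) *ᵥ x) : U) : ι → F)
      = ((g : GL ι F) : Matrix ι ι F) *ᵥ ((e₁ x : U) : ι → F))
    (hM₂ : ∀ x, ((e₂ (((g₂ : GL ι₂ F) : Matrix ι₂ ι₂ F) *ᵥ x) : W) : ι → F)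
      = ((g : GL ι F) : Matrix ι ι F) *ᵥ ((e₂ x : W) : ι → F))
    (hQ₁ : ∀ x, Q₁ x = Q ((e₁ x : U) : ι → F))
    (hQ₂ : ∀ x, Q₂ x = Q ((e₂ x : W) : ι → F)) :
    ∃ (C : (ι → F) ≃ₗ[F] (ι₁ ⊕ ι₂ → F)) (hC : ∀ w, (orthSumForm Q₁ Q₂) (C w) = Q w),
      isoTransport ⇑Q ⇑(orthSumForm Q₁ Q₂) C hC g = blockDiagIso ⇑Q₁ ⇑Q₂ (g₁, g₂) := by
  let Cinv : ((ι₁ ⊕ ι₂) → F) ≃ₗ[F] (ι → F) :=
    (LinearEquiv.sumArrowLequivProdArrow ι₁ ι₂ F F)
      ≪≫ₗ (e₁.prodCongr e₂) ≪≫ₗ (Submodule.prodEquivOfIsCompl U W hUW)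
  have hCinv_apply : ∀ v, Cinv v = ((e₁ (v ∘ Sum.inl) : U) : ι → F)
      + ((e₂ (v ∘ Sum.inr) : W) : ι → F) := by
    intro v
    show (Submodule.prodEquivOfIsCompl U W hUW) _ = _
    rw [Submodule.coe_prodEquivOfIsCompl']
    rfl
  have hCinvQ : ∀ v, Q (Cinv v) = (orthSumForm Q₁ Q₂) v := by
    intro v
    rw [hCinv_apply, orthSumForm_apply, hQ₁, hQ₂]
    have h := horth _ (e₁ (v ∘ Sum.inl)).2 _ (e₂ (v ∘ Sum.inr)).2
    unfold polar at h
    linear_combination h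
  have hC : ∀ w, (orthSumForm Q₁ Q₂) (Cinv.symm w) = Q w := by
    intro w
    have h := hCinvQ (Cinv.symm w)
    rw [LinearEquiv.apply_symm_apply] at h
    exact h.symm
  refine ⟨Cinv.symm, hC, ?_⟩
  apply isometryGroup_ext
  intro v
  rw [isoTransport_mulVec, blockDiagIso_coe, Matrix.fromBlocks_mulVec]
  apply Cinv.injective
  rw [LinearEquiv.apply_symm_apply, LinearEquiv.symm_symm, hCinv_apply, hCinv_apply,
    Sum.elim_comp_inl, Sum.elim_comp_inr, Matrix.zero_mulVec, Matrix.zero_mulVec, add_zero,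
    zero_add, Matrix.mulVec_add, hM₁, hM₂]

/-- the pair is isometric to the sum of its restrictions -/
theorem sim_of_orth (P P₁ P₂ : OPair F) (U W : Submodule F (P.ι → F)) (hUW : IsCompl U W)
    (horth : ∀ u ∈ U, ∀ w ∈ W, polar P.Q u w = 0)
    (e₁ : (P₁.ι → F) ≃ₗ[F] U) (e₂ : (P₂.ι → F) ≃ₗ[F] W)
    (hM₁ : ∀ x, ((e₁ (P₁.M *ᵥ x) : U) : P.ι → F) = P.M *ᵥ ((e₁ x : U) : P.ι → F))
    (hM₂ : ∀ x, ((e₂ (P₂.M *ᵥ x) : W) : P.ι → F) = P.M *ᵥ ((e₂ x : W) : P.ι → F))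
    (hQ₁ : ∀ x, P₁.Q x = P.Q ((e₁ x : U) : P.ι → F))
    (hQ₂ : ∀ x, P₂.Q x = P.Q ((e₂ x : W) : P.ι → F)) :
    P.Sim (P₁.sum P₂) := by
  rw [OPair.sim_def]
  exact transport_of_orth P.Q P₁.Q P₂.Q P.g P₁.g P₂.g U W hUW horth e₁ e₂ hM₁ hM₂ hQ₁ hQ₂

theorem split : SplitStmt F := by
  rw [splitStmt_def]
  intro P U W hND hUW horth hU hW
  let e₁ : (Fin (Module.finrank F U) → F) ≃ₗ[F] U := (Module.finBasis F U).equivFun.symm
  let e₂ : (Fin (Module.finrank F W) → F) ≃ₗ[F] W := (Module.finBasis F W).equivFun.symm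
  have horth' : ∀ w ∈ W, ∀ u ∈ U, polar P.Q w u = 0 := by
    intro w hw u hu
    rw [polar_comm]
    exact horth u hu w hw
  have hM₁ : ∀ x, ((e₁ ((resPair P U hU _ e₁).M *ᵥ x) : U) : P.ι → F)
      = P.M *ᵥ ((e₁ x : U) : P.ι → F) := by
    intro x
    rw [resPair_M]
    exact resMat_mulVec P.M U hU e₁ x
  have hM₂ : ∀ x, ((e₂ ((resPair P W hW _ e₂).M *ᵥ x) : W) : P.ι → F)
      = P.M *ᵥ ((e₂ x : W) : P.ι → F) := by
    intro x
    rw [resPair_M]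
    exact resMat_mulVec P.M W hW e₂ x
  have hND₁ : (resPair P U hU _ e₁).ND :=
    nd_of_orth P (resPair P U hU _ e₁) hND U W hUW.sup_eq_top horth e₁ (resPair_Q P U hU _ e₁)
  have hND₂ : (resPair P W hW _ e₂).ND :=
    nd_of_orth P (resPair P W hW _ e₂) hND W U hUW.symm.sup_eq_top horth' e₂
      (resPair_Q P W hW _ e₂)
  exact ⟨resPair P U hU _ e₁, resPair P W hW _ e₂, e₁, e₂, hND₁, hND₂,
    sim_of_orth P (resPair P U hU _ e₁) (resPair P W hW _ e₂) U W hUW horth e₁ e₂ hM₁ hM₂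
      (resPair_Q P U hU _ e₁) (resPair_Q P W hW _ e₂),
    hM₁, hM₂, resPair_Q P U hU _ e₁, resPair_Q P W hW _ e₂⟩

end Cfsg.Agent.Helper86.O9
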