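import Cfsg.Agent.Helper86.ORDefs
import Cfsg.Agent.Helper86.NQMain
import Cfsg.Agent.Helper69.OR9
set_option autoImplicit false

/-!
The base case for S5202 (helper86): if `Aut_E(T) = Aut_F(T)` then `S = T C_S(T)` and `F` itself is the required system.
-/

namespace Cfsg.Agent.Helper86.OR

open Cfsg Cfsg.FusionSystem Cfsg.Agent.Helper85 Cfsg.Agent.Helper87

variable {Ω : Type*} [Group Ω]

/-- A saturated system is normal in itself. -/
theorem isNormalIn_self {S : Subgroup Ω} [Finite S] (p : ℕ) [Fact p.Prime] (hS : IsPGroup p S) (F : FusionSystem S)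
    (hF : F.IsSaturated p) : F.IsNormalIn F p := by
  have hinv : F.IsInvariantIn F :=
    (Cfsg.Agent.S5119.result p hS F hF F (fun _ _ h => h) ⟨le_rfl, fun R _ φ hφ x => (F.le_of_mem hφ).2 x⟩).mpr
      (strongInv_self F)
  exact ⟨⟨hF, hF, hinv⟩, Cfsg.Agent.Helper86.NQ.extension_self F F (fun _ _ h => h)⟩

theorem good_base {S T : Subgroup Ω} [Finite S] (p : ℕ) [Fact p.Prime] (hS : IsPGroup p S) (F : FusionSystem S)
    (hF : F.IsSaturated p) (E : FusionSystem T) (hE : E.IsNormalIn F p) (heq : E.autGroup T = F.autGroup T) :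
    Good p F E := by
  have hTcl : F.StronglyClosed T := hE.1.2.2.2.1
  have hTS : T ≤ S := hTcl.1
  have hfinT : Finite T := finite_of_le hTS
  have hU : S = T ⊔ centralizerIn S T := by
    apply le_antisymm _ (sup_le hTS inf_le_left)
    intro s hs
    have hsN : s ∈ Subgroup.normalizer (T : Set Ω) := le_normalizer_of_stronglyClosed F hTcl hs
    have hcs : conjAut T s hsN ∈ E.autGroup T := by
      rw [heq]
      exact (mem_autGroup_iff F hTS _).mpr (isIso_conjAut F hTS hs hsN)
    obtain ⟨k, hk⟩ := (IsPGroup.iff_orderOf.mp hS) ⟨s, hs⟩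
    have hpow : conjAut T s hsN ^ p ^ k = 1 := by
      have h1 : (⟨s, hsN⟩ : Subgroup.normalizer (T : Set Ω)) ^ p ^ k = 1 := by
        apply Subtype.ext
        have h2 : (⟨s, hs⟩ : S) ^ p ^ k = 1 := by rw [← hk]; exact pow_orderOf_eq_one _
        have h3 := congrArg (fun z : S => (z : Ω)) h2
        simpa using h3
      show T.normalizerMonoidHom ⟨s, hsN⟩ ^ p ^ k = 1
      rw [← map_pow, h1, map_one]
    obtain ⟨t, ht, htx⟩ := Cfsg.Agent.Helper69.OR9.exists_conj_of_pow_eq_one p (hS.to_le hTS) E hE.1.1 hcs hpow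
    have hc : t⁻¹ * s ∈ centralizerIn S T := by
      refine ⟨S.mul_mem (S.inv_mem (hTS ht)) hs, ?_⟩
      show t⁻¹ * s ∈ Subgroup.centralizer (T : Set Ω)
      rw [Subgroup.mem_centralizer_iff]
      intro x hx
      have h1 := htx ⟨x, hx⟩
      rw [conjAut_apply] at h1
      have h2 : s * x * s⁻¹ = t * x * t⁻¹ := h1
      calc x * (t⁻¹ * s) = t⁻¹ * (t * x * t⁻¹) * s := by group
        _ = t⁻¹ * (s * x * s⁻¹) * s := by rw [h2]
        _ = t⁻¹ * s * x := by group
    have : s = t * (t⁻¹ * s) := by group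
    rw [this]
    exact Subgroup.mul_mem _ (Subgroup.mem_sup_left ht) (Subgroup.mem_sup_right hc)
  refine ⟨S, F, hU, isNormalIn_self p hS F hF, hE.1.2.2.1, heq.symm, fun g hgF _ => hgF, ?_⟩
  intro V W Finf L hFinf hL
  exact sameHom_residualLimit hL Fact.out inferInstance hS hFinf (fun P => rfl)

end Cfsg.Agent.Helper86.OR
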