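import Cfsg.Agent.Helper86.ORPrime
import Cfsg.Agent.Helper86.ORSub
import Cfsg.Agent.S5114
set_option autoImplicit false

/-!
The step of index prime to `p` for S5202 (helper86), specialised to the canonical quotient of `Aut_F(T)` by
`O^{p'}(Aut_F(T)) Aut_E(T)`.
-/

namespace Cfsg.Agent.Helper86.OR

open Cfsg Cfsg.FusionSystem Cfsg.Agent.Helper85 Cfsg.Agent.Helper86.NQ

variable {Ω : Type*} [Group Ω]

theorem card_lt_of_lt {G : Type*} [Group G] {H K : Subgroup G} [Finite K] (h : H < K) : Nat.card H < Nat.card K := by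
  have h1 : Nat.card H ≤ Nat.card K := Subgroup.card_le_of_le h.le
  rcases h1.lt_or_eq with h2 | h2
  · exact h2
  · exact absurd (Subgroup.eq_of_le_of_card_ge h.le h2.ge) h.ne

theorem primeStep_core {S T : Subgroup Ω} [Finite S] (p : ℕ) [Fact p.Prime] (hS : IsPGroup p S) (F : FusionSystem S)
    (hF : F.IsSaturated p) (E : FusionSystem T) (hE : E.IsNormalIn F p)
    [hn : ((E.autGroup T).subgroupOf (F.autGroup T)).Normal]
    (hK : Subgroup.closure {α : ↥(F.autGroup T) | ∃ k : ℕ, orderOf α = p ^ k} ⊔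
      (E.autGroup T).subgroupOf (F.autGroup T) ≠ ⊤) :
    ∃ F₁ : FusionSystem S, F₁.IsNormalIn F p ∧ E.IsNormalIn F₁ p ∧
      Nat.card (F₁.autGroup T) < Nat.card (F.autGroup T) ∧ F₁.HasPrimeToPIndexIn F p ∧
      ∀ α : MulAut S, α ∈ F₁.autGroup S ↔ ∃ hα : α ∈ F.autGroup S, ∃ β ∈ primeSub p F E,
        ∀ t : T, ((β t : T) : Ω) = ((α ⟨t, hE.1.2.2.2.1.1 t.2⟩ : S) : Ω) := by
  have hTS : T ≤ S := hE.1.2.2.2.1.1
  have hfinM : Finite (MulAut T) := Cfsg.Agent.Helper87.finite_mulAut_of_le hTS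
  have hEF : E.autGroup T ≤ F.autGroup T := autGroup_le_of_isSubsystemOf F E hE.1.2.2.1 le_rfl
  have hOn : (Subgroup.closure {α : ↥(F.autGroup T) | ∃ k : ℕ, orderOf α = p ^ k}).Normal :=
    Cfsg.Agent.S5114.oPrime_normal p _
  set K : Subgroup ↥(F.autGroup T) := Subgroup.closure {α : ↥(F.autGroup T) | ∃ k : ℕ, orderOf α = p ^ k} ⊔
      (E.autGroup T).subgroupOf (F.autGroup T) with hKdef
  have hKn : K.Normal := Subgroup.sup_normal _ _
  let χ : ↥(F.autGroup T) →* ↥(F.autGroup T) ⧸ K := QuotientGroup.mk' K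
  have hχ : Function.Surjective χ := QuotientGroup.mk'_surjective K
  have hχ1 : ∀ a : ↥(F.autGroup T), χ a = 1 ↔ a ∈ K := fun a => QuotientGroup.eq_one_iff a
  -- the quotient has order prime to `p`
  have hcop : (Nat.card (↥(F.autGroup T) ⧸ K)).Coprime p := by
    obtain ⟨P⟩ : Nonempty (Sylow p ↥(F.autGroup T)) := inferInstance
    have hPK : (P : Subgroup ↥(F.autGroup T)) ≤ K := by
      intro a ha
      apply Subgroup.mem_sup_left
      apply Subgroup.subset_closure
      obtain ⟨k, hk⟩ := (IsPGroup.iff_orderOf.mp P.2) ⟨a, ha⟩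
      exact ⟨k, by rw [← hk]; exact (Subgroup.orderOf_mk a ha).symm⟩
    have h1 : K.index ∣ (P : Subgroup ↥(F.autGroup T)).index := Subgroup.index_dvd_of_le hPK
    have h2 : ¬ p ∣ (P : Subgroup ↥(F.autGroup T)).index := P.not_dvd_index
    have h3 : ¬ p ∣ K.index := fun h => h2 (h.trans h1)
    rw [← Subgroup.index_eq_card]
    exact ((Nat.Prime.coprime_iff_not_dvd Fact.out).mpr h3).symm
  have hyp : Hyp p F E χ :=
    { pS := hS
      satF := hF
      satE := hE.1.1
      inv := hE.1.2.2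
      ker := by
        intro α hα hαE
        rw [hχ1]
        exact Subgroup.mem_sup_right (Subgroup.mem_subgroupOf.mpr hαE)
      pfree := by
        intro d k hd
        have h1 : orderOf d ∣ p ^ k := orderOf_dvd_of_pow_eq_one hd
        have h2 : orderOf d ∣ Nat.card (↥(F.autGroup T) ⧸ K) := orderOf_dvd_natCard d
        have h3 : Nat.Coprime (Nat.card (↥(F.autGroup T) ⧸ K)) (p ^ k) := Nat.Coprime.pow_right k hcop
        have h4 : Nat.Coprime (orderOf d) (p ^ k) := Nat.Coprime.coprime_dvd_left h2 h3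
        have h5 : orderOf d = 1 := Nat.Coprime.eq_one_of_dvd h4 h1
        exact orderOf_eq_one_iff.mp h5 }
  have hKimg : ∀ a : ↥(F.autGroup T), a ∈ K ↔ (a : MulAut T) ∈ primeSub p F E := by
    intro a
    have e : K.map (F.autGroup T).subtype = primeSub p F E := by
      rw [hKdef, Subgroup.map_sup, Subgroup.map_subgroupOf_eq_of_le hEF]
      rfl
    rw [← e]
    constructor
    · intro ha
      exact ⟨a, ha, rfl⟩
    · rintro ⟨b, hb, hba⟩
      have : b = a := Subtype.ext hba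
      rwa [← this]
  refine ⟨sysZero hyp, sysZero_isNormalIn hyp hχ, isNormalIn_sysZero hyp hχ hE, ?_, sysZero_primeIndex hyp hχ, ?_⟩
  · apply card_lt_of_lt
    refine lt_of_le_of_ne (autGroup_le_of_isSubsystemOf F (sysZero hyp) (sysZero_le hyp) hTS) ?_
    intro heq
    apply hK
    rw [eq_top_iff]
    intro a _
    have ha : (a : MulAut T) ∈ (sysZero hyp).autGroup T := by rw [heq]; exact a.2
    obtain ⟨haF, h1⟩ := chi_eq_one_of_mem_autGroup_sysZero hyp hχ ha
    exact (hχ1 _).mp h1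
  · intro α
    rw [mem_autGroup_sysZero_iff hyp α]
    constructor
    · rintro ⟨hα, hd⟩
      have h1 : hyp.resST ⟨α, hα⟩ ∈ K := (hχ1 _).mp hd
      exact ⟨hα, _, (hKimg _).mp h1, fun t => rfl⟩
    · rintro ⟨hα, β, hβ, hβt⟩
      refine ⟨hα, ?_⟩
      have e : ((hyp.resST ⟨α, hα⟩ : ↥(F.autGroup T)) : MulAut T) = β := by
        ext t
        rw [hβt t]
        rfl
      show χ (hyp.resST ⟨α, hα⟩) = 1
      rw [hχ1, hKimg, e]
      exact hβ

end Cfsg.Agent.Helper86.OR
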