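import Cfsg.Agent.Helper86.ORPower
import Cfsg.Agent.Helper86.ORPrime2
set_option autoImplicit false

/-!
The step of `p`-power index for S5202 (helper86), continued: the extension condition for `E` in the subsystem over `S₁`,
and the bound on its automizer of `T`.
-/

namespace Cfsg.Agent.Helper86.OR

open Cfsg Cfsg.FusionSystem Cfsg.Agent.Helper85 Cfsg.Agent.Helper87

variable {Ω : Type*} [Group Ω]

/-- Automorphisms of `T` in a saturated subsystem of `p`-power index over `S₁` lie in `O^p(Aut_F(T)) Aut_E(T)`. -/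
theorem autGroup_le_powerSub_of_pPowerIndex {S T : Subgroup Ω} [Finite S] (p : ℕ) [Fact p.Prime] (hS : IsPGroup p S)
    (F : FusionSystem S) (E : FusionSystem T) (hT : F.StronglyClosed T)
    (F₁ : FusionSystem (preAut S T (powerSub p F E))) (hF₁ : F₁.IsSaturated p) (hF₁F : F₁.IsSubsystemOf F)
    (hTS₁ : T ≤ preAut S T (powerSub p F E)) : F₁.autGroup T ≤ powerSub p F E := by
  have hS₁S : preAut S T (powerSub p F E) ≤ S := preAut_le _ _ _
  have hfinS₁ : Finite (preAut S T (powerSub p F E)) := finite_of_le hS₁S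
  have hS₁ : IsPGroup p (preAut S T (powerSub p F E)) := hS.to_le hS₁S
  have hTS : T ≤ S := hT.1
  have hfinM : Finite (MulAut T) := finite_mulAut_of_le hTS
  have hTcl₁ : F₁.StronglyClosed T := ⟨hTS₁, fun R hR φ hφ x => hT.2 R hR φ (hF₁F R hφ) x⟩
  have hfn := isFullyNormalized_of_stronglyClosed F₁ hTcl₁
  obtain ⟨-, hfa⟩ := fullyAutomized_fullyCentralized_of_fullyNormalized hS₁ F₁ hF₁ hfn
  obtain ⟨-, Sy, hSy⟩ := hfa
  have hle : F₁.autGroup T ≤ F.autGroup T := autGroup_le_of_isSubsystemOf F F₁ hF₁F hTS₁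
  have hNn : (pResidual p (F₁.autGroup T)).Normal := Cfsg.Agent.Lib.pResidual_normal (G := F₁.autGroup T) p
  have hq : IsPGroup p (F₁.autGroup T ⧸ pResidual p (F₁.autGroup T)) :=
    Cfsg.Agent.Lib.isPGroup_quotient_pResidual (G := F₁.autGroup T) p
  intro a ha
  obtain ⟨t, ht, n, hn, hatn⟩ := exists_mul_of_sylow_of_isPGroup_quotient (pResidual p (F₁.autGroup T)) hq Sy ⟨a, ha⟩
  have hat : a = (t : MulAut T) * (n : MulAut T) := congrArg Subtype.val hatn
  rw [hat]
  apply Subgroup.mul_mem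
  · rw [hSy, Subgroup.mem_subgroupOf] at ht
    obtain ⟨s, hs, hsx⟩ := (mem_autInducedBy_iff _ T _).mp ht
    obtain ⟨-, β, hβ, hβt⟩ := hs
    have : (t : MulAut T) = β := by
      ext x
      rw [hsx, hβt]
    rw [this]
    exact hβ
  · apply le_sup_left (b := E.autGroup T)
    have h1 : Subgroup.inclusion hle n ∈ pResidual p (F.autGroup T) :=
      pResidual_map_le (Subgroup.inclusion hle) (Subgroup.mem_map_of_mem _ hn)
    exact ⟨Subgroup.inclusion hle n, h1, rfl⟩

/-- The bound on the order of the automizer. -/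
theorem card_autGroup_lt_of_powerSub {S T : Subgroup Ω} [Finite S] (p : ℕ) [Fact p.Prime] (hS : IsPGroup p S)
    (F : FusionSystem S) (E : FusionSystem T) (hT : F.StronglyClosed T) (hEF : E.autGroup T ≤ F.autGroup T)
    (hK : pResidual p ↥(F.autGroup T) ⊔ (E.autGroup T).subgroupOf (F.autGroup T) ≠ ⊤)
    (F₁ : FusionSystem (preAut S T (powerSub p F E))) (hF₁ : F₁.IsSaturated p) (hF₁F : F₁.IsSubsystemOf F)
    (hTS₁ : T ≤ preAut S T (powerSub p F E)) : Nat.card (F₁.autGroup T) < Nat.card (F.autGroup T) := by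
  have hfinM : Finite (MulAut T) := finite_mulAut_of_le hT.1
  apply card_lt_of_lt
  have h1 := autGroup_le_powerSub_of_pPowerIndex p hS F E hT F₁ hF₁ hF₁F hTS₁
  have h2 := powerSub_le p F E hEF
  refine lt_of_le_of_ne (h1.trans h2) ?_
  intro heq
  apply hK
  rw [eq_top_iff]
  intro a _
  have ha : (a : MulAut T) ∈ powerSub p F E := h1 (by rw [heq]; exact a.2)
  have e : (pResidual p ↥(F.autGroup T) ⊔ (E.autGroup T).subgroupOf (F.autGroup T)).map (F.autGroup T).subtype =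
      powerSub p F E := by
    rw [Subgroup.map_sup, Subgroup.map_subgroupOf_eq_of_le hEF]
    rfl
  rw [← e] at ha
  obtain ⟨b, hb, hba⟩ := ha
  have : b = a := Subtype.ext hba
  rwa [← this]

/-- The extension condition for `E` in the subsystem of `p`-power index over `S₁`. -/
theorem extension_powerStep {S T : Subgroup Ω} [Finite S] (p : ℕ) [Fact p.Prime] (hS : IsPGroup p S)
    (F : FusionSystem S) (hF : F.IsSaturated p) (E : FusionSystem T) (hE : E.IsNormalIn F p)
    (F₁ : FusionSystem (preAut S T (powerSub p F E))) (hidx : F₁.HasPPowerIndexIn F p)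
    (hS₀S₁ : T ⊔ centralizerIn S T ≤ preAut S T (powerSub p F E)) :
    ∀ α ∈ E.autGroup T, ∃ β ∈ F₁.autGroup (T ⊔ centralizerIn (preAut S T (powerSub p F E)) T),
      (∀ x : T, ((β (Subgroup.inclusion le_sup_left x) :
        ↥(T ⊔ centralizerIn (preAut S T (powerSub p F E)) T)) : Ω) = ((α x : T) : Ω)) ∧
      ∀ c : ↥(T ⊔ centralizerIn (preAut S T (powerSub p F E)) T),
        (c : Ω) ∈ centralizerIn (preAut S T (powerSub p F E)) T →
        (c : Ω)⁻¹ * ((β c : ↥(T ⊔ centralizerIn (preAut S T (powerSub p F E)) T)) : Ω) ∈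
          T ⊓ Subgroup.centralizer (T : Set Ω) := by
  have hS₁S : preAut S T (powerSub p F E) ≤ S := preAut_le _ _ _
  have hcent : centralizerIn (preAut S T (powerSub p F E)) T = centralizerIn S T := by
    apply le_antisymm
    · exact fun c hc => ⟨hS₁S hc.1, hc.2⟩
    · exact fun c hc => ⟨hS₀S₁ (Subgroup.mem_sup_right hc), hc.2⟩
  rw [hcent]
  intro α hα
  obtain ⟨β, hβ, hβx, hβc⟩ := hE.2 α hα
  refine ⟨β, ?_, hβx, hβc⟩
  have hTcl : F.StronglyClosed T := hE.1.2.2.2.1
  have hTS : T ≤ S := hTcl.1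
  have hS₀S : T ⊔ centralizerIn S T ≤ S := sup_le hTS inf_le_left
  have hS₀cl : F.StronglyClosed (T ⊔ centralizerIn S T) := stronglyClosed_sup_centralizerIn hS F hF hTcl
  have hfinM : Finite (MulAut ↥(T ⊔ centralizerIn S T)) := finite_mulAut_of_le hS₀S
  have hfn := isFullyNormalized_of_stronglyClosed F hS₀cl
  obtain ⟨-, hfa⟩ := fullyAutomized_fullyCentralized_of_fullyNormalized hS F hF hfn
  obtain ⟨-, Sy, hSy⟩ := hfa
  have hNn : (pResidual p (F.autGroup (T ⊔ centralizerIn S T))).Normal :=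
    Cfsg.Agent.Lib.pResidual_normal (G := F.autGroup (T ⊔ centralizerIn S T)) p
  have hq : IsPGroup p (F.autGroup (T ⊔ centralizerIn S T) ⧸ pResidual p (F.autGroup (T ⊔ centralizerIn S T))) :=
    Cfsg.Agent.Lib.isPGroup_quotient_pResidual (G := F.autGroup (T ⊔ centralizerIn S T)) p
  obtain ⟨t, ht, n, hn, hβtn⟩ :=
    exists_mul_of_sylow_of_isPGroup_quotient (pResidual p (F.autGroup (T ⊔ centralizerIn S T))) hq Sy ⟨β, hβ⟩
  have hβeq : β = (t : MulAut ↥(T ⊔ centralizerIn S T)) * (n : MulAut ↥(T ⊔ centralizerIn S T)) :=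
    congrArg Subtype.val hβtn
  -- the `O^p` part lies in `F₁`
  have hnF₁ : (n : MulAut ↥(T ⊔ centralizerIn S T)) ∈ F₁.autGroup (T ⊔ centralizerIn S T) :=
    hidx.2.2 _ hS₀S₁ ⟨n, hn, rfl⟩
  -- the Sylow part is induced by an element of `S₁`
  rw [hSy, Subgroup.mem_subgroupOf] at ht
  obtain ⟨s, hs, hsx⟩ := (mem_autInducedBy_iff S _ _).mp ht
  have hinv : ∀ γ ∈ F.autGroup (T ⊔ centralizerIn S T), ∀ x : ↥(T ⊔ centralizerIn S T),
      ((γ x : ↥(T ⊔ centralizerIn S T)) : Ω) ∈ T ↔ (x : Ω) ∈ T :=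
    fun γ hγ x => aut_mem_iff_of_stronglyClosed F hTcl hS₀S hγ x
  let r := resAutHom F hS₀S le_sup_left hinv
  have hrβ : ((r ⟨β, hβ⟩ : F.autGroup T) : MulAut T) = α := by
    ext x
    rw [resAutHom_apply]
    exact hβx x
  have hrn : ((r n : F.autGroup T) : MulAut T) ∈ powerSub p F E := by
    apply le_sup_left (b := E.autGroup T)
    exact ⟨r n, pResidual_map_le r (Subgroup.mem_map_of_mem _ hn), rfl⟩
  have hrt : ((r t : F.autGroup T) : MulAut T) ∈ powerSub p F E := by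
    have e : r t = r ⟨β, hβ⟩ * (r n)⁻¹ := by
      rw [hβtn, map_mul, mul_inv_cancel_right]
    rw [e]
    show ((r ⟨β, hβ⟩ : F.autGroup T) : MulAut T) * ((r n : F.autGroup T) : MulAut T)⁻¹ ∈ powerSub p F E
    rw [hrβ]
    exact Subgroup.mul_mem _ (autGroup_le_powerSub p F E hα) (Subgroup.inv_mem _ hrn)
  have hsS₁ : s ∈ preAut S T (powerSub p F E) := by
    refine ⟨hs, _, hrt, fun x => ?_⟩
    rw [resAutHom_apply]
    exact hsx _
  have htF₁ : (t : MulAut ↥(T ⊔ centralizerIn S T)) ∈ F₁.autGroup (T ⊔ centralizerIn S T) :=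
    autInducedBy_le_autGroup F₁ hS₀S₁ ((mem_autInducedBy_iff _ _ _).mpr ⟨s, hsS₁, hsx⟩)
  rw [hβeq]
  exact Subgroup.mul_mem _ htF₁ hnF₁

end Cfsg.Agent.Helper86.OR
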