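import Cfsg.Agent.Helper86.ORBase
import Cfsg.Agent.Helper86.ORPrime2
import Cfsg.Agent.Helper86.ORPower2
import Cfsg.Agent.Helper4.OliverOR1
import Cfsg.Agent.Helper74.OR2
import Cfsg.Agent.Helper74.OR10
import Cfsg.Agent.Helper38.OR11
import Cfsg.Agent.Helper14.OR12
set_option autoImplicit false

/-!
Assembly for S5202 (helper86): the two steps, and the induction on the order of `Aut_F(T)`.
-/

namespace Cfsg.Agent.Helper86.OR

open Cfsg Cfsg.FusionSystem Cfsg.Agent.Helper85 Cfsg.Agent.Helper87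

variable {Ω : Type*} [Group Ω]

theorem primeStep {S T : Subgroup Ω} [Finite S] (p : ℕ) [Fact p.Prime] (hS : IsPGroup p S) (F : FusionSystem S)
    (hF : F.IsSaturated p) (E : FusionSystem T) (hE : E.IsNormalIn F p)
    [hn : ((E.autGroup T).subgroupOf (F.autGroup T)).Normal]
    (hK : Subgroup.closure {α : ↥(F.autGroup T) | ∃ k : ℕ, orderOf α = p ^ k} ⊔
      (E.autGroup T).subgroupOf (F.autGroup T) ≠ ⊤) :
    ∃ F₁ : FusionSystem S, Step p F E F₁ := by
  obtain ⟨F₁, hnorm, hsub, hcard, hidx, haut⟩ := primeStep_core p hS F hF E hE hK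
  have hTS : T ≤ S := hE.1.2.2.2.1.1
  refine ⟨F₁, hnorm, hsub, sup_le hTS inf_le_left, hcard, ?_, ?_⟩
  · intro g hgF hgE
    exact Cfsg.Agent.Helper38.OR11.isImgF_of_primeIndex p hS F hF E hTS hE.1.2.2.1 F₁ hnorm.1.1 hidx haut g hgF hgE
  · intro V W Finf L hFinf hL
    exact Cfsg.Agent.Helper74.OR10.sameHom_residualLimit_of_primeIndex p hS F F₁ hF hnorm.1.1 hidx Finf L hFinf hL

theorem powerStep {S T : Subgroup Ω} [Finite S] (p : ℕ) [Fact p.Prime] (hS : IsPGroup p S) (F : FusionSystem S)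
    (hF : F.IsSaturated p) (E : FusionSystem T) (hE : E.IsNormalIn F p)
    [hn : ((E.autGroup T).subgroupOf (F.autGroup T)).Normal]
    (hK : pResidual p ↥(F.autGroup T) ⊔ (E.autGroup T).subgroupOf (F.autGroup T) ≠ ⊤) :
    ∃ (S₁ : Subgroup Ω) (F₁ : FusionSystem S₁), Step p F E F₁ := by
  obtain ⟨F₁, hsat, hidx, hnorm, hsub, hle⟩ := powerStep_core p hS F hF E hE
  have hTcl : F.StronglyClosed T := hE.1.2.2.2.1
  have hTS : T ≤ S := hTcl.1
  have hEF : E.autGroup T ≤ F.autGroup T := autGroup_le_of_isSubsystemOf F E hE.1.2.2.1 le_rfl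
  have hTS₁ : T ≤ preAut S T (powerSub p F E) := le_sup_left.trans hle
  refine ⟨_, F₁, hnorm, ?_, hle, ?_, ?_, ?_⟩
  · exact ⟨⟨hE.1.1, hsat, isInvariantIn_of_le p hS F hF F₁ hsat hnorm.1.2.2.1 E hE.1.2.2 hsub⟩,
      extension_powerStep p hS F hF E hE F₁ hidx hle⟩
  · exact card_autGroup_lt_of_powerSub p hS F E hTcl hEF hK F₁ hsat hnorm.1.2.2.1 hTS₁
  · intro g hgF hgE
    exact Cfsg.Agent.Helper14.OR12.isImgF_of_pPowerIndex_preAut p hS F hF E hTS hE.1.2.2.1 F₁ hsat hidx g hgF hgE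
  · intro V W Finf L hFinf hL
    exact fun P => (Cfsg.Agent.S5203.result p hS F hF F₁ hnorm hidx Finf hFinf L hL P).symm

theorem good_of_pSolvable {T : Subgroup Ω} (p : ℕ) [Fact p.Prime] (E : FusionSystem T) :
    ∀ (n : ℕ) {S : Subgroup Ω} [Finite S] (hS : IsPGroup p S) (F : FusionSystem S) (hF : F.IsSaturated p)
      (hE : E.IsNormalIn F p) [hn : ((E.autGroup T).subgroupOf (F.autGroup T)).Normal]
      (hsolv : IsPSolvable p (↥(F.autGroup T) ⧸ (E.autGroup T).subgroupOf (F.autGroup T)))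
      (hcard : Nat.card (F.autGroup T) = n), Good p F E := by
  intro n
  induction n using Nat.strong_induction_on with
  | _ n ih =>
    intro S _ hS F hF hE hn hsolv hcard
    have hTS : T ≤ S := hE.1.2.2.2.1.1
    have hfinA : Finite (F.autGroup T) := by
      have : Finite (MulAut T) := finite_mulAut_of_le hTS
      infer_instance
    have hEF : E.autGroup T ≤ F.autGroup T := autGroup_le_of_isSubsystemOf F E hE.1.2.2.1 le_rfl
    by_cases heq : E.autGroup T = F.autGroup T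
    · exact good_base p hS F hF E hE heq
    · have hA₀ : (E.autGroup T).subgroupOf (F.autGroup T) ≠ ⊤ := by
        intro h
        apply heq
        apply le_antisymm hEF
        intro α hα
        have : (⟨α, hα⟩ : F.autGroup T) ∈ (E.autGroup T).subgroupOf (F.autGroup T) := by rw [h]; trivial
        exact Subgroup.mem_subgroupOf.mp this
      have hcases : Subgroup.closure {α : ↥(F.autGroup T) | ∃ k : ℕ, orderOf α = p ^ k} ⊔
            (E.autGroup T).subgroupOf (F.autGroup T) ≠ ⊤ ∨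
          pResidual p ↥(F.autGroup T) ⊔ (E.autGroup T).subgroupOf (F.autGroup T) ≠ ⊤ := by
        by_contra hcon
        push_neg at hcon
        exact hA₀ (Cfsg.Agent.Helper4.OliverOR1.eq_top_of_isPSolvable p _ hsolv hcon.1 hcon.2)
      have key : ∃ (S₁ : Subgroup Ω) (F₁ : FusionSystem S₁), Step p F E F₁ := by
        rcases hcases with h | h
        · obtain ⟨F₁, h₁⟩ := primeStep p hS F hF E hE h
          exact ⟨S, F₁, h₁⟩
        · exact powerStep p hS F hF E hE h
      obtain ⟨S₁, F₁, hstep⟩ := key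
      have hS₁S : S₁ ≤ S := hstep.normal.1.2.2.2.1.1
      have hfinS₁ : Finite S₁ := finite_of_le hS₁S
      have hle : F₁.autGroup T ≤ F.autGroup T :=
        autGroup_le_of_isSubsystemOf F F₁ hstep.normal.1.2.2.1 (hstep.sub.1.2.2.2.1.1)
      have hE1 : E.autGroup T ≤ F₁.autGroup T := autGroup_le_of_isSubsystemOf F₁ E hstep.sub.1.2.2.1 le_rfl
      obtain ⟨hn₁, hsolv₁⟩ := Cfsg.Agent.Helper4.OliverOR1.isPSolvable_of_le p hE1 hle hsolv
      have hgood₁ : Good p F₁ E :=
        ih (Nat.card (F₁.autGroup T)) (hcard ▸ hstep.card) (hS.to_le hS₁S) F₁ hstep.normal.1.1 hstep.sub hsolv₁ rfl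
      exact good_of_step p hS F hF E hE F₁ hstep
        (Cfsg.Agent.Helper74.OR2.exists_residualLimit p (hS.to_le hS₁S) F₁ hstep.normal.1.1) hgood₁

end Cfsg.Agent.Helper86.OR
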