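import Cfsg.Agent.Helper86.ORMain
set_option autoImplicit false

/-!
A variant of the induction for S5202 (helper86) which also records that `E` is normal in the envelope `F₀`.
-/

namespace Cfsg.Agent.Helper86.OR

open Cfsg Cfsg.FusionSystem Cfsg.Agent.Helper85 Cfsg.Agent.Helper87

variable {Ω : Type*} [Group Ω]

/-- The conclusion of S5202 with `E` normal in the envelope, and the invariance clause needed for the induction. -/
def GoodN (p : ℕ) {S T : Subgroup Ω} (F : FusionSystem S) (E : FusionSystem T) : Prop :=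
  ∃ (U : Subgroup Ω) (F₀ : FusionSystem U), U = T ⊔ centralizerIn S T ∧ F₀.IsNormalIn F p ∧ E.IsNormalIn F₀ p ∧
    F₀.autGroup T = E.autGroup T ∧
    (∀ g : Ω → Ω, IsImgF g F F → IsImgF g E E → IsImgF g F₀ F₀) ∧
    ∀ {V W : Subgroup Ω} (Finf : FusionSystem V) (L : FusionSystem W),
      Finf.IsResidualLimitOf F p → L.IsResidualLimitOf F₀ p → SameHom L Finf

/-- If `Aut_E(T) = Aut_F(T)` then `S = T C_S(T)`. -/
theorem eq_sup_centralizerIn_of_autGroup_eq {S T : Subgroup Ω} [Finite S] (p : ℕ) [Fact p.Prime] (hS : IsPGroup p S)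
    (F : FusionSystem S) (E : FusionSystem T) (hE : E.IsNormalIn F p) (heq : E.autGroup T = F.autGroup T) :
    S = T ⊔ centralizerIn S T := by
  have hTcl : F.StronglyClosed T := hE.1.2.2.2.1
  have hTS : T ≤ S := hTcl.1
  have hfinT : Finite T := finite_of_le hTS
  apply le_antisymm _ (sup_le hTS inf_le_left)
  intro s hs
  have hsN : s ∈ Subgroup.normalizer (T : Set Ω) := le_normalizer_of_stronglyClosed F hTcl hs
  have hcs : conjAut T s hsN ∈ E.autGroup T := by
    rw [heq]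
    exact (mem_autGroup_iff F hTS _).mpr (isIso_conjAut F hTS hs hsN)
  obtain ⟨k, hk⟩ := (IsPGroup.iff_orderOf.mp hS) ⟨s, hs⟩
  have hpow : conjAut T s hsN ^ p ^ k = 1 := by
    have h1 : (⟨s, hsN⟩ : Subgroup.normalizer (T : Set Ω)) ^ p ^ k = 1 := by
      apply Subtype.ext
      have h2 : (⟨s, hs⟩ : S) ^ p ^ k = 1 := by rw [← hk]; exact pow_orderOf_eq_one _
      have h3 := congrArg (fun z : S => (z : Ω)) h2
      simpa using h3
    show T.normalizerMonoidHom ⟨s, hsN⟩ ^ p ^ k = 1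
    rw [← map_pow, h1, map_one]
  obtain ⟨t, ht, htx⟩ := Cfsg.Agent.Helper69.OR9.exists_conj_of_pow_eq_one p (hS.to_le hTS) E hE.1.1 hcs hpow
  have hc : t⁻¹ * s ∈ centralizerIn S T := by
    refine ⟨S.mul_mem (S.inv_mem (hTS ht)) hs, ?_⟩
    show t⁻¹ * s ∈ Subgroup.centralizer (T : Set Ω)
    rw [Subgroup.mem_centralizer_iff]
    intro x hx
    have h1 := htx ⟨x, hx⟩
    rw [conjAut_apply] at h1
    have h2 : s * x * s⁻¹ = t * x * t⁻¹ := h1
    calc x * (t⁻¹ * s) = t⁻¹ * (t * x * t⁻¹) * s := by group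
      _ = t⁻¹ * (s * x * s⁻¹) * s := by rw [h2]
      _ = t⁻¹ * s * x := by group
  have : s = t * (t⁻¹ * s) := by group
  rw [this]
  exact Subgroup.mul_mem _ (Subgroup.mem_sup_left ht) (Subgroup.mem_sup_right hc)

theorem goodN_base {S T : Subgroup Ω} [Finite S] (p : ℕ) [Fact p.Prime] (hS : IsPGroup p S) (F : FusionSystem S)
    (hF : F.IsSaturated p) (E : FusionSystem T) (hE : E.IsNormalIn F p) (heq : E.autGroup T = F.autGroup T) :
    GoodN p F E := by
  have hU := eq_sup_centralizerIn_of_autGroup_eq p hS F E hE heq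
  refine ⟨S, F, hU, isNormalIn_self p hS F hF, hE, heq.symm, fun g hgF _ => hgF, ?_⟩
  intro V W Finf L hFinf hL
  exact sameHom_residualLimit hL Fact.out inferInstance hS hFinf (fun P => rfl)

theorem goodN_of_step {S T S₁ : Subgroup Ω} [Finite S] (p : ℕ) [Fact p.Prime] (hS : IsPGroup p S) (F : FusionSystem S)
    (hF : F.IsSaturated p) (E : FusionSystem T) (hE : E.IsNormalIn F p) (F₁ : FusionSystem S₁)
    (hstep : Step p F E F₁) (hex : ∃ (W : Subgroup Ω) (L : FusionSystem W), L.IsResidualLimitOf F₁ p)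
    (hgood : GoodN p F₁ E) : GoodN p F E := by
  obtain ⟨U, F₀, hU, hnorm₁, hsub, haut, hinv₀, hres₀⟩ := hgood
  have hS₁S : S₁ ≤ S := hstep.normal.1.2.2.2.1.1
  have hTcl : F.StronglyClosed T := hE.1.2.2.2.1
  have hTS₁ : T ≤ S₁ := hstep.sub.1.2.2.2.1.1
  have hcent : centralizerIn S₁ T = centralizerIn S T := by
    apply le_antisymm
    · exact fun c hc => ⟨hS₁S hc.1, hc.2⟩
    · exact fun c hc => ⟨hstep.le (Subgroup.mem_sup_right hc), hc.2⟩
  have hU' : U = T ⊔ centralizerIn S T := by rw [hU, hcent]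
  refine ⟨U, F₀, hU', ?_, hsub, haut, fun g hgF hgE => hinv₀ g (hstep.inv g hgF hgE) hgE, ?_⟩
  · apply isNormalIn_trans_of_inv p hS F hF F₁ hstep.normal hTcl hU' F₀ hnorm₁
    intro α hα g hg
    have hgF₁ : IsImgF g F₁ F₁ := isImgF_aut hstep.normal.1.2.2 hα hg
    obtain ⟨β, hβ, hβx⟩ := exists_restrict_aut F hTcl hS₁S hTS₁ hα
    have hgE : IsImgF g E E := isImgF_aut hE.1.2.2 hβ (fun x => by
      rw [hβx x]
      exact hg ⟨x, hTS₁ x.2⟩)
    exact hinv₀ g hgF₁ hgE
  · intro V W Finf L hFinf hL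
    obtain ⟨W₁, L₁, hL₁⟩ := hex
    exact (hres₀ L₁ L hL₁ hL).trans (hstep.res Finf L₁ hFinf hL₁)

theorem goodN_of_pSolvable {T : Subgroup Ω} (p : ℕ) [Fact p.Prime] (E : FusionSystem T) :
    ∀ (n : ℕ) {S : Subgroup Ω} [Finite S] (hS : IsPGroup p S) (F : FusionSystem S) (hF : F.IsSaturated p)
      (hE : E.IsNormalIn F p) [hn : ((E.autGroup T).subgroupOf (F.autGroup T)).Normal]
      (hsolv : IsPSolvable p (↥(F.autGroup T) ⧸ (E.autGroup T).subgroupOf (F.autGroup T)))
      (hcard : Nat.card (F.autGroup T) = n), GoodN p F E := by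
  intro n
  induction n using Nat.strong_induction_on with
  | _ n ih =>
    intro S _ hS F hF hE hn hsolv hcard
    have hTS : T ≤ S := hE.1.2.2.2.1.1
    have hfinA : Finite (F.autGroup T) := by
      have : Finite (MulAut T) := finite_mulAut_of_le hTS
      infer_instance
    have hEF : E.autGroup T ≤ F.autGroup T := autGroup_le_of_isSubsystemOf F E hE.1.2.2.1 le_rfl
    by_cases heq : E.autGroup T = F.autGroup T
    · exact goodN_base p hS F hF E hE heq
    · have hA₀ : (E.autGroup T).subgroupOf (F.autGroup T) ≠ ⊤ := by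
        intro h
        apply heq
        apply le_antisymm hEF
        intro α hα
        have : (⟨α, hα⟩ : F.autGroup T) ∈ (E.autGroup T).subgroupOf (F.autGroup T) := by rw [h]; trivial
        exact Subgroup.mem_subgroupOf.mp this
      have hcases : Subgroup.closure {α : ↥(F.autGroup T) | ∃ k : ℕ, orderOf α = p ^ k} ⊔
            (E.autGroup T).subgroupOf (F.autGroup T) ≠ ⊤ ∨
          pResidual p ↥(F.autGroup T) ⊔ (E.autGroup T).subgroupOf (F.autGroup T) ≠ ⊤ := by
        by_contra hcon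
        push_neg at hcon
        exact hA₀ (Cfsg.Agent.Helper4.OliverOR1.eq_top_of_isPSolvable p _ hsolv hcon.1 hcon.2)
      have key : ∃ (S₁ : Subgroup Ω) (F₁ : FusionSystem S₁), Step p F E F₁ := by
        rcases hcases with h | h
        · obtain ⟨F₁, h₁⟩ := primeStep p hS F hF E hE h
          exact ⟨S, F₁, h₁⟩
        · exact powerStep p hS F hF E hE h
      obtain ⟨S₁, F₁, hstep⟩ := key
      have hS₁S : S₁ ≤ S := hstep.normal.1.2.2.2.1.1
      have hfinS₁ : Finite S₁ := finite_of_le hS₁S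
      have hle : F₁.autGroup T ≤ F.autGroup T :=
        autGroup_le_of_isSubsystemOf F F₁ hstep.normal.1.2.2.1 (hstep.sub.1.2.2.2.1.1)
      have hE1 : E.autGroup T ≤ F₁.autGroup T := autGroup_le_of_isSubsystemOf F₁ E hstep.sub.1.2.2.1 le_rfl
      obtain ⟨hn₁, hsolv₁⟩ := Cfsg.Agent.Helper4.OliverOR1.isPSolvable_of_le p hE1 hle hsolv
      have hgood₁ : GoodN p F₁ E :=
        ih (Nat.card (F₁.autGroup T)) (hcard ▸ hstep.card) (hS.to_le hS₁S) F₁ hstep.normal.1.1 hstep.sub hsolv₁ rfl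
      exact goodN_of_step p hS F hF E hE F₁ hstep
        (Cfsg.Agent.Helper74.OR2.exists_residualLimit p (hS.to_le hS₁S) F₁ hstep.normal.1.1) hgood₁

end Cfsg.Agent.Helper86.OR
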