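import Cfsg.Agent.Helper86.ORPrime
import Cfsg.Agent.Helper86.ORSub
import Cfsg.Agent.Helper67.OliverConj
import Cfsg.Agent.S5113
import Cfsg.Agent.S5120
import Cfsg.Agent.S5198
import Cfsg.Agent.S5199
import Cfsg.Agent.S5203
set_option autoImplicit false

/-!
The step of `p`-power index for S5202 (helper86): `S₁` is the subgroup of `S` acting on `T` as elements of
`O^p(Aut_F(T)) Aut_E(T)`; it contains `T C_S(T)` and the hyperfocal subgroup, and the saturated subsystem of `p`-power index
over `S₁` is normal in `F`, still has `E` as a normal subsystem, and has a smaller automizer of `T`.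
-/

namespace Cfsg.Agent.Helper86.OR

open Cfsg Cfsg.FusionSystem Cfsg.Agent.Helper85 Cfsg.Agent.Helper87

variable {Ω : Type*} [Group Ω]

section

variable {S T : Subgroup Ω} {p : ℕ} {F : FusionSystem S} {E : FusionSystem T}

theorem autGroup_le_powerSub (p : ℕ) (F : FusionSystem S) (E : FusionSystem T) : E.autGroup T ≤ powerSub p F E :=
  le_sup_right

theorem powerSub_le (p : ℕ) (F : FusionSystem S) (E : FusionSystem T) (hEF : E.autGroup T ≤ F.autGroup T) :
    powerSub p F E ≤ F.autGroup T :=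
  sup_le (Subgroup.map_subtype_le _) hEF

/-- `T ≤ S₁`. -/
theorem le_preAut_powerSub (hTS : T ≤ S) : T ≤ preAut S T (powerSub p F E) := by
  intro t ht
  have htN : t ∈ Subgroup.normalizer (T : Set Ω) := Subgroup.le_normalizer ht
  refine ⟨hTS ht, conjAut T t htN, autGroup_le_powerSub p F E ?_, fun x => rfl⟩
  exact autInducedBy_le_autGroup E le_rfl ((mem_autInducedBy_iff T T _).mpr ⟨t, ht, fun x => rfl⟩)

/-- `C_S(T) ≤ S₁`. -/
theorem centralizerIn_le_preAut (K : Subgroup (MulAut T)) : centralizerIn S T ≤ preAut S T K := by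
  intro c hc
  refine ⟨hc.1, 1, K.one_mem, fun t => ?_⟩
  have := Subgroup.mem_centralizer_iff.mp hc.2 t t.2
  rw [MulAut.one_apply, ← this]
  group

/-- The hyperfocal subgroup lies in `S₁`. -/
theorem hyperfocalSubgroup_le_preAut [Finite S] [Fact p.Prime] (hS : IsPGroup p S) (hF : F.IsSaturated p)
    (hT : F.StronglyClosed T) : F.hyperfocalSubgroup p ≤ preAut S T (powerSub p F E) := by
  intro x hx
  obtain ⟨α, hα, hαt⟩ := Cfsg.Agent.S5198.result p hS F hF T hT x hx
  refine ⟨hyperfocalSubgroup_le F p hx, α, ?_, hαt⟩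
  have hle : ((Cfsg.pResidual p ↥(F.autGroup T)).map (F.autGroup T).subtype ⊔ Cfsg.Inn ↥T : Subgroup (MulAut ↥T)) ≤
      powerSub p F E := by
    apply sup_le_sup_left
    rintro _ ⟨t, rfl⟩
    exact autInducedBy_le_autGroup E le_rfl ((mem_autInducedBy_iff T T _).mpr ⟨t, t.2, fun x => rfl⟩)
  exact hle hα

/-- `S₁` is normal in `S`. -/
theorem preAut_powerSub_normal (hT : F.StronglyClosed T) (hEF : E.autGroup T ≤ F.autGroup T)
    [hn : ((E.autGroup T).subgroupOf (F.autGroup T)).Normal] :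
    ((preAut S T (powerSub p F E)).subgroupOf S).Normal := by
  constructor
  intro x hx s
  rw [Subgroup.mem_subgroupOf] at hx ⊢
  obtain ⟨-, β, hβ, hβt⟩ := hx
  have hsN : (s : Ω) ∈ Subgroup.normalizer (T : Set Ω) := le_normalizer_of_stronglyClosed F hT s.2
  have hcs : conjAut T s hsN ∈ F.autGroup T := (mem_autGroup_iff F hT.1 _).mpr (isIso_conjAut F hT.1 s.2 hsN)
  refine ⟨(s * x * s⁻¹).2, conjAut T s hsN * β * (conjAut T s hsN)⁻¹, ?_, fun t => ?_⟩
  · have hA : ∀ a, conjAut T s hsN * a * (conjAut T s hsN)⁻¹ ∈ F.autGroup T ↔ a ∈ F.autGroup T := by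
      intro a
      constructor
      · intro h
        have := (F.autGroup T).mul_mem ((F.autGroup T).mul_mem ((F.autGroup T).inv_mem hcs) h) hcs
        simpa [mul_assoc] using this
      · intro h
        exact (F.autGroup T).mul_mem ((F.autGroup T).mul_mem hcs h) ((F.autGroup T).inv_mem hcs)
    have hA₀ : ∀ a, conjAut T s hsN * a * (conjAut T s hsN)⁻¹ ∈ E.autGroup T ↔ a ∈ E.autGroup T := by
      have key : ∀ (c : MulAut T), c ∈ F.autGroup T → ∀ a, a ∈ E.autGroup T → c * a * c⁻¹ ∈ E.autGroup T := by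
        intro c hc a ha
        have h1 : (⟨a, hEF ha⟩ : F.autGroup T) ∈ (E.autGroup T).subgroupOf (F.autGroup T) :=
          Subgroup.mem_subgroupOf.mpr ha
        have h2 := hn.conj_mem _ h1 ⟨c, hc⟩
        exact Subgroup.mem_subgroupOf.mp h2
      intro a
      constructor
      · intro h
        have := key _ ((F.autGroup T).inv_mem hcs) _ h
        simpa [mul_assoc] using this
      · exact key _ hcs a
    exact ((Cfsg.Agent.Helper67.OliverFN.conj_mem_sup_iff p (F.autGroup T) (E.autGroup T) (conjAut T s hsN) hA hA₀ β).2).mpr hβ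
  · rw [MulAut.mul_apply, MulAut.mul_apply]
    have h1 : (((conjAut T s hsN)⁻¹ t : T) : Ω) = (s : Ω)⁻¹ * t * s := by
      have := conjAut_apply T s hsN ((conjAut T s hsN)⁻¹ t)
      rw [MulAut.apply_inv_self] at this
      rw [this]
      group
    rw [conjAut_apply, hβt, h1]
    simp only [Subgroup.coe_mul, Subgroup.coe_inv]
    group

end

/-- The core of the step of `p`-power index. -/
theorem powerStep_core {S T : Subgroup Ω} [Finite S] (p : ℕ) [Fact p.Prime] (hS : IsPGroup p S) (F : FusionSystem S)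
    (hF : F.IsSaturated p) (E : FusionSystem T) (hE : E.IsNormalIn F p)
    [hn : ((E.autGroup T).subgroupOf (F.autGroup T)).Normal] :
    ∃ F₁ : FusionSystem (preAut S T (powerSub p F E)), F₁.IsSaturated p ∧ F₁.HasPPowerIndexIn F p ∧
      F₁.IsNormalIn F p ∧ E.IsSubsystemOf F₁ ∧ T ⊔ centralizerIn S T ≤ preAut S T (powerSub p F E) := by
  have hTcl : F.StronglyClosed T := hE.1.2.2.2.1
  have hTS : T ≤ S := hTcl.1
  have hEF : E.autGroup T ≤ F.autGroup T := autGroup_le_of_isSubsystemOf F E hE.1.2.2.1 le_rfl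
  have hS₁S : preAut S T (powerSub p F E) ≤ S := preAut_le _ _ _
  have hhyp : F.hyperfocalSubgroup p ≤ preAut S T (powerSub p F E) := hyperfocalSubgroup_le_preAut hS hF hTcl
  have hTS₁ : T ≤ preAut S T (powerSub p F E) := le_preAut_powerSub hTS
  obtain ⟨F₁, ⟨hsat, hidx⟩, -⟩ := Cfsg.Agent.S5113.result p hS F hF _ hS₁S hhyp
  have hnorm : F₁.IsNormalIn F p :=
    Cfsg.Agent.S5120.result p hS F hF _ hS₁S (preAut_powerSub_normal hTcl hEF) hhyp F₁ hsat hidx
  refine ⟨F₁, hsat, hidx, hnorm, ?_, sup_le hTS₁ (centralizerIn_le_preAut _)⟩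
  exact Cfsg.Agent.S5199.result p hS F hF E hE F₁ hnorm (sup_le hTS₁ hhyp) hidx

end Cfsg.Agent.Helper86.OR
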