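import Cfsg.Agent.Helper86.NQMain
import Cfsg.Agent.Helper86.ORDefs
set_option autoImplicit false

/-!
The step of index prime to `p` for S5202 (helper86): the subsystem `sysZero` of the `NQ` library, for the quotient of
`Aut_F(T)` by a normal subgroup of index prime to `p` containing `Aut_E(T)`, still has `E` as a normal subsystem, and its
automorphisms of `T` lie in the kernel.
-/

namespace Cfsg.Agent.Helper86.OR

open Cfsg Cfsg.FusionSystem Cfsg.Agent.Helper85 Cfsg.Agent.Helper86.NQ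

variable {Ω : Type*} [Group Ω]

/-- Invariance passes to intermediate saturated subsystems. -/
theorem isInvariantIn_of_le {S S₁ T : Subgroup Ω} [Finite S] (p : ℕ) [Fact p.Prime] (hS : IsPGroup p S)
    (F : FusionSystem S) (hF : F.IsSaturated p) (F₁ : FusionSystem S₁) (hF₁ : F₁.IsSaturated p)
    (hF₁F : F₁.IsSubsystemOf F) (E : FusionSystem T) (hEF : E.IsInvariantIn F) (hEF₁ : E.IsSubsystemOf F₁) :
    E.IsInvariantIn F₁ := by
  have hS₁S : S₁ ≤ S := le_of_isSubsystemOf F F₁ hF₁F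
  have hfinS₁ : Finite S₁ := Cfsg.Agent.Helper87.finite_of_le hS₁S
  have hTS₁ : T ≤ S₁ := le_of_isSubsystemOf F₁ E hEF₁
  have hTcl : F.StronglyClosed T := hEF.2.1
  have hTcl₁ : F₁.StronglyClosed T := ⟨hTS₁, fun R hR φ hφ x => hTcl.2 R hR φ (hF₁F R hφ) x⟩
  have hSI := (Cfsg.Agent.S5119.result p hS F hF E hEF.1 hTcl).mp hEF
  exact (Cfsg.Agent.S5119.result p (hS.to_le hS₁S) F₁ hF₁ E hEF₁ hTcl₁).mpr
    (fun P Q hPQ hQT φ hφ hφQ ψ hψ => hSI P Q hPQ hQT φ hφ hφQ ψ (hF₁F Q hψ))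

section

variable {S T : Subgroup Ω} {Δ : Type*} [Group Δ] {p : ℕ} {F : FusionSystem S} {E : FusionSystem T}
  {χ : ↥(F.autGroup T) →* Δ}

/-- `T C_S(T)` is in the class on which degrees are defined. -/
theorem hh_sup [Finite S] [Fact p.Prime] (h : Hyp p F E χ) : HH F T (T ⊔ centralizerIn S T) := by
  have hfn := isFullyNormalized_of_stronglyClosed F h.closed
  obtain ⟨hfc, -⟩ := Cfsg.Agent.Helper87.fullyAutomized_fullyCentralized_of_fullyNormalized h.pS F h.satF hfn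
  refine ⟨centric_sup F hfc, ?_⟩
  have e : (T ⊔ centralizerIn S T) ⊓ T = T := inf_eq_right.mpr le_sup_left
  rw [e]
  exact qt_top h

/-- The extension condition for `E` inside `sysZero`. -/
theorem extension_sysZero [Finite S] [Fact p.Prime] (h : Hyp p F E χ) (hE : E.IsNormalIn F p) :
    ∀ α ∈ E.autGroup T, ∃ β ∈ (sysZero h).autGroup (T ⊔ centralizerIn S T),
      (∀ x : T, ((β (Subgroup.inclusion le_sup_left x) : ↥(T ⊔ centralizerIn S T)) : Ω) = ((α x : T) : Ω)) ∧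
      ∀ c : ↥(T ⊔ centralizerIn S T), (c : Ω) ∈ centralizerIn S T →
        (c : Ω)⁻¹ * ((β c : ↥(T ⊔ centralizerIn S T)) : Ω) ∈ T ⊓ Subgroup.centralizer (T : Set Ω) := by
  intro α hα
  obtain ⟨β, hβ, hβx, hβc⟩ := hE.2 α hα
  have hS₀S : T ⊔ centralizerIn S T ≤ S := sup_le h.le inf_le_left
  refine ⟨β, ?_, hβx, hβc⟩
  rw [Cfsg.Agent.Helper87.mem_autGroup_iff _ hS₀S]
  have hψF := (Cfsg.Agent.Helper87.mem_autGroup_iff F hS₀S β).mp hβ
  refine mem_sysZero h (hh_sup h) hψF ?_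
  apply h.th_of_mem
  have h1 : T.subtype.comp (α : T ≃* T).toMonoidHom ∈ E.Hom T := (Cfsg.Agent.Helper87.mem_autGroup_iff E le_rfl α).mp hα
  have h2 := Cfsg.Agent.Helper87.restrict_mem E h1 (inf_le_right : (T ⊔ centralizerIn S T) ⊓ T ≤ T)
  refine Cfsg.Agent.Helper87.mem_of_eq E h2 (fun x => ?_)
  have := hβx ⟨x, x.2.2⟩
  show ((β ⟨x, x.2.1⟩ : ↥(T ⊔ centralizerIn S T)) : Ω) = ((α ⟨x, x.2.2⟩ : T) : Ω)
  rw [← this]
  rfl

/-- The automorphisms of `T` in `sysZero` lie in the kernel of `χ`. -/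
theorem chi_eq_one_of_mem_autGroup_sysZero [Finite S] [Fact p.Prime] (h : Hyp p F E χ) (hχ : Function.Surjective χ)
    {β : MulAut T} (hβ : β ∈ (sysZero h).autGroup T) : ∃ hβF : β ∈ F.autGroup T, χ ⟨β, hβF⟩ = 1 := by
  have hS₀S : T ⊔ centralizerIn S T ≤ S := sup_le h.le inf_le_left
  have hsat := sysZero_saturated h hχ
  have hcl := sysZero_closed h
  have hβF : β ∈ F.autGroup T :=
    autGroup_le_of_isSubsystemOf F (sysZero h) (sysZero_le h) h.le hβ
  refine ⟨hβF, ?_⟩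
  have hinv : ∀ γ ∈ (sysZero h).autGroup (T ⊔ centralizerIn S T), ∀ x : ↥(T ⊔ centralizerIn S T),
      ((γ x : ↥(T ⊔ centralizerIn S T)) : Ω) ∈ T ↔ (x : Ω) ∈ T :=
    fun γ hγ x => aut_mem_iff_of_stronglyClosed (sysZero h) hcl hS₀S hγ x
  obtain ⟨βh, hβh⟩ := resAutHom_surjective h.pS (sysZero h) hsat hcl hS₀S hinv ⟨β, hβ⟩
  have hψ : (T ⊔ centralizerIn S T).subtype.comp ((βh : MulAut ↥(T ⊔ centralizerIn S T)) :
      ↥(T ⊔ centralizerIn S T) ≃* ↥(T ⊔ centralizerIn S T)).toMonoidHom ∈ (sysZero h).Hom (T ⊔ centralizerIn S T) :=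
    (Cfsg.Agent.Helper87.mem_autGroup_iff _ hS₀S _).mp βh.2
  have h1 := th_of_mem_sysZero h (hh_sup h) hψ
  have h2 : Th E F χ ((T ⊔ centralizerIn S T).subtype.comp ((βh : MulAut ↥(T ⊔ centralizerIn S T)) :
      ↥(T ⊔ centralizerIn S T) ≃* ↥(T ⊔ centralizerIn S T)).toMonoidHom) (χ ⟨β, hβF⟩) := by
    refine (Dec.of_aut hβF (inf_le_right : (T ⊔ centralizerIn S T) ⊓ T ≤ T)).congr (fun x => ?_)
    rw [resT_apply]
    have e := resAutHom_apply (sysZero h) hS₀S le_sup_left hinv βh ⟨x, x.2.2⟩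
    rw [hβh] at e
    exact e.symm
  exact h.th_unique (hh_sup h).2 h2 h1

/-- `E` is normal in `sysZero`. -/
theorem isNormalIn_sysZero [Finite S] [Fact p.Prime] (h : Hyp p F E χ) (hχ : Function.Surjective χ)
    (hE : E.IsNormalIn F p) : E.IsNormalIn (sysZero h) p :=
  ⟨⟨h.satE, sysZero_saturated h hχ,
    isInvariantIn_of_le p h.pS F h.satF (sysZero h) (sysZero_saturated h hχ) (sysZero_le h) E h.inv (sub_sysZero h hχ)⟩,
    extension_sysZero h hE⟩

end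

end Cfsg.Agent.Helper86.OR
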