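import Mathlib
set_option autoImplicit false
set_option linter.style.haveILetI false

/-! # Generic lemmas for the transfer-type homomorphism on Park's group (helper86)

* `exists_equivariant_map`: a character of an acting group which is trivial on all point stabilizers is the "degree" of some
  function on the set.
* `prod_eq_prod_of_invariant`: a product over a finite set of an invariant function with values in an abelian group of
  exponent `p`, for an action of a `p`-group, only sees the fixed points.
-/

namespace Cfsg.Agent.Helper86.PP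

open MulAction

/-- If the character `χ` of `K` is trivial on the stabilizer of every point of the `K`-set `H`, then some function `Λ` on `H`
satisfies `Λ (k • h) = χ k * Λ h`. -/
theorem exists_equivariant_map {K H A : Type*} [Group K] [MulAction K H] [Group A] (χ : K →* A)
    (hχ : ∀ (h : H) (k : K), k • h = h → χ k = 1) :
    ∃ Λ : H → A, ∀ (k : K) (h : H), Λ (k • h) = χ k * Λ h := by
  classical
  let r : H → H := fun h => (Quotient.mk (orbitRel K H) h).out
  have hr : ∀ h, ∃ k : K, k • r h = h := by
    intro h
    have h1 : Quotient.mk (orbitRel K H) (r h) = Quotient.mk (orbitRel K H) h := Quotient.out_eq _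
    have h2 : (orbitRel K H).r (r h) h := Quotient.exact h1
    rw [orbitRel_apply] at h2
    obtain ⟨k, hk⟩ := h2
    refine ⟨k⁻¹, ?_⟩
    rw [← hk, inv_smul_smul]
  choose kk hkk using hr
  refine ⟨fun h => χ (kk h), fun k h => ?_⟩
  have hrr : r (k • h) = r h := by
    show (Quotient.mk (orbitRel K H) (k • h)).out = (Quotient.mk (orbitRel K H) h).out
    congr 1
    apply Quotient.sound
    show (orbitRel K H).r (k • h) h
    rw [orbitRel_apply]
    exact ⟨k, rfl⟩
  have h1 : ((k * kk h)⁻¹ * kk (k • h)) • r h = r h := by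
    have e1 : kk (k • h) • r h = k • h := by
      have := hkk (k • h)
      rwa [hrr] at this
    have e2 : (kk h)⁻¹ • h = r h := by
      rw [inv_smul_eq_iff]
      exact (hkk h).symm
    rw [mul_smul, e1, mul_inv_rev, mul_smul, inv_smul_smul, e2]
  have h2 := hχ (r h) _ h1
  rw [map_mul, map_inv, map_mul] at h2
  show χ (kk (k • h)) = χ k * χ (kk h)
  calc χ (kk (k • h)) = (χ k * χ (kk h)) * ((χ k * χ (kk h))⁻¹ * χ (kk (k • h))) := by group
    _ = χ k * χ (kk h) := by rw [h2, mul_one]

/-- For an action of a finite `p`-group `Q` on a finite set `Y` and a `Q`-invariant function `f` with values in an abelian group of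
exponent `p`: if `g` agrees with `f` on the fixed points and is trivial off the fixed points, then `f` and `g` have the same
product. -/
theorem prod_eq_prod_of_invariant {Q Y A : Type*} [Group Q] [Finite Q] [Fintype Y] [MulAction Q Y] [CommGroup A]
    {p : ℕ} [Fact p.Prime] (hQ : IsPGroup p Q) (hA : ∀ a : A, a ^ p = 1) (f g : Y → A)
    (hf : ∀ (q : Q) (y : Y), f (q • y) = f y) (hfix : ∀ y ∈ fixedPoints Q Y, g y = f y)
    (hnfix : ∀ y, y ∉ fixedPoints Q Y → g y = 1) :
    ∏ y, f y = ∏ y, g y := by
  classical
  letI : Fintype (orbitRel.Quotient Q Y) := Fintype.ofFinite _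
  letI : ∀ ω : orbitRel.Quotient Q Y, Fintype (orbit Q ω.out) := fun ω => Fintype.ofFinite _
  rw [← (selfEquivSigmaOrbits Q Y).symm.prod_comp f, ← (selfEquivSigmaOrbits Q Y).symm.prod_comp g]
  rw [Fintype.prod_sigma, Fintype.prod_sigma]
  apply Finset.prod_congr rfl
  intro ω _
  have hsymm : ∀ y : orbit Q ω.out, (selfEquivSigmaOrbits Q Y).symm ⟨ω, y⟩ = (y : Y) := fun y => rfl
  have hfy : ∀ y : orbit Q ω.out, f (y : Y) = f ω.out := by
    rintro ⟨_, q, rfl⟩
    exact hf q _
  obtain ⟨n, hn⟩ := hQ.card_orbit ω.out
  rcases Nat.eq_zero_or_pos n with h0 | h0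
  · -- a fixed point
    have hfp : ω.out ∈ fixedPoints Q Y := by
      rw [mem_fixedPoints_iff_card_orbit_eq_one, Fintype.card_eq_nat_card, hn, h0, pow_zero]
    apply Finset.prod_congr rfl
    intro y _
    rw [hsymm]
    have hy : (y : Y) = ω.out := by
      obtain ⟨_, q, rfl⟩ := y
      exact hfp q
    rw [hy]
    exact (hfix _ hfp).symm
  · -- an orbit of length divisible by `p`
    have h1 : ∏ y : orbit Q ω.out, f ((selfEquivSigmaOrbits Q Y).symm ⟨ω, y⟩) = 1 := by
      have : ∀ y : orbit Q ω.out, f ((selfEquivSigmaOrbits Q Y).symm ⟨ω, y⟩) = f ω.out := fun y => by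
        rw [hsymm]; exact hfy y
      rw [Finset.prod_congr rfl (fun y _ => this y), Finset.prod_const, Finset.card_univ,
        Fintype.card_eq_nat_card, hn]
      obtain ⟨k, rfl⟩ : ∃ k, n = k + 1 := ⟨n - 1, by omega⟩
      rw [pow_succ', pow_mul, hA, one_pow]
    have h2 : ∏ y : orbit Q ω.out, g ((selfEquivSigmaOrbits Q Y).symm ⟨ω, y⟩) = 1 := by
      apply Finset.prod_eq_one
      intro y _
      rw [hsymm]
      apply hnfix
      intro hy
      -- a fixed point has orbit of size 1
      have hout : ω.out ∈ fixedPoints Q Y := by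
        obtain ⟨_, q, rfl⟩ := y
        intro q'
        have h3 := hy (q * q' * q⁻¹)
        have h4 : (q * q' * q⁻¹) • (q • ω.out) = q • (q' • ω.out) := by
          rw [smul_smul, smul_smul]; congr 1; group
        rw [h4] at h3
        exact smul_left_cancel q h3
      rw [mem_fixedPoints_iff_card_orbit_eq_one, Fintype.card_eq_nat_card, hn] at hout
      have : 1 < p ^ n := Nat.one_lt_pow h0.ne' (Fact.out : p.Prime).one_lt
      omega
    rw [h1, h2]

end Cfsg.Agent.Helper86.PP
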