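import Cfsg.Agent.Helper86.ParkGroup
import Cfsg.Agent.Helper86.PPGen
import Cfsg.Agent.Helper88.TateOne
set_option autoImplicit false
set_option linter.style.haveILetI false

/-! # A transfer-type homomorphism on Park's group (helper86)

`X` is a finite `S × S`-set, `A` an abelian group, `θ : S → A` a homomorphism and `D : X → A` a "degree function":
`D ((a, b) • x) = θ a * (θ b)⁻¹ * D x`.  For `g` in the automorphism group `AutR S X` of the right `S`-set `X`, the quotient
`D (g x) / D x` only depends on the right orbit of `x`; the product of these quotients over the right orbits is a homomorphism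
`Theta : AutR S X →* A`, whose composite with the left action `iotaHom` is `θ ^ (number of right orbits)`.
-/

namespace Cfsg.Agent.Helper86.PP

open Cfsg Cfsg.FusionSystem Cfsg.Agent.Helper86.Park MulAction

variable {Ω : Type*} [Group Ω] (S : Subgroup Ω) (X : Type*) [MulAction (↥S × ↥S) X]

/-- Two points are related when they lie in the same orbit of the right copy `1 × S`. -/
def rightRel : Setoid X where
  r x y := ∃ t : ↥S, (((1 : ↥S), t) : ↥S × ↥S) • x = y
  iseqv := by
    refine ⟨fun x => ⟨1, ?_⟩, ?_, ?_⟩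
    · exact one_smul _ x
    · rintro x y ⟨t, rfl⟩
      refine ⟨t⁻¹, ?_⟩
      rw [smul_smul]
      have : (((1 : ↥S), t⁻¹) : ↥S × ↥S) * (((1 : ↥S), t) : ↥S × ↥S) = 1 := by ext <;> simp
      rw [this, one_smul]
    · rintro x y z ⟨t, rfl⟩ ⟨u, rfl⟩
      refine ⟨u * t, ?_⟩
      rw [smul_smul]
      congr 1
      ext <;> simp

/-- The set of right orbits. -/
def RQ : Type _ := Quotient (rightRel S X)

variable {S X}

/-- The right orbit of a point. -/
def rmk (x : X) : RQ S X := Quotient.mk (rightRel S X) x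

theorem rmk_eq_iff (x y : X) : (rmk x : RQ S X) = rmk y ↔ ∃ t : ↥S, (((1 : ↥S), t) : ↥S × ↥S) • x = y := by
  constructor
  · intro h
    exact Quotient.exact h
  · intro h
    exact Quotient.sound h

theorem RQ.ind {motive : RQ S X → Prop} (h : ∀ x : X, motive (rmk x)) (y : RQ S X) : motive y :=
  Quotient.ind h y

noncomputable instance [Finite X] : Fintype (RQ S X) :=
  @Fintype.ofFinite _ (Quotient.finite (rightRel S X))

theorem AutR_apply_smul (g : ↥(AutR S X)) (t : ↥S) (x : X) :
    (g : Equiv.Perm X) ((((1 : ↥S), t) : ↥S × ↥S) • x) = (((1 : ↥S), t) : ↥S × ↥S) • (g : Equiv.Perm X) x :=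
  (mem_AutR_iff X (g : Equiv.Perm X)).mp g.2 t x

/-- The automorphism group of the right `S`-set acts on the set of right orbits. -/
instance : MulAction (↥(AutR S X)) (RQ S X) where
  smul g := Quotient.map' (fun x => (g : Equiv.Perm X) x) (by
    rintro x y ⟨t, rfl⟩
    exact ⟨t, (AutR_apply_smul g t x).symm⟩)
  one_smul := by
    intro y
    induction y using RQ.ind with
    | h x => rfl
  mul_smul := by
    intro g h y
    induction y using RQ.ind with
    | h x => rfl

theorem smul_rmk (g : ↥(AutR S X)) (x : X) : g • (rmk x : RQ S X) = rmk ((g : Equiv.Perm X) x) := rfl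

section degree

variable {A : Type*} [CommGroup A] (θ : ↥S →* A) (D : X → A)
  (hD : ∀ (a b : ↥S) (x : X), D (((a, b) : ↥S × ↥S) • x) = θ a * (θ b)⁻¹ * D x)

include hD in
theorem degree_right (t : ↥S) (x : X) : D ((((1 : ↥S), t) : ↥S × ↥S) • x) = (θ t)⁻¹ * D x := by
  rw [hD, map_one, one_mul]

include hD in
theorem degree_left (s : ↥S) (x : X) : D (((s, (1 : ↥S)) : ↥S × ↥S) • x) = θ s * D x := by
  rw [hD, map_one, inv_one, mul_one]

/-- The local quotient `D (g x) / D x`, as a function of the right orbit of `x`. -/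
def dl (g : ↥(AutR S X)) : RQ S X → A :=
  Quotient.lift (fun x => D ((g : Equiv.Perm X) x) / D x) (by
    rintro x y ⟨t, rfl⟩
    show D ((g : Equiv.Perm X) x) / D x = D ((g : Equiv.Perm X) ((((1 : ↥S), t) : ↥S × ↥S) • x)) /
      D ((((1 : ↥S), t) : ↥S × ↥S) • x)
    rw [AutR_apply_smul, degree_right θ D hD, degree_right θ D hD]
    rw [mul_div_mul_left_eq_div])

theorem dl_rmk (g : ↥(AutR S X)) (x : X) : dl θ D hD g (rmk x) = D ((g : Equiv.Perm X) x) / D x := rfl

theorem dl_mul (g h : ↥(AutR S X)) (y : RQ S X) : dl θ D hD (g * h) y = dl θ D hD g (h • y) * dl θ D hD h y := by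
  induction y using RQ.ind with
  | h x =>
    rw [smul_rmk, dl_rmk, dl_rmk, dl_rmk]
    show D ((g : Equiv.Perm X) ((h : Equiv.Perm X) x)) / D x = _
    rw [div_mul_div_cancel]

variable [Finite X]

/-- The transfer-type homomorphism. -/
noncomputable def Theta : ↥(AutR S X) →* A where
  toFun g := ∏ y : RQ S X, dl θ D hD g y
  map_one' := by
    apply Finset.prod_eq_one
    intro y _
    induction y using RQ.ind with
    | h x =>
      rw [dl_rmk]
      show D x / D x = 1
      exact div_self' _
  map_mul' := by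
    intro g h
    have h1 : ∀ y : RQ S X, dl θ D hD (g * h) y = dl θ D hD g (h • y) * dl θ D hD h y := dl_mul θ D hD g h
    rw [Finset.prod_congr rfl (fun y _ => h1 y), Finset.prod_mul_distrib]
    congr 1
    exact Equiv.prod_comp (MulAction.toPerm h) (dl θ D hD g)

theorem Theta_apply (g : ↥(AutR S X)) : Theta θ D hD g = ∏ y : RQ S X, dl θ D hD g y := rfl

theorem Theta_iotaHom (s : ↥S) : Theta θ D hD (iotaHom S X s) = θ s ^ Fintype.card (RQ S X) := by
  rw [Theta_apply]
  have h1 : ∀ y : RQ S X, dl θ D hD (iotaHom S X s) y = θ s := by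
    intro y
    induction y using RQ.ind with
    | h x =>
      rw [dl_rmk, iotaHom_apply, degree_left θ D hD]
      exact mul_div_cancel_right _ _
  rw [Finset.prod_congr rfl (fun y _ => h1 y), Finset.prod_const, Finset.card_univ]

end degree

/-- If the right action is free, every right orbit has `|S|` points. -/
theorem card_eq_card_mul_card_RQ [Finite S] [Finite X]
    (hfree : ∀ (t : ↥S) (x : X), (((1 : ↥S), t) : ↥S × ↥S) • x = x → t = 1) :
    Nat.card X = Nat.card S * Fintype.card (RQ S X) := by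
  classical
  have e : X ≃ Σ y : RQ S X, {x : X // rmk x = y} := (Equiv.sigmaFiberEquiv (rmk : X → RQ S X)).symm
  have hfib : ∀ y : RQ S X, Nat.card {x : X // rmk x = y} = Nat.card S := by
    intro y
    induction y using RQ.ind with
    | h x₀ =>
      symm
      refine Nat.card_congr (Equiv.ofBijective
        (fun t : ↥S => (⟨(((1 : ↥S), t) : ↥S × ↥S) • x₀, ((rmk_eq_iff _ _).mpr ⟨t⁻¹, by
          rw [smul_smul]
          have : (((1 : ↥S), t⁻¹) : ↥S × ↥S) * (((1 : ↥S), t) : ↥S × ↥S) = 1 := by ext <;> simp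
          rw [this, one_smul]⟩)⟩ : {x : X // rmk x = (rmk x₀ : RQ S X)})) ⟨?_, ?_⟩)
      · intro t u htu
        have h1 : (((1 : ↥S), t) : ↥S × ↥S) • x₀ = (((1 : ↥S), u) : ↥S × ↥S) • x₀ := congrArg Subtype.val htu
        have h2 : (((1 : ↥S), u⁻¹ * t) : ↥S × ↥S) • x₀ = x₀ := by
          have : (((1 : ↥S), u⁻¹ * t) : ↥S × ↥S) = (((1 : ↥S), u⁻¹) : ↥S × ↥S) * (((1 : ↥S), t) : ↥S × ↥S) := by
            ext <;> simp
          rw [this, mul_smul, h1, smul_smul]
          have : (((1 : ↥S), u⁻¹) : ↥S × ↥S) * (((1 : ↥S), u) : ↥S × ↥S) = 1 := by ext <;> simp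
          rw [this, one_smul]
        have h3 := hfree _ _ h2
        exact (inv_mul_eq_one.mp h3).symm
      · rintro ⟨x, hx⟩
        obtain ⟨t, ht⟩ := (rmk_eq_iff _ _).mp hx
        refine ⟨t⁻¹, Subtype.ext ?_⟩
        show (((1 : ↥S), t⁻¹) : ↥S × ↥S) • x₀ = x
        rw [← ht, smul_smul]
        have : (((1 : ↥S), t⁻¹) : ↥S × ↥S) * (((1 : ↥S), t) : ↥S × ↥S) = 1 := by ext <;> simp
        rw [this, one_smul]
  rw [Nat.card_congr e, Nat.card_sigma, Finset.sum_congr rfl (fun y _ => hfib y), Finset.sum_const,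
    Finset.card_univ, smul_eq_mul, mul_comm]

end Cfsg.Agent.Helper86.PP
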