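import Cfsg.Agent.Helper86.PPHom
import Cfsg.Agent.Helper87.FusionExtend
set_option autoImplicit false
set_option linter.style.haveILetI false

/-! # Centralizers in Park's group and the transfer-type homomorphism (helper86)

For a stable biset `X` of a fusion system `F` (all point stabilizers are twisted diagonals of `F`), an `F`-stable homomorphism
`θ : S → A` into an abelian group of exponent `p` and a degree function `D`, the homomorphism `Theta` of `PPHom` sends the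
centralizer in `AutR S X` of (the left action of) a fully automized receptive subgroup `Q` into `θ (C_S(Q))`.
-/

namespace Cfsg.Agent.Helper86.PP

open Cfsg Cfsg.FusionSystem Cfsg.Agent.Helper87 Cfsg.Agent.Helper88.Biset Cfsg.Agent.Helper86.Park MulAction

variable {Ω : Type*} [Group Ω] {S : Subgroup Ω}

/-- A stable homomorphism takes the same value on the two coordinates of an element of a twisted diagonal. -/
theorem theta_snd_eq_of_mem_TD (F : FusionSystem S) {A : Type*} [CommGroup A] (θ : ↥S →* A) (hθ : IsStableHom F θ)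
    {K : Subgroup (↥S × ↥S)} (hK : TD F K) {z : ↥S × ↥S} (hz : z ∈ K) : θ z.2 = θ z.1 := by
  obtain ⟨P, P', e, he, rfl⟩ := hK
  obtain ⟨a, ha1, ha2⟩ := (mem_graph e z).mp hz
  have h4 := hθ P _ he a
  have h5 : z.2 = ⟨(P'.subtype.comp e.toMonoidHom) a, (F.le_of_mem he).2 a⟩ := Subtype.ext ha2
  have h6 : z.1 = ⟨a, (F.le_of_mem he).1 a.2⟩ := Subtype.ext ha1
  rw [h5, h6]
  exact h4

theorem TD.snd_eq_one_of_mem {F : FusionSystem S} {K : Subgroup (↥S × ↥S)} (hK : TD F K) {t : ↥S}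
    (h : (((1 : ↥S), t) : ↥S × ↥S) ∈ K) : t = 1 := by
  obtain ⟨P, P', e, -, rfl⟩ := hK
  obtain ⟨a, ha1, ha2⟩ := (mem_graph e _).mp h
  have h1 : (a : Ω) = 1 := ha1.symm
  have h2 : a = 1 := Subtype.ext h1
  apply Subtype.ext
  show (t : Ω) = 1
  have h3 : ((t : ↥S) : Ω) = e a := ha2
  rw [h3, h2, map_one]
  rfl

section degree

variable (F : FusionSystem S) {X : Type*} [MulAction (↥S × ↥S) X]
  (hX : ∀ x : X, TD F (stabilizer (↥S × ↥S) x)) {A : Type*} [CommGroup A] (θ : ↥S →* A) (hθ : IsStableHom F θ)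

include hX hθ in
/-- **Existence of a degree function.** -/
theorem exists_degree : ∃ D : X → A, ∀ (a b : ↥S) (x : X), D (((a, b) : ↥S × ↥S) • x) = θ a * (θ b)⁻¹ * D x := by
  let χ : ↥S × ↥S →* A := (θ.comp (MonoidHom.fst ↥S ↥S)) * (θ.comp (MonoidHom.snd ↥S ↥S))⁻¹
  have hχ : ∀ (x : X) (k : ↥S × ↥S), k • x = x → χ k = 1 := by
    intro x k hk
    have hk' : k ∈ stabilizer (↥S × ↥S) x := hk
    have h1 := theta_snd_eq_of_mem_TD F θ hθ (hX x) hk'
    show θ k.1 * (θ k.2)⁻¹ = 1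
    rw [h1, mul_inv_cancel]
  obtain ⟨D, hD⟩ := exists_equivariant_map χ hχ
  exact ⟨D, fun a b x => hD (a, b) x⟩

include hX in
theorem right_free (t : ↥S) (x : X) (h : (((1 : ↥S), t) : ↥S × ↥S) • x = x) : t = 1 :=
  TD.snd_eq_one_of_mem (hX x) h

end degree

/-- For a fully automized receptive subgroup `Q` and a map `ψ` of the system defined on `Q`, the values of a stable homomorphism
on `C_S(ψ Q)` are values on `C_S(Q)`. -/
theorem exists_centralizer_theta_eq [Finite S] {p : ℕ} [Fact p.Prime] (hS : IsPGroup p S) (F : FusionSystem S)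
    {A : Type*} [CommGroup A] (θ : ↥S →* A) (hθ : IsStableHom F θ) {Q : Subgroup Ω} (hFA : F.IsFullyAutomized p Q)
    (hrec : F.IsReceptive Q) {ψ : Q →* Ω} (hψ : ψ ∈ F.Hom Q) {z : Ω} (hz : z ∈ centralizerIn S ψ.range) :
    ∃ z' : Ω, ∃ hz' : z' ∈ centralizerIn S Q, θ ⟨z', hz'.1⟩ = θ ⟨z, hz.1⟩ := by
  have he : IsIso F (isoOfRange F hψ rfl) := isIso_isoOfRange F hψ rfl
  obtain ⟨φ, hφ, e', -, -, -, hvalC, -⟩ := exists_extension_normalizerIn' hS F hFA hrec _ he.symm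
  have hzN : z ∈ normalizerIn S ψ.range := centralizerIn_le_normalizerIn S _ hz
  refine ⟨φ ⟨z, hzN⟩, hvalC ⟨z, hzN⟩ hz, ?_⟩
  exact hθ _ φ hφ ⟨z, hzN⟩

/-! ### The maps of the system on `Q`, with the action of `S` by conjugation on the target -/

/-- The maps of the system with source `Q`. -/
def FHom (F : FusionSystem S) (Q : Subgroup Ω) : Type _ := {ψ : Q →* Ω // ψ ∈ F.Hom Q}

theorem conj_comp_mem (F : FusionSystem S) {Q : Subgroup Ω} {ψ : Q →* Ω} (hψ : ψ ∈ F.Hom Q) (s : ↥S) :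
    (MulAut.conj (s : Ω)).toMonoidHom.comp ψ ∈ F.Hom Q := by
  have h1 : conjHom S (s : Ω) ∈ F.Hom S := F.conj_mem le_rfl s.2
  have h2 := F.comp_mem hψ h1 (F.le_of_mem hψ).2
  exact mem_of_eq F h2 (fun x => rfl)

instance (F : FusionSystem S) (Q : Subgroup Ω) : MulAction ↥S (FHom F Q) where
  smul s ψ := ⟨(MulAut.conj (s : Ω)).toMonoidHom.comp ψ.1, conj_comp_mem F ψ.2 s⟩
  one_smul ψ := by
    apply Subtype.ext
    ext x
    show (((1 : ↥S) : Ω)) * ψ.1 x * (((1 : ↥S) : Ω))⁻¹ = ψ.1 x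
    simp
  mul_smul s t ψ := by
    apply Subtype.ext
    ext x
    show (((s * t : ↥S) : Ω)) * ψ.1 x * (((s * t : ↥S) : Ω))⁻¹ = (s : Ω) * ((t : Ω) * ψ.1 x * (t : Ω)⁻¹) * (s : Ω)⁻¹
    rw [Subgroup.coe_mul]
    group

theorem FHom.smul_apply (F : FusionSystem S) {Q : Subgroup Ω} (s : ↥S) (ψ : FHom F Q) (q : Q) :
    (s • ψ).1 q = (s : Ω) * ψ.1 q * (s : Ω)⁻¹ := rfl

/-! ### Right orbits fixed by `Q` and the maps they carry -/

section fixed

variable (F : FusionSystem S) {X : Type*} [MulAction (↥S × ↥S) X]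
  (hX : ∀ x : X, TD F (stabilizer (↥S × ↥S) x)) {Q : Subgroup Ω} (hQS : Q ≤ S)

/-- The right orbit of `x` is fixed by the left action of `Q`. -/
def QFixed (x : X) : Prop := ∀ q : Q, ∃ t : ↥S, (((⟨q, hQS q.2⟩ : ↥S), t) : ↥S × ↥S) • x = x

include hX in
theorem exists_psi (x : X) (h : QFixed hQS x) :
    ∃ ψ : FHom F Q, ∀ (q : Q) (t : ↥S), (((⟨q, hQS q.2⟩ : ↥S), t) : ↥S × ↥S) • x = x ↔ (t : Ω) = ψ.1 q := by
  obtain ⟨P, P', e, he, hst⟩ := hX x
  have hQP : Q ≤ P := by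
    intro q hq
    obtain ⟨t, ht⟩ := h ⟨q, hq⟩
    have hmem : (((⟨q, hQS hq⟩ : ↥S), t) : ↥S × ↥S) ∈ stabilizer (↥S × ↥S) x := ht
    rw [hst] at hmem
    obtain ⟨a, ha1, -⟩ := (mem_graph e _).mp hmem
    have : q = a := ha1
    rw [this]; exact a.2
  refine ⟨⟨(P'.subtype.comp e.toMonoidHom).comp (Subgroup.inclusion hQP),
    Cfsg.Agent.Helper87.restrict_mem F he hQP⟩, fun q t => ?_⟩
  constructor
  · intro ht
    have hmem : (((⟨q, hQS q.2⟩ : ↥S), t) : ↥S × ↥S) ∈ stabilizer (↥S × ↥S) x := ht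
    rw [hst] at hmem
    obtain ⟨a, ha1, ha2⟩ := (mem_graph e _).mp hmem
    have ha : a = Subgroup.inclusion hQP q := Subtype.ext ha1.symm
    rw [ha] at ha2
    exact ha2
  · intro ht
    show _ ∈ stabilizer (↥S × ↥S) x
    rw [hst, mem_graph]
    exact ⟨Subgroup.inclusion hQP q, rfl, ht⟩

/-- The map of the system carried by a point whose right orbit is fixed by `Q`. -/
noncomputable def psiOf (x : X) (h : QFixed hQS x) : FHom F Q := Classical.choose (exists_psi F hX hQS x h)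

theorem psiOf_spec (x : X) (h : QFixed hQS x) (q : Q) (t : ↥S) :
    (((⟨q, hQS q.2⟩ : ↥S), t) : ↥S × ↥S) • x = x ↔ (t : Ω) = (psiOf F hX hQS x h).1 q :=
  Classical.choose_spec (exists_psi F hX hQS x h) q t

theorem psiOf_eq (x : X) (h : QFixed hQS x) (ψ' : FHom F Q)
    (h' : ∀ q : Q, ∃ t : ↥S, (((⟨q, hQS q.2⟩ : ↥S), t) : ↥S × ↥S) • x = x ∧ (t : Ω) = ψ'.1 q) :
    psiOf F hX hQS x h = ψ' := by
  apply Subtype.ext
  ext q
  obtain ⟨t, ht1, ht2⟩ := h' q
  rw [← ht2]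
  exact ((psiOf_spec F hX hQS x h q t).mp ht1).symm

theorem pair_mul_right (a t b : ↥S) :
    ((a, b * t * b⁻¹) : ↥S × ↥S) * (((1 : ↥S), b) : ↥S × ↥S) = (((1 : ↥S), b) : ↥S × ↥S) * ((a, t) : ↥S × ↥S) := by
  ext <;> simp

theorem qFixed_smul_right {x : X} (h : QFixed hQS x) (b : ↥S) : QFixed hQS ((((1 : ↥S), b) : ↥S × ↥S) • x) := by
  intro q
  obtain ⟨t, ht⟩ := h q
  refine ⟨b * t * b⁻¹, ?_⟩
  rw [smul_smul, pair_mul_right, mul_smul, ht]

theorem qFixed_smul_right_iff (x : X) (b : ↥S) : QFixed hQS ((((1 : ↥S), b) : ↥S × ↥S) • x) ↔ QFixed hQS x := by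
  constructor
  · intro h
    have h1 := qFixed_smul_right hQS h b⁻¹
    rw [smul_smul] at h1
    have : (((1 : ↥S), b⁻¹) : ↥S × ↥S) * (((1 : ↥S), b) : ↥S × ↥S) = 1 := by ext <;> simp
    rwa [this, one_smul] at h1
  · intro h
    exact qFixed_smul_right hQS h b

theorem psiOf_smul_right (x : X) (h : QFixed hQS x) (b : ↥S) :
    psiOf F hX hQS ((((1 : ↥S), b) : ↥S × ↥S) • x) (qFixed_smul_right hQS h b) = b • psiOf F hX hQS x h := by
  apply psiOf_eq
  intro q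
  obtain ⟨t, ht⟩ := h q
  refine ⟨b * t * b⁻¹, ?_, ?_⟩
  · rw [smul_smul, pair_mul_right, mul_smul, ht]
  · rw [FHom.smul_apply, ← (psiOf_spec F hX hQS x h q t).mp ht]
    rfl

/-- An automorphism of the right `S`-set commuting with the left action of `Q` commutes with `Q × S`. -/
theorem smul_apply_of_comm (c : ↥(AutR S X))
    (hc : ∀ q : Q, c * iotaHom S X ⟨q, hQS q.2⟩ = iotaHom S X ⟨q, hQS q.2⟩ * c) (q : Q) (t : ↥S) (x : X) :
    (((⟨q, hQS q.2⟩ : ↥S), t) : ↥S × ↥S) • ((c : Equiv.Perm X) x) =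
      (c : Equiv.Perm X) ((((⟨q, hQS q.2⟩ : ↥S), t) : ↥S × ↥S) • x) := by
  have e : (((⟨q, hQS q.2⟩ : ↥S), t) : ↥S × ↥S) =
      (((⟨q, hQS q.2⟩ : ↥S), (1 : ↥S)) : ↥S × ↥S) * (((1 : ↥S), t) : ↥S × ↥S) := by ext <;> simp
  rw [e, mul_smul, mul_smul, ← AutR_apply_smul c t x]
  have h1 := congrArg (fun g : ↥(AutR S X) => (g : Equiv.Perm X) ((((1 : ↥S), t) : ↥S × ↥S) • x)) (hc q)
  exact h1.symm

theorem qFixed_apply_iff (c : ↥(AutR S X))
    (hc : ∀ q : Q, c * iotaHom S X ⟨q, hQS q.2⟩ = iotaHom S X ⟨q, hQS q.2⟩ * c) (x : X) :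
    QFixed hQS ((c : Equiv.Perm X) x) ↔ QFixed hQS x := by
  constructor
  · intro h q
    obtain ⟨t, ht⟩ := h q
    rw [smul_apply_of_comm hQS c hc] at ht
    exact ⟨t, (c : Equiv.Perm X).injective ht⟩
  · intro h q
    obtain ⟨t, ht⟩ := h q
    refine ⟨t, ?_⟩
    rw [smul_apply_of_comm hQS c hc, ht]

theorem psiOf_apply (c : ↥(AutR S X))
    (hc : ∀ q : Q, c * iotaHom S X ⟨q, hQS q.2⟩ = iotaHom S X ⟨q, hQS q.2⟩ * c) (x : X) (h : QFixed hQS x)
    (h' : QFixed hQS ((c : Equiv.Perm X) x)) :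
    psiOf F hX hQS ((c : Equiv.Perm X) x) h' = psiOf F hX hQS x h := by
  apply psiOf_eq
  intro q
  obtain ⟨t, ht⟩ := h q
  refine ⟨t, ?_, (psiOf_spec F hX hQS x h q t).mp ht⟩
  rw [smul_apply_of_comm hQS c hc, ht]

end fixed

/-! ### The key claim -/

section key

variable [Finite S] {p : ℕ} [Fact p.Prime] (hS : IsPGroup p S) (F : FusionSystem S) {X : Type*}
  [MulAction (↥S × ↥S) X] [Finite X]
  (hX : ∀ x : X, TD F (stabilizer (↥S × ↥S) x)) {A : Type*} [CommGroup A] (hA : ∀ a : A, a ^ p = 1)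
  (θ : ↥S →* A) (D : X → A) (hD : ∀ (a b : ↥S) (x : X), D (((a, b) : ↥S × ↥S) • x) = θ a * (θ b)⁻¹ * D x)
  {Q : Subgroup Ω} (hQS : Q ≤ S)

include hS hX hA in
/-- **Key claim.**  If the values of `θ` on the centralizers `C_S(ψ Q)` of the images of `Q` under the system are values on
`C_S(Q)`, then `Theta` maps the centralizer of (the left action of) `Q` into `θ (C_S(Q))`. -/
theorem Theta_mem_of_comm
    (hQ : ∀ ψ : Q →* Ω, ψ ∈ F.Hom Q → ∀ (z : Ω) (hz : z ∈ centralizerIn S ψ.range),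
      ∃ z' : Ω, ∃ hz' : z' ∈ centralizerIn S Q, θ ⟨z', hz'.1⟩ = θ ⟨z, hz.1⟩)
    (c : ↥(AutR S X)) (hc : ∀ q : Q, c * iotaHom S X ⟨q, hQS q.2⟩ = iotaHom S X ⟨q, hQS q.2⟩ * c) :
    Theta θ D hD c ∈ ((centralizerIn S Q).subgroupOf S).map θ := by
  classical
  set B : Subgroup A := ((centralizerIn S Q).subgroupOf S).map θ with hB
  let π : A →* A ⧸ B := QuotientGroup.mk' B
  have hA' : ∀ a : A ⧸ B, a ^ p = 1 := by
    intro a
    obtain ⟨a, rfl⟩ := QuotientGroup.mk'_surjective B a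
    rw [← map_pow, hA, map_one]
  let χ' : ↥S →* A ⧸ B := (π.comp θ)⁻¹
  have hχ' : ∀ s, χ' s = (π (θ s))⁻¹ := fun s => rfl
  have hstab : ∀ (ψ : FHom F Q) (s : ↥S), s • ψ = ψ → χ' s = 1 := by
    intro ψ s hs
    have hsC : (s : Ω) ∈ centralizerIn S ψ.1.range := by
      refine ⟨s.2, ?_⟩
      show (s : Ω) ∈ Subgroup.centralizer _
      rw [Subgroup.mem_centralizer_iff]
      rintro _ ⟨q, rfl⟩
      have h1 := congrArg (fun ψ' : FHom F Q => ψ'.1 q) hs
      have h2 : (s : Ω) * ψ.1 q * (s : Ω)⁻¹ = ψ.1 q := h1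
      calc ψ.1 q * (s : Ω) = ((s : Ω) * ψ.1 q * (s : Ω)⁻¹) * s := by rw [h2]
        _ = s * ψ.1 q := by group
    obtain ⟨z', hz', hz'θ⟩ := hQ ψ.1 ψ.2 _ hsC
    have hmem : θ s ∈ B := by
      refine ⟨⟨z', hz'.1⟩, ?_, ?_⟩
      · rw [SetLike.mem_coe, Subgroup.mem_subgroupOf]
        exact hz'
      · rw [hz'θ]
    rw [hχ', inv_eq_one]
    exact (QuotientGroup.eq_one_iff _).mpr hmem
  obtain ⟨Λ, hΛ⟩ := exists_equivariant_map χ' hstab
  let ρ : X → A ⧸ B := fun x => if h : QFixed hQS x then π (D x) * (Λ (psiOf F hX hQS x h))⁻¹ else 1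
  have hρpos : ∀ (x : X) (h : QFixed hQS x), ρ x = π (D x) * (Λ (psiOf F hX hQS x h))⁻¹ := fun x h => dif_pos h
  have hρneg : ∀ (x : X), ¬ QFixed hQS x → ρ x = 1 := fun x h => dif_neg h
  have hρright : ∀ (b : ↥S) (x : X), ρ ((((1 : ↥S), b) : ↥S × ↥S) • x) = ρ x := by
    intro b x
    by_cases h : QFixed hQS x
    · have h' := qFixed_smul_right hQS h b
      rw [hρpos _ h', hρpos _ h, psiOf_smul_right F hX hQS x h b, hΛ, degree_right θ D hD, map_mul, map_inv, hχ',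
        mul_inv_rev, inv_inv]
      calc (π (θ b))⁻¹ * π (D x) * ((Λ (psiOf F hX hQS x h))⁻¹ * π (θ b))
          = π (D x) * (Λ (psiOf F hX hQS x h))⁻¹ * ((π (θ b))⁻¹ * π (θ b)) := by
            rw [mul_comm (π (θ b))⁻¹ (π (D x)), mul_assoc, mul_assoc, mul_left_comm (π (θ b))⁻¹]
        _ = π (D x) * (Λ (psiOf F hX hQS x h))⁻¹ := by rw [inv_mul_cancel, mul_one]
    · have h' : ¬ QFixed hQS ((((1 : ↥S), b) : ↥S × ↥S) • x) := fun h'' => h ((qFixed_smul_right_iff hQS x b).mp h'')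
      rw [hρneg _ h', hρneg _ h]
  let ρq : RQ S X → A ⧸ B := Quotient.lift ρ (by
    rintro x y ⟨t, rfl⟩
    exact (hρright t x).symm)
  have hρq : ∀ x, ρq (rmk x) = ρ x := fun x => rfl
  haveI : Finite Q := finite_of_le hQS
  letI : MulAction ↥Q (RQ S X) := MulAction.compHom (RQ S X) ((iotaHom S X).comp (Subgroup.inclusion hQS))
  have hsmul : ∀ (q : Q) (y : RQ S X), q • y = (iotaHom S X ⟨q, hQS q.2⟩) • y := fun q y => rfl
  have hQp : IsPGroup p ↥Q := hS.to_le hQS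
  have hpair : ∀ (q : Q) (t : ↥S), (((1 : ↥S), t) : ↥S × ↥S) * (((⟨q, hQS q.2⟩ : ↥S), (1 : ↥S)) : ↥S × ↥S) =
      (((⟨q, hQS q.2⟩ : ↥S), t) : ↥S × ↥S) := by
    intro q t
    ext <;> simp
  have hfixed_iff : ∀ x : X, (rmk x : RQ S X) ∈ fixedPoints ↥Q (RQ S X) ↔ QFixed hQS x := by
    intro x
    constructor
    · intro h q
      have h1 := h q
      rw [hsmul, smul_rmk, rmk_eq_iff] at h1
      obtain ⟨t, ht⟩ := h1
      refine ⟨t, ?_⟩
      rw [iotaHom_apply, smul_smul, hpair] at ht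
      exact ht
    · intro h q
      obtain ⟨t, ht⟩ := h q
      rw [hsmul, smul_rmk, rmk_eq_iff]
      refine ⟨t, ?_⟩
      rw [iotaHom_apply, smul_smul, hpair]
      exact ht
  have hprod := prod_eq_prod_of_invariant hQp hA' (fun y => π (dl θ D hD c y)) (fun y => ρq (c • y) / ρq y) ?_ ?_ ?_
  · have h1 : π (Theta θ D hD c) = ∏ y : RQ S X, π (dl θ D hD c y) := by rw [Theta_apply, map_prod]
    have h2 : ∏ y : RQ S X, ρq (c • y) / ρq y = 1 := by
      rw [Finset.prod_div_distrib]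
      have h3 : ∏ y : RQ S X, ρq (c • y) = ∏ y : RQ S X, ρq y := Equiv.prod_comp (MulAction.toPerm c) ρq
      rw [h3, div_self']
    rw [hprod, h2] at h1
    exact (QuotientGroup.eq_one_iff _).mp h1
  · intro q y
    induction y using RQ.ind with
    | h x =>
      show π (dl θ D hD c (q • rmk x)) = π (dl θ D hD c (rmk x))
      rw [hsmul, smul_rmk, dl_rmk, dl_rmk, iotaHom_apply]
      have h1 := smul_apply_of_comm hQS c hc q 1 x
      rw [← h1, degree_left θ D hD, degree_left θ D hD, mul_div_mul_left_eq_div]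
  · intro y hy
    induction y using RQ.ind with
    | h x =>
      have hx : QFixed hQS x := (hfixed_iff x).mp hy
      have hcx : QFixed hQS ((c : Equiv.Perm X) x) := (qFixed_apply_iff hQS c hc x).mpr hx
      show ρq (c • rmk x) / ρq (rmk x) = π (dl θ D hD c (rmk x))
      rw [smul_rmk, hρq, hρq, dl_rmk, hρpos _ hcx, hρpos _ hx, psiOf_apply F hX hQS c hc x hx hcx, map_div]
      exact mul_div_mul_right_eq_div _ _ _
  · intro y hy
    induction y using RQ.ind with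
    | h x =>
      have hx : ¬ QFixed hQS x := fun h => hy ((hfixed_iff x).mpr h)
      have hcx : ¬ QFixed hQS ((c : Equiv.Perm X) x) := fun h => hx ((qFixed_apply_iff hQS c hc x).mp h)
      show ρq (c • rmk x) / ρq (rmk x) = 1
      rw [smul_rmk, hρq, hρq, hρneg _ hcx, hρneg _ hx, div_one]

end key

end Cfsg.Agent.Helper86.PP
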