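import Cfsg.Agent.Helper88.CtrlBase
import Cfsg.Agent.Helper88.TateOne
import Cfsg.Agent.Helper87.FusionInduct
import Cfsg.Agent.Helper85.PPowerIndex
set_option autoImplicit false
set_option linter.style.haveILetI false

/-! # A homomorphism to an abelian group killing the hyperfocal subgroup is stable (helper86)

For a saturated fusion system `F` over `S`, `foc(F) = S' hyp(F)`; here in the form: every map of `F` is "good" for a subgroup
`K` containing `hyp(F)` and all commutators `x⁻¹ x^g` of `S`.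
-/

namespace Cfsg.Agent.Helper86.PP

open Cfsg Cfsg.FusionSystem Cfsg.Agent.Helper87 Cfsg.Agent.Helper88.Ctrl Cfsg.Agent.Helper88.Biset

variable {Ω : Type*} [Group Ω] {S : Subgroup Ω}

/-- **`foc(F) ≤ S' hyp(F)`**: if `K` contains the hyperfocal subgroup and the commutators of `S`, every map of the saturated
system `F` moves each element within its coset of `K`. -/
theorem good_of_hyperfocal_le [Finite S] {p : ℕ} [Fact p.Prime] (hS : IsPGroup p S) (F : FusionSystem S)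
    (hF : F.IsSaturated p) (K : Subgroup Ω) (hK : ∀ g ∈ S, ∀ x ∈ S, x⁻¹ * (g * x * g⁻¹) ∈ K)
    (hhyp : F.hyperfocalSubgroup p ≤ K) :
    ∀ (P : Subgroup Ω) (φ : P →* Ω), φ ∈ F.Hom P → Good K φ := by
  have hle : ∀ P : Subgroup Ω, F.Hom P ⊆ (goodSys F K hK 0).Hom P := by
    apply hom_subset_of_autGroup_le hS F (goodSys F K hK 0) hF
    intro R hRa _ _
    obtain ⟨hRS, P, hP⟩ := hRa
    have : Finite (MulAut R) := finite_mulAut_of_le hRS
    intro α hα
    unfold autGroup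
    apply Subgroup.subset_closure
    have hαF : R.subtype.comp α.toMonoidHom ∈ F.Hom R := (mem_autGroup_iff F hRS α).mp hα
    refine ⟨hαF, fun _ x => ?_⟩
    have hq : IsPGroup p (F.autGroup R ⧸ pResidual p (F.autGroup R)) :=
      Cfsg.Agent.Lib.isPGroup_quotient_pResidual (G := F.autGroup R) p
    obtain ⟨t, ht, n, hn, hatn⟩ :=
      Cfsg.Agent.Helper85.exists_mul_of_sylow_of_isPGroup_quotient (pResidual p (F.autGroup R)) hq P ⟨α, hα⟩
    have hat : α = (t : MulAut R) * (n : MulAut R) := congrArg Subtype.val hatn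
    rw [hP, Subgroup.mem_subgroupOf] at ht
    obtain ⟨g, hg, hgx⟩ := (mem_autInducedBy_iff S R (t : MulAut R)).mp ht
    show (x : Ω)⁻¹ * ((α x : R) : Ω) ∈ K
    have h1 : ((α x : R) : Ω) = g * (((n : MulAut R) x : R) : Ω) * g⁻¹ := by
      rw [hat]
      exact hgx ((n : MulAut R) x)
    have h2 : (x : Ω)⁻¹ * (((n : MulAut R) x : R) : Ω) ∈ K := by
      apply hhyp
      unfold hyperfocalSubgroup
      apply Subgroup.subset_closure
      exact ⟨R, n, x, hRS, hn, rfl⟩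
    have h3 := hK g hg _ (hRS ((n : MulAut R) x).2)
    have e : (x : Ω)⁻¹ * ((α x : R) : Ω) = ((x : Ω)⁻¹ * (((n : MulAut R) x : R) : Ω)) *
        ((((n : MulAut R) x : R) : Ω)⁻¹ * (g * (((n : MulAut R) x : R) : Ω) * g⁻¹)) := by
      rw [h1]; group
    rw [e]
    exact K.mul_mem h2 h3
  intro P φ hφ
  have hPS : P ≤ S := (F.le_of_mem hφ).1
  have : Finite P := finite_of_le hPS
  exact (hle P hφ).2 Nat.card_pos

/-- A homomorphism to an abelian group whose kernel contains the hyperfocal subgroup is stable. -/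
theorem isStableHom_of_hyperfocal_le [Finite S] {p : ℕ} [Fact p.Prime] (hS : IsPGroup p S) (F : FusionSystem S)
    (hF : F.IsSaturated p) {A : Type*} [CommGroup A] (θ : ↥S →* A)
    (hhyp : F.hyperfocalSubgroup p ≤ (θ.ker).map S.subtype) : IsStableHom F θ := by
  have hmem : ∀ (y : Ω) (hy : y ∈ S), θ ⟨y, hy⟩ = 1 → y ∈ (θ.ker).map S.subtype := fun y hy h =>
    ⟨⟨y, hy⟩, h, rfl⟩
  have hK : ∀ g ∈ S, ∀ x ∈ S, x⁻¹ * (g * x * g⁻¹) ∈ (θ.ker).map S.subtype := by
    intro g hg x hx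
    apply hmem _ (S.mul_mem (S.inv_mem hx) (S.mul_mem (S.mul_mem hg hx) (S.inv_mem hg)))
    have e : (⟨x⁻¹ * (g * x * g⁻¹), S.mul_mem (S.inv_mem hx) (S.mul_mem (S.mul_mem hg hx) (S.inv_mem hg))⟩ : ↥S) =
        (⟨x, hx⟩ : ↥S)⁻¹ * (⟨g, hg⟩ * ⟨x, hx⟩ * (⟨g, hg⟩ : ↥S)⁻¹) := rfl
    rw [e, map_mul, map_mul, map_mul, map_inv, map_inv]
    rw [mul_comm (θ ⟨g, hg⟩), mul_assoc, mul_inv_cancel, mul_one, inv_mul_cancel]
  have hgood := good_of_hyperfocal_le hS F hF _ hK hhyp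
  intro P φ hφ x
  obtain ⟨w, hw, hwx⟩ := hgood P φ hφ x
  have hw' : θ w = 1 := hw
  have e : w = (⟨x, (F.le_of_mem hφ).1 x.2⟩ : ↥S)⁻¹ * ⟨φ x, (F.le_of_mem hφ).2 x⟩ := Subtype.ext hwx
  rw [e, map_mul, map_inv, inv_mul_eq_one] at hw'
  exact hw'.symm

end Cfsg.Agent.Helper86.PP
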