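import Cfsg.Agent.Helper86.PPSat
import Cfsg.Agent.Helper86.PPKey
import Cfsg.Agent.Helper86.PPStable
set_option autoImplicit false
set_option linter.style.haveILetI false

/-! # Subsystems of `p`-power index: one elementary abelian step (helper86)

For a saturated fusion system `F` over `S` and a surjective homomorphism `θ` of `S` onto an abelian group of exponent `p` whose
kernel contains the hyperfocal subgroup, there is a saturated subsystem of `p`-power index over the kernel of `θ`.
-/

namespace Cfsg.Agent.Helper86.PP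

open Cfsg Cfsg.FusionSystem Cfsg.Agent.Helper87 Cfsg.Agent.Helper88.Marks Cfsg.Agent.Helper88.Biset
  Cfsg.Agent.Helper88.PN Cfsg.Agent.Helper86.Park MulAction

variable {Ω : Type*} [Group Ω] {S : Subgroup Ω}

theorem idx_nsmul (n : ℕ) (m : Subgroup (↥S × ↥S) →₀ ℕ) : idx (n • m) = n * idx m := by
  induction n with
  | zero => rw [zero_nsmul, idx_zero, zero_mul]
  | succ n ih => rw [succ_nsmul, idx_add, ih]; ring

theorem fixCard_bot {G : Type*} [Group G] (X : Type*) [MulAction G X] : fixCard X (⊥ : Subgroup G) = Nat.card X := by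
  unfold fixCard
  have h : fixedPoints (↥(⊥ : Subgroup G)) X = Set.univ := by
    ext x
    simp only [Set.mem_univ, iff_true]
    rintro ⟨k, hk⟩
    rw [Subgroup.mem_bot] at hk
    subst hk
    exact one_smul _ x
  rw [h]
  exact Nat.card_congr (Equiv.Set.univ X)

/-- The number of points of the biset with given multiplicities. -/
theorem card_BX_eq [Finite S] (F : FusionSystem S) (M : Subgroup (↥S × ↥S) →₀ ℕ) (hsupp : ∀ D ∈ M.support, TD F D) :
    Nat.card (BX M) = Nat.card S * idx M := by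
  rw [← fixCard_bot (G := ↥S × ↥S) (BX M), fixCard_BX]
  unfold mark idx Finsupp.sum
  rw [Finset.mul_sum]
  apply Finset.sum_congr rfl
  intro D hD
  show M D * fixCard ((↥S × ↥S) ⧸ D) ⊥ = Nat.card ↥S * (M D * (Nat.card ↥S / Nat.card ↥D))
  rw [fixCard_bot]
  have hTD := hsupp D hD
  have hdvd : Nat.card D ∣ Nat.card S := by
    rw [hTD.card_eq_card_src]
    exact Subgroup.card_dvd_of_le (src_le D)
  obtain ⟨q, hq⟩ := hdvd
  have hpos : 0 < Nat.card D := Nat.card_pos
  have hdiv : Nat.card S / Nat.card D = q := by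
    rw [hq, Nat.mul_div_cancel_left _ hpos]
  rw [hdiv]
  have h1 : Nat.card (↥S × ↥S) = Nat.card ((↥S × ↥S) ⧸ D) * Nat.card D :=
    Subgroup.card_eq_card_quotient_mul_card_subgroup D
  rw [Nat.card_prod] at h1
  have h2 : Nat.card ((↥S × ↥S) ⧸ D) = Nat.card S * q := by
    apply Nat.eq_of_mul_eq_mul_right hpos
    rw [← h1]
    nth_rewrite 2 [hq]
    ring
  rw [h2]
  ring

/-- **One elementary abelian step.** -/
theorem exists_pPowerIndex_of_hom [Finite S] {p : ℕ} [Fact p.Prime] (hS : IsPGroup p S) (F : FusionSystem S)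
    (hF : F.IsSaturated p) {A : Type*} [CommGroup A] (hA : ∀ a : A, a ^ p = 1) (θ : ↥S →* A)
    (hθs : Function.Surjective θ) (hhyp : F.hyperfocalSubgroup p ≤ (θ.ker).map S.subtype) :
    ∃ (T : Subgroup Ω) (E : FusionSystem T), T = (θ.ker).map S.subtype ∧ E.IsSaturated p ∧
      E.HasPPowerIndexIn F p := by
  classical
  have hpp : p.Prime := Fact.out
  have hθ : IsStableHom F θ := isStableHom_of_hyperfocal_le hS F hF θ hhyp
  obtain ⟨m, hm1, hm2, hm3⟩ := exists_char_biset hS F hF
  obtain ⟨m', hm'1, hm'2, hm'3⟩ := exists_stable_biset F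
  -- the multiset `M = m + p m'`
  have hsupp : ∀ D ∈ (m + p • m').support, TD F D := by
    intro D hD
    rcases Finset.mem_union.mp (Finsupp.support_add hD) with h | h
    · exact hm1 D h
    · exact hm'1 D (Finsupp.support_smul h)
  have hstab : StableFrom F (m + p • m') 0 := by
    intro K K' hK hK' hc h0
    rw [mark_add, mark_add, mark_nsmul, mark_nsmul, hm2 K K' hK hK' hc h0, hm'2 K K' hK hK' hc h0]
  have hdiag : mark (m + p • m') (diag S : Subgroup (↥S × ↥S)) ≠ 0 := by
    rw [mark_add, mark_nsmul]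
    have : 0 < p * mark m' (diag S : Subgroup (↥S × ↥S)) := Nat.mul_pos hpp.pos (Nat.pos_of_ne_zero hm'3)
    omega
  have hidx : ¬ p ∣ idx (m + p • m') := by
    rw [idx_add, idx_nsmul]
    intro h
    exact hm3 ((Nat.dvd_add_left (Dvd.intro _ rfl)).mp h)
  -- the biset and Park's group
  have hX1 : ∀ K : Subgroup (↥S × ↥S), fixCard (BX (m + p • m')) K ≠ 0 → TD F K := by
    intro K hK
    rw [fixCard_BX] at hK
    exact TD.of_mark_ne_zero _ hsupp K hK
  have hXst : ∀ x : BX (m + p • m'), TD F (stabilizer (↥S × ↥S) x) := by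
    intro x
    apply hX1
    exact fixCard_ne_zero_of_fixed x (fun k hk => hk)
  have hι : F.IsRealizedBy (iotaHom S (BX (m + p • m'))) := by
    apply isRealizedBy_iotaHom F (BX (m + p • m')) hX1
    · intro K K' hK hK' hc
      rw [fixCard_BX, fixCard_BX]
      exact hstab K K' hK hK' hc (Nat.zero_le _)
    · rw [fixCard_BX]
      exact hdiag
  obtain ⟨D, hD⟩ := exists_degree F hXst θ hθ
  -- the number of right orbits is prime to `p`
  have hcard := card_eq_card_mul_card_RQ (S := S) (X := BX (m + p • m')) (right_free F hXst)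
  rw [card_BX_eq F _ hsupp] at hcard
  have hn : idx (m + p • m') = Fintype.card (RQ S (BX (m + p • m'))) :=
    Nat.eq_of_mul_eq_mul_left Nat.card_pos hcard
  rw [hn] at hidx
  have hcop : Nat.Coprime (Fintype.card (RQ S (BX (m + p • m')))) p :=
    ((Nat.Prime.coprime_iff_not_dvd hpp).mpr hidx).symm
  obtain ⟨k, -, hk⟩ := Nat.exists_mul_mod_eq_one_of_coprime hcop hpp.one_lt
  -- the homomorphism extending `θ`
  have hpow : ∀ (a : A) (j : ℕ), j % p = 1 → a ^ j = a := by
    intro a j hj
    rw [← Nat.div_add_mod j p, hj, pow_add, pow_mul, hA, one_pow, one_mul, pow_one]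
  have hΘι : ∀ s : ↥S, ((powMonoidHom k).comp (Theta θ D hD)) (iotaHom S (BX (m + p • m')) s) = θ s := by
    intro s
    show (Theta θ D hD (iotaHom S (BX (m + p • m')) s)) ^ k = θ s
    rw [Theta_iotaHom, ← pow_mul]
    exact hpow _ _ hk
  have hjjι : ∀ (x : Ω) (hx : x ∈ S), ((powMonoidHom k).comp (Theta θ D hD)) (jj (iotaHom S (BX (m + p • m'))) x) =
      θ ⟨x, hx⟩ := by
    intro x hx
    rw [jj_eq _ hx]
    exact hΘι _
  have hTeq : preimageAlong (iotaHom S (BX (m + p • m'))) ((powMonoidHom k).comp (Theta θ D hD)).ker =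
      (θ.ker).map S.subtype := by
    ext x
    rw [Cfsg.Agent.Helper85.mem_preimageAlong]
    constructor
    · rintro ⟨h, hx⟩
      refine ⟨⟨x, h⟩, ?_, rfl⟩
      rw [MonoidHom.mem_ker, hΘι] at hx
      exact hx
    · rintro ⟨w, hw, rfl⟩
      refine ⟨w.2, ?_⟩
      rw [MonoidHom.mem_ker, hΘι]
      exact hw
  refine ⟨_, pullSystem (iotaHom S (BX (m + p • m'))) hι.1 ((powMonoidHom k).comp (Theta θ D hD)).ker, hTeq, ?_, ?_⟩
  · apply pull_isSaturated_of_centralizers F _ hι _ hS hF
    · -- `G = ι(S) N`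
      intro g
      obtain ⟨s, hs⟩ := hθs (((powMonoidHom k).comp (Theta θ D hD)) g)
      refine ⟨s, s.2, (jj (iotaHom S (BX (m + p • m'))) s)⁻¹ * g, ?_, by group⟩
      rw [MonoidHom.mem_ker, map_mul, map_inv, hjjι _ s.2, hs, inv_mul_cancel]
    · -- centralizers
      intro Q hQa hQr c hc
      have hQS : Q ≤ S := hQa.1
      have hc' : ∀ q : Q, c * iotaHom S (BX (m + p • m')) ⟨q, hQS q.2⟩ =
          iotaHom S (BX (m + p • m')) ⟨q, hQS q.2⟩ * c := by
        intro q
        have := hc q q.2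
        rwa [jj_eq _ (hQS q.2)] at this
      have hmem := Theta_mem_of_comm hS F hXst hA θ D hD hQS
        (fun ψ hψ z hz => exists_centralizer_theta_eq hS F θ hθ hQa hQr hψ hz) c hc'
      obtain ⟨w, hw, hwc⟩ := hmem
      have hw' : (w : Ω) ∈ centralizerIn S Q := Subgroup.mem_subgroupOf.mp hw
      refine ⟨((w ^ k : ↥S) : Ω), ?_, ?_⟩
      · rw [Subgroup.coe_pow]
        exact Subgroup.pow_mem _ hw' k
      · rw [MonoidHom.mem_ker, map_mul, map_inv, hjjι _ (w ^ k).2]
        show (θ (w ^ k))⁻¹ * (Theta θ D hD c) ^ k = 1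
        rw [map_pow, hwc, inv_mul_cancel]
  · apply pull_hasPPowerIndexIn F _ hι
    · rw [hTeq]
      exact hhyp
    · intro g
      rw [MonoidHom.mem_ker, map_pow]
      exact hA _

end Cfsg.Agent.Helper86.PP
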