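import Cfsg.Agent.Helper88.PullNormal
import Cfsg.Agent.Helper85.PPowerIndex
import Cfsg.Agent.Helper88.Marks
set_option autoImplicit false
set_option linter.style.haveILetI false

/-! # Saturation of the subsystem cut out by a normal subgroup of a realizing group (helper86)

`F` is a saturated fusion system over `S`, realized by `ι : S → G` (the image of `S` need NOT be a Sylow subgroup of `G`), and
`N` is a normal subgroup of `G` with `G = ι(S) N`.  If the centralizers in `G` of the fully automized receptive subgroups `Q`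
satisfy `C_G(ιQ) ≤ ι(C_S(Q)) N`, then the subsystem of the maps realized by `N` (over `ι⁻¹(N)`) is saturated.  If moreover
`G / N` has exponent `p`, it has `p`-power index.
-/

namespace Cfsg.Agent.Helper86.PP

open Cfsg Cfsg.FusionSystem Cfsg.Agent.Helper87 Cfsg.Agent.Helper88.PN Cfsg.Agent.Helper88.Marks

variable {Ω : Type*} [Group Ω] {S : Subgroup Ω} {G : Type*} [Group G]

theorem isConj_cj (F : FusionSystem S) {Q : Subgroup Ω} (hQ : Q ≤ S) {s : Ω} (hs : s ∈ S) : F.IsConj Q (cj s Q) := by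
  refine ⟨conjHom Q s, F.conj_mem hQ hs, ?_⟩
  unfold conjHom cj
  rw [MonoidHom.range_comp, Subgroup.range_subtype]

theorem card_normalizerIn_le_cj [Finite S] {Q : Subgroup Ω} {s : Ω} (hs : s ∈ S) :
    Nat.card (normalizerIn S Q) ≤ Nat.card (normalizerIn S (cj s Q)) := by
  have hfin : Finite (normalizerIn S (cj s Q)) := Cfsg.Agent.Helper87.finite_of_le inf_le_left
  have hmem : ∀ x : normalizerIn S Q, s * (x : Ω) * s⁻¹ ∈ normalizerIn S (cj s Q) := by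
    rintro ⟨x, hxS, hxN⟩
    refine ⟨S.mul_mem (S.mul_mem hs hxS) (S.inv_mem hs), ?_⟩
    show s * x * s⁻¹ ∈ Subgroup.normalizer ((cj s Q : Subgroup Ω) : Set Ω)
    rw [normalizer_cj, mem_cj]
    have e : s⁻¹ * (s * x * s⁻¹) * s = x := by group
    rw [e]
    exact hxN
  refine Nat.card_le_card_of_injective (fun x => (⟨s * (x : Ω) * s⁻¹, hmem x⟩ : normalizerIn S (cj s Q))) ?_
  intro a b hab
  have h1 : s * (a : Ω) * s⁻¹ = s * (b : Ω) * s⁻¹ := congrArg Subtype.val hab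
  exact Subtype.ext (mul_left_cancel (mul_right_cancel h1))

theorem isFullyNormalized_cj [Finite S] (F : FusionSystem S) {Q : Subgroup Ω} (hQ : F.IsFullyNormalized Q) {s : Ω}
    (hs : s ∈ S) : F.IsFullyNormalized (cj s Q) := by
  have hc := isConj_cj F hQ.1 hs
  obtain ⟨φ, hφ, hr⟩ := hc
  refine ⟨?_, fun R hR => ?_⟩
  · rw [← hr]
    rintro _ ⟨x, rfl⟩
    exact (F.le_of_mem hφ).2 x
  · exact (hQ.2 R (isConj_trans F ⟨φ, hφ, hr⟩ hR)).trans (card_normalizerIn_le_cj hs)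

section sat

variable (F : FusionSystem S) (ι : S →* G) (hι : F.IsRealizedBy ι) (N : Subgroup G) [hN : N.Normal]

include hι in
/-- Every subgroup of `ι⁻¹(N)` is conjugate, by a map realized in `N`, to a fully `F`-normalized subgroup. -/
theorem exists_pull_isConj_fullyNormalized [Finite S]
    (H1 : ∀ g : G, ∃ s ∈ S, ∃ n ∈ N, g = jj ι s * n) {P : Subgroup Ω} (hP : P ≤ preimageAlong ι N) :
    ∃ Q : Subgroup Ω, (pullSystem ι hι.1 N).IsConj P Q ∧ F.IsFullyNormalized Q := by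
  have hTS := Cfsg.Agent.Helper85.preimageAlong_le ι N
  have hPS := hP.trans hTS
  obtain ⟨Q₀, ⟨φ, hφ, hr⟩, hQ₀⟩ := exists_isConj_fullyNormalized F hPS
  have hφS := (F.le_of_mem hφ).2
  obtain ⟨g, hg⟩ := (mem_hom_iff_jj hι hPS φ hφS).mp hφ
  obtain ⟨s, hs, n, hn, rfl⟩ := H1 g
  have hs' : s⁻¹ ∈ S := S.inv_mem hs
  refine ⟨cj s⁻¹ Q₀, ⟨(MulAut.conj s⁻¹).toMonoidHom.comp φ, ?_, ?_⟩, isFullyNormalized_cj F hQ₀ hs'⟩
  · have hval : ∀ x : P, jj ι (((MulAut.conj s⁻¹).toMonoidHom.comp φ) x) = n * jj ι x * n⁻¹ := by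
      intro x
      show jj ι (s⁻¹ * φ x * s⁻¹⁻¹) = _
      rw [jj_conj ι hs' (hφS x), hg, jj_inv ι hs]
      group
    have hvalS : ∀ x : P, ((MulAut.conj s⁻¹).toMonoidHom.comp φ) x ∈ S := fun x =>
      S.mul_mem (S.mul_mem hs' (hφS x)) (S.inv_mem hs')
    refine ⟨hP, fun x => ?_, n, hn, hval⟩
    rw [mem_preimageAlong_iff_jj ι N (hvalS x), hval]
    exact hN.conj_mem _ ((mem_preimageAlong_iff_jj ι N (hPS x.2)).mp (hP x.2)) n
  · unfold cj
    rw [MonoidHom.range_comp, hr]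

include hι in
/-- `Aut_E(Q)` is normalized by `Aut_F(Q)`. -/
theorem pull_autGroup_conj_mem {Q : Subgroup Ω} (hQ : Q ≤ preimageAlong ι N) (α : MulAut Q) (hα : α ∈ F.autGroup Q)
    (β : MulAut Q) (hβ : β ∈ (pullSystem ι hι.1 N).autGroup Q) :
    α * β * α⁻¹ ∈ (pullSystem ι hι.1 N).autGroup Q := by
  have hTS := Cfsg.Agent.Helper85.preimageAlong_le ι N
  have hQS := hQ.trans hTS
  obtain ⟨g, hg⟩ := exists_conj_of_mem_autGroup_jj F ι hι hQS hα
  obtain ⟨-, -, n, hn, hnx⟩ := (mem_autGroup_iff (pullSystem ι hι.1 N) hQ β).mp hβ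
  have hnx' : ∀ x : Q, jj ι ((β x : Q) : Ω) = n * jj ι x * n⁻¹ := hnx
  rw [mem_autGroup_iff _ hQ]
  refine ⟨hQ, fun x => hQ ((α * β * α⁻¹) x).2, g * n * g⁻¹, hN.conj_mem n hn g, fun x => ?_⟩
  show jj ι (((α (β (α⁻¹ x)) : Q)) : Ω) = _
  have h2 : jj ι ((α⁻¹ x : Q) : Ω) = g⁻¹ * jj ι x * g := by
    have h3 := hg (α⁻¹ x)
    have h4 : α (α⁻¹ x) = x := by simp
    rw [h4] at h3
    rw [h3]; group
  rw [hg, hnx', h2]
  group

include hι in
/-- A fully `F`-automized subgroup with `C_G(ιQ) ≤ ι(C_S(Q)) N` is fully automized in the subsystem cut out by `N`. -/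
theorem pull_isFullyAutomized [Finite S] {p : ℕ} [Fact p.Prime] (hS : IsPGroup p S) {Q : Subgroup Ω}
    (hQ : Q ≤ preimageAlong ι N) (hFA : F.IsFullyAutomized p Q)
    (H2 : ∀ c : G, (∀ x ∈ Q, c * jj ι x = jj ι x * c) → ∃ z ∈ centralizerIn S Q, (jj ι z)⁻¹ * c ∈ N) :
    (pullSystem ι hι.1 N).IsFullyAutomized p Q := by
  have hTS : preimageAlong ι N ≤ S := Cfsg.Agent.Helper85.preimageAlong_le ι N
  have hQS := hQ.trans hTS
  obtain ⟨-, R, hR⟩ := hFA
  refine ⟨hQ, ?_⟩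
  have : Finite (MulAut Q) := finite_mulAut_of_le hQS
  have hsub : (pullSystem ι hι.1 N).IsSubsystemOf F := pull_isSubsystemOf F ι hι N
  have hHK : (pullSystem ι hι.1 N).autGroup Q ≤ F.autGroup Q :=
    Cfsg.Agent.Helper85.autGroup_le_of_isSubsystemOf F _ hsub hQ
  have hsigT : autInducedBy (preimageAlong ι N) Q ≤ (pullSystem ι hι.1 N).autGroup Q :=
    Cfsg.Agent.Helper85.autInducedBy_le_autGroup _ hQ
  have hTp : IsPGroup p (preimageAlong ι N) := hS.to_le hTS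
  have hp : IsPGroup p ((autInducedBy (preimageAlong ι N) Q).subgroupOf ((pullSystem ι hι.1 N).autGroup Q)) :=
    (isPGroup_autInducedBy hTp Q).of_equiv (Subgroup.subgroupOfEquivOfLe hsigT).symm
  have hmono : autInducedBy (preimageAlong ι N) Q ≤ autInducedBy S Q := by
    unfold autInducedBy
    apply Subgroup.closure_mono
    rintro α ⟨g, hg, hgx⟩
    exact ⟨g, hTS hg, hgx⟩
  have hkey : autInducedBy S Q ⊓ (pullSystem ι hι.1 N).autGroup Q ≤ autInducedBy (preimageAlong ι N) Q := by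
    rintro α ⟨hα1, hα2⟩
    obtain ⟨s, hs, hsx⟩ := (mem_autInducedBy_iff S Q α).mp hα1
    obtain ⟨-, -, n, hn, hnx⟩ := (mem_autGroup_iff (pullSystem ι hι.1 N) hQ α).mp hα2
    have hnx' : ∀ x : Q, jj ι ((α x : Q) : Ω) = n * jj ι x * n⁻¹ := hnx
    have hcomm : ∀ x ∈ Q, ((jj ι s)⁻¹ * n) * jj ι x = jj ι x * ((jj ι s)⁻¹ * n) := by
      intro x hx
      have h1 := hnx' ⟨x, hx⟩
      rw [hsx ⟨x, hx⟩, jj_conj ι hs (hQS hx)] at h1
      calc (jj ι s)⁻¹ * n * jj ι x = (jj ι s)⁻¹ * (n * jj ι x * n⁻¹) * n := by group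
        _ = (jj ι s)⁻¹ * (jj ι s * jj ι x * (jj ι s)⁻¹) * n := by rw [h1]
        _ = jj ι x * ((jj ι s)⁻¹ * n) := by group
    obtain ⟨z, hz, hzN⟩ := H2 _ hcomm
    have hzS : z ∈ S := hz.1
    rw [mem_autInducedBy_iff]
    refine ⟨s * z, ?_, fun x => ?_⟩
    · rw [mem_preimageAlong_iff_jj ι N (S.mul_mem hs hzS), jj_mul ι hs hzS]
      have h3 : (jj ι s * jj ι z)⁻¹ = ((jj ι z)⁻¹ * ((jj ι s)⁻¹ * n)) * n⁻¹ := by group
      have h4 : (jj ι s * jj ι z)⁻¹ ∈ N := by rw [h3]; exact N.mul_mem hzN (N.inv_mem hn)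
      exact (Subgroup.inv_mem_iff N).mp h4
    · rw [hsx x]
      have hzc : (x : Ω) * z = z * x := Subgroup.mem_centralizer_iff.mp hz.2 x x.2
      calc s * (x : Ω) * s⁻¹ = s * ((x : Ω) * z) * z⁻¹ * s⁻¹ := by group
        _ = s * (z * x) * z⁻¹ * s⁻¹ := by rw [hzc]
        _ = s * z * x * (s * z)⁻¹ := by group
  have hinf : autInducedBy S Q ⊓ (pullSystem ι hι.1 N).autGroup Q = autInducedBy (preimageAlong ι N) Q :=
    le_antisymm hkey (le_inf hmono hsigT)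
  have hnorm : (((pullSystem ι hι.1 N).autGroup Q).subgroupOf (F.autGroup Q)).Normal := by
    constructor
    intro β hβ α
    rw [Subgroup.mem_subgroupOf] at hβ ⊢
    exact pull_autGroup_conj_mem F ι hι N hQ α α.2 β hβ
  obtain ⟨P', hP'⟩ := exists_sylow_subgroupOf_normal R (((pullSystem ι hι.1 N).autGroup Q).subgroupOf (F.autGroup Q))
  have hidx0 := P'.not_dvd_index
  rw [hP', hR] at hidx0
  have hidx : ¬ p ∣ ((autInducedBy (preimageAlong ι N) Q).subgroupOf ((pullSystem ι hι.1 N).autGroup Q)).index := by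
    intro hdvd
    apply hidx0
    have e1 : (((autInducedBy S Q).subgroupOf (F.autGroup Q)).subgroupOf
        (((pullSystem ι hι.1 N).autGroup Q).subgroupOf (F.autGroup Q))).index =
        (autInducedBy S Q).relIndex ((pullSystem ι hι.1 N).autGroup Q) :=
      Subgroup.relIndex_subgroupOf hHK
    rw [e1, ← Subgroup.inf_relIndex_right, hinf]
    exact hdvd
  exact ⟨hp.toSylow hidx, rfl⟩

include hι in
/-- An `F`-receptive subgroup with `C_G(ιQ) ≤ ι(C_S(Q)) N` is receptive in the subsystem cut out by `N`. -/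
theorem pull_isReceptive {Q : Subgroup Ω} (hQ : Q ≤ preimageAlong ι N) (hrec : F.IsReceptive Q)
    (H2 : ∀ c : G, (∀ x ∈ Q, c * jj ι x = jj ι x * c) → ∃ z ∈ centralizerIn S Q, (jj ι z)⁻¹ * c ∈ N) :
    (pullSystem ι hι.1 N).IsReceptive Q := by
  have hTS : preimageAlong ι N ≤ S := Cfsg.Agent.Helper85.preimageAlong_le ι N
  refine ⟨hQ, fun R φ hφ hrange => ?_⟩
  have hφF : φ ∈ F.Hom R := pull_isSubsystemOf F ι hι N R hφ
  obtain ⟨hRT, hφT, n, hn, hnx⟩ := hφ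
  have hRS := hRT.trans hTS
  obtain ⟨ψ, hψ, hψx⟩ := hrec.2 R φ hφF hrange
  -- the extenders
  have hMT : extender (preimageAlong ι N) R φ ≤ preimageAlong ι N := by
    intro g hg
    exact ((mem_extender_iff _ R φ g).mp hg).1
  have hMle : extender (preimageAlong ι N) R φ ≤ extender S R φ := by
    intro g hg
    obtain ⟨h1, h2, h, hh, h3⟩ := (mem_extender_iff _ R φ g).mp hg
    exact (mem_extender_iff S R φ g).mpr ⟨hTS h1, h2, h, hTS hh, h3⟩
  have hRM : R ≤ extender (preimageAlong ι N) R φ :=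
    le_extender_of_mem (pullSystem ι hι.1 N) (⟨hRT, hφT, n, hn, hnx⟩ : φ ∈ (pullSystem ι hι.1 N).Hom R)
  have hMS := hMT.trans hTS
  have hψM : ψ.comp (Subgroup.inclusion hMle) ∈ F.Hom (extender (preimageAlong ι N) R φ) :=
    Cfsg.Agent.Helper87.restrict_mem F hψ hMle
  have hψS := (F.le_of_mem hψM).2
  obtain ⟨g, hg⟩ := (mem_hom_iff_jj hι hMS _ hψS).mp hψM
  -- `g n⁻¹` centralizes `ι(Q)`
  have hcomm : ∀ y ∈ Q, (g * n⁻¹) * jj ι y = jj ι y * (g * n⁻¹) := by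
    intro y hy
    rw [← hrange] at hy
    obtain ⟨x, rfl⟩ := hy
    have h1 := hg ⟨x, hRM x.2⟩
    have h2 : (ψ.comp (Subgroup.inclusion hMle)) ⟨x, hRM x.2⟩ = φ x := hψx x x.2 (hMle (hRM x.2))
    rw [h2] at h1
    rw [hnx x] at h1 ⊢
    calc g * n⁻¹ * (n * jj ι x * n⁻¹) = (g * jj ι x * g⁻¹) * (g * n⁻¹) := by group
      _ = (n * jj ι x * n⁻¹) * (g * n⁻¹) := by rw [← h1]
  obtain ⟨z, hz, hzN⟩ := H2 _ hcomm
  have hzS : z ∈ S := hz.1
  have hz' : z⁻¹ ∈ S := S.inv_mem hzS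
  have hg'N : (jj ι z)⁻¹ * g ∈ N := by
    have e : (jj ι z)⁻¹ * g = ((jj ι z)⁻¹ * (g * n⁻¹)) * n := by group
    rw [e]
    exact N.mul_mem hzN hn
  have hval : ∀ x : extender (preimageAlong ι N) R φ,
      jj ι (((MulAut.conj z⁻¹).toMonoidHom.comp (ψ.comp (Subgroup.inclusion hMle))) x) =
        ((jj ι z)⁻¹ * g) * jj ι x * ((jj ι z)⁻¹ * g)⁻¹ := by
    intro x
    show jj ι (z⁻¹ * (ψ.comp (Subgroup.inclusion hMle)) x * z⁻¹⁻¹) = _
    rw [jj_conj ι hz' (hψS x), hg, jj_inv ι hzS]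
    group
  have hvalS : ∀ x : extender (preimageAlong ι N) R φ,
      ((MulAut.conj z⁻¹).toMonoidHom.comp (ψ.comp (Subgroup.inclusion hMle))) x ∈ S := fun x =>
    S.mul_mem (S.mul_mem hz' (hψS x)) (S.inv_mem hz')
  refine ⟨(MulAut.conj z⁻¹).toMonoidHom.comp (ψ.comp (Subgroup.inclusion hMle)),
    ⟨hMT, fun x => ?_, (jj ι z)⁻¹ * g, hg'N, hval⟩, fun x hP hM => ?_⟩
  · rw [mem_preimageAlong_iff_jj ι N (hvalS x), hval]
    exact hN.conj_mem _ ((mem_preimageAlong_iff_jj ι N (hMS x.2)).mp (hMT x.2)) _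
  · show z⁻¹ * (ψ.comp (Subgroup.inclusion hMle)) ⟨x, hM⟩ * z⁻¹⁻¹ = φ ⟨x, hP⟩
    have h2 : (ψ.comp (Subgroup.inclusion hMle)) ⟨x, hM⟩ = φ ⟨x, hP⟩ := hψx x hP (hMle hM)
    rw [h2]
    have hφQ : φ ⟨x, hP⟩ ∈ Q := by rw [← hrange]; exact ⟨_, rfl⟩
    have hzc : φ ⟨x, hP⟩ * z = z * φ ⟨x, hP⟩ := Subgroup.mem_centralizer_iff.mp hz.2 _ hφQ
    calc z⁻¹ * φ ⟨x, hP⟩ * z⁻¹⁻¹ = z⁻¹ * (φ ⟨x, hP⟩ * z) := by group
      _ = z⁻¹ * (z * φ ⟨x, hP⟩) := by rw [hzc]
      _ = φ ⟨x, hP⟩ := by group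

include hι in
/-- **Saturation criterion** for the subsystem cut out by a normal subgroup of a realizing group. -/
theorem pull_isSaturated_of_centralizers [Finite S] {p : ℕ} [Fact p.Prime] (hS : IsPGroup p S) (hF : F.IsSaturated p)
    (H1 : ∀ g : G, ∃ s ∈ S, ∃ n ∈ N, g = jj ι s * n)
    (H2 : ∀ Q : Subgroup Ω, F.IsFullyAutomized p Q → F.IsReceptive Q → ∀ c : G,
      (∀ x ∈ Q, c * jj ι x = jj ι x * c) → ∃ z ∈ centralizerIn S Q, (jj ι z)⁻¹ * c ∈ N) :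
    (pullSystem ι hι.1 N).IsSaturated p := by
  intro P hP
  obtain ⟨Q, hPQ, hQn⟩ := exists_pull_isConj_fullyNormalized F ι hι N H1 hP
  have hQT : Q ≤ preimageAlong ι N := by
    obtain ⟨φ, hφ, hr⟩ := hPQ
    rw [← hr]
    rintro _ ⟨x, rfl⟩
    exact hφ.2.1 x
  obtain ⟨hQc, hQa⟩ := fullyAutomized_fullyCentralized_of_fullyNormalized hS F hF hQn
  have hQr := receptive_of_fullyCentralized hS F hF hQc
  exact ⟨Q, hPQ, pull_isFullyAutomized F ι hι N hS hQT hQa (H2 Q hQa hQr),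
    pull_isReceptive F ι hι N hQT hQr (H2 Q hQa hQr)⟩

include hι in
/-- If `G / N` has exponent `p`, the subsystem cut out by `N` has `p`-power index. -/
theorem pull_hasPPowerIndexIn {p : ℕ} [Fact p.Prime] (hhyp : F.hyperfocalSubgroup p ≤ preimageAlong ι N)
    (H3 : ∀ g : G, g ^ p ∈ N) : (pullSystem ι hι.1 N).HasPPowerIndexIn F p := by
  have hTS : preimageAlong ι N ≤ S := Cfsg.Agent.Helper85.preimageAlong_le ι N
  refine ⟨pull_isSubsystemOf F ι hι N, hhyp, fun P hP => ?_⟩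
  have hPS := hP.trans hTS
  rw [Subgroup.map_le_iff_le_comap]
  unfold pResidual
  rw [Subgroup.closure_le]
  intro α hα
  have hα' : Nat.Coprime (orderOf α) p := hα
  show ((α : MulAut P)) ∈ (pullSystem ι hι.1 N).autGroup P
  obtain ⟨g, hg⟩ := exists_conj_of_mem_autGroup_jj F ι hι hPS α.2
  have hm : orderOf (α : MulAut P) = orderOf α := Subgroup.orderOf_coe α
  obtain ⟨j, hj1, hj2⟩ := Nat.chineseRemainder hα' 1 0
  have hpj : p ∣ j := (Nat.modEq_zero_iff_dvd).mp hj2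
  have hpow : ∀ k : ℕ, ∀ x : P, jj ι ((((α : MulAut P) ^ k) x : P) : Ω) = g ^ k * jj ι x * (g ^ k)⁻¹ := by
    intro k
    induction k with
    | zero => intro x; simp
    | succ k ih =>
      intro x
      rw [pow_succ', MulAut.mul_apply, hg, ih, pow_succ']
      group
  have hαj : (α : MulAut P) ^ j = α := by
    have h1 : (α : MulAut P) ^ j = (α : MulAut P) ^ 1 := by
      rw [pow_eq_pow_iff_modEq, hm]
      exact hj1
    rwa [pow_one] at h1
  rw [mem_autGroup_iff _ hP]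
  refine ⟨hP, fun x => hP ((α : MulAut P) x).2, g ^ j, ?_, fun x => ?_⟩
  · obtain ⟨k, rfl⟩ := hpj
    rw [pow_mul]
    exact N.pow_mem (H3 g) k
  · have h2 := hpow j x
    rw [hαj] at h2
    exact h2

end sat

end Cfsg.Agent.Helper86.PP
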