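import Cfsg.Agent.Helper88.CharBiset
import Cfsg.Agent.Helper86.Burnside
set_option autoImplicit false

/-! # A stable biset for an arbitrary fusion system (helper86)

For every fusion system `F` over a finite `p`-group `S` (saturated or not) there is a multiset of twisted diagonals of `F`
whose marks are stable under `F` and which has a fixed point of the diagonal of `S`.  The corresponding `S × S`-set is
made explicit. -/

namespace Cfsg.Agent.Helper86.Park

open Cfsg Cfsg.FusionSystem Cfsg.Agent.Helper87 Cfsg.Agent.Helper88.Marks Cfsg.Agent.Helper88.Biset MulAction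

section marks

variable {G : Type*} [Group G]

theorem mark_nsmul (n : ℕ) (m : Subgroup G →₀ ℕ) (K : Subgroup G) : mark (n • m) K = n * mark m K := by
  induction n with
  | zero => rw [zero_nsmul, mark_zero, zero_mul]
  | succ n ih => rw [succ_nsmul, mark_add, ih]; ring

theorem wt_bot [Finite G] : wt (⊥ : Subgroup G) = Nat.card G := by
  unfold wt
  have h1 : Subgroup.normalizer (((⊥ : Subgroup G) : Subgroup G) : Set G) = ⊤ := by
    ext x
    simp only [Subgroup.mem_top, iff_true]
    rw [Subgroup.mem_normalizer_iff]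
    intro y
    simp only [Subgroup.mem_bot]
    constructor
    · intro h; rw [h]; group
    · intro h
      have : y = x⁻¹ * (x * y * x⁻¹) * x := by group
      rw [this, h]; group
  rw [h1, Subgroup.card_top, Subgroup.card_bot, Nat.div_one]

theorem wt_dvd_card [Finite G] (D : Subgroup G) : wt D ∣ Nat.card G := by
  have h1 := wt_mul_card D
  have h2 : Nat.card (Subgroup.normalizer (D : Set G)) ∣ Nat.card G := Subgroup.card_subgroup_dvd_card _
  exact Dvd.dvd.trans ⟨_, h1.symm⟩ h2

/-- The `G`-set with `m D` orbits of type `G ⧸ D`. -/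
abbrev BX (m : Subgroup G →₀ ℕ) : Type _ :=
  Σ i : (Σ D : {D : Subgroup G // D ∈ m.support}, Fin (m D.1)), G ⧸ (i.1.1 : Subgroup G)

theorem fixCard_sigma {ι : Type*} [Fintype ι] (D : ι → Subgroup G) [∀ i, Finite (G ⧸ D i)] (K : Subgroup G) :
    fixCard (Σ i, G ⧸ D i) K = ∑ i, fixCard (G ⧸ D i) K := by
  unfold fixCard
  rw [← Nat.card_sigma]
  refine Nat.card_congr ⟨fun x => ⟨x.1.1, ⟨x.1.2, fun k => ?_⟩⟩, fun y => ⟨⟨y.1, y.2.1⟩, fun k => ?_⟩, ?_, ?_⟩
  · have h := x.2 k
    have h2 : (k : G) • x.1 = x.1 := h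
    have h3 : (⟨x.1.1, (k : G) • x.1.2⟩ : Σ i, G ⧸ D i) = ⟨x.1.1, x.1.2⟩ := h2
    exact eq_of_heq (Sigma.mk.inj_iff.mp h3).2
  · have h := y.2.2 k
    show (k : G) • (⟨y.1, y.2.1⟩ : Σ i, G ⧸ D i) = ⟨y.1, y.2.1⟩
    rw [Sigma.smul_mk]
    congr 1
  · intro x; rfl
  · intro y; rfl

theorem fixCard_BX [Finite G] (m : Subgroup G →₀ ℕ) (K : Subgroup G) : fixCard (BX m) K = mark m K := by
  classical
  unfold BX
  rw [fixCard_sigma (fun i : (Σ D : {D : Subgroup G // D ∈ m.support}, Fin (m D.1)) => (i.1.1 : Subgroup G)) K]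
  rw [Fintype.sum_sigma]
  unfold mark Finsupp.sum
  rw [← Finset.sum_coe_sort m.support (fun a => m a * fixCard (G ⧸ a) K)]
  apply Finset.sum_congr rfl
  intro D _
  have h1 : ∀ y : Fin (m D.1), fixCard (G ⧸ ((⟨D, y⟩ : (Σ D : {D : Subgroup G // D ∈ m.support}, Fin (m D.1))).1.1 :
      Subgroup G)) K = fixCard (G ⧸ (D.1 : Subgroup G)) K := fun y => rfl
  rw [Finset.sum_congr rfl (fun y _ => h1 y), Finset.sum_const, Finset.card_univ, Fintype.card_fin, smul_eq_mul]

end marks

section stable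

variable {Ω : Type*} [Group Ω] {S : Subgroup Ω}

open Classical in
/-- **One level of the construction, for an arbitrary fusion system**: after multiplying the multiset by `|S × S|`, the marks
at the twisted diagonals of order `k` can all be made equal to one positive constant. -/
theorem exists_level_step_scaled [Finite S] (F : FusionSystem S) (k : ℕ) (m : Subgroup (↥S × ↥S) →₀ ℕ)
    (hsupp : ∀ D ∈ m.support, TD F D) (hstab : StableFrom F m (k + 1)) :
    ∃ m' : Subgroup (↥S × ↥S) →₀ ℕ, (∀ D ∈ m'.support, TD F D) ∧ StableFrom F m' k ∧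
      (∀ K : Subgroup (↥S × ↥S), k < Nat.card K → mark m' K = Nat.card (↥S × ↥S) * mark m K) ∧
      (∀ K : Subgroup (↥S × ↥S), TD F K → Nat.card K = k → mark m' K ≠ 0) := by
  set N := Nat.card (↥S × ↥S) with hN
  have hNpos : 0 < N := Nat.card_pos
  have hTcj : ∀ D ∈ {D : Subgroup (↥S × ↥S) | TD F D ∧ Nat.card D = k}, ∀ g : ↥S × ↥S,
      cj g D ∈ {D : Subgroup (↥S × ↥S) | TD F D ∧ Nat.card D = k} := by
    intro D hD g
    exact ⟨(hD.1.cj g).1, by rw [card_cj]; exact hD.2⟩
  have hmark₁ : ∀ K : Subgroup (↥S × ↥S), mark (N • m) K = N * mark m K := fun K => mark_nsmul N m K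
  obtain ⟨a, ha, hmark⟩ := exists_step k {D : Subgroup (↥S × ↥S) | TD F D ∧ Nat.card D = k} (fun D hD => hD.2)
    hTcj (fun _ => ⊥) (fun _ _ _ => rfl) (N • m)
    (fun D _ => by rw [wt_bot]; exact wt_dvd_card D)
    (fun D _ => by
      rw [hmark₁, hmark₁]
      have h1 : wt D ∣ N := wt_dvd_card D
      exact ((Nat.modEq_zero_iff_dvd).mpr (Dvd.dvd.mul_right h1 _)).trans
        ((Nat.modEq_zero_iff_dvd).mpr (Dvd.dvd.mul_right h1 _)).symm)
  have haT : ∀ R : Subgroup (↥S × ↥S), a R ≠ 0 → TD F R ∧ Nat.card R = k := by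
    intro R hR
    by_contra hcon
    apply hR
    rw [ha R, if_neg]
    exact fun h => hcon h.1
  have h0 : ∀ K'' : Subgroup (↥S × ↥S), k < Nat.card K'' → mark a K'' = 0 := by
    intro K'' hK''
    apply mark_eq_zero_of_card_lt
    intro D hD
    rw [(haT D (Finsupp.mem_support_iff.mp hD)).2]
    exact hK''
  refine ⟨N • m + a, ?_, ?_, ?_, ?_⟩
  · intro D hD
    rw [Finsupp.mem_support_iff, Finsupp.add_apply] at hD
    by_cases hmD : m D = 0
    · have : a D ≠ 0 := by
        intro h0'
        rw [Finsupp.smul_apply, hmD, h0', smul_zero, add_zero] at hD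
        exact hD rfl
      exact (haT D this).1
    · exact hsupp D (Finsupp.mem_support_iff.mpr hmD)
  · intro K K' hK hK' hc hle
    have hcardKK' : Nat.card K = Nat.card K' := by
      rw [hK.card_eq_card_src, hK'.card_eq_card_src]
      exact card_eq_of_isConj F hc
    rcases Nat.lt_or_ge k (Nat.card K) with hlt | hge
    · rw [mark_add, mark_add, h0 K hlt, h0 K' (hcardKK' ▸ hlt), hmark₁, hmark₁,
        hstab K K' hK hK' hc hlt]
    · have hk : Nat.card K = k := le_antisymm hge hle
      rw [hmark K ⟨hK, hk⟩, hmark K' ⟨hK', hcardKK' ▸ hk⟩]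
  · intro K hK
    rw [mark_add, h0 K hK, add_zero, hmark₁]
  · intro K hK hk
    rw [hmark K ⟨hK, hk⟩]
    have h1 : 0 < wt (⊥ : Subgroup (↥S × ↥S)) := wt_pos _
    have h2 : 0 < wt (⊥ : Subgroup (↥S × ↥S)) * (total (N • m) + 1) := Nat.mul_pos h1 (Nat.succ_pos _)
    omega

theorem TD_diag (F : FusionSystem S) : TD F (diag S : Subgroup (↥S × ↥S)) :=
  ⟨S, S, MulEquiv.refl S, isIso_refl F le_rfl, rfl⟩

theorem card_diag [Finite S] : Nat.card (diag S : Subgroup (↥S × ↥S)) = Nat.card S :=
  card_graph (MulEquiv.refl S) le_rfl le_rfl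

/-- **A stable biset for an arbitrary fusion system**: a multiset of twisted diagonals whose marks are stable under the
system, with a point fixed by the diagonal of `S`. -/
theorem exists_stable_biset [Finite S] (F : FusionSystem S) :
    ∃ m : Subgroup (↥S × ↥S) →₀ ℕ, (∀ D ∈ m.support, TD F D) ∧ StableFrom F m 0 ∧
      mark m (diag S : Subgroup (↥S × ↥S)) ≠ 0 := by
  have hNpos : 0 < Nat.card (↥S × ↥S) := Nat.card_pos
  have key : ∀ j : ℕ, ∃ m : Subgroup (↥S × ↥S) →₀ ℕ, (∀ D ∈ m.support, TD F D) ∧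
      StableFrom F m (Nat.card S - j) ∧ mark m (diag S : Subgroup (↥S × ↥S)) ≠ 0 := by
    intro j
    induction j with
    | zero =>
      obtain ⟨m', h1, h2, -, h4⟩ := exists_level_step_scaled F (Nat.card S) 0 (fun D hD => by simp at hD)
        (fun K K' _ _ _ _ => by rw [mark_zero, mark_zero])
      exact ⟨m', h1, h2, h4 _ (TD_diag F) card_diag⟩
    | succ j ih =>
      obtain ⟨m, h1, h2, h3⟩ := ih
      rcases Nat.eq_zero_or_pos (Nat.card S - j) with h0 | h0
      · refine ⟨m, h1, ?_, h3⟩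
        have : Nat.card S - (j + 1) = Nat.card S - j := by omega
        rw [this]; exact h2
      · have hk1 : Nat.card S - (j + 1) + 1 = Nat.card S - j := by omega
        rw [← hk1] at h2
        obtain ⟨m', h1', h2', h3', -⟩ := exists_level_step_scaled F (Nat.card S - (j + 1)) m h1 h2
        refine ⟨m', h1', h2', ?_⟩
        rw [h3' _ (by rw [card_diag]; omega)]
        exact Nat.mul_ne_zero hNpos.ne' h3
  obtain ⟨m, h1, h2, h3⟩ := key (Nat.card S)
  rw [Nat.sub_self] at h2
  exact ⟨m, h1, h2, h3⟩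

end stable

end Cfsg.Agent.Helper86.Park
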