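import Cfsg.Agent.Helper86.ParkBiset
set_option autoImplicit false

/-! # Every fusion system is realized inside a finite group (helper86)

Park's theorem: for a stable biset `X` of the fusion system `F` over `S`, the group of automorphisms of the right `S`-set `X`,
with `S` embedded by its left action, realizes `F`. -/

namespace Cfsg.Agent.Helper86.Park

open Cfsg Cfsg.FusionSystem Cfsg.Agent.Helper87 Cfsg.Agent.Helper88.Marks Cfsg.Agent.Helper88.Biset MulAction

section general

theorem fixCard_compHom {K H : Type*} [Group K] [Group H] (θ : K →* H) (X : Type*) [MulAction H X]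
    (L : Subgroup K) : @fixCard K _ X (MulAction.compHom X θ) L = fixCard X (L.map θ) := by
  letI : MulAction K X := MulAction.compHom X θ
  unfold fixCard
  apply Nat.card_congr
  apply Equiv.setCongr
  ext x
  constructor
  · intro h z
    obtain ⟨l, hl, hlz⟩ := z.2
    have h1 : (⟨l, hl⟩ : L) • x = x := h ⟨l, hl⟩
    have h2 : θ l • x = x := h1
    show (z : H) • x = x
    rw [← hlz]; exact h2
  · intro h l
    have h1 : (⟨θ l, ⟨l, l.2, rfl⟩⟩ : L.map θ) • x = x := h ⟨θ l, ⟨l, l.2, rfl⟩⟩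
    exact h1

theorem exists_fixed_of_fixCard_ne_zero {H : Type*} [Group H] {X : Type*} [MulAction H X] {K : Subgroup H}
    (h : fixCard X K ≠ 0) : ∃ x : X, ∀ k ∈ K, k • x = x := by
  unfold fixCard at h
  have hne : Nonempty (fixedPoints K X) := by
    by_contra hcon
    rw [not_nonempty_iff] at hcon
    exact h Nat.card_of_isEmpty
  obtain ⟨x, hx⟩ := hne
  exact ⟨x, fun k hk => hx ⟨k, hk⟩⟩

theorem fixCard_ne_zero_of_fixed {H : Type*} [Group H] {X : Type*} [MulAction H X] [Finite X] {K : Subgroup H}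
    (x : X) (h : ∀ k ∈ K, k • x = x) : fixCard X K ≠ 0 := by
  unfold fixCard
  have : Nonempty (fixedPoints K X) := ⟨⟨x, fun k => h k k.2⟩⟩
  exact Nat.card_pos.ne'

end general

variable {Ω : Type*} [Group Ω] {S : Subgroup Ω}

/-- The automorphisms of the right `S`-set `X`: the permutations commuting with the action of `1 × S`. -/
def AutR (S : Subgroup Ω) (X : Type*) [MulAction (↥S × ↥S) X] : Subgroup (Equiv.Perm X) :=
  Subgroup.centralizer (Set.range fun t : ↥S => MulAction.toPerm (((1 : ↥S), t) : ↥S × ↥S))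

theorem mem_AutR_iff (X : Type*) [MulAction (↥S × ↥S) X] (g : Equiv.Perm X) :
    g ∈ AutR S X ↔ ∀ (t : ↥S) (x : X), g ((((1 : ↥S), t) : ↥S × ↥S) • x) = (((1 : ↥S), t) : ↥S × ↥S) • g x := by
  unfold AutR
  rw [Subgroup.mem_centralizer_iff]
  constructor
  · intro h t x
    have h1 := h _ ⟨t, rfl⟩
    have h2 := congrArg (fun σ : Equiv.Perm X => σ x) h1
    exact h2.symm
  · rintro h _ ⟨t, rfl⟩
    ext x
    exact (h t x).symm

/-- The left action of `S`, as a homomorphism into the automorphism group of the right `S`-set. -/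
def iotaHom (S : Subgroup Ω) (X : Type*) [MulAction (↥S × ↥S) X] : ↥S →* ↥(AutR S X) :=
  ((MulAction.toPermHom (↥S × ↥S) X).comp (MonoidHom.inl ↥S ↥S)).codRestrict (AutR S X) (by
    intro s
    rw [mem_AutR_iff]
    intro t x
    show ((s, (1 : ↥S)) : ↥S × ↥S) • (((1 : ↥S), t) : ↥S × ↥S) • x = (((1 : ↥S), t) : ↥S × ↥S) • ((s, (1 : ↥S)) : ↥S × ↥S) • x
    rw [smul_smul, smul_smul]
    congr 1
    ext <;> simp)

theorem iotaHom_apply (X : Type*) [MulAction (↥S × ↥S) X] (s : ↥S) (x : X) :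
    ((iotaHom S X s : ↥(AutR S X)) : Equiv.Perm X) x = ((s, (1 : ↥S)) : ↥S × ↥S) • x := rfl

theorem TD.eq_one_of_mem {F : FusionSystem S} {K : Subgroup (↥S × ↥S)} (hK : TD F K) {s : ↥S}
    (h : ((s, (1 : ↥S)) : ↥S × ↥S) ∈ K) : s = 1 := by
  obtain ⟨A, B, e, -, rfl⟩ := hK
  obtain ⟨a, ha1, ha2⟩ := (mem_graph e _).mp h
  have h1 : ((e a : B) : Ω) = 1 := ha2.symm
  have h2 : e a = 1 := Subtype.ext h1
  have h3 : a = 1 := e.injective (h2.trans (map_one e).symm)
  apply Subtype.ext
  show (s : Ω) = 1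
  have h4 : ((s : ↥S) : Ω) = a := ha1
  rw [h4, h3]; rfl

/-- **Park's theorem**, for an `S × S`-set with stable marks supported on twisted diagonals. -/
theorem isRealizedBy_iotaHom [Finite S] (F : FusionSystem S) (X : Type*) [MulAction (↥S × ↥S) X] [Finite X]
    (hX1 : ∀ K : Subgroup (↥S × ↥S), fixCard X K ≠ 0 → TD F K)
    (hX2 : ∀ K K' : Subgroup (↥S × ↥S), TD F K → TD F K' → F.IsConj (src K) (src K') → fixCard X K = fixCard X K')
    (hX3 : fixCard X (diag S : Subgroup (↥S × ↥S)) ≠ 0) : F.IsRealizedBy (iotaHom S X) := by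
  obtain ⟨x₀, hx₀⟩ := exists_fixed_of_fixCard_ne_zero hX3
  constructor
  · -- injectivity
    rw [injective_iff_map_eq_one]
    intro s hs
    have h1 : ((s, (1 : ↥S)) : ↥S × ↥S) • x₀ = x₀ := by
      rw [← iotaHom_apply, hs]; rfl
    have h2 : fixCard X (Subgroup.zpowers (((s, (1 : ↥S)) : ↥S × ↥S))) ≠ 0 := by
      apply fixCard_ne_zero_of_fixed x₀
      intro k hk
      have hle : Subgroup.zpowers (((s, (1 : ↥S)) : ↥S × ↥S)) ≤ stabilizer (↥S × ↥S) x₀ := by
        rw [Subgroup.zpowers_le]; exact h1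
      exact hle hk
    exact TD.eq_one_of_mem (hX1 _ h2) (Subgroup.mem_zpowers _)
  · intro P hP φ hφ
    constructor
    · -- maps of the system are realized
      intro hφF
      set φ' : ↥P →* ↥S := φ.codRestrict S hφ with hφ'
      set θ₁ : ↥P × ↥S →* ↥S × ↥S := (Subgroup.inclusion hP).prodMap (MonoidHom.id ↥S) with hθ₁
      set θ₂ : ↥P × ↥S →* ↥S × ↥S := φ'.prodMap (MonoidHom.id ↥S) with hθ₂
      have hmarks : ∀ L : Subgroup (↥P × ↥S), fixCard X (L.map θ₁) = fixCard X (L.map θ₂) := by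
        intro L
        have hKA : ∀ z ∈ L.map θ₁, ((z.1 : ↥S) : Ω) ∈ P := by
          rintro z ⟨l, -, rfl⟩
          exact l.1.2
        have hKB : ∀ z ∈ L.map θ₁, ((z.2 : ↥S) : Ω) ∈ S := fun z _ => z.2.2
        have hK' : ∀ z' : ↥S × ↥S, z' ∈ L.map θ₂ ↔ ∃ z, ∃ hz : z ∈ L.map θ₁,
            ((z'.1 : ↥S) : Ω) = φ ⟨z.1, hKA z hz⟩ ∧ ((z'.2 : ↥S) : Ω) = S.subtype ⟨z.2, hKB z hz⟩ := by
          intro z'
          constructor
          · rintro ⟨l, hl, rfl⟩
            exact ⟨θ₁ l, ⟨l, hl, rfl⟩, rfl, rfl⟩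
          · rintro ⟨z, ⟨l, hl, rfl⟩, h1, h2⟩
            refine ⟨l, hl, ?_⟩
            apply Prod.ext
            · apply Subtype.ext
              rw [h1]; rfl
            · apply Subtype.ext
              rw [h2]; rfl
        by_cases hTD : TD F (L.map θ₁)
        · obtain ⟨h1, h2⟩ := TD.transport hφF (subtype_mem F le_rfl) hKA hKB hK' hTD
          exact hX2 _ _ hTD h1 h2
        · have hTD' : ¬ TD F (L.map θ₂) := fun h =>
            hTD (TD.transport_symm hφF (subtype_mem F le_rfl) hKA hKB hK' h)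
          have e1 : fixCard X (L.map θ₁) = 0 := by
            by_contra hne; exact hTD (hX1 _ hne)
          have e2 : fixCard X (L.map θ₂) = 0 := by
            by_contra hne; exact hTD' (hX1 _ hne)
          rw [e1, e2]
      obtain ⟨e, he⟩ := @Burnside.exists_equivariant_equiv (↥P × ↥S) _ X X (MulAction.compHom X θ₁)
        (MulAction.compHom X θ₂) (Finite.of_injective θ₁ (by
          intro a b hab
          have h1 := congrArg Prod.fst hab
          have h2 := congrArg Prod.snd hab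
          exact Prod.ext (Subgroup.inclusion_injective hP h1) h2)) _ _ (fun L => by
          rw [fixCard_compHom, fixCard_compHom]; exact hmarks L)
      have he' : ∀ (k : ↥P × ↥S) (x : X), e (θ₁ k • x) = θ₂ k • e x := he
      have hmem : e ∈ AutR S X := by
        rw [mem_AutR_iff]
        intro t x
        have h1 := he' ((1 : ↥P), t) x
        have e1 : θ₁ ((1 : ↥P), t) = ((1 : ↥S), t) := by
          apply Prod.ext
          · show Subgroup.inclusion hP 1 = 1
            exact map_one _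
          · rfl
        have e2 : θ₂ ((1 : ↥P), t) = ((1 : ↥S), t) := by
          apply Prod.ext
          · show φ' 1 = 1
            exact map_one _
          · rfl
        rw [e1, e2] at h1
        exact h1
      refine ⟨⟨e, hmem⟩, fun u => ?_⟩
      apply Subtype.ext
      ext x
      show ((⟨φ u, hφ u⟩, (1 : ↥S)) : ↥S × ↥S) • x = e (((⟨u, hP u.2⟩, (1 : ↥S)) : ↥S × ↥S) • e.symm x)
      have h1 := he' (u, (1 : ↥S)) (e.symm x)
      rw [Equiv.apply_symm_apply] at h1
      exact h1.symm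
    · -- realized maps are maps of the system
      rintro ⟨g, hg⟩
      have hgmem := (mem_AutR_iff X (g : Equiv.Perm X)).mp g.2
      have hconj : ∀ (u : ↥P) (x : X), ((⟨φ u, hφ u⟩, (1 : ↥S)) : ↥S × ↥S) • (g : Equiv.Perm X) x =
          (g : Equiv.Perm X) (((⟨u, hP u.2⟩, (1 : ↥S)) : ↥S × ↥S) • x) := by
        intro u x
        have h1 := congrArg (fun σ : ↥(AutR S X) => (σ : Equiv.Perm X) ((g : Equiv.Perm X) x)) (hg u)
        rw [iotaHom_apply] at h1
        rw [h1]
        show (g : Equiv.Perm X) (((iotaHom S X ⟨u, hP u.2⟩ : ↥(AutR S X)) : Equiv.Perm X)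
          ((g : Equiv.Perm X).symm ((g : Equiv.Perm X) x))) = _
        rw [Equiv.symm_apply_apply, iotaHom_apply]
      set φ' : ↥P →* ↥S := φ.codRestrict S hφ with hφ'
      set Kφ : Subgroup (↥S × ↥S) := (φ'.prod (Subgroup.inclusion hP)).range with hKφ
      have hfixed : ∀ k ∈ Kφ, k • (g : Equiv.Perm X) x₀ = (g : Equiv.Perm X) x₀ := by
        rintro _ ⟨u, rfl⟩
        have e1 : (φ'.prod (Subgroup.inclusion hP)) u =
            ((⟨φ u, hφ u⟩, (1 : ↥S)) : ↥S × ↥S) * (((1 : ↥S), ⟨u, hP u.2⟩) : ↥S × ↥S) := by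
          apply Prod.ext
          · show φ' u = ⟨φ u, hφ u⟩ * 1
            rw [mul_one]; rfl
          · show Subgroup.inclusion hP u = 1 * ⟨u, hP u.2⟩
            rw [one_mul]; rfl
        rw [e1, mul_smul, ← hgmem, hconj, smul_smul]
        congr 1
        apply hx₀
        exact (mem_graph (MulEquiv.refl S) _).mpr ⟨⟨u, hP u.2⟩, by simp, by simp⟩
      have hTD : TD F Kφ := hX1 _ (fixCard_ne_zero_of_fixed _ hfixed)
      obtain ⟨A, B, e, he, hKe⟩ := hTD
      have hmem : ∀ u : ↥P, ∃ a : A, φ u = a ∧ (u : Ω) = e a := by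
        intro u
        have h1 : (φ'.prod (Subgroup.inclusion hP)) u ∈ Kφ := ⟨u, rfl⟩
        rw [hKe, mem_graph] at h1
        obtain ⟨a, ha1, ha2⟩ := h1
        exact ⟨a, ha1, ha2⟩
      have hPB : P ≤ B := by
        intro u hu
        obtain ⟨a, -, ha2⟩ := hmem ⟨u, hu⟩
        have : u = e a := ha2
        rw [this]; exact (e a).2
      refine mem_of_eq F (restrict_mem F he.symm hPB) (fun u => ?_)
      obtain ⟨a, ha1, ha2⟩ := hmem u
      show φ u = ((e.symm (Subgroup.inclusion hPB u) : A) : Ω)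
      have h3 : Subgroup.inclusion hPB u = e a := Subtype.ext ha2
      rw [h3, MulEquiv.symm_apply_apply, ha1]

end Cfsg.Agent.Helper86.Park
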