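import Cfsg.Agent.Helper87.FusionSolv
import Cfsg.Agent.Helper87.FusionNormal
import Cfsg.Agent.Helper88.FusionNormalCrit
import Cfsg.Agent.Helper87.FusionSolv2
import Cfsg.Agent.S5145
set_option autoImplicit false

/-! # Lifting normal subgroups from a factor system `F/Q` (helper86)

For `Q` normal in the saturated system `F`, `X'` normal in a factor system of `F` by `Q` and `X` its full preimage in `S`,
the subgroup `X ∩ Q C_S(Q)` is normal in `F`. Consequence: if `Q = O_p(F)` and the factor system is constrained, then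
`C_S(Q) ≤ Q`. -/

namespace Cfsg.Agent.Helper86.QdLift

open Cfsg Cfsg.FusionSystem Cfsg.Agent.Helper87 Cfsg.Agent.Helper88.FS

variable {Ω : Type*} [Group Ω] {S : Subgroup Ω} {Ω' : Type*} [Group Ω']

/-- The automorphisms in `Aut_F(P)` fixing `Q ∩ P` elementwise and acting, read through `θ`, as conjugation by an element
of `X'`. -/
def liftSub (F : FusionSystem S) (θ : S →* Ω') (Q : Subgroup Ω) {P : Subgroup Ω} (hPS : P ≤ S) (X' : Subgroup Ω') :
    Subgroup (MulAut P) where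
  carrier := {β | β ∈ F.autGroup P ∧ (∀ x : P, (x : Ω) ∈ Q → β x = x) ∧
      ∃ x' ∈ X', ∀ u : P, θ ⟨β u, hPS (β u).2⟩ = x' * θ ⟨u, hPS u.2⟩ * x'⁻¹}
  one_mem' := ⟨(F.autGroup P).one_mem, fun x _ => rfl, 1, X'.one_mem, fun u => by simp⟩
  mul_mem' := by
    rintro a b ⟨ha, ha1, x, hx, hax⟩ ⟨hb, hb1, y, hy, hby⟩
    refine ⟨(F.autGroup P).mul_mem ha hb, fun u hu => ?_, x * y, X'.mul_mem hx hy, fun u => ?_⟩
    · rw [MulAut.mul_apply, hb1 u hu, ha1 u hu]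
    · have h1 := hax (b u)
      have h2 := hby u
      show θ ⟨a (b u), _⟩ = _
      rw [h1, h2]
      group
  inv_mem' := by
    rintro a ⟨ha, ha1, x, hx, hax⟩
    refine ⟨(F.autGroup P).inv_mem ha, fun u hu => ?_, x⁻¹, X'.inv_mem hx, fun u => ?_⟩
    · have h := ha1 u hu
      calc a⁻¹ u = a⁻¹ (a u) := by rw [h]
        _ = u := MulAut.inv_apply_self _ _ _
    · have h := hax (a⁻¹ u)
      have e : (⟨a (a⁻¹ u), hPS (a (a⁻¹ u)).2⟩ : S) = ⟨u, hPS u.2⟩ :=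
        Subtype.ext (by rw [MulAut.apply_inv_self])
      rw [e] at h
      rw [h]
      group

theorem mem_liftSub_iff (F : FusionSystem S) (θ : S →* Ω') (Q : Subgroup Ω) {P : Subgroup Ω} (hPS : P ≤ S)
    (X' : Subgroup Ω') (β : MulAut P) :
    β ∈ liftSub F θ Q hPS X' ↔ β ∈ F.autGroup P ∧ (∀ x : P, (x : Ω) ∈ Q → β x = x) ∧
      ∃ x' ∈ X', ∀ u : P, θ ⟨β u, hPS (β u).2⟩ = x' * θ ⟨u, hPS u.2⟩ * x'⁻¹ := Iff.rfl

theorem pow_witness (θ : S →* Ω') {P : Subgroup Ω} (hPS : P ≤ S) (β : MulAut P) (x' : Ω')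
    (h : ∀ u : P, θ ⟨β u, hPS (β u).2⟩ = x' * θ ⟨u, hPS u.2⟩ * x'⁻¹) (m : ℕ) (u : P) :
    θ ⟨(β ^ m) u, hPS ((β ^ m) u).2⟩ = x' ^ m * θ ⟨u, hPS u.2⟩ * (x' ^ m)⁻¹ := by
  induction m with
  | zero => simp
  | succ m ih =>
    have e : (β ^ (m + 1)) u = β ((β ^ m) u) := by rw [pow_succ', MulAut.mul_apply]
    have e' : (⟨(β ^ (m + 1)) u, hPS ((β ^ (m + 1)) u).2⟩ : S) = ⟨β ((β ^ m) u), hPS (β ((β ^ m) u)).2⟩ :=
      Subtype.ext (by rw [e])
    rw [e', h, ih, pow_succ']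
    group

theorem pow_fix {P : Subgroup Ω} (β : MulAut P) (v : P) (h : β v = v) (m : ℕ) : (β ^ m) v = v := by
  induction m with
  | zero => simp
  | succ m ih => rw [pow_succ', MulAut.mul_apply, ih, h]

/-- `liftSub` is a `p`-group. -/
theorem isPGroup_liftSub [Finite S] {p : ℕ} [Fact p.Prime] (hS : IsPGroup p S) (F : FusionSystem S) (θ : S →* Ω')
    {Q : Subgroup Ω} (hker : ∀ s : S, θ s = 1 ↔ (s : Ω) ∈ Q) {P : Subgroup Ω} (hPS : P ≤ S) {X' : Subgroup Ω'}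
    (hX' : X' ≤ θ.range) : IsPGroup p (liftSub F θ Q hPS X') := by
  obtain ⟨k, hk⟩ := IsPGroup.iff_card.mp hS
  have hpow : ∀ g : S, g ^ (p ^ k) = 1 := fun g => by rw [← hk]; exact pow_card_eq_one'
  rintro ⟨β, hβ⟩
  refine ⟨k + k, Subtype.ext ?_⟩
  show β ^ p ^ (k + k) = 1
  rw [pow_add, pow_mul]
  set n := p ^ k with hn
  obtain ⟨-, hβ1, x', hx', hβx⟩ := hβ
  have hx'n : x' ^ n = 1 := by
    obtain ⟨s, rfl⟩ := hX' hx'
    rw [← map_pow, hpow, map_one]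
  apply pow_eq_one_of_stabilizes (β ^ n) (Q.subgroupOf P) n
  · intro v _
    apply Subtype.ext
    have := congrArg Subtype.val (hpow ⟨v, hPS v.2⟩)
    simpa using this
  · intro x
    rw [Subgroup.mem_subgroupOf]
    have h1 := pow_witness θ hPS β x' hβx n x
    rw [hx'n] at h1
    have h2 : θ (⟨x, hPS x.2⟩⁻¹ * ⟨(β ^ n) x, hPS ((β ^ n) x).2⟩) = 1 := by
      rw [map_mul, map_inv, h1]
      group
    exact (hker _).mp h2
  · intro v hv
    rw [Subgroup.mem_subgroupOf] at hv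
    exact pow_fix β v (hβ1 v hv) n

/-- `liftSub` is normal in `Aut_F(P)` when `X'` is normal in the factor system. -/
theorem liftSub_normal [Finite S] {p : ℕ} [Fact p.Prime] (hS : IsPGroup p S) (F : FusionSystem S)
    (hF : F.IsSaturated p) {Q : Subgroup Ω} (hQ : F.StronglyClosed Q) (θ : S →* Ω') {S' : Subgroup Ω'}
    (E : FusionSystem S') (hE : F.IsFactorSystem Q θ E) {X' : Subgroup Ω'} (hX' : E.IsNormal X')
    {P : Subgroup Ω} (hPS : P ≤ S) :
    ((liftSub F θ Q hPS X').subgroupOf (F.autGroup P)).Normal := by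
  have hker := hE.2.1
  have hrange := hE.2.2.1
  constructor
  intro b hb a
  rw [Subgroup.mem_subgroupOf] at hb ⊢
  obtain ⟨hbA, hb1, x', hx', hbx⟩ := hb
  have haA : (a : MulAut P) ∈ F.autGroup P := a.2
  have haiso := (mem_autGroup_iff F hPS _).mp haA
  have hainv : (a : MulAut P)⁻¹ ∈ F.autGroup P := (F.autGroup P).inv_mem haA
  show ((a : MulAut P) * (b : MulAut P) * (a : MulAut P)⁻¹) ∈ liftSub F θ Q hPS X'
  -- the induced map on the image and its extension normalizing `X'`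
  obtain ⟨φ', ⟨φ₀, hφ₀, hind₀⟩, hind⟩ := exists_induced hS F hF hQ θ hker haiso
  have hPi : imageAlong θ P ≤ S' := by
    rw [← hrange]
    rintro _ ⟨x, -, rfl⟩
    exact ⟨x, rfl⟩
  have hφ'E : φ' ∈ E.Hom (imageAlong θ P) := (hE.2.2.2 _ _).mpr ⟨hPi, φ₀, hφ₀, hind₀⟩
  obtain ⟨ψ', hψ', hψφ, hψX⟩ := hX'.2 _ φ' hφ'E
  obtain ⟨hPS', hφS, hP', hcomm⟩ := hind
  refine ⟨(F.autGroup P).mul_mem ((F.autGroup P).mul_mem haA hbA) hainv, fun y hy => ?_, ?_⟩
  · rw [MulAut.mul_apply, MulAut.mul_apply]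
    have h1 : (((a : MulAut P)⁻¹ y : P) : Ω) ∈ Q := aut_mem_of_stronglyClosed F hQ hPS hainv y hy
    rw [hb1 _ h1, MulAut.apply_inv_self]
  · -- the new witness
    have hx'mem : x' ∈ imageAlong θ P ⊔ X' := Subgroup.mem_sup_right hx'
    have hy'X : ψ' ⟨x', hx'mem⟩ ∈ X' := by
      have h : ψ' ⟨x', hx'mem⟩ ∈ (X'.subgroupOf (imageAlong θ P ⊔ X')).map ψ' :=
        ⟨⟨x', hx'mem⟩, Subgroup.mem_subgroupOf.mpr hx', rfl⟩
      rwa [hψX] at h
    refine ⟨ψ' ⟨x', hx'mem⟩, hy'X, fun u => ?_⟩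
    have e0 : (⟨((a : MulAut P) * (b : MulAut P) * (a : MulAut P)⁻¹) u,
        hPS (((a : MulAut P) * (b : MulAut P) * (a : MulAut P)⁻¹) u).2⟩ : S) =
        ⟨(a : MulAut P) ((b : MulAut P) ((a : MulAut P)⁻¹ u)),
          hPS ((a : MulAut P) ((b : MulAut P) ((a : MulAut P)⁻¹ u))).2⟩ :=
      Subtype.ext (by rw [MulAut.mul_apply, MulAut.mul_apply])
    rw [e0]
    set v := (a : MulAut P)⁻¹ u with hv
    have hu : u = (a : MulAut P) v := by rw [hv, MulAut.apply_inv_self]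
    -- `θ (a (b v)) = φ' (θ (b v))`
    have h1 := hcomm ((b : MulAut P) v)
    have h2 := hcomm v
    have h3 := hbx v
    -- rewrite `θ (b v)` inside `imageAlong θ P ⊔ X'`
    have hθv : θ ⟨v, hPS v.2⟩ ∈ imageAlong θ P ⊔ X' := Subgroup.mem_sup_left (hP' v)
    have e1 : Subgroup.inclusion (le_sup_left : imageAlong θ P ≤ imageAlong θ P ⊔ X')
        ⟨θ ⟨(b : MulAut P) v, hPS ((b : MulAut P) v).2⟩, hP' ((b : MulAut P) v)⟩ =
        ⟨x', hx'mem⟩ * ⟨θ ⟨v, hPS v.2⟩, hθv⟩ * ⟨x', hx'mem⟩⁻¹ := Subtype.ext h3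
    have e2 : Subgroup.inclusion (le_sup_left : imageAlong θ P ≤ imageAlong θ P ⊔ X')
        ⟨θ ⟨v, hPS v.2⟩, hP' v⟩ = ⟨θ ⟨v, hPS v.2⟩, hθv⟩ := Subtype.ext rfl
    have h4 := hψφ ⟨θ ⟨(b : MulAut P) v, hPS ((b : MulAut P) v).2⟩, hP' ((b : MulAut P) v)⟩
    rw [e1, map_mul, map_mul, map_inv] at h4
    have h5 := hψφ ⟨θ ⟨v, hPS v.2⟩, hP' v⟩
    rw [e2] at h5
    have h6 : θ ⟨(a : MulAut P) ((b : MulAut P) v), hPS ((a : MulAut P) ((b : MulAut P) v)).2⟩ =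
        ψ' ⟨x', hx'mem⟩ * θ ⟨(a : MulAut P) v, hPS ((a : MulAut P) v).2⟩ * (ψ' ⟨x', hx'mem⟩)⁻¹ := by
      have h1' : φ' ⟨θ ⟨(b : MulAut P) v, hPS ((b : MulAut P) v).2⟩, hP' ((b : MulAut P) v)⟩ =
          θ ⟨(a : MulAut P) ((b : MulAut P) v), hPS ((a : MulAut P) ((b : MulAut P) v)).2⟩ := h1
      have h2' : φ' ⟨θ ⟨v, hPS v.2⟩, hP' v⟩ = θ ⟨(a : MulAut P) v, hPS ((a : MulAut P) v).2⟩ := h2
      rw [← h1', ← h4, h5, h2']
    have e3 : (⟨(a : MulAut P) v, hPS ((a : MulAut P) v).2⟩ : S) = ⟨u, hPS u.2⟩ := Subtype.ext (by rw [← hu])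
    rw [e3] at h6
    exact h6

/-- **Lifting lemma.** For `Q` normal in the saturated system `F` and `X'` normal in a factor system of `F` by `Q`, the
intersection of the full preimage of `X'` with `Q C_S(Q)` is normal in `F`. -/
theorem isNormal_preimage_inf [Finite S] {p : ℕ} [Fact p.Prime] (hS : IsPGroup p S) (F : FusionSystem S)
    (hF : F.IsSaturated p) {Q : Subgroup Ω} (hQ : F.IsNormal Q) (θ : S →* Ω') {S' : Subgroup Ω'}
    (E : FusionSystem S') (hE : F.IsFactorSystem Q θ E) {X' : Subgroup Ω'} (hX' : E.IsNormal X') :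
    F.IsNormal (preimageAlong θ X' ⊓ (Q ⊔ centralizerIn S Q)) := by
  have hQsc := stronglyClosed_of_isNormal F hQ
  have hker := hE.2.1
  have hrange := hE.2.2.1
  have hX'sc := stronglyClosed_of_isNormal E hX'
  have hXsc := stronglyClosed_preimageAlong hS F hF hQsc θ E hE hX'sc
  have hDsc := stronglyClosed_sup_centralizerIn hS F hF hQsc
  have hYsc := stronglyClosed_inf F hXsc hDsc
  rw [isNormal_iff_stronglyClosed_centric_radical hS F hF]
  refine ⟨hYsc, fun P hPc hPr => ?_⟩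
  have hPS : P ≤ S := hPc.1
  have hYS := hYsc.1
  have hQS : Q ≤ S := hQ.1
  have hQP : Q ≤ P := le_of_isNormal_of_centric_radical hS F hQ hPc hPr
  have hQn : ∀ g ∈ S, ∀ x ∈ Q, g * x * g⁻¹ ∈ Q := fun g hg x hx => conj_mem_of_stronglyClosed F hQsc hg hx
  have hX'range : X' ≤ θ.range := by rw [hrange]; exact hX'.1
  have hLle : liftSub F θ Q hPS X' ≤ Inn P := by
    rw [← hPr.2]
    intro β hβ
    have hβA : β ∈ F.autGroup P := hβ.1
    have h1 : (⟨β, hβA⟩ : F.autGroup P) ∈ pCore p (F.autGroup P) :=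
      Cfsg.Agent.Lib.le_pCore (liftSub_normal hS F hF hQsc θ E hE hX' hPS)
        ((isPGroup_liftSub hS F θ hker hPS hX'range).comap_subtype) (Subgroup.mem_subgroupOf.mpr hβ)
    exact ⟨⟨β, hβA⟩, h1, rfl⟩
  -- `N_Y(P) ≤ P`
  have hNY : ∀ d ∈ preimageAlong θ X' ⊓ (Q ⊔ centralizerIn S Q), d ∈ Subgroup.normalizer (P : Set Ω) → d ∈ P := by
    rintro d ⟨hdX, hdD⟩ hdN
    obtain ⟨q, hq, c, hc, rfl⟩ := exists_mul_of_mem_sup (U := Q) (P := centralizerIn S Q) inf_le_left hQn hdD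
    have hqP : q ∈ P := hQP hq
    have hcS : c ∈ S := hc.1
    have hcN : c ∈ Subgroup.normalizer (P : Set Ω) := by
      have h1 : c = q⁻¹ * (q * c) := by group
      rw [h1]
      exact Subgroup.mul_mem _ (Subgroup.inv_mem _ (Subgroup.le_normalizer hqP)) hdN
    have hqX : q ∈ preimageAlong θ X' := by
      refine (Helper85.mem_preimageAlong θ X' q).mpr ⟨hQS hq, ?_⟩
      rw [(hker ⟨q, hQS hq⟩).mpr hq]
      exact X'.one_mem
    have hcX : c ∈ preimageAlong θ X' := by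
      have h1 : c = q⁻¹ * (q * c) := by group
      rw [h1]
      exact Subgroup.mul_mem _ (Subgroup.inv_mem _ hqX) hdX
    obtain ⟨hcS', hcX'⟩ := (Helper85.mem_preimageAlong θ X' c).mp hcX
    have hcL : conjAut P c hcN ∈ liftSub F θ Q hPS X' := by
      refine ⟨(mem_autGroup_iff F hPS _).mpr (isIso_conjAut F hPS hcS hcN), fun x hx => ?_, θ ⟨c, hcS⟩, hcX', fun u => ?_⟩
      · apply Subtype.ext
        rw [conjAut_apply]
        have := Subgroup.mem_centralizer_iff.mp hc.2 x hx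
        rw [← this, mul_inv_cancel_right]
      · rw [← map_inv, ← map_mul, ← map_mul]
        congr 1
    obtain ⟨r, hr⟩ := hLle hcL
    have hcP : c ∈ P := by
      refine mem_of_conj_eq_inner (hPc.2 P (isConj_refl F hPS)) hcS hPS r (fun x => ?_)
      have := congrArg (fun β : MulAut P => ((β x : P) : Ω)) hr
      exact this
    exact P.mul_mem hqP hcP
  by_contra hnot
  set Y := preimageAlong θ X' ⊓ (Q ⊔ centralizerIn S Q) with hY
  have hYn : ∀ g ∈ S, ∀ x ∈ Y, g * x * g⁻¹ ∈ Y := fun g hg x hx => conj_mem_of_stronglyClosed F hYsc hg hx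
  have hKS : Y ⊔ P ≤ S := sup_le hYS hPS
  have hlt : P < Y ⊔ P := lt_of_le_of_ne le_sup_right (fun h => hnot (h ▸ le_sup_left))
  have hfin : Finite ↥(Y ⊔ P) := finite_of_le hKS
  have hp' : IsPGroup p ↥(Y ⊔ P) := hS.to_le hKS
  obtain ⟨g, hgN, hgP⟩ := SetLike.exists_of_lt (lt_normalizerIn hp' hlt)
  obtain ⟨u, hu, r, hr, rfl⟩ := exists_mul_of_mem_sup hPS hYn hgN.1
  apply hgP
  have huN : u ∈ Subgroup.normalizer (P : Set Ω) := by
    have h1 : u = u * r * r⁻¹ := by group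
    rw [h1]
    exact Subgroup.mul_mem _ hgN.2 (Subgroup.inv_mem _ (Subgroup.le_normalizer hr))
  exact P.mul_mem (hNY u hu huN) hr

/-- A subgroup normal in the system containing its centralizer in `S` is centric. -/
theorem isCentric_of_isNormal (F : FusionSystem S) {Q : Subgroup Ω} (hQ : F.IsNormal Q)
    (h : centralizerIn S Q ≤ Q) : F.IsCentric Q := by
  refine ⟨hQ.1, fun Q' hQ' => ?_⟩
  obtain ⟨φ, hφ, rfl⟩ := hQ'
  rw [(weaklyClosed_of_isNormal F hQ).2 φ hφ]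
  exact h

/-- If a factor system of the saturated system `F` by `O_p(F)` has a normal centric subgroup (is constrained), then
`C_S(O_p(F)) ≤ O_p(F)`. -/
theorem centralizerIn_core_le [Finite S] {p : ℕ} [Fact p.Prime] (hS : IsPGroup p S) (F : FusionSystem S)
    (hF : F.IsSaturated p) (θ : S →* Ω') {S' : Subgroup Ω'} (E : FusionSystem S')
    (hE : F.IsFactorSystem F.core θ E) {X' : Subgroup Ω'} (hX' : E.IsNormal X') (hX'c : E.IsCentric X') :
    centralizerIn S F.core ≤ F.core := by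
  have hQ : F.IsNormal F.core := Cfsg.Agent.S5145.result F
  have hQsc := stronglyClosed_of_isNormal F hQ
  have hker := hE.2.1
  have hrange := hE.2.2.1
  have hX'sc := stronglyClosed_of_isNormal E hX'
  have hXsc := stronglyClosed_preimageAlong hS F hF hQsc θ E hE hX'sc
  have hDsc := stronglyClosed_sup_centralizerIn hS F hF hQsc
  have hY := isNormal_preimage_inf hS F hF hQ θ E hE hX'
  have hYle : preimageAlong θ X' ⊓ (F.core ⊔ centralizerIn S F.core) ≤ F.core := le_sSup hY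
  intro d hd
  have hdS : d ∈ S := hd.1
  have hdD : d ∈ F.core ⊔ centralizerIn S F.core := Subgroup.mem_sup_right hd
  have hθdS' : θ ⟨d, hdS⟩ ∈ S' := by rw [← hrange]; exact ⟨_, rfl⟩
  have hcent : θ ⟨d, hdS⟩ ∈ centralizerIn S' X' := by
    refine ⟨hθdS', ?_⟩
    show _ ∈ Subgroup.centralizer (X' : Set Ω')
    rw [Subgroup.mem_centralizer_iff]
    intro x' hx'
    have hx'r : x' ∈ θ.range := by rw [hrange]; exact hX'.1 hx'
    obtain ⟨x, rfl⟩ := hx'r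
    have hxX : (x : Ω) ∈ preimageAlong θ X' := (Helper85.mem_preimageAlong θ X' _).mpr ⟨x.2, hx'⟩
    -- the commutator lies in `Y ≤ Q`
    have hw : (x : Ω) * d * (x : Ω)⁻¹ * d⁻¹ ∈ preimageAlong θ X' ⊓ (F.core ⊔ centralizerIn S F.core) := by
      refine ⟨?_, ?_⟩
      · have h1 : d * (x : Ω)⁻¹ * d⁻¹ ∈ preimageAlong θ X' :=
          conj_mem_of_stronglyClosed F hXsc hdS (Subgroup.inv_mem _ hxX)
        have h2 := Subgroup.mul_mem _ hxX h1
        have e : (x : Ω) * (d * (x : Ω)⁻¹ * d⁻¹) = (x : Ω) * d * (x : Ω)⁻¹ * d⁻¹ := by group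
        rwa [e] at h2
      · have h1 : (x : Ω) * d * (x : Ω)⁻¹ ∈ F.core ⊔ centralizerIn S F.core :=
          conj_mem_of_stronglyClosed F hDsc x.2 hdD
        exact Subgroup.mul_mem _ h1 (Subgroup.inv_mem _ hdD)
    have hwQ := hYle hw
    have hwS : (x : Ω) * d * (x : Ω)⁻¹ * d⁻¹ ∈ S := hQ.1 hwQ
    have h1 : θ ⟨(x : Ω) * d * (x : Ω)⁻¹ * d⁻¹, hwS⟩ = 1 := (hker _).mpr hwQ
    have e : (⟨(x : Ω) * d * (x : Ω)⁻¹ * d⁻¹, hwS⟩ : S) = x * ⟨d, hdS⟩ * x⁻¹ * ⟨d, hdS⟩⁻¹ := Subtype.ext rfl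
    rw [e, map_mul, map_mul, map_mul, map_inv, map_inv] at h1
    calc θ x * θ ⟨d, hdS⟩ = θ x * θ ⟨d, hdS⟩ * (θ x)⁻¹ * (θ ⟨d, hdS⟩)⁻¹ * θ ⟨d, hdS⟩ * θ x := by group
      _ = θ ⟨d, hdS⟩ * θ x := by rw [h1, one_mul]
  have hθdX : θ ⟨d, hdS⟩ ∈ X' := hX'c.2 X' (isConj_refl E hX'.1) hcent
  have hdX : d ∈ preimageAlong θ X' := (Helper85.mem_preimageAlong θ X' d).mpr ⟨hdS, hθdX⟩
  exact hYle ⟨hdX, hdD⟩

end Cfsg.Agent.Helper86.QdLift
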