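import Cfsg.Agent.Helper86.FusChain
import Cfsg.Agent.S5132
import Cfsg.Agent.S5133
import Cfsg.Agent.S5134
import Cfsg.Agent.S5240
import Cfsg.Agent.S5241
set_option autoImplicit false

/-! # Glauberman functors control `Qd(p)`-free saturated systems (helper86)

By induction on the order of `S`: a saturated `Qd(p)`-free system `F` over `S` is constrained and `W(S)` is normal in it,
for every Glauberman functor `W`. -/

namespace Cfsg.Agent.Helper86.QdMain

open Cfsg Cfsg.FusionSystem Cfsg.Agent.Helper87 Cfsg.Agent.Helper51.FusWC Cfsg.Agent.Helper86.QdLift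
  Cfsg.Agent.Helper86.QdModel Cfsg.Agent.Helper86.FusChain

universe u

variable {p : ℕ} [Fact p.Prime]

/-- **The case `O_p(F) ≠ 1`**, given the statement for the smaller orders. -/
theorem of_core_ne_bot (W : ∀ (Q : Type u) [Group Q], Subgroup Q)
    (hW2 : ∀ (Q R : Type u) [Group Q] [Group R] [Finite Q], IsPGroup p Q → ∀ φ : Q ≃* R,
      (W Q).map φ.toMonoidHom = W R)
    (hW3 : ∀ (L : Type u) [Group L] [Finite L] (P : Sylow p L),
      Subgroup.centralizer ((Cfsg.pCore p L : Subgroup L) : Set L) =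
        Cfsg.pCore p L ⊓ Subgroup.centralizer ((Cfsg.pCore p L : Subgroup L) : Set L) →
      ¬ Cfsg.Involves ↥(Cfsg.qd p) L →
      (((W ↥(P : Subgroup L)).map (P : Subgroup L).subtype : Subgroup L)).Normal)
    (n : ℕ)
    (IH : ∀ m, m < n → ∀ (Ω' : Type u) [Group Ω'] (S' : Subgroup Ω') [Finite S'], IsPGroup p S' → Nat.card S' = m →
      ∀ F' : FusionSystem S', F'.IsSaturated p → F'.IsSectionFree p ↥(Cfsg.qd p) →
        F'.IsNormal (Wf W S') ∧ F'.IsConstrained p)
    {Ω : Type u} [Group Ω] {S : Subgroup Ω} [Finite S] (hS : IsPGroup p S) (hcard : Nat.card S ≤ n)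
    (F : FusionSystem S) (hF : F.IsSaturated p) (hfree : F.IsSectionFree p ↥(Cfsg.qd p)) (hcore : F.core ≠ ⊥) :
    F.IsNormal (Wf W S) ∧ F.IsConstrained p := by
  have hQ : F.IsNormal F.core := Cfsg.Agent.S5145.result F
  have hQsc := stronglyClosed_of_isNormal F hQ
  haveI hnorm : (F.core.subgroupOf S).Normal := normal_subgroupOf_of_stronglyClosed F hQsc
  obtain ⟨E, hE⟩ := Cfsg.Agent.S5132.result p hS F F.core hQsc
  have hEsurj := Cfsg.Agent.S5134.result p hS F hF F.core hQsc _ E hE
  have hEsat := Cfsg.Agent.S5133.result p hS F hF E _ hEsurj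
  have hEfree := Cfsg.Agent.S5241.result p hS F hF F.core hQ hfree _ E hE
  have hKne : F.core.subgroupOf S ≠ ⊥ := by
    intro h
    apply hcore
    rw [Subgroup.eq_bot_iff_forall]
    intro x hx
    have h1 : (⟨x, hQ.1 hx⟩ : S) ∈ F.core.subgroupOf S := Subgroup.mem_subgroupOf.mpr hx
    rw [h, Subgroup.mem_bot] at h1
    exact congrArg Subtype.val h1
  have hcard' : Nat.card (⊤ : Subgroup (S ⧸ F.core.subgroupOf S)) < n := by
    rw [Subgroup.card_top, ← Subgroup.index_eq_card]
    have h1 := Subgroup.index_mul_card (F.core.subgroupOf S)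
    have h2 : 1 < Nat.card (F.core.subgroupOf S) := by
      rw [Subgroup.one_lt_card_iff_ne_bot]
      exact hKne
    have h3 : 0 < (F.core.subgroupOf S).index := Nat.pos_of_ne_zero Subgroup.index_ne_zero_of_finite
    nlinarith
  have hp' : IsPGroup p (⊤ : Subgroup (S ⧸ F.core.subgroupOf S)) :=
    (hS.to_quotient (F.core.subgroupOf S)).to_subgroup ⊤
  obtain ⟨-, -, X', hX', hX'c⟩ := IH _ hcard' (S ⧸ F.core.subgroupOf S) ⊤ hp' rfl E hEsat hEfree
  have hcen := centralizerIn_core_le hS F hF _ E hE hX' hX'c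
  exact ⟨isNormal_Wf_of_normal_centric W hW2 hW3 hS F hF hfree hQ hcen, hF, F.core, hQ,
    isCentric_of_isNormal F hQ hcen⟩

/-- **Main theorem**: a saturated `Qd(p)`-free system is constrained and `W(S)` is normal in it. -/
theorem main_aux (W : ∀ (Q : Type u) [Group Q], Subgroup Q)
    (hW1 : ∀ (Q : Type u) [Group Q] [Finite Q], IsPGroup p Q → Nontrivial Q → W Q ≠ ⊥)
    (hW2 : ∀ (Q R : Type u) [Group Q] [Group R] [Finite Q], IsPGroup p Q → ∀ φ : Q ≃* R,
      (W Q).map φ.toMonoidHom = W R)
    (hW3 : ∀ (L : Type u) [Group L] [Finite L] (P : Sylow p L),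
      Subgroup.centralizer ((Cfsg.pCore p L : Subgroup L) : Set L) =
        Cfsg.pCore p L ⊓ Subgroup.centralizer ((Cfsg.pCore p L : Subgroup L) : Set L) →
      ¬ Cfsg.Involves ↥(Cfsg.qd p) L →
      (((W ↥(P : Subgroup L)).map (P : Subgroup L).subtype : Subgroup L)).Normal) :
    ∀ (n : ℕ) (Ω : Type u) [Group Ω] (S : Subgroup Ω) [Finite S], IsPGroup p S → Nat.card S = n →
      ∀ F : FusionSystem S, F.IsSaturated p → F.IsSectionFree p ↥(Cfsg.qd p) →
        F.IsNormal (Wf W S) ∧ F.IsConstrained p := by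
  intro n
  induction n using Nat.strong_induction_on with
  | _ n IH =>
  intro Ω _ S _ hS hn F hF hfree
  by_cases hcore : F.core = ⊥
  · have hH : ∀ R' : Subgroup Ω, R' ≠ ⊥ → F.IsFullyNormalized R' →
        ∀ N : FusionSystem (normalizerIn S R'), F.IsNormalizerSystem R' N →
          N.IsNormal (Wf W (normalizerIn S R')) := by
      intro R' hR'ne hR'fn N hN
      have hR'S := hR'fn.1
      haveI : Finite ↥(normalizerIn S R') := finite_of_le inf_le_left
      have hNsat := Cfsg.Agent.S5098.result p hS F hF R' hR'fn N hN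
      have hNfree := Cfsg.Agent.S5240.result p hS F hF hfree R' hR'fn N hN
      have hR'N : N.IsNormal R' := isNormal_normalizerSystem F hR'S N hN
      have hNcore : N.core ≠ ⊥ := by
        intro h
        apply hR'ne
        have h1 : R' ≤ N.core := le_sSup hR'N
        rw [h] at h1
        exact le_bot_iff.mp h1
      have hTp : IsPGroup p ↥(normalizerIn S R') := hS.to_le inf_le_left
      have hTcard : Nat.card ↥(normalizerIn S R') ≤ n := by
        rw [← hn]; exact Subgroup.card_le_of_le inf_le_left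
      exact (of_core_ne_bot W hW2 hW3 n IH (S := normalizerIn S R') hTp hTcard N hNsat hNfree hNcore).1
    have hWn := isNormal_Wf_of_local hS W hW1 hW2 F hF hH
    have hWbot : Wf W S = ⊥ := by
      have h1 : Wf W S ≤ F.core := le_sSup hWn
      rw [hcore] at h1
      exact le_bot_iff.mp h1
    have hSbot : S = ⊥ := by
      by_contra hne
      exact Wf_ne_bot W hW1 hS le_rfl hne hWbot
    refine ⟨hWn, hF, Wf W S, hWn, isCentric_of_isNormal F hWn ?_⟩
    intro x hx
    have h1 : x ∈ (⊥ : Subgroup Ω) := (le_of_eq hSbot) hx.1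
    rw [Subgroup.mem_bot.mp h1]
    exact Subgroup.one_mem _
  · exact of_core_ne_bot W hW2 hW3 n IH hS (le_of_eq hn) F hF hfree hcore

end Cfsg.Agent.Helper86.QdMain
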