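import Cfsg.Agent.Helper86.QdLift
import Cfsg.Agent.Helper87.NormModel
import Cfsg.Agent.Helper51.FusWC9
import Cfsg.Agent.S5090
import Cfsg.Agent.S5096
import Cfsg.Agent.S5098
set_option autoImplicit false

/-! # The constrained case of the functor form of Glauberman's ZJ-theorem (helper86)

If `Q` is normal in the saturated `Qd(p)`-free system `F` with `C_S(Q) ≤ Q`, then `W(S)` is normal in `F` for every
Glauberman functor `W`. -/

namespace Cfsg.Agent.Helper86.QdModel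

open Cfsg Cfsg.FusionSystem Cfsg.Agent.Helper87 Cfsg.Agent.Helper51.FusWC Cfsg.Agent.Helper86.QdLift

universe u

section realized

variable {Ω : Type*} [Group Ω] {S : Subgroup Ω} {G : Type*} [Group G]

/-- For a system realized by `ι : S → G`, the preimage of a normal subgroup of `G` contained in `ι(S)` is normal in the
system. -/
theorem isNormal_preimageAlong_of_normal (F : FusionSystem S) (ι : S →* G) (hι : F.IsRealizedBy ι)
    (M : Subgroup G) [hOn : M.Normal] (hOT : M ≤ ι.range) : F.IsNormal (preimageAlong ι M) := by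
  obtain ⟨hinj, hreal⟩ := hι
  set U := preimageAlong ι M with hU
  have hUS : U ≤ S := Helper85.preimageAlong_le ι _
  have hmemU : ∀ (y : Ω) (hy : y ∈ S), y ∈ U ↔ ι ⟨y, hy⟩ ∈ M := by
    intro y hy
    rw [hU, Helper85.mem_preimageAlong]
    exact ⟨fun ⟨_, h⟩ => h, fun h => ⟨hy, h⟩⟩
  refine ⟨hUS, fun P φ hφ => ?_⟩
  have hPS : P ≤ S := (F.le_of_mem hφ).1
  have hφS : ∀ x : P, φ x ∈ S := (F.le_of_mem hφ).2
  obtain ⟨g, hg⟩ := (hreal P hPS φ hφS).1 hφ
  have hPUS : P ⊔ U ≤ S := sup_le hPS hUS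
  have hmem : ∀ y : ↥(P ⊔ U), g * ι ⟨y, hPUS y.2⟩ * g⁻¹ ∈ ι.range := by
    have hle : P ⊔ U ≤ preimageAlong ((MulAut.conj g).toMonoidHom.comp ι) ι.range := by
      apply sup_le
      · intro y hy
        rw [Helper85.mem_preimageAlong]
        refine ⟨hPS hy, ?_⟩
        show g * ι ⟨y, hPS hy⟩ * g⁻¹ ∈ ι.range
        rw [← hg ⟨y, hy⟩]
        exact ⟨_, rfl⟩
      · intro y hy
        rw [Helper85.mem_preimageAlong]
        refine ⟨hUS hy, ?_⟩
        show g * ι ⟨y, hUS hy⟩ * g⁻¹ ∈ ι.range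
        exact hOT (hOn.conj_mem _ ((hmemU y (hUS hy)).1 hy) g)
    intro y
    exact ((Helper85.mem_preimageAlong _ _ _).1 (hle y.2)).2
  obtain ⟨ψ, hψS, hιψ⟩ := exists_hom_of_conj ι hinj hPUS g hmem
  have hψF : ψ ∈ F.Hom (P ⊔ U) := by
    rw [hreal _ hPUS ψ hψS]
    exact ⟨g, hιψ⟩
  refine ⟨ψ, hψF, fun x => ?_, ?_⟩
  · have h1 : ι ⟨ψ (Subgroup.inclusion le_sup_left x), hψS _⟩ = ι ⟨φ x, hφS x⟩ := by
      rw [hιψ, hg]
      rfl
    exact congrArg Subtype.val (hinj h1)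
  · rw [Helper85.map_subgroupOf_eq_iff]
    refine ⟨fun x hx => ?_, fun y hy => ?_⟩
    · rw [hmemU _ (hψS x), hιψ]
      exact hOn.conj_mem _ ((hmemU _ (hPUS x.2)).1 hx) g
    · have h1 : g⁻¹ * ι ⟨y, hUS hy⟩ * g ∈ M := by
        have := hOn.conj_mem _ ((hmemU y (hUS hy)).1 hy) g⁻¹
        simpa using this
      obtain ⟨s, hs⟩ := hOT h1
      have hsU : (s : Ω) ∈ U := (hmemU s s.2).2 (by rw [hs]; exact h1)
      refine ⟨⟨s, le_sup_right (a := P) hsU⟩, hsU, ?_⟩
      have h2 : ι ⟨ψ ⟨s, le_sup_right (a := P) hsU⟩, hψS _⟩ = ι ⟨y, hUS hy⟩ := by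
        rw [hιψ]
        show g * ι s * g⁻¹ = _
        rw [hs]
        group
      exact congrArg Subtype.val (hinj h2)

/-- The preimage under an injective `ι` of the image of a subgroup of `S`. -/
theorem preimageAlong_map_subgroupOf (ι : S →* G) (hinj : Function.Injective ι) {V : Subgroup Ω} (hV : V ≤ S) :
    preimageAlong ι ((V.subgroupOf S).map ι) = V := by
  ext y
  rw [Helper85.mem_preimageAlong]
  constructor
  · rintro ⟨hy, s, hs, hsy⟩
    have : s = ⟨y, hy⟩ := hinj hsy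
    rw [this] at hs
    exact Subgroup.mem_subgroupOf.mp hs
  · intro hy
    exact ⟨hV hy, ⟨y, hV hy⟩, Subgroup.mem_subgroupOf.mpr hy, rfl⟩

/-- A subgroup normal in the system is fully normalized. -/
theorem isFullyNormalized_of_isNormal (F : FusionSystem S) {Q : Subgroup Ω} (hQ : F.IsNormal Q) :
    F.IsFullyNormalized Q := by
  refine ⟨hQ.1, fun Q' hQ' => ?_⟩
  obtain ⟨φ, hφ, rfl⟩ := hQ'
  rw [(weaklyClosed_of_isNormal F hQ).2 φ hφ]

/-- When `Q` is normal in `F`, the maps of the normalizer system of `Q` are all the maps of `F`. -/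
theorem normalizerHom_eq_of_isNormal (F : FusionSystem S) {Q : Subgroup Ω} (hQ : F.IsNormal Q) (P : Subgroup Ω) :
    F.normalizerHom Q P = F.Hom P := by
  have hSN : S ≤ Subgroup.normalizer (Q : Set Ω) := le_normalizer_of_isNormal F hQ
  ext φ
  constructor
  · intro h
    exact h.1
  · intro hφ
    obtain ⟨hPS, hφS⟩ := F.le_of_mem hφ
    refine ⟨hφ, fun x hx => ⟨hPS hx, hSN (hPS hx)⟩, fun x => ⟨hφS x, hSN (hφS x)⟩, ?_⟩
    exact hQ.2 P φ hφ

end realized

variable {p : ℕ} [Fact p.Prime]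

/-- **Constrained case.** -/
theorem isNormal_Wf_of_normal_centric (W : ∀ (Q : Type u) [Group Q], Subgroup Q)
    (hW2 : ∀ (Q R : Type u) [Group Q] [Group R] [Finite Q], IsPGroup p Q → ∀ φ : Q ≃* R,
      (W Q).map φ.toMonoidHom = W R)
    (hW3 : ∀ (L : Type u) [Group L] [Finite L] (P : Sylow p L),
      Subgroup.centralizer ((Cfsg.pCore p L : Subgroup L) : Set L) =
        Cfsg.pCore p L ⊓ Subgroup.centralizer ((Cfsg.pCore p L : Subgroup L) : Set L) →
      ¬ Cfsg.Involves ↥(Cfsg.qd p) L →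
      (((W ↥(P : Subgroup L)).map (P : Subgroup L).subtype : Subgroup L)).Normal)
    {Ω : Type u} [Group Ω] {S : Subgroup Ω} [Finite S] (hS : IsPGroup p S) (F : FusionSystem S)
    (hF : F.IsSaturated p) (hfree : F.IsSectionFree p ↥(Cfsg.qd p)) {Q : Subgroup Ω} (hQ : F.IsNormal Q)
    (hQc : centralizerIn S Q ≤ Q) : F.IsNormal (Wf W S) := by
  have hQS : Q ≤ S := hQ.1
  have hSN : S ≤ Subgroup.normalizer (Q : Set Ω) := le_normalizer_of_isNormal F hQ
  have hT : normalizerIn S Q = S := le_antisymm inf_le_left (le_inf le_rfl hSN)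
  have hQfn := isFullyNormalized_of_isNormal F hQ
  have hQcen := isCentric_of_isNormal F hQ hQc
  obtain ⟨E, hE⟩ := Cfsg.Agent.S5096.result F Q hQS
  have hfinT : Finite ↥(normalizerIn S Q) := finite_of_le inf_le_left
  have hEsat := Cfsg.Agent.S5098.result p hS F hF Q hQfn E hE
  have hTp : IsPGroup p ↥(normalizerIn S Q) := hS.to_le inf_le_left
  have hcon : E.IsConstrained p :=
    ⟨hEsat, Q, isNormal_normalizerSystem F hQS E hE, isCentric_normalizerSystem F hQcen E hE⟩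
  obtain ⟨L, hLg, ι, hmodel⟩ := Cfsg.Agent.S5090.result p hTp E hcon
  have hnot := hfree Q hQfn hQcen E hE L ι hmodel
  obtain ⟨hfin, hreal, ⟨Tsyl, hTsyl⟩, hCL⟩ := hmodel
  have hinj := hreal.1
  have hWn := hW3 L Tsyl (inf_eq_right.mpr hCL).symm hnot
  have hWT : Wf W (normalizerIn S Q) ≤ normalizerIn S Q := Wf_le W _
  have hWeq : Wf W (Tsyl : Subgroup L) =
      ((Wf W (normalizerIn S Q)).subgroupOf (normalizerIn S Q)).map ι := by
    rw [hTsyl]; exact Wf_range W hW2 _ hTp ι hinj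
  have hWn' : (((Wf W (normalizerIn S Q)).subgroupOf (normalizerIn S Q)).map ι).Normal := by
    rw [← hWeq]; exact hWn
  have hle : ((Wf W (normalizerIn S Q)).subgroupOf (normalizerIn S Q)).map ι ≤ ι.range := by
    rintro _ ⟨x, -, rfl⟩
    exact ⟨x, rfl⟩
  have hEn := isNormal_preimageAlong_of_normal E ι hreal _ hle
  have hWeqS : Wf W (normalizerIn S Q) = Wf W S := congrArg (fun T => Wf W T) hT
  rw [preimageAlong_map_subgroupOf ι hinj hWT, hWeqS] at hEn
  -- transfer from `E` to `F`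
  refine ⟨Wf_le W S, fun P φ hφ => ?_⟩
  have hφE : φ ∈ E.Hom P := by rw [hE P, normalizerHom_eq_of_isNormal F hQ]; exact hφ
  obtain ⟨ψ, hψ, hψx, hψW⟩ := hEn.2 P φ hφE
  rw [hE _, normalizerHom_eq_of_isNormal F hQ] at hψ
  exact ⟨ψ, hψ, hψx, hψW⟩

end Cfsg.Agent.Helper86.QdModel
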