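-- helper86: p-groups `S` with `|S : Z(S)| = p²`: the subgroups strictly between `Z(S)` and `S` are abelian of index `p`,
-- `S' ≤ Z(S)` has order `p`, and each such subgroup `B` admits an abelian subgroup `A` of index `p` with `B ⊄ A`.
import Cfsg.Agent.S5257
import Cfsg.Agent.Helper86.CenterRes

set_option autoImplicit false
open Cfsg

namespace Cfsg.Agent.Helper86

open Cfsg.FusionSystem Cfsg.Agent.Helper87 Cfsg.Agent.S5254
open scoped commutatorElement

variable {Ω : Type*} [Group Ω] {S : Subgroup Ω}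

theorem cen_subgroupOf_eq_center : (cen S).subgroupOf S = Subgroup.center ↥S := by
  ext s
  rw [Subgroup.mem_subgroupOf, mem_cen_iff, Subgroup.mem_center_iff]
  constructor
  · rintro ⟨-, h⟩ g
    exact Subtype.ext (h g g.2)
  · intro h
    exact ⟨s.2, fun g hg => congrArg Subtype.val (h ⟨g, hg⟩)⟩

theorem eq_prime_of_mul_eq_sq {p a b : ℕ} (hp : p.Prime) (hab : a * b = p ^ 2) (ha : a ≠ 1) (hb : b ≠ 1) :
    a = p ∧ b = p := by
  have hdvd : a ∣ p ^ 2 := ⟨b, hab.symm⟩
  obtain ⟨i, hi, rfl⟩ := (Nat.dvd_prime_pow hp).mp hdvd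
  have hi0 : i ≠ 0 := by
    rintro rfl
    exact ha (pow_zero p)
  have hi2 : i ≠ 2 := by
    rintro rfl
    have hpos : 0 < p ^ 2 := pow_pos hp.pos 2
    have : p ^ 2 * b = p ^ 2 * 1 := by rw [hab, mul_one]
    exact hb (Nat.eq_of_mul_eq_mul_left hpos this)
  have hi1 : i = 1 := by omega
  subst hi1
  rw [pow_one] at hab ⊢
  refine ⟨rfl, ?_⟩
  have : p * b = p * p := by rw [hab, sq]
  exact Nat.eq_of_mul_eq_mul_left hp.pos this

/-- Subgroups strictly between the centre and `S` have index `p`, and the centre has index `p` in them. -/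
theorem index_of_between [Finite S] {p : ℕ} [hp : Fact p.Prime] (hZ : (Subgroup.center ↥S).index = p ^ 2)
    {B : Subgroup Ω} (hZB : cen S ≤ B) (hBS : B ≤ S) (h1 : B ≠ cen S) (h2 : B ≠ S) :
    (cen S).relIndex B = p ∧ (B.subgroupOf S).index = p := by
  have e1 : (cen S).relIndex B * (B.subgroupOf S).index = p ^ 2 := by
    have hle : (cen S).subgroupOf S ≤ B.subgroupOf S := fun s hs => hZB hs
    have := Subgroup.relIndex_mul_index hle
    rw [Subgroup.relIndex_subgroupOf hBS, cen_subgroupOf_eq_center, hZ] at this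
    exact this
  refine eq_prime_of_mul_eq_sq hp.out e1 ?_ ?_
  · intro h
    exact h1 (le_antisymm (Subgroup.relIndex_eq_one.mp h) hZB)
  · intro h
    have := Subgroup.subgroupOf_eq_top.mp (Subgroup.index_eq_one.mp h)
    exact h2 (le_antisymm hBS this)

/-- Subgroups strictly between the centre and `S` are abelian. -/
theorem comm_of_between [Finite S] {p : ℕ} [hp : Fact p.Prime] (hZ : (Subgroup.center ↥S).index = p ^ 2)
    {B : Subgroup Ω} (hZB : cen S ≤ B) (hBS : B ≤ S) (h1 : B ≠ cen S) (h2 : B ≠ S) :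
    ∀ a ∈ B, ∀ b ∈ B, a * b = b * a := by
  obtain ⟨hrel, -⟩ := index_of_between hZ hZB hBS h1 h2
  set N : Subgroup B := (cen S).subgroupOf B with hN
  have hNc : N ≤ Subgroup.center B := by
    intro z hz
    rw [Subgroup.mem_center_iff]
    intro g
    exact Subtype.ext (((mem_cen_iff _).mp (Subgroup.mem_subgroupOf.mp hz)).2 g (hBS g.2))
  haveI : N.Normal := by
    constructor
    intro n hn g
    have := Subgroup.mem_center_iff.mp (hNc hn) g
    rw [this, mul_inv_cancel_right]
    exact hn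
  have hcard : Nat.card (B ⧸ N) = p := by
    rw [← Subgroup.index_eq_card]
    exact hrel
  haveI : IsCyclic (B ⧸ N) := isCyclic_of_prime_card hcard
  have key := commutative_of_cyclic_center_quotient (QuotientGroup.mk' N)
    (by rw [QuotientGroup.ker_mk']; exact hNc)
  intro a ha b hb
  exact congrArg Subtype.val (key ⟨a, ha⟩ ⟨b, hb⟩)

/-- The derived subgroup lies in the centre. -/
theorem commutator_le_cen [Finite S] {p : ℕ} [hp : Fact p.Prime] (hZ : (Subgroup.center ↥S).index = p ^ 2) :
    (commutator ↥S).map S.subtype ≤ cen S := by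
  have hcard : Nat.card (↥S ⧸ Subgroup.center ↥S) = p ^ 2 := by
    rw [← Subgroup.index_eq_card]
    exact hZ
  have hcomm := (IsPGroup.isMulCommutative_of_card_eq_prime_sq hcard).is_comm.comm
  have hle : commutator ↥S ≤ Subgroup.center ↥S := by
    rw [commutator_def, Subgroup.commutator_le]
    intro a _ b _
    rw [← QuotientGroup.eq_one_iff, ← QuotientGroup.mk'_apply, map_commutatorElement]
    exact commutatorElement_eq_one_iff_mul_comm.mpr (hcomm _ _)
  rintro _ ⟨s, hs, rfl⟩
  have := hle hs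
  rw [← cen_subgroupOf_eq_center] at this
  exact this

/-- For a subgroup `B` strictly between the centre and `S`, some abelian subgroup `A` of index `p` does not contain `B`. -/
theorem exists_setup_of_between [Finite S] {p : ℕ} [hp : Fact p.Prime] (hS : IsPGroup p S)
    (hZ : (Subgroup.center ↥S).index = p ^ 2) {B : Subgroup Ω} (hZB : cen S ≤ B) (hBS : B ≤ S) (h1 : B ≠ cen S)
    (h2 : B ≠ S) : ∃ (A : Subgroup Ω) (x : Ω), Setup p S A ∧ cen S ≤ A ∧ (cen S).relIndex A = p ∧ x ∈ B ∧ x ∉ A := by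
  obtain ⟨y, hyS, hyB⟩ := SetLike.exists_of_lt (lt_of_le_of_ne hBS h2)
  set A : Subgroup Ω := S ⊓ Subgroup.centralizer ({y} : Set Ω) with hA
  have hyA : y ∈ A := ⟨hyS, Subgroup.mem_centralizer_iff.mpr (fun g hg => by rw [Set.mem_singleton_iff.mp hg])⟩
  have hZA : cen S ≤ A := by
    intro z hz
    refine ⟨cen_le S hz, Subgroup.mem_centralizer_iff.mpr (fun g hg => ?_)⟩
    rw [Set.mem_singleton_iff.mp hg]
    exact ((mem_cen_iff _).mp hz).2 y hyS
  have hAS : A ≤ S := inf_le_left
  have hA1 : A ≠ cen S := by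
    intro h
    exact hyB (hZB (h ▸ hyA))
  have hA2 : A ≠ S := by
    intro h
    apply hyB
    apply hZB
    rw [mem_cen_iff]
    refine ⟨hyS, fun g hg => ?_⟩
    have hgA : g ∈ A := h ▸ hg
    exact (Subgroup.mem_centralizer_iff.mp hgA.2 y rfl).symm
  obtain ⟨hrelA, hidxA⟩ := index_of_between hZ hZA hAS hA1 hA2
  have hAcomm := comm_of_between hZ hZA hAS hA1 hA2
  have hAc : IsMulCommutative ↥A := by
    rw [isMulCommutative_iff]
    intro a b
    exact Subtype.ext (hAcomm a a.2 b b.2)
  have hsetup := setup_of hS hAS hAc hidxA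
  obtain ⟨-, hidxB⟩ := index_of_between hZ hZB hBS h1 h2
  have hnot : ¬ B ≤ A := by
    intro hBA
    apply hyB
    have hfin : Finite ↥A := finite_of_le hAS
    have hle : B.subgroupOf S ≤ A.subgroupOf S := fun s hs => hBA hs
    have := Subgroup.relIndex_mul_index hle
    rw [hidxA, hidxB] at this
    have h3 : (B.subgroupOf S).relIndex (A.subgroupOf S) = 1 := by
      have hpos : 0 < p := hp.out.pos
      have : (B.subgroupOf S).relIndex (A.subgroupOf S) * p = 1 * p := by rw [this, one_mul]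
      exact Nat.eq_of_mul_eq_mul_right hpos this
    have h4 := Subgroup.relIndex_eq_one.mp h3
    exact h4 (show (⟨y, hyS⟩ : S) ∈ A.subgroupOf S from hyA)
  obtain ⟨x, hxB, hxA⟩ := SetLike.not_le_iff_exists.mp hnot
  exact ⟨A, x, hsetup, hZA, hrelA, hxB, hxA⟩

/-- The derived subgroup has order `p`. -/
theorem card_commutator_of_setup [Finite S] {p : ℕ} [hp : Fact p.Prime] {A : Subgroup Ω} (h : Setup p S A)
    (hZA : cen S ≤ A) (hrel : (cen S).relIndex A = p) {x : Ω} (hxS : x ∈ S) (hxA : x ∉ A) :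
    Nat.card ↥((commutator ↥S).map S.subtype) = p := by
  set ψ := Cfsg.Agent.S5257.psi h hxS with hψ
  have hker : ψ.ker = (cen S).subgroupOf A := by
    ext a
    rw [Cfsg.Agent.S5257.mem_ker_psi h hxS hxA, Subgroup.mem_subgroupOf]
    rfl
  have hrange : Nat.card ψ.range = p := by
    rw [← Subgroup.index_ker, hker]
    exact hrel
  have heq : (commutator ↥S).map S.subtype = Cfsg.Agent.S5257.psiRange h hxS := by
    apply le_antisymm
    · rw [Subgroup.map_le_iff_le_comap, commutator_def, Subgroup.commutator_le]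
      intro g _ k _
      rw [Subgroup.mem_comap, commutatorElement_def]
      exact Cfsg.Agent.S5257.commutator_mem_psiRange h hxS hxA g g.2 k k.2
    · intro r hr
      obtain ⟨a, ha, rfl⟩ := (Cfsg.Agent.S5257.mem_psiRange h hxS r).mp hr
      refine ⟨(⟨a, h.hAS ha⟩ : S) * ⟨x, hxS⟩ * (⟨a, h.hAS ha⟩ : S)⁻¹ * (⟨x, hxS⟩ : S)⁻¹, ?_, rfl⟩
      rw [commutator_def, ← commutatorElement_def]
      exact Subgroup.commutator_mem_commutator (Subgroup.mem_top _) (Subgroup.mem_top _)
  rw [heq]
  unfold Cfsg.Agent.S5257.psiRange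
  rw [Subgroup.card_map_of_injective A.subtype_injective]
  exact hrange

end Cfsg.Agent.Helper86
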