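-- helper86: saturated fusion systems `F` with `O_p(F) = 1` over a `p`-group `S` with `|S : Z(S)| ≤ p²`: `S` is nonabelian,
-- `|S : Z(S)| = p²`, essential subgroups exist, lie strictly between `Z(S)` and `S`, are abelian of index `p`, and the maps of `F`
-- act on `Z(S)` as `Aut_F(S)` does.
import Cfsg.Agent.Helper86.SmallCenterIndex
import Cfsg.Agent.Helper86.EssPrep
import Cfsg.Agent.S5244

set_option autoImplicit false
open Cfsg

namespace Cfsg.Agent.Helper86

open Cfsg.FusionSystem Cfsg.Agent.Helper87 Cfsg.Agent.S5254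
open scoped commutatorElement

variable {Ω : Type*} [Group Ω] {S : Subgroup Ω}

theorem eq_bot_of_isNormal (F : FusionSystem S) (hcore : F.core = ⊥) {Q : Subgroup Ω} (hQ : F.IsNormal Q) : Q = ⊥ := by
  have h1 : Q ≤ F.core := le_sSup hQ
  rw [hcore] at h1
  exact le_bot_iff.mp h1

/-- If `O_p(F) = 1` and `S ≠ 1` then some subgroup is essential. -/
theorem exists_essential_of_core_bot [Finite S] {p : ℕ} [Fact p.Prime] (hS : IsPGroup p S) (F : FusionSystem S)
    (hF : F.IsSaturated p) (hS1 : S ≠ ⊥) (hcore : F.core = ⊥) : ∃ P : Subgroup Ω, F.IsEssential p P := by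
  by_contra hcon
  push Not at hcon
  apply hS1
  apply eq_bot_of_isNormal F hcore
  apply isNormal_of_forall_essential hS F hF
  intro R hR
  rcases hR with rfl | hess
  · refine ⟨le_rfl, fun α hα => ?_⟩
    apply Cfsg.Agent.S5244.map_subgroupOf_eq_of_forall (F.autGroup R) ?_ α hα
    intro β _ y _
    exact (β y).2
  · exact absurd hess (hcon R)

/-- If `O_p(F) = 1` and `S ≠ 1` then `S` is not commutative. -/
theorem not_comm_of_core_bot [Finite S] {p : ℕ} [Fact p.Prime] (hS : IsPGroup p S) (F : FusionSystem S)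
    (hF : F.IsSaturated p) (hS1 : S ≠ ⊥) (hcore : F.core = ⊥) : ¬ IsMulCommutative ↥S := by
  intro hc
  obtain ⟨P, hP⟩ := exists_essential_of_core_bot hS F hF hS1 hcore
  have hlt := Cfsg.Agent.S5326.lt_of_isEssential hS F hF hP
  obtain ⟨s, hsS, hsP⟩ := SetLike.exists_of_lt hlt
  apply hsP
  apply hP.1.2 P (isConj_refl F hP.1.1)
  rw [mem_centralizerIn_iff]
  refine ⟨hsS, fun g hg => ?_⟩
  have := hc.is_comm.comm (⟨g, hP.1.1 hg⟩ : S) ⟨s, hsS⟩
  exact congrArg Subtype.val this

/-- A nonabelian `p`-group whose centre has index at most `p²` has centre of index exactly `p²`. -/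
theorem center_index_eq [Finite S] {p : ℕ} [hp : Fact p.Prime] (hS : IsPGroup p S) (hna : ¬ IsMulCommutative ↥S)
    (hZ : (Subgroup.center ↥S).index ≤ p ^ 2) : (Subgroup.center ↥S).index = p ^ 2 := by
  obtain ⟨n, hn⟩ := hS.index (Subgroup.center ↥S)
  rw [hn] at hZ ⊢
  have hn2 : n ≤ 2 := (Nat.pow_le_pow_iff_right hp.out.one_lt).mp hZ
  have hn0 : n ≠ 0 := by
    rintro rfl
    rw [pow_zero, Subgroup.index_eq_one] at hn
    exact hna (Subgroup.center_eq_top_iff.mp hn)
  have hn1 : n ≠ 1 := by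
    rintro rfl
    rw [pow_one] at hn
    have hcard : Nat.card (↥S ⧸ Subgroup.center ↥S) = p := by
      rw [← Subgroup.index_eq_card]
      exact hn
    haveI : IsCyclic (↥S ⧸ Subgroup.center ↥S) := isCyclic_of_prime_card hcard
    have key := commutative_of_cyclic_center_quotient (QuotientGroup.mk' (Subgroup.center ↥S))
      (by rw [QuotientGroup.ker_mk'])
    exact hna ⟨⟨key⟩⟩
  have : n = 2 := by omega
  rw [this]

/-- An essential subgroup lies strictly between `Z(S)` and `S`. -/
theorem essential_between [Finite S] {p : ℕ} [Fact p.Prime] (hS : IsPGroup p S) (F : FusionSystem S)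
    (hF : F.IsSaturated p) (hna : ¬ IsMulCommutative ↥S) {P : Subgroup Ω} (hP : F.IsEssential p P) :
    cen S ≤ P ∧ P ≤ S ∧ P ≠ cen S ∧ P ≠ S := by
  refine ⟨cen_le_of_centric F hP.1, hP.1.1, ?_, (Cfsg.Agent.S5326.lt_of_isEssential hS F hF hP).ne⟩
  intro hPZ
  apply hna
  rw [isMulCommutative_iff]
  intro a b
  have ha : (a : Ω) ∈ P := by
    apply hP.1.2 P (isConj_refl F hP.1.1)
    rw [mem_centralizerIn_iff]
    refine ⟨a.2, fun g hg => ?_⟩
    rw [hPZ, mem_cen_iff] at hg
    exact (hg.2 a a.2).symm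
  rw [hPZ, mem_cen_iff] at ha
  exact Subtype.ext (ha.2 b b.2).symm

/-- The commutator subgroup lies in the centre (abstract version). -/
theorem commutator_le_center [Finite S] {p : ℕ} [hp : Fact p.Prime] (hZ : (Subgroup.center ↥S).index = p ^ 2) :
    commutator ↥S ≤ Subgroup.center ↥S := by
  have hcard : Nat.card (↥S ⧸ Subgroup.center ↥S) = p ^ 2 := by
    rw [← Subgroup.index_eq_card]
    exact hZ
  have hcomm := (IsPGroup.isMulCommutative_of_card_eq_prime_sq hcard).is_comm.comm
  rw [commutator_def, Subgroup.commutator_le]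
  intro a _ b _
  rw [← QuotientGroup.eq_one_iff, ← QuotientGroup.mk'_apply, map_commutatorElement]
  exact commutatorElement_eq_one_iff_mul_comm.mpr (hcomm _ _)

/-- The data available at every essential subgroup. -/
theorem essential_data [Finite S] {p : ℕ} [hp : Fact p.Prime] (hS : IsPGroup p S) (F : FusionSystem S)
    (hF : F.IsSaturated p) (hna : ¬ IsMulCommutative ↥S) (hZ : (Subgroup.center ↥S).index = p ^ 2)
    {P : Subgroup Ω} (hP : F.IsEssential p P) :
    (∀ a ∈ P, ∀ b ∈ P, a * b = b * a) ∧ (cen S).relIndex P = p ∧ (P.subgroupOf S).index = p ∧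
      ∃ (A : Subgroup Ω) (x : Ω), Setup p S A ∧ cen S ≤ A ∧ (cen S).relIndex A = p ∧ x ∈ P ∧ x ∉ A := by
  obtain ⟨h1, h2, h3, h4⟩ := essential_between hS F hF hna hP
  obtain ⟨h5, h6⟩ := index_of_between hZ h1 h2 h3 h4
  exact ⟨comm_of_between hZ h1 h2 h3 h4, h5, h6, exists_setup_of_between hS hZ h1 h2 h3 h4⟩

/-- The maps of `F` act on `Z(S)` as `Aut_F(S)` does. -/
theorem hglobal_of_index [Finite S] {p : ℕ} [hp : Fact p.Prime] (hS : IsPGroup p S) (F : FusionSystem S)
    (hF : F.IsSaturated p) (hna : ¬ IsMulCommutative ↥S) (hZ : (Subgroup.center ↥S).index = p ^ 2) :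
    ∀ P : Subgroup Ω, F.Hom P ⊆ (cenSystem F).Hom P := by
  apply hom_subset_cenSystem hS F hF
  intro R hR hRna
  exact absurd (essential_data hS F hF hna hZ hR).1 hRna

/-- `Z(S) ∩ S' = S'` has order `p`. -/
theorem card_cen_inf_commutator [Finite S] {p : ℕ} [hp : Fact p.Prime] (hS : IsPGroup p S) (F : FusionSystem S)
    (hF : F.IsSaturated p) (hna : ¬ IsMulCommutative ↥S) (hZ : (Subgroup.center ↥S).index = p ^ 2)
    {P : Subgroup Ω} (hP : F.IsEssential p P) :
    Nat.card ↥(cen S ⊓ (commutator ↥S).map S.subtype) = p := by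
  obtain ⟨-, -, -, A, x, h, hZA, hrel, hxP, hxA⟩ := essential_data hS F hF hna hZ hP
  have := card_commutator_of_setup h hZA hrel (hP.1.1 hxP) hxA
  rw [inf_eq_right.mpr (commutator_le_cen hZ)]
  exact this

end Cfsg.Agent.Helper86
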