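-- helper86: for odd `p`, a saturated fusion system with `O_p(F) = 1` over a `p`-group `S` with `|S : Z(S)| = p²` has `|Z(S)| ≤ p`,
-- and the essential subgroups have exponent `p`.
import Cfsg.Agent.Helper86.SCIBase
import Cfsg.Agent.Helper86.LocalTwo
import Cfsg.Agent.Helper87.Class2
import Cfsg.Agent.Helper63.Extraspecial

set_option autoImplicit false
open Cfsg

namespace Cfsg.Agent.Helper86

open Cfsg.FusionSystem Cfsg.Agent.Helper87 Cfsg.Agent.S5254 Cfsg.Agent.S5244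
open scoped commutatorElement

variable {Ω : Type*} [Group Ω] {S : Subgroup Ω}

/-- For odd `p`: `|Z(S)| ≤ p`. -/
theorem card_cen_le_of_odd [Finite S] {p : ℕ} [hp : Fact p.Prime] (hp2 : p ≠ 2) (hS : IsPGroup p S)
    (F : FusionSystem S) (hF : F.IsSaturated p) (hS1 : S ≠ ⊥) (hcore : F.core = ⊥) (hna : ¬ IsMulCommutative ↥S)
    (hZ : (Subgroup.center ↥S).index = p ^ 2) : Nat.card (cen S) ≤ p := by
  obtain ⟨P, hP⟩ := exists_essential_of_core_bot hS F hF hS1 hcore
  have hglobal := hglobal_of_index hS F hF hna hZ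
  have hZ₀c := card_cen_inf_commutator hS F hF hna hZ hP
  have hcoreQ : ∀ Q : Subgroup Ω, F.IsNormal Q → Q = ⊥ := fun Q hQ => eq_bot_of_isNormal F hcore hQ
  have hactS : ∀ β ∈ F.autGroup S, ∃ κ ∈ cenAut F, ∀ (z : cen S) (hz : (z : Ω) ∈ S),
      ((β ⟨z, hz⟩ : S) : Ω) = ((κ z : cen S) : Ω) :=
    fun β hβ => ⟨resZHom β, ⟨β, hβ, rfl⟩, fun z hz => rfl⟩
  obtain ⟨hPcomm, -, -, A, x, h, -, -, hxP, hxA⟩ := essential_data hS F hF hna hZ hP
  obtain ⟨⟨ι, hιK, hιinv, hιcard⟩, -⟩ := local_main hp2 hS F hF h hna hglobal hZ₀c hP hxP hxA hPcomm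
  have hunique : ∀ κ ∈ cenAut F, QInv κ → κ = ι := fun κ hκ hκinv => qinv_unique hS F hF hZ₀c hκ hιK hκinv hιinv
  -- `ι` is central in `cenAut F`
  have hcentral : ∀ κ ∈ cenAut F, ∀ z : cen S, ι (κ z) = κ (ι z) := by
    intro κ hκ z
    have hκ' : κ⁻¹ ∈ cenAut F := (cenAut F).inv_mem hκ
    have hconj : QInv (κ * ι * κ⁻¹) := by
      refine ⟨fun w hw => ?_, fun w => ?_⟩
      · rw [MulAut.mul_apply, MulAut.mul_apply, hιinv.1 _ (cenAut_preserves F hκ' w hw), map_inv,
          MulAut.apply_inv_self]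
      · have h1 := hιinv.2 (κ⁻¹ w)
        have h2 := cenAut_preserves F hκ _ h1
        have e : w⁻¹ * (κ * ι * κ⁻¹) w = κ ((κ⁻¹ w)⁻¹ * ι (κ⁻¹ w)) := by
          rw [MulAut.mul_apply, MulAut.mul_apply, map_mul, map_inv, MulAut.apply_inv_self]
        rw [e]
        exact h2
    have h3 := hunique _ ((cenAut F).mul_mem ((cenAut F).mul_mem hκ hιK) hκ') hconj
    have h4 : (κ * ι * κ⁻¹) (κ z) = ι (κ z) := by rw [h3]
    rw [MulAut.mul_apply, MulAut.mul_apply, MulAut.inv_apply_self] at h4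
    exact h4.symm
  set Z₁ : Subgroup Ω := (fixSub ι).map (cen S).subtype with hZ₁
  have hZ₁mem : ∀ z : cen S, (z : Ω) ∈ Z₁ ↔ ι z = z := by
    intro z
    constructor
    · rintro ⟨w, hw, hwz⟩
      have : w = z := Subtype.ext hwz
      rw [← this]
      exact hw
    · intro hz
      exact ⟨z, hz, rfl⟩
  have hZ₁Z : Z₁ ≤ cen S := by
    rintro _ ⟨w, -, rfl⟩
    exact w.2
  -- an automorphism acting on the centre through `cenAut F` preserves `Z₁`
  have hpres : ∀ (R : Subgroup Ω) (β : MulAut R), (∃ κ ∈ cenAut F, ∀ (z : cen S) (hz : (z : Ω) ∈ R),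
      ((β ⟨z, hz⟩ : R) : Ω) = ((κ z : cen S) : Ω)) → ∀ y : R, (y : Ω) ∈ Z₁ → ((β y : R) : Ω) ∈ Z₁ := by
    rintro R β ⟨κ, hκ, hκz⟩ y hy
    have hyZ : (y : Ω) ∈ cen S := hZ₁Z hy
    have h1 := hκz ⟨y, hyZ⟩ y.2
    rw [show (⟨((⟨(y : Ω), hyZ⟩ : cen S) : Ω), y.2⟩ : R) = y from rfl] at h1
    rw [h1, hZ₁mem, hcentral κ hκ, (hZ₁mem ⟨y, hyZ⟩).mp hy]
  have hZ₁normal : F.IsNormal Z₁ := by
    apply isNormal_of_forall_essential hS F hF
    intro R hR
    have hRS : R ≤ S := by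
      rcases hR with rfl | hess
      · exact le_rfl
      · exact hess.1.1
    have hZR : cen S ≤ R := by
      rcases hR with rfl | hess
      · exact cen_le _
      · exact cen_le_of_centric F hess.1
    refine ⟨hZ₁Z.trans hZR, fun α hα => ?_⟩
    apply map_subgroupOf_eq_of_forall (F.autGroup R) ?_ α hα
    intro β hβ y hy
    rcases hR with rfl | hess
    · exact hpres _ β (hactS β hβ) y hy
    · obtain ⟨hRcomm, -, -, A', x', h', -, -, hx'R, hx'A⟩ := essential_data hS F hF hna hZ hess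
      obtain ⟨-, hloc⟩ := local_main hp2 hS F hF h' hna hglobal hZ₀c hess hx'R hx'A hRcomm
      rcases hloc β hβ with hI | ⟨⟨κ, hκ, hκinv, hκfix⟩, ⟨κ', hκ', hκ'inv, hκ'fix⟩⟩
      · exact hpres R β hI y hy
      · rw [hunique κ hκ hκinv] at hκfix
        rw [hunique κ' hκ' hκ'inv] at hκ'fix
        have hyZ : (y : Ω) ∈ cen S := hZ₁Z hy
        have hιy : ι ⟨y, hyZ⟩ = ⟨y, hyZ⟩ := (hZ₁mem ⟨y, hyZ⟩).mp hy
        obtain ⟨y', hy'Z, hy'⟩ := (hκ'fix ⟨y, hyZ⟩).mp hιy
        have hy'eq : y' = β y := by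
          have h1 : β⁻¹ y' = y := Subtype.ext hy'
          rw [← h1, MulAut.apply_inv_self]
        rw [← hy'eq]
        rw [show (y' : Ω) = ((⟨y', hy'Z⟩ : cen S) : Ω) from rfl, hZ₁mem, hκfix]
        refine ⟨y, hyZ, ?_⟩
        rw [← hy'eq]
  have hZ₁bot : Z₁ = ⊥ := hcoreQ Z₁ hZ₁normal
  have htriv : ∀ z : cen S, ι z = z → z = 1 := by
    intro z hz
    have h1 := (hZ₁mem z).mpr hz
    rw [hZ₁bot, Subgroup.mem_bot] at h1
    exact Subtype.ext h1
  exact hιcard htriv

/-- If `|Z(S)| = p`, every essential subgroup has exponent `p`. -/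
theorem essential_pow_eq_one [Finite S] {p : ℕ} [hp : Fact p.Prime] (hS : IsPGroup p S)
    (F : FusionSystem S) (hF : F.IsSaturated p) (hna : ¬ IsMulCommutative ↥S)
    (hZ : (Subgroup.center ↥S).index = p ^ 2) (hZc : Nat.card (cen S) = p) {P : Subgroup Ω}
    (hP : F.IsEssential p P) : ∀ y ∈ P, y ^ p = 1 := by
  have hglobal := hglobal_of_index hS F hF hna hZ
  have hZ₀c := card_cen_inf_commutator hS F hF hna hZ hP
  obtain ⟨hPcomm, -, -, A, x, h, -, -, hxP, hxA⟩ := essential_data hS F hF hna hZ hP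
  obtain ⟨t, D⟩ := local_prep hS F hF h hna hglobal hZ₀c hP hxP hxA hPcomm
  obtain ⟨g, hgG, hg⟩ := D.hex
  have hPS : P ≤ S := hP.1.1
  have hfinP : Finite P := finite_of_le hPS
  have hfinZ : Finite (cen S) := finite_of_le (cen_le S)
  have hcommP : ∀ a b : P, a * b = b * a := fun a b => Subtype.ext (hPcomm a a.2 b b.2)
  have hZ₀Z : (cen S ⊓ (commutator ↥S).map S.subtype).subgroupOf P ≤ (cen S).subgroupOf P := by
    intro y hy
    exact Subgroup.mem_subgroupOf.mpr (Subgroup.mem_subgroupOf.mp hy).1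
  have hnot : ¬ ((cen S ⊓ (commutator ↥S).map S.subtype).subgroupOf P).map (g : P ≃* P).toMonoidHom ≤
      (cen S).subgroupOf P := fun hle =>
    hg (conj_mem_zpowers_of_map_le (hS.to_le hPS) (F.autGroup P) t D.htG D.hmax _ _ hZ₀Z D.hfix D.hcm g hgG hle)
  obtain ⟨w, ⟨z, hz, hzw⟩, hwZ⟩ := SetLike.not_le_iff_exists.mp hnot
  have hZpp : ∀ c : P, c ∈ (cen S).subgroupOf P → c ^ p = 1 := by
    intro c hc
    have h1 : (⟨(c : Ω), Subgroup.mem_subgroupOf.mp hc⟩ : cen S) ^ p = 1 := by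
      rw [← hZc]
      exact pow_card_eq_one'
    apply Subtype.ext
    rw [Subgroup.coe_pow]
    exact congrArg Subtype.val h1
  have hwp : w ^ p = 1 := by
    rw [← hzw]
    show ((g : P ≃* P) z) ^ p = 1
    rw [← map_pow, hZpp z (hZ₀Z hz), map_one]
  intro y hy
  haveI : ((cen S).subgroupOf P).Normal :=
    ⟨fun n hn a => by rw [hcommP a n, mul_inv_cancel_right]; exact hn⟩
  obtain ⟨i, hi⟩ := exists_mul_pow_mem_of_index_prime hp.out _ D.hZpi hwZ ⟨y, hy⟩
  have h1 := hZpp _ hi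
  have hcm : Commute (⟨y, hy⟩ : P) (w ^ i) := hcommP _ _
  rw [hcm.mul_pow, ← pow_mul, mul_comm i p, pow_mul, hwp, one_pow, mul_one] at h1
  have := congrArg Subtype.val h1
  rw [Subgroup.coe_pow] at this
  exact this

/-- For odd `p`: if `|Z(S)| = p` then `S` has exponent `p`. -/
theorem pow_eq_one_of_odd [Finite S] {p : ℕ} [hp : Fact p.Prime] (hp2 : p ≠ 2) (hS : IsPGroup p S)
    (F : FusionSystem S) (hF : F.IsSaturated p) (hS1 : S ≠ ⊥) (hcore : F.core = ⊥) (hna : ¬ IsMulCommutative ↥S)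
    (hZ : (Subgroup.center ↥S).index = p ^ 2) (hZc : Nat.card (cen S) = p) : ∀ g : S, g ^ p = 1 := by
  have hcZ : Nat.card (Subgroup.center ↥S) = p := by
    rw [← cen_subgroupOf_eq_center, ← hZc]
    exact Nat.card_congr (Subgroup.subgroupOfEquivOfLe (cen_le S)).toEquiv
  have hc : ∀ a b : S, ⁅a, b⁆ ∈ Subgroup.center ↥S := fun a b =>
    commutator_le_center hZ (Subgroup.commutator_mem_commutator (Subgroup.mem_top a) (Subgroup.mem_top b))
  have hodd : Odd p := hp.out.odd_of_ne_two hp2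
  obtain ⟨k, hk⟩ := hodd
  have hsum : ∑ i ∈ Finset.range p, i = p * k := by
    have h1 := Finset.sum_range_id_mul_two p
    have h2 : p * (p - 1) = p * k * 2 := by
      have : p - 1 = 2 * k := by omega
      rw [this]
      ring
    rw [h2] at h1
    exact Nat.eq_of_mul_eq_mul_right (by norm_num) h1
  have hn : ∀ a b : S, ⁅a, b⁆ ^ (∑ i ∈ Finset.range p, i) = 1 := by
    intro a b
    have h1 : (⟨⁅a, b⁆, hc a b⟩ : Subgroup.center ↥S) ^ p = 1 := by
      rw [← hcZ]
      exact pow_card_eq_one'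
    have h2 : ⁅a, b⁆ ^ p = 1 := by
      have := congrArg Subtype.val h1
      rw [Subgroup.coe_pow] at this
      exact this
    rw [hsum, pow_mul, h2, one_pow]
  have hmul := mul_pow_of_comm_central hc p hn
  set Om : Subgroup S := (powHom p hmul).ker with hOm
  have hmemOm : ∀ g : S, g ∈ Om ↔ g ^ p = 1 := fun g => by
    rw [hOm, MonoidHom.mem_ker, powHom_apply]
  by_contra hcon
  push Not at hcon
  obtain ⟨g₁, hg₁⟩ := hcon
  have hOmtop : Om ≠ ⊤ := by
    intro h
    apply hg₁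
    rw [← hmemOm, h]
    exact Subgroup.mem_top _
  have hessle : ∀ R : Subgroup Ω, F.IsEssential p R → R.subgroupOf S = Om := by
    intro R hR
    have hle : R.subgroupOf S ≤ Om := by
      intro s hs
      rw [hmemOm]
      apply Subtype.ext
      rw [Subgroup.coe_pow]
      exact essential_pow_eq_one hS F hF hna hZ hZc hR s (Subgroup.mem_subgroupOf.mp hs)
    obtain ⟨-, -, hidx, -⟩ := essential_data hS F hF hna hZ hR
    by_contra hne
    exact hOmtop (Cfsg.Agent.Helper63.eq_top_of_lt_of_index_prime hp.out _ _ hidx (lt_of_le_of_ne hle hne))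
  obtain ⟨P, hP⟩ := exists_essential_of_core_bot hS F hF hS1 hcore
  have hnormal : F.IsNormal (Om.map S.subtype) := by
    apply isNormal_of_forall_essential hS F hF
    intro R hR
    rcases hR with rfl | hess
    · refine ⟨?_, fun α hα => ?_⟩
      · rintro _ ⟨s, -, rfl⟩
        exact s.2
      · apply map_subgroupOf_eq_of_forall (F.autGroup R) ?_ α hα
        intro β _ y hy
        obtain ⟨s, hs, hsy⟩ := Subgroup.mem_map.mp hy
        have hsy' : s = y := Subtype.ext hsy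
        rw [hsy'] at hs
        refine Subgroup.mem_map.mpr ⟨β y, ?_, rfl⟩
        rw [hmemOm] at hs ⊢
        rw [← map_pow, hs, map_one]
    · have hReq : Om.map S.subtype = R := by
        rw [← hessle R hess]
        ext y
        constructor
        · rintro ⟨s, hs, rfl⟩
          exact Subgroup.mem_subgroupOf.mp hs
        · intro hy
          exact ⟨⟨y, hess.1.1 hy⟩, Subgroup.mem_subgroupOf.mpr hy, rfl⟩
      refine ⟨hReq.le, fun α hα => ?_⟩
      apply map_subgroupOf_eq_of_forall (F.autGroup R) ?_ α hα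
      intro β _ y _
      rw [hReq]
      exact (β y).2
  have hbot := eq_bot_of_isNormal F hcore hnormal
  obtain ⟨h1, h2, h3, -⟩ := essential_between hS F hF hna hP
  apply h3
  have hPbot : P = ⊥ := by
    rw [eq_bot_iff, ← hbot]
    intro y hy
    refine ⟨⟨y, h2 hy⟩, ?_, rfl⟩
    rw [← hessle P hP]
    exact Subgroup.mem_subgroupOf.mpr hy
  rw [hPbot, eq_comm, eq_bot_iff, ← hPbot]
  exact h1

end Cfsg.Agent.Helper86
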