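-- helper86: at the prime `2`, a saturated fusion system with `O_2(F) = 1` and `hyp(F) = S` over a `2`-group `S` with
-- `|S : Z(S)| = 4` has `|Z(S)| = 2`, and `S` is generated by two non-commuting involutions.
import Cfsg.Agent.Helper86.SCIBase
import Cfsg.Agent.Helper86.LocalTwo
import Cfsg.Agent.S5092
import Cfsg.Agent.Helper87.AutSystem

set_option autoImplicit false
open Cfsg

namespace Cfsg.Agent.Helper86

open Cfsg.FusionSystem Cfsg.Agent.Helper87 Cfsg.Agent.S5254 Cfsg.Agent.S5244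
open scoped commutatorElement

variable {Ω : Type*} [Group Ω] {S : Subgroup Ω}

/-- The local structure at an essential subgroup `P` for the prime `2`: `P = V × Z₁` with `V` a four-group containing `S'`
and an involution `w ∉ Z(S)`, `Z(S) = S' × Z₁`, both invariant under `Aut_F(P)`, which acts on `Z₁` as `Aut_F(S)` does. -/
structure EssTwo (F : FusionSystem S) (P V Z₁ : Subgroup Ω) (w : Ω) : Prop where
  hVP : V ≤ P
  hZ₁Z : Z₁ ≤ cen S
  hVinv : ∀ α ∈ F.autGroup P, ∀ y : P, (y : Ω) ∈ V → ((α y : P) : Ω) ∈ V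
  hZ₁inv : ∀ α ∈ F.autGroup P, ∀ y : P, (y : Ω) ∈ Z₁ → ((α y : P) : Ω) ∈ Z₁
  hZ₀V : cen S ⊓ (commutator ↥S).map S.subtype ≤ V
  hwV : w ∈ V
  hwZ : w ∉ cen S
  hw2 : w * w = 1
  hV : ∀ v ∈ V, v ∈ cen S ⊓ (commutator ↥S).map S.subtype ∨ v * w ∈ cen S ⊓ (commutator ↥S).map S.subtype
  hZ₁Z₀ : ∀ c ∈ Z₁, c ∈ cen S ⊓ (commutator ↥S).map S.subtype → c = 1
  hZdec : ∀ z ∈ cen S, ∃ c ∈ Z₁, ∃ e ∈ cen S ⊓ (commutator ↥S).map S.subtype, z = c * e
  hdec : ∀ r ∈ P, ∃ v ∈ V, ∃ c ∈ Z₁, r = v * c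
  hcent : ∀ α ∈ F.autGroup P, ∃ κ ∈ cenAut F, ∀ (c : cen S) (hc : (c : Ω) ∈ P), (c : Ω) ∈ Z₁ →
    ((α ⟨c, hc⟩ : P) : Ω) = ((κ c : cen S) : Ω)

theorem exists_essTwo [Finite S] (hS : IsPGroup 2 S) (F : FusionSystem S) (hF : F.IsSaturated 2)
    (hna : ¬ IsMulCommutative ↥S) (hZ : (Subgroup.center ↥S).index = 2 ^ 2) {P : Subgroup Ω}
    (hP : F.IsEssential 2 P) : ∃ (V Z₁ : Subgroup Ω) (w : Ω), EssTwo F P V Z₁ w := by
  have hglobal := hglobal_of_index hS F hF hna hZ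
  have hZ₀c := card_cen_inf_commutator hS F hF hna hZ hP
  obtain ⟨hPcomm, -, -, A, x, h, -, -, hxP, hxA⟩ := essential_data hS F hF hna hZ hP
  obtain ⟨t, D⟩ := local_prep hS F hF h hna hglobal hZ₀c hP hxP hxA hPcomm
  obtain ⟨g₀, hg₀G, hg₀⟩ := D.hex
  have hPS : P ≤ S := hP.1.1
  have hfinP : Finite P := finite_of_le hPS
  have hZP : cen S ≤ P := cen_le_of_centric F hP.1
  have hcommP : ∀ a b : P, a * b = b * a := fun a b => Subtype.ext (hPcomm a a.2 b b.2)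
  have hZ₀Z : (cen S ⊓ (commutator ↥S).map S.subtype).subgroupOf P ≤ (cen S).subgroupOf P := by
    intro y hy
    exact Subgroup.mem_subgroupOf.mpr (Subgroup.mem_subgroupOf.mp hy).1
  have TD : TwoData (F.autGroup P) t ((cen S).subgroupOf P)
      ((cen S ⊓ (commutator ↥S).map S.subtype).subgroupOf P) :=
    ⟨hS.to_le hPS, hcommP, D.htG, D.ht1, D.hmax, D.hZpi, D.hZ₀pc, hZ₀Z, D.hfix, D.hcm⟩
  obtain ⟨V', Z₁', w', O⟩ := TD.exists_out hg₀G hg₀
  have hmemV : ∀ y : P, (y : Ω) ∈ V'.map P.subtype ↔ y ∈ V' := by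
    intro y
    constructor
    · rintro ⟨y', hy', h⟩
      have : y' = y := Subtype.ext h
      rw [← this]
      exact hy'
    · intro hy
      exact ⟨y, hy, rfl⟩
  have hmemZ₁ : ∀ y : P, (y : Ω) ∈ Z₁'.map P.subtype ↔ y ∈ Z₁' := by
    intro y
    constructor
    · rintro ⟨y', hy', h⟩
      have : y' = y := Subtype.ext h
      rw [← this]
      exact hy'
    · intro hy
      exact ⟨y, hy, rfl⟩
  refine ⟨V'.map P.subtype, Z₁'.map P.subtype, (w' : Ω), ?_⟩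
  constructor
  · rintro _ ⟨v, -, rfl⟩
    exact v.2
  · rintro _ ⟨c, hc, rfl⟩
    exact Subgroup.mem_subgroupOf.mp (O.hZ₁Z hc)
  · intro α hα y hy
    rw [hmemV] at hy ⊢
    exact O.hVinv α hα y hy
  · intro α hα y hy
    rw [hmemZ₁] at hy ⊢
    exact O.hZ₁inv α hα y hy
  · intro z hz
    exact ⟨⟨z, hZP hz.1⟩, O.hZ₀V (Subgroup.mem_subgroupOf.mpr hz), rfl⟩
  · exact ⟨w', O.hwV, rfl⟩
  · exact fun h => O.hwZ (Subgroup.mem_subgroupOf.mpr h)
  · exact congrArg Subtype.val O.hw2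
  · rintro _ ⟨v, hv, rfl⟩
    rcases O.hV v hv with h | h
    · exact Or.inl (Subgroup.mem_subgroupOf.mp h)
    · exact Or.inr (Subgroup.mem_subgroupOf.mp h)
  · rintro _ ⟨c, hc, rfl⟩ hc0
    have := O.hZ₁Z₀ c hc (Subgroup.mem_subgroupOf.mpr hc0)
    rw [this]
    rfl
  · intro z hz
    obtain ⟨c, hc, e, he, hzce⟩ := O.hZdec ⟨z, hZP hz⟩ (Subgroup.mem_subgroupOf.mpr hz)
    exact ⟨c, ⟨c, hc, rfl⟩, e, Subgroup.mem_subgroupOf.mp he, congrArg Subtype.val hzce⟩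
  · intro r hr
    obtain ⟨v, hv, c, hc, hrvc⟩ := O.hdec ⟨r, hr⟩
    exact ⟨v, ⟨v, hv, rfl⟩, c, ⟨c, hc, rfl⟩, congrArg Subtype.val hrvc⟩
  · intro α hα
    obtain ⟨γ, hγG, hγt, hγc⟩ := O.hcent α hα
    obtain ⟨κ, hκ, hκz⟩ := D.n1 γ hγG (by rw [hγt]; exact Subgroup.mem_zpowers t)
    refine ⟨κ, hκ, fun c hc hcZ₁ => ?_⟩
    rw [← hκz c hc]
    have : (⟨(c : Ω), hc⟩ : P) ∈ Z₁' := (hmemZ₁ _).mp hcZ₁
    rw [hγc _ this]

/-- Restriction of an automorphism of `S` in the system to an invariant subgroup. -/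
theorem exists_restrict_aut [Finite S] (F : FusionSystem S) {P : Subgroup Ω} (hPS : P ≤ S) {α : MulAut S}
    (hα : α ∈ F.autGroup S) (hinv : ∀ r : S, (r : Ω) ∈ P → ((α r : S) : Ω) ∈ P) :
    ∃ β ∈ F.autGroup P, ∀ r : P, ((β r : P) : Ω) = ((α ⟨r, hPS r.2⟩ : S) : Ω) := by
  have hfinP : Finite P := finite_of_le hPS
  have hφ : autRestrict hPS α ∈ F.Hom P := by
    have h1 : IsIso F (α : S ≃* S) := (mem_autGroup_iff F le_rfl α).mp hα
    exact mem_of_eq F (restrict_mem F h1 hPS) (fun x => rfl)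
  have hval : ∀ r : P, autRestrict hPS α r ∈ P := fun r => hinv ⟨r, hPS r.2⟩ r.2
  have hinj : Function.Injective ((autRestrict hPS α).codRestrict P hval) := by
    intro a b hab
    have h1 : autRestrict hPS α a = autRestrict hPS α b :=
      congrArg (fun y : P => (y : Ω)) hab
    exact F.injective_of_mem hφ h1
  obtain ⟨β, hβ⟩ : ∃ β : MulAut P, β = MulEquiv.ofBijective ((autRestrict hPS α).codRestrict P hval)
    ⟨hinj, Finite.injective_iff_surjective.mp hinj⟩ := ⟨_, rfl⟩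
  refine ⟨β, ?_, fun r => ?_⟩
  · rw [mem_autGroup_iff F hPS]
    exact mem_of_eq F hφ (fun x => by rw [hβ]; rfl)
  · rw [hβ]
    rfl

/-- Two subgroups of `S` of the same finite index, one inside the other, are equal. -/
theorem eq_of_le_of_index_eq [Finite S] {P Q : Subgroup Ω} (hQS : Q ≤ S) (hPQ : P ≤ Q) {n : ℕ} (hn : n ≠ 0)
    (hP : (P.subgroupOf S).index = n) (hQ : (Q.subgroupOf S).index = n) : P = Q := by
  apply le_antisymm hPQ
  have hle : P.subgroupOf S ≤ Q.subgroupOf S := fun s hs => hPQ hs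
  have := Subgroup.relIndex_mul_index hle
  rw [hP, hQ] at this
  have h3 : (P.subgroupOf S).relIndex (Q.subgroupOf S) = 1 := by
    have : (P.subgroupOf S).relIndex (Q.subgroupOf S) * n = 1 * n := by rw [this, one_mul]
    exact Nat.eq_of_mul_eq_mul_right (Nat.pos_of_ne_zero hn) this
  have h4 := Subgroup.relIndex_eq_one.mp h3
  intro y hy
  exact h4 (show (⟨y, hQS hy⟩ : S) ∈ Q.subgroupOf S from hy)

/-- Some power of odd... of exponent prime to `p` of every element of `Aut_F(S)` is inner. -/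
theorem exists_pow_inner [Finite S] {p : ℕ} [hp : Fact p.Prime] (hS : IsPGroup p S) (F : FusionSystem S)
    (hF : F.IsSaturated p) : ∃ m : ℕ, ¬ p ∣ m ∧ ∀ α ∈ F.autGroup S, α ^ m ∈ autInducedBy S S := by
  have hfinA : Finite (MulAut S) := MulEquiv.finite_left
  have hSfn : F.IsFullyNormalized S := Cfsg.Agent.S5092.isFullyNormalized_self F
  set Γ := F.autGroup S with hΓ
  obtain ⟨-, -, T₀, hT₀⟩ := fullyAutomized_fullyCentralized_of_fullyNormalized hS F hF hSfn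
  set N : Subgroup Γ := (autInducedBy S S).subgroupOf Γ with hN
  have hNn : N.Normal := by
    constructor
    intro b hb a
    rw [hN, Subgroup.mem_subgroupOf] at hb ⊢
    obtain ⟨g, hg, hgx⟩ := (mem_autInducedBy_iff S S _).mp hb
    rw [mem_autInducedBy_iff]
    refine ⟨(((a : MulAut S) ⟨g, hg⟩ : S) : Ω), ((a : MulAut S) ⟨g, hg⟩).2, fun x => ?_⟩
    show ((((a : MulAut S) * (b : MulAut S) * (a : MulAut S)⁻¹) x : S) : Ω) = _
    rw [MulAut.mul_apply, MulAut.mul_apply]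
    have h3 : (b : MulAut S) ((a : MulAut S)⁻¹ x) = ⟨g, hg⟩ * ((a : MulAut S)⁻¹ x) * ⟨g, hg⟩⁻¹ :=
      Subtype.ext (hgx _)
    rw [h3, map_mul, map_mul, map_inv, MulAut.apply_inv_self]
    rfl
  have hNT : N = (T₀ : Subgroup Γ) := hT₀.symm
  refine ⟨N.index, ?_, fun α hα => ?_⟩
  · rw [hNT]
    exact T₀.not_dvd_index
  · have hpm : (⟨α, hα⟩ : Γ) ^ N.index ∈ N := Subgroup.pow_index_mem N _
    have := Subgroup.mem_subgroupOf.mp hpm
    simpa using this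

section consequences

variable {F : FusionSystem S} {P V Z₁ : Subgroup Ω} {w : Ω}

/-- `P = Z(S) ∪ Z(S) w`. -/
theorem EssTwo.mem_or (E : EssTwo F P V Z₁ w) (hPS : P ≤ S) : ∀ r ∈ P, r ∈ cen S ∨ r * w ∈ cen S := by
  intro r hr
  obtain ⟨v, hv, c, hc, rfl⟩ := E.hdec r hr
  have hcZ := E.hZ₁Z hc
  rcases E.hV v hv with h | h
  · exact Or.inl ((cen S).mul_mem h.1 hcZ)
  · right
    have hwS : w ∈ S := hPS (E.hVP E.hwV)
    have e : v * c * w = (v * w) * c := by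
      rw [mul_assoc, ← ((mem_cen_iff c).mp hcZ).2 w hwS, ← mul_assoc]
    rw [e]
    exact (cen S).mul_mem h.1 hcZ

/-- Squares of central elements lying in `S'` are trivial. -/
theorem EssTwo.sq_eq_one (E : EssTwo F P V Z₁ w)
    (hsq : ∀ e ∈ cen S ⊓ (commutator ↥S).map S.subtype, e * e = 1) :
    ∀ z ∈ cen S, z * z ∈ cen S ⊓ (commutator ↥S).map S.subtype → z * z = 1 := by
  intro z hz hzz
  obtain ⟨c, hc, e, he, rfl⟩ := E.hZdec z hz
  have hcZ := E.hZ₁Z hc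
  have hcS := cen_le S hcZ
  have h1 : c * e * (c * e) = c * c := by
    have h2 : e * c = c * e := ((mem_cen_iff c).mp hcZ).2 e (cen_le S he.1)
    calc c * e * (c * e) = c * (e * c) * e := by group
      _ = c * (c * e) * e := by rw [h2]
      _ = c * c * (e * e) := by group
      _ = c * c := by rw [hsq e he, mul_one]
  rw [h1] at hzz ⊢
  exact E.hZ₁Z₀ _ (Z₁.mul_mem hc hc) hzz

/-- Elements of `S` outside `P` do not commute with `w`. -/
theorem EssTwo.not_comm (E : EssTwo F P V Z₁ w) (hPc : F.IsCentric P) {y : Ω} (hyS : y ∈ S) (hyP : y ∉ P) :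
    y * w ≠ w * y := by
  intro hyw
  apply hyP
  apply hPc.2 P (isConj_refl F hPc.1)
  rw [mem_centralizerIn_iff]
  refine ⟨hyS, fun r hr => ?_⟩
  rcases E.mem_or hPc.1 r hr with h | h
  · exact (((mem_cen_iff r).mp h).2 y hyS).symm
  · have h1 : y * (r * w) = (r * w) * y := ((mem_cen_iff _).mp h).2 y hyS
    obtain ⟨a, ha⟩ : ∃ a : Ω, a = r * w := ⟨_, rfl⟩
    rw [← ha] at h1
    have e : r = a * w := by rw [ha, mul_assoc, E.hw2, mul_one]
    rw [e]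
    calc a * w * y = a * (w * y) := mul_assoc _ _ _
      _ = a * (y * w) := by rw [hyw]
      _ = (a * y) * w := (mul_assoc _ _ _).symm
      _ = (y * a) * w := by rw [h1]
      _ = y * (a * w) := mul_assoc _ _ _

end consequences

/-- Commutators of elements of `S` lie in `Z(S) ∩ S'`. -/
theorem comm_mem_cen_inf [Finite S] {p : ℕ} [hp : Fact p.Prime] (hZ : (Subgroup.center ↥S).index = p ^ 2)
    {a b : Ω} (ha : a ∈ S) (hb : b ∈ S) : a * b * a⁻¹ * b⁻¹ ∈ cen S ⊓ (commutator ↥S).map S.subtype := by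
  have h1 : a * b * a⁻¹ * b⁻¹ ∈ (commutator ↥S).map S.subtype := by
    refine ⟨⁅(⟨a, ha⟩ : S), ⟨b, hb⟩⁆, ?_, ?_⟩
    · rw [commutator_def]
      exact Subgroup.commutator_mem_commutator (Subgroup.mem_top _) (Subgroup.mem_top _)
    · rw [commutatorElement_def]
      rfl
  exact ⟨commutator_le_cen hZ h1, h1⟩

theorem sq_eq_one_of_card_two {Z₀ : Subgroup Ω} (hc : Nat.card Z₀ = 2) : ∀ e ∈ Z₀, e * e = 1 := by
  intro e he
  have h1 : (⟨e, he⟩ : Z₀) ^ 2 = 1 := by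
    rw [← hc]
    exact pow_card_eq_one'
  have := congrArg Subtype.val h1
  rw [pow_two] at this
  exact this

/-- With `x`, `y` non-commuting involutions of `S` and `z` central, `z x y` is not an involution. -/
theorem mul_self_ne_one_of_not_comm
    (hsq : ∀ z ∈ cen S, z * z ∈ cen S ⊓ (commutator ↥S).map S.subtype → z * z = 1)
    (hcm : ∀ a ∈ S, ∀ b ∈ S, a * b * a⁻¹ * b⁻¹ ∈ cen S ⊓ (commutator ↥S).map S.subtype)
    {x y z : Ω} (hx : x ∈ S) (hy : y ∈ S) (hx2 : x * x = 1) (hy2 : y * y = 1) (hxy : x * y ≠ y * x)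
    (hz : z ∈ cen S) : (z * x * y) * (z * x * y) ≠ 1 := by
  intro h
  have hxinv : x⁻¹ = x := inv_eq_of_mul_eq_one_left hx2
  have hyinv : y⁻¹ = y := inv_eq_of_mul_eq_one_left hy2
  have hc₀ := hcm x hx y hy
  rw [hxinv, hyinv] at hc₀
  have hzc : (x * y) * z = z * (x * y) := ((mem_cen_iff z).mp hz).2 _ (S.mul_mem hx hy)
  have e : (z * x * y) * (z * x * y) = (z * z) * (x * y * x * y) := by
    calc (z * x * y) * (z * x * y) = z * ((x * y) * z) * (x * y) := by group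
      _ = z * (z * (x * y)) * (x * y) := by rw [hzc]
      _ = (z * z) * (x * y * x * y) := by group
  rw [e] at h
  have h2 : z * z = (x * y * x * y)⁻¹ := eq_inv_of_mul_eq_one_left h
  have h3 : z * z = 1 := by
    apply hsq z hz
    rw [h2]
    exact Subgroup.inv_mem _ hc₀
  rw [h3, one_mul] at h
  apply hxy
  calc x * y = x * y * (x * y * x * y)⁻¹ := by rw [h, inv_one, mul_one]
    _ = y⁻¹ * x⁻¹ := by group
    _ = y * x := by rw [hxinv, hyinv]

section consequences2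

variable {F : FusionSystem S} {P V Z₁ : Subgroup Ω} {w : Ω}

/-- An automorphism of `S` mapping `w` into `P` maps `P` into `P`. -/
theorem EssTwo.preserves_of_apply_mem (E : EssTwo F P V Z₁ w) (hPS : P ≤ S) (hZP : cen S ≤ P) (β : MulAut S)
    (hβw : ((β ⟨w, hPS (E.hVP E.hwV)⟩ : S) : Ω) ∈ P) : ∀ r : S, (r : Ω) ∈ P → ((β r : S) : Ω) ∈ P := by
  intro r hr
  rcases E.mem_or hPS r hr with h | h
  · exact hZP (aut_apply_mem_cen β h)
  · have h1 := aut_apply_mem_cen β h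
    have e : (⟨(r : Ω) * w, cen_le S h⟩ : S) = r * ⟨w, hPS (E.hVP E.hwV)⟩ := Subtype.ext rfl
    rw [e, map_mul, Subgroup.coe_mul] at h1
    exact (P.mul_mem_cancel_right hβw).mp (hZP h1)

/-- Every automorphism of `S` either preserves `P` or its square does. -/
theorem EssTwo.step (E : EssTwo F P V Z₁ w) (hPc : F.IsCentric P) (hidx : (P.subgroupOf S).index = 2)
    (hsq : ∀ z ∈ cen S, z * z ∈ cen S ⊓ (commutator ↥S).map S.subtype → z * z = 1)
    (hcm : ∀ a ∈ S, ∀ b ∈ S, a * b * a⁻¹ * b⁻¹ ∈ cen S ⊓ (commutator ↥S).map S.subtype) (α : MulAut S) :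
    (∀ r : S, (r : Ω) ∈ P → ((α r : S) : Ω) ∈ P) ∨ (∀ r : S, (r : Ω) ∈ P → ((α (α r) : S) : Ω) ∈ P) := by
  have hPS : P ≤ S := hPc.1
  have hZP : cen S ≤ P := cen_le_of_centric F hPc
  have hwP : w ∈ P := E.hVP E.hwV
  obtain ⟨wS, hwS⟩ : ∃ wS : S, wS = ⟨w, hPS hwP⟩ := ⟨_, rfl⟩
  have hwSw : (wS : Ω) = w := by rw [hwS]
  have hwS2 : wS * wS = 1 := by
    apply Subtype.ext
    rw [Subgroup.coe_mul, hwSw]
    exact E.hw2
  obtain ⟨y, hy⟩ : ∃ y : S, y = α wS := ⟨_, rfl⟩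
  by_cases hyP : (y : Ω) ∈ P
  · left
    apply E.preserves_of_apply_mem hPS hZP α
    rw [← hwS, ← hy]
    exact hyP
  obtain ⟨y', hy'⟩ : ∃ y' : S, y' = α y := ⟨_, rfl⟩
  by_cases hy'P : (y' : Ω) ∈ P
  · right
    have := E.preserves_of_apply_mem hPS hZP (α * α) (by
      rw [← hwS, MulAut.mul_apply, ← hy, ← hy']
      exact hy'P)
    exact this
  exfalso
  have hyy : y * y = 1 := by rw [hy, ← map_mul, hwS2, map_one]
  have hy'y' : y' * y' = 1 := by rw [hy', ← map_mul, hyy, map_one]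
  have hmul : ((y' * y : S) : Ω) ∈ P := by
    have := (Subgroup.mul_mem_iff_of_index_two hidx (a := y') (b := y)).mpr
      ⟨fun h => absurd (Subgroup.mem_subgroupOf.mp h) hy'P, fun h => absurd (Subgroup.mem_subgroupOf.mp h) hyP⟩
    exact Subgroup.mem_subgroupOf.mp this
  rcases E.mem_or hPS _ hmul with h | h
  · -- `y' y = α (y w)` central, so `y w` is central
    have h1 := aut_apply_mem_cen α⁻¹ h
    have e : (⟨((y' * y : S) : Ω), cen_le S h⟩ : S) = α (y * wS) := by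
      rw [map_mul, ← hy, ← hy']
    rw [e, MulAut.inv_apply_self, Subgroup.coe_mul, hwSw] at h1
    exact hyP ((P.mul_mem_cancel_right hwP).mp (hZP h1))
  · obtain ⟨z, hz⟩ : ∃ z : Ω, z = ((y' * y : S) : Ω) * w := ⟨_, rfl⟩
    rw [← hz] at h
    have hyΩ : (y : Ω) * (y : Ω) = 1 := by
      have := congrArg Subtype.val hyy
      rwa [Subgroup.coe_mul] at this
    have hy'Ω : (y' : Ω) * (y' : Ω) = 1 := by
      have := congrArg Subtype.val hy'y'
      rwa [Subgroup.coe_mul] at this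
    have e : (y' : Ω) = z * w * y := by
      rw [hz, Subgroup.coe_mul]
      calc (y' : Ω) = (y' : Ω) * ((y : Ω) * (w * w) * (y : Ω)) := by rw [E.hw2, mul_one, hyΩ, mul_one]
        _ = (y' : Ω) * (y : Ω) * w * w * (y : Ω) := by group
    have hne := mul_self_ne_one_of_not_comm hsq hcm (hPS hwP) y.2 E.hw2 hyΩ
      (fun hc => E.not_comm hPc y.2 hyP hc.symm) h
    rw [← e] at hne
    exact hne hy'Ω

/-- `Aut_F(S)` preserves every essential subgroup. -/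
theorem EssTwo.autS_preserves [Finite S] (E : EssTwo F P V Z₁ w) (hS : IsPGroup 2 S) (hF : F.IsSaturated 2)
    (hPc : F.IsCentric P) (hidx : (P.subgroupOf S).index = 2)
    (hsq : ∀ z ∈ cen S, z * z ∈ cen S ⊓ (commutator ↥S).map S.subtype → z * z = 1)
    (hcm : ∀ a ∈ S, ∀ b ∈ S, a * b * a⁻¹ * b⁻¹ ∈ cen S ⊓ (commutator ↥S).map S.subtype) :
    ∀ α ∈ F.autGroup S, ∀ r : S, (r : Ω) ∈ P → ((α r : S) : Ω) ∈ P := by
  have hPS : P ≤ S := hPc.1
  have hZP : cen S ≤ P := cen_le_of_centric F hPc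
  have hfinP : Finite (P.subgroupOf S) := inferInstance
  let St : Subgroup (MulAut S) :=
    { carrier := {β | ∀ r : S, (r : Ω) ∈ P ↔ ((β r : S) : Ω) ∈ P}
      one_mem' := fun r => Iff.rfl
      mul_mem' := by
        intro a b ha hb r
        rw [MulAut.mul_apply]
        exact (hb r).trans (ha _)
      inv_mem' := by
        intro a ha r
        have := ha (a⁻¹ r)
        rw [MulAut.apply_inv_self] at this
        exact this.symm }
  have hSt_of : ∀ β : MulAut S, (∀ r : S, (r : Ω) ∈ P → ((β r : S) : Ω) ∈ P) → β ∈ St := by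
    intro β hβ r
    refine ⟨hβ r, fun hr => ?_⟩
    have hle : (P.subgroupOf S).map (β : S ≃* S).toMonoidHom ≤ P.subgroupOf S := by
      rintro _ ⟨s, hs, rfl⟩
      exact Subgroup.mem_subgroupOf.mpr (hβ s (Subgroup.mem_subgroupOf.mp hs))
    have hcard : Nat.card (P.subgroupOf S) ≤ Nat.card ((P.subgroupOf S).map (β : S ≃* S).toMonoidHom) := by
      rw [Subgroup.card_map_of_injective (β : S ≃* S).injective]
    have heq := Subgroup.eq_of_le_of_card_ge hle hcard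
    have h1 : β r ∈ (P.subgroupOf S).map (β : S ≃* S).toMonoidHom := by
      rw [heq]
      exact Subgroup.mem_subgroupOf.mpr hr
    obtain ⟨s, hs, hsr⟩ := h1
    have : s = r := (β : S ≃* S).injective hsr
    rw [← this]
    exact Subgroup.mem_subgroupOf.mp hs
  have hinner : ∀ β ∈ autInducedBy S S, β ∈ St := by
    intro β hβ
    obtain ⟨g, hg, hgx⟩ := (mem_autInducedBy_iff S S β).mp hβ
    apply hSt_of
    intro r hr
    rw [hgx]
    have e : g * (r : Ω) * g⁻¹ = (g * (r : Ω) * g⁻¹ * (r : Ω)⁻¹) * r := by group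
    rw [e]
    exact P.mul_mem (hZP (hcm g hg r r.2).1) hr
  obtain ⟨m, hm, hpow⟩ := exists_pow_inner hS F hF
  intro α hα
  have h1 : α ^ m ∈ St := hinner _ (hpow α hα)
  have h2 : α * α ∈ St := by
    rcases E.step hPc hidx hsq hcm α with h | h
    · exact St.mul_mem (hSt_of α h) (hSt_of α h)
    · exact hSt_of (α * α) h
  have hmk : m = 2 * (m / 2) + 1 := by omega
  have h3 : α ^ m = (α * α) ^ (m / 2) * α := by
    conv_lhs => rw [hmk]
    rw [pow_succ, pow_mul, pow_two]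
  have h4 : α = ((α * α) ^ (m / 2))⁻¹ * α ^ m := by rw [h3]; group
  have h5 : α ∈ St := by
    rw [h4]
    exact St.mul_mem (St.inv_mem (St.pow_mem h2 _)) h1
  exact fun r => (h5 r).mp

end consequences2

/-- If `Za ∩ Zb = 1` and `Zc = Zb Z₀` is commutative with `Z₀` of order `2`, then `Za ≤ Zc` has at most one non-identity element. -/
theorem unique_of_inf_bot {Za Zb Z₀ Zc : Subgroup Ω} (hab : Za ⊓ Zb = ⊥)
    (hdec : ∀ z ∈ Zc, ∃ c ∈ Zb, ∃ e ∈ Z₀, z = c * e) (hZa : Za ≤ Zc) (hZb : Zb ≤ Zc) (hZ₀ : Z₀ ≤ Zc)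
    (hcomm : ∀ a ∈ Zc, ∀ b ∈ Zc, a * b = b * a) (hZ₀c : Nat.card Z₀ = 2) :
    ∀ c ∈ Za, ∀ c' ∈ Za, c ≠ 1 → c' ≠ 1 → c = c' := by
  obtain ⟨⟨z₀, hz₀⟩, -, h2⟩ := (Nat.card_eq_two_iff' (1 : Z₀)).mp hZ₀c
  have hall : ∀ e ∈ Z₀, e ≠ 1 → e = z₀ := by
    intro e he he1
    have := h2 ⟨e, he⟩ (fun h => he1 (congrArg Subtype.val h))
    exact congrArg Subtype.val this
  have hne : ∀ c ∈ Za, c ≠ 1 → ∃ b ∈ Zb, c = b * z₀ := by
    intro c hc hc1
    obtain ⟨b, hb, e, he, hcbe⟩ := hdec c (hZa hc)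
    have he1 : e ≠ 1 := by
      rintro rfl
      rw [mul_one] at hcbe
      apply hc1
      have : c ∈ Za ⊓ Zb := ⟨hc, hcbe ▸ hb⟩
      rw [hab, Subgroup.mem_bot] at this
      exact this
    rw [hall e he he1] at hcbe
    exact ⟨b, hb, hcbe⟩
  intro c hc c' hc' hc1 hc'1
  obtain ⟨b, hb, rfl⟩ := hne c hc hc1
  obtain ⟨b', hb', rfl⟩ := hne c' hc' hc'1
  have h1 : (b * z₀) * (b' * z₀)⁻¹ = b * b'⁻¹ := by
    have h3 : z₀ * b'⁻¹ = b'⁻¹ * z₀ := hcomm _ (hZ₀ hz₀) _ (Zc.inv_mem (hZb hb'))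
    calc (b * z₀) * (b' * z₀)⁻¹ = b * (z₀ * z₀⁻¹) * b'⁻¹ := by group
      _ = b * b'⁻¹ := by rw [mul_inv_cancel, mul_one]
  have h2 : (b * z₀) * (b' * z₀)⁻¹ ∈ Za ⊓ Zb := by
    refine ⟨Za.mul_mem hc (Za.inv_mem hc'), ?_⟩
    rw [h1]
    exact Zb.mul_mem hb (Zb.inv_mem hb')
  rw [hab, Subgroup.mem_bot] at h2
  exact mul_inv_eq_one.mp h2

section consequences3

variable {F : FusionSystem S} {P V Z₁ : Subgroup Ω} {w : Ω}

/-- If `Aut_F(S)` centralizes `Z₁`, then `Aut_F(P)` acts trivially on `P / V`. -/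
theorem EssTwo.disp_mem (E : EssTwo F P V Z₁ w) (hPS : P ≤ S) (hZP : cen S ≤ P)
    (hfix : ∀ κ ∈ cenAut F, ∀ c : cen S, (c : Ω) ∈ Z₁ → κ c = c) :
    ∀ α ∈ F.autGroup P, ∀ r : P, (r : Ω)⁻¹ * ((α r : P) : Ω) ∈ V := by
  intro α hα r
  obtain ⟨v, hv, c, hc, hrvc⟩ := E.hdec r r.2
  have hcZ : c ∈ cen S := E.hZ₁Z hc
  have hvP : v ∈ P := E.hVP hv
  obtain ⟨κ, hκ, hκc⟩ := E.hcent α hα
  have h1 := hκc ⟨c, hcZ⟩ (hZP hcZ) hc
  rw [hfix κ hκ ⟨c, hcZ⟩ hc] at h1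
  have e : r = ⟨v, hvP⟩ * ⟨c, hZP hcZ⟩ := Subtype.ext hrvc
  have hav := E.hVinv α hα ⟨v, hvP⟩ hv
  obtain ⟨a, ha⟩ : ∃ a : Ω, a = ((α ⟨v, hvP⟩ : P) : Ω) := ⟨_, rfl⟩
  rw [← ha] at hav
  have e2 : ((α r : P) : Ω) = a * c := by
    rw [e, map_mul, Subgroup.coe_mul, h1, ha]
  rw [e2, hrvc]
  have haS : a ∈ S := hPS (E.hVP hav)
  have hcomm : (v⁻¹ * a) * c = c * (v⁻¹ * a) :=
    ((mem_cen_iff c).mp hcZ).2 _ (S.mul_mem (S.inv_mem (hPS hvP)) haS)
  have e3 : (v * c)⁻¹ * (a * c) = v⁻¹ * a := by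
    calc (v * c)⁻¹ * (a * c) = c⁻¹ * ((v⁻¹ * a) * c) := by group
      _ = c⁻¹ * (c * (v⁻¹ * a)) := by rw [hcomm]
      _ = v⁻¹ * a := by group
  rw [e3]
  exact V.mul_mem (V.inv_mem hv) hav

end consequences3

end Cfsg.Agent.Helper86
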