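-- helper86: at the prime `2`, a saturated fusion system with `O_2(F) = 1` and `hyp(F) = S` over a `2`-group `S` with
-- `|S : Z(S)| = 4` has `|Z(S)| = 2`, and `S` contains two non-commuting involutions.
import Cfsg.Agent.Helper86.SCITwo

set_option autoImplicit false
open Cfsg

namespace Cfsg.Agent.Helper86

open Cfsg.FusionSystem Cfsg.Agent.Helper87 Cfsg.Agent.S5254 Cfsg.Agent.S5244 Cfsg.Agent.S5092
open scoped commutatorElement Pointwise

variable {Ω : Type*} [Group Ω] {S : Subgroup Ω}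

/-- An essential subgroup containing the involution `w` of another one contains it. -/
theorem EssTwo.le_of_mem {F : FusionSystem S} {R V Z₁ : Subgroup Ω} {w : Ω} (E : EssTwo F R V Z₁ w) (hRS : R ≤ S)
    {R' : Subgroup Ω} (hZR' : cen S ≤ R') (hw : w ∈ R') : R ≤ R' := by
  intro r hr
  rcases E.mem_or hRS r hr with h | h
  · exact hZR' h
  · exact (R'.mul_mem_cancel_right hw).mp (hZR' h)

theorem two_main [Finite S] (hS : IsPGroup 2 S) (F : FusionSystem S) (hF : F.IsSaturated 2) (hS1 : S ≠ ⊥)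
    (hcore : F.core = ⊥) (hhyp : F.hyperfocalSubgroup 2 = S) (hna : ¬ IsMulCommutative ↥S)
    (hZ : (Subgroup.center ↥S).index = 2 ^ 2) :
    Nat.card (cen S) = 2 ∧ ∃ x ∈ S, ∃ y ∈ S, x * x = 1 ∧ y * y = 1 ∧ x * y ≠ y * x := by
  obtain ⟨P, hP⟩ := exists_essential_of_core_bot hS F hF hS1 hcore
  have hZ₀c := card_cen_inf_commutator hS F hF hna hZ hP
  have hsqZ₀ := sq_eq_one_of_card_two hZ₀c
  have hcm : ∀ a ∈ S, ∀ b ∈ S, a * b * a⁻¹ * b⁻¹ ∈ cen S ⊓ (commutator ↥S).map S.subtype :=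
    fun a ha b hb => comm_mem_cen_inf hZ ha hb
  obtain ⟨V, Z₁, x, E⟩ := exists_essTwo hS F hF hna hZ hP
  have hsq := E.sq_eq_one hsqZ₀
  have hess : ∀ R : Subgroup Ω, F.IsEssential 2 R → (R.subgroupOf S).index = 2 :=
    fun R hR => (essential_data hS F hF hna hZ hR).2.2.1
  have hpres : ∀ (R V' Z₁' : Subgroup Ω) (w' : Ω), F.IsEssential 2 R → EssTwo F R V' Z₁' w' →
      ∀ α ∈ F.autGroup S, ∀ r : S, (r : Ω) ∈ R → ((α r : S) : Ω) ∈ R :=
    fun R V' Z₁' w' hR E' => E'.autS_preserves hS hF hR.1 (hess R hR) hsq hcm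
  have hPS : P ≤ S := hP.1.1
  have hZP : cen S ≤ P := cen_le_of_centric F hP.1
  have hxP : x ∈ P := E.hVP E.hwV
  -- a second essential subgroup
  have hex2 : ∃ Q : Subgroup Ω, F.IsEssential 2 Q ∧ Q ≠ P := by
    by_contra hcon
    push Not at hcon
    have hnormal : F.IsNormal P := by
      apply isNormal_of_forall_essential hS F hF
      intro R hR
      rcases hR with hRS | hR
      · subst hRS
        refine ⟨hPS, fun α hα => ?_⟩
        apply map_subgroupOf_eq_of_forall (F.autGroup _) ?_ α hα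
        intro β hβ y hy
        exact hpres P V Z₁ x hP E β hβ y hy
      · rw [hcon R hR]
        refine ⟨le_rfl, fun α hα => ?_⟩
        apply map_subgroupOf_eq_of_forall (F.autGroup P) ?_ α hα
        intro β _ y _
        exact (β y).2
    have hbot := eq_bot_of_isNormal F hcore hnormal
    apply E.hwZ
    rw [hbot, Subgroup.mem_bot] at hxP
    rw [hxP]
    exact Subgroup.one_mem _
  obtain ⟨Q, hQ, hQP⟩ := hex2
  obtain ⟨V', Z₁', y, E'⟩ := exists_essTwo hS F hF hna hZ hQ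
  have hQS : Q ≤ S := hQ.1.1
  have hZQ : cen S ≤ Q := cen_le_of_centric F hQ.1
  have hyQ : y ∈ Q := E'.hVP E'.hwV
  have hxQ : x ∉ Q := fun h =>
    hQP (eq_of_le_of_index_eq hQS (E.le_of_mem hPS hZQ h) two_ne_zero (hess P hP) (hess Q hQ)).symm
  have hyP : y ∉ P := fun h =>
    hQP (eq_of_le_of_index_eq hPS (E'.le_of_mem hQS hZP h) two_ne_zero (hess Q hQ) (hess P hP))
  have hxy : x * y ≠ y * x := fun h => E.not_comm hP.1 (hQS hyQ) hyP h.symm
  refine ⟨?_, x, hPS hxP, y, hQS hyQ, E.hw2, E'.hw2, hxy⟩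
  -- every essential subgroup is `P` or `Q`
  have hPQ : ∀ R : Subgroup Ω, F.IsEssential 2 R → P = R ∨ Q = R := by
    intro R hR
    obtain ⟨V'', Z₁'', u, E''⟩ := exists_essTwo hS F hF hna hZ hR
    have hRS : R ≤ S := hR.1.1
    have huS : u ∈ S := hRS (E''.hVP E''.hwV)
    by_cases huP : u ∈ P
    · left
      exact (eq_of_le_of_index_eq hPS (E''.le_of_mem hRS hZP huP) two_ne_zero (hess R hR) (hess P hP)).symm
    by_cases huQ : u ∈ Q
    · right
      exact (eq_of_le_of_index_eq hQS (E''.le_of_mem hRS hZQ huQ) two_ne_zero (hess R hR) (hess Q hQ)).symm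
    exfalso
    have h1 : u * y ∈ P := by
      have := (Subgroup.mul_mem_iff_of_index_two (hess P hP) (a := (⟨u, huS⟩ : S)) (b := ⟨y, hQS hyQ⟩)).mpr
        ⟨fun h => absurd (Subgroup.mem_subgroupOf.mp h) huP, fun h => absurd (Subgroup.mem_subgroupOf.mp h) hyP⟩
      exact Subgroup.mem_subgroupOf.mp this
    rcases E.mem_or hPS _ h1 with h | h
    · apply huQ
      have : u = (u * y) * y⁻¹ := by group
      rw [this]
      exact Q.mul_mem (hZQ h) (Q.inv_mem hyQ)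
    · have e : u = (u * y * x) * x * y := by
        calc u = u * (y * (x * x) * y) := by rw [E.hw2, mul_one, E'.hw2, mul_one]
          _ = (u * y * x) * x * y := by group
      have hne := mul_self_ne_one_of_not_comm hsq hcm (hPS hxP) (hQS hyQ) E.hw2 E'.hw2 hxy h
      rw [← e] at hne
      exact hne E''.hw2
  -- invariance under `Aut_F(S)`
  have hcenInv : ∀ (R V' Z₁' : Subgroup Ω) (w' : Ω), F.IsEssential 2 R → EssTwo F R V' Z₁' w' →
      ∀ κ ∈ cenAut F, ∀ c : cen S, (c : Ω) ∈ Z₁' → ((κ c : cen S) : Ω) ∈ Z₁' := by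
    intro R V' Z₁' w' hR ER κ hκ c hc
    obtain ⟨α, hα, rfl⟩ := hκ
    obtain ⟨β, hβ, hβr⟩ := exists_restrict_aut F hR.1.1 hα (hpres R V' Z₁' w' hR ER α hα)
    have hcR : (c : Ω) ∈ R := cen_le_of_centric F hR.1 c.2
    have := ER.hZ₁inv β hβ ⟨c, hcR⟩ hc
    rw [hβr] at this
    exact this
  have hVInv : ∀ (R V' Z₁' : Subgroup Ω) (w' : Ω), F.IsEssential 2 R → EssTwo F R V' Z₁' w' →
      ∀ α ∈ F.autGroup S, ∀ s : S, (s : Ω) ∈ V' → ((α s : S) : Ω) ∈ V' := by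
    intro R V' Z₁' w' hR ER α hα s hs
    obtain ⟨β, hβ, hβr⟩ := exists_restrict_aut F hR.1.1 hα (hpres R V' Z₁' w' hR ER α hα)
    have hsR : (s : Ω) ∈ R := ER.hVP hs
    have := ER.hVinv β hβ ⟨s, hsR⟩ hs
    rw [hβr] at this
    exact this
  have hle12 : Z₁ ⊓ Z₁' ≤ cen S := inf_le_left.trans E.hZ₁Z
  -- `Z₁ ⊓ Z₁'` is normal in `F`
  have hnormal : F.IsNormal (Z₁ ⊓ Z₁') := by
    apply isNormal_of_forall_essential hS F hF
    intro R hR
    rcases hR with hRS | hR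
    · subst hRS
      refine ⟨hle12.trans (cen_le _), fun α hα => ?_⟩
      apply map_subgroupOf_eq_of_forall (F.autGroup _) ?_ α hα
      intro β hβ s hs
      have hsZ : (s : Ω) ∈ cen _ := hle12 hs
      have h1 := hcenInv P V Z₁ x hP E (resZHom β) ⟨β, hβ, rfl⟩ ⟨s, hsZ⟩ hs.1
      have h2 := hcenInv Q V' Z₁' y hQ E' (resZHom β) ⟨β, hβ, rfl⟩ ⟨s, hsZ⟩ hs.2
      exact ⟨h1, h2⟩
    · have hZR := cen_le_of_centric F hR.1
      refine ⟨hle12.trans hZR, fun α hα => ?_⟩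
      apply map_subgroupOf_eq_of_forall (F.autGroup R) ?_ α hα
      intro β hβ r hr
      have hrZ : (r : Ω) ∈ cen S := hle12 hr
      rcases hPQ R hR with hRP | hRQ
      · subst hRP
        obtain ⟨κ, hκ, hκc⟩ := E.hcent β hβ
        have h1 := hκc ⟨r, hrZ⟩ r.2 hr.1
        rw [show (⟨((⟨(r : Ω), hrZ⟩ : cen S) : Ω), r.2⟩ : P) = r from rfl] at h1
        rw [h1]
        exact ⟨hcenInv P V Z₁ x hP E κ hκ ⟨r, hrZ⟩ hr.1, hcenInv Q V' Z₁' y hQ E' κ hκ ⟨r, hrZ⟩ hr.2⟩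
      · subst hRQ
        obtain ⟨κ, hκ, hκc⟩ := E'.hcent β hβ
        have h1 := hκc ⟨r, hrZ⟩ r.2 hr.2
        rw [show (⟨((⟨(r : Ω), hrZ⟩ : cen S) : Ω), r.2⟩ : Q) = r from rfl] at h1
        rw [h1]
        exact ⟨hcenInv P V Z₁ x hP E κ hκ ⟨r, hrZ⟩ hr.1, hcenInv Q V' Z₁' y hQ E' κ hκ ⟨r, hrZ⟩ hr.2⟩
  have hbot : Z₁ ⊓ Z₁' = ⊥ := eq_bot_of_isNormal F hcore hnormal
  by_cases hZ₁bot : Z₁ = ⊥
  · have heq : cen S = cen S ⊓ (commutator ↥S).map S.subtype := by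
      apply le_antisymm _ inf_le_left
      intro z hz
      obtain ⟨c, hc, e, he, rfl⟩ := E.hZdec z hz
      rw [hZ₁bot, Subgroup.mem_bot] at hc
      rw [hc, one_mul]
      exact he
    calc Nat.card (cen S) = Nat.card ↥(cen S ⊓ (commutator ↥S).map S.subtype) := by rw [← heq]
      _ = 2 := hZ₀c
  exfalso
  obtain ⟨⟨c₁, hc₁⟩, hc₁1'⟩ := (Subgroup.ne_bot_iff_exists_ne_one).mp hZ₁bot
  have hc₁1 : c₁ ≠ 1 := fun h => hc₁1' (Subtype.ext h)
  have hcommZ : ∀ a ∈ cen S, ∀ b ∈ cen S, a * b = b * a := fun a ha b _ =>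
    (((mem_cen_iff b).mp ‹b ∈ cen S›).2 a (cen_le S ha))
  have huniqP := unique_of_inf_bot hbot E'.hZdec E.hZ₁Z E'.hZ₁Z inf_le_left hcommZ hZ₀c
  have hbot' : Z₁' ⊓ Z₁ = ⊥ := by rw [inf_comm]; exact hbot
  have huniqQ := unique_of_inf_bot hbot' E.hZdec E'.hZ₁Z E.hZ₁Z inf_le_left hcommZ hZ₀c
  -- `Aut_F(S)` centralizes `Z₁` and `Z₁'`
  have hfix_of : ∀ (R V' Z₁'' : Subgroup Ω) (w' : Ω), F.IsEssential 2 R → EssTwo F R V' Z₁'' w' →
      (∀ c ∈ Z₁'', ∀ c' ∈ Z₁'', c ≠ 1 → c' ≠ 1 → c = c') →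
      ∀ κ ∈ cenAut F, ∀ c : cen S, (c : Ω) ∈ Z₁'' → κ c = c := by
    intro R V' Z₁'' w' hR ER huniq κ hκ c hc
    by_cases hc1 : c = 1
    · rw [hc1, map_one]
    · apply Subtype.ext
      apply huniq _ (hcenInv R V' Z₁'' w' hR ER κ hκ c hc) _ hc
      · intro h
        apply hc1
        have h2 : κ c = 1 := Subtype.ext h
        have h3 : κ c = κ 1 := by rw [h2, map_one]
        exact κ.injective h3
      · intro h
        exact hc1 (Subtype.ext h)
  have hfixP := hfix_of P V Z₁ x hP E huniqP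
  have hfixQ := hfix_of Q V' Z₁' y hQ E' huniqQ
  -- the subgroup `T = V' V`
  have hZ₀V : cen S ⊓ (commutator ↥S).map S.subtype ≤ V := E.hZ₀V
  have hconjV : ∀ a ∈ S, ∀ h ∈ V, a * h * a⁻¹ ∈ V := by
    intro a ha h hh
    have e : a * h * a⁻¹ = (a * h * a⁻¹ * h⁻¹) * h := by group
    rw [e]
    exact V.mul_mem (hZ₀V (hcm a ha h (hPS (E.hVP hh)))) hh
  have hLE : V' ≤ Subgroup.normalizer (V : Set Ω) := by
    intro a ha
    have haS : a ∈ S := hQS (E'.hVP ha)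
    rw [Subgroup.mem_normalizer_iff]
    intro h
    constructor
    · exact hconjV a haS h
    · intro hh
      have := hconjV a⁻¹ (S.inv_mem haS) _ hh
      have e : a⁻¹ * (a * h * a⁻¹) * a⁻¹⁻¹ = h := by group
      rw [e] at this
      exact this
  have hK : ⁅S, S⁆ ≤ V' ⊔ V := by
    rw [Subgroup.commutator_le]
    intro a ha b hb
    rw [commutatorElement_def]
    exact le_sup_right (a := V') (hZ₀V (hcm a ha b hb))
  have hdispS : ∀ α ∈ F.autGroup S, ∀ s : S, (s : Ω)⁻¹ * ((α s : S) : Ω) ∈ V' ⊔ V := by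
    intro α hα s
    -- decomposition `s = v c q`
    have hdec : ∃ v ∈ V, ∃ c ∈ Z₁, ∃ q ∈ V', (s : Ω) = v * c * q := by
      by_cases hsP : (s : Ω) ∈ P
      · obtain ⟨v, hv, c, hc, h⟩ := E.hdec s hsP
        exact ⟨v, hv, c, hc, 1, V'.one_mem, by rw [mul_one]; exact h⟩
      · have h1 : (s : Ω) * y ∈ P := by
          have := (Subgroup.mul_mem_iff_of_index_two (hess P hP) (a := s) (b := ⟨y, hQS hyQ⟩)).mpr
            ⟨fun h => absurd (Subgroup.mem_subgroupOf.mp h) hsP, fun h => absurd (Subgroup.mem_subgroupOf.mp h) hyP⟩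
          exact Subgroup.mem_subgroupOf.mp this
        obtain ⟨v, hv, c, hc, h⟩ := E.hdec _ h1
        refine ⟨v, hv, c, hc, y⁻¹, V'.inv_mem E'.hwV, ?_⟩
        rw [← h]
        group
    obtain ⟨v, hv, c, hc, q, hq, hs⟩ := hdec
    have hvS : v ∈ S := hPS (E.hVP hv)
    have hcZ : c ∈ cen S := E.hZ₁Z hc
    have hqS : q ∈ S := hQS (E'.hVP hq)
    have e : s = ⟨v, hvS⟩ * ⟨c, cen_le S hcZ⟩ * ⟨q, hqS⟩ := Subtype.ext hs
    have h1 : ((α ⟨c, cen_le S hcZ⟩ : S) : Ω) = c := by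
      have := hfixP (resZHom α) ⟨α, hα, rfl⟩ ⟨c, hcZ⟩ hc
      exact congrArg Subtype.val this
    have hav := hVInv P V Z₁ x hP E α hα ⟨v, hvS⟩ hv
    have hbq := hVInv Q V' Z₁' y hQ E' α hα ⟨q, hqS⟩ hq
    obtain ⟨a, ha⟩ : ∃ a : Ω, a = ((α ⟨v, hvS⟩ : S) : Ω) := ⟨_, rfl⟩
    obtain ⟨b, hb⟩ : ∃ b : Ω, b = ((α ⟨q, hqS⟩ : S) : Ω) := ⟨_, rfl⟩
    rw [← ha] at hav
    rw [← hb] at hbq
    have e2 : ((α s : S) : Ω) = a * c * b := by
      rw [e, map_mul, map_mul, Subgroup.coe_mul, Subgroup.coe_mul, h1, ha, hb]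
    rw [e2, hs]
    have haS : a ∈ S := hPS (E.hVP hav)
    have hcomm : (v⁻¹ * a) * c = c * (v⁻¹ * a) :=
      ((mem_cen_iff c).mp hcZ).2 _ (S.mul_mem (S.inv_mem hvS) haS)
    have e3 : (v * c * q)⁻¹ * (a * c * b) = q⁻¹ * (v⁻¹ * a) * b := by
      calc (v * c * q)⁻¹ * (a * c * b) = q⁻¹ * c⁻¹ * ((v⁻¹ * a) * c) * b := by group
        _ = q⁻¹ * c⁻¹ * (c * (v⁻¹ * a)) * b := by rw [hcomm]
        _ = q⁻¹ * (v⁻¹ * a) * b := by group
    rw [e3]
    exact (V' ⊔ V).mul_mem ((V' ⊔ V).mul_mem (le_sup_left (a := V') (V'.inv_mem hq))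
      (le_sup_right (a := V') (V.mul_mem (V.inv_mem hv) hav))) (le_sup_left (a := V') hbq)
  have hle := alperin hS F (quotSystem F (V' ⊔ V) hK) hF (by
    intro R hR α hα
    have hRS : R ≤ S := by
      rcases hR with hRS | hR
      · rw [hRS]
      · exact hR.1.1
    rw [mem_autGroup_iff _ hRS]
    unfold IsIso
    rw [mem_quotSystem_hom]
    refine ⟨(mem_autGroup_iff F hRS α).mp hα, fun r => ?_⟩
    show (r : Ω)⁻¹ * ((α r : R) : Ω) ∈ V' ⊔ V
    rcases hR with hRS' | hR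
    · subst hRS'
      exact hdispS α hα r
    · rcases hPQ R hR with hRP | hRQ
      · subst hRP
        exact le_sup_right (a := V') (E.disp_mem hPS hZP hfixP α hα r)
      · subst hRQ
        exact le_sup_left (a := V') (E'.disp_mem hQS hZQ hfixQ α hα r))
  have hfoc : F.focalSubgroup ≤ V' ⊔ V := by
    unfold FusionSystem.focalSubgroup
    rw [Subgroup.closure_le]
    rintro g ⟨R, φ, r, hφ, rfl⟩
    exact ((mem_quotSystem_hom F _ hK φ).mp (hle R hφ)).2 r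
  have hfocS : F.focalSubgroup = S := by
    rw [Cfsg.Agent.S5092.result 2 hS F hF, hhyp, sup_eq_left, Subgroup.commutator_le]
    intro a ha b hb
    rw [commutatorElement_def]
    exact S.mul_mem (S.mul_mem (S.mul_mem ha hb) (S.inv_mem ha)) (S.inv_mem hb)
  rw [hfocS] at hfoc
  have hc₁T : c₁ ∈ V' ⊔ V := hfoc (cen_le S (E.hZ₁Z hc₁))
  have hcoe := Subgroup.coe_mul_of_left_le_normalizer_right V' V hLE
  have hc₁T' : c₁ ∈ ((V' ⊔ V : Subgroup Ω) : Set Ω) := hc₁T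
  rw [hcoe] at hc₁T'
  obtain ⟨a, ha, b, hb, hab⟩ := Set.mem_mul.mp hc₁T'
  have ha' : a ∈ V' := ha
  have hb' : b ∈ V := hb
  have haP : a ∈ P := by
    have : a = c₁ * b⁻¹ := by rw [← hab]; group
    rw [this]
    exact P.mul_mem (hZP (E.hZ₁Z hc₁)) (P.inv_mem (E.hVP hb'))
  have haZ₀ : a ∈ cen S ⊓ (commutator ↥S).map S.subtype := by
    rcases E'.hV a ha' with h | h
    · exact h
    · exfalso
      apply hyP
      exact (P.mul_mem_cancel_left haP).mp (hZP h.1)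
  have hc₁V : c₁ ∈ V := by
    rw [← hab]
    exact V.mul_mem (hZ₀V haZ₀) hb'
  rcases E.hV c₁ hc₁V with h | h
  · exact hc₁1 (E.hZ₁Z₀ c₁ hc₁ h)
  · apply E.hwZ
    exact ((cen S).mul_mem_cancel_left (E.hZ₁Z hc₁)).mp h.1

end Cfsg.Agent.Helper86
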