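-- helper86: the fusion system `F_T(H)` of a subgroup `H` on a Sylow `p`-subgroup `T` of `H` is saturated.
import Cfsg.Agent.S5076
import Cfsg.Agent.Helper87.FusionRS

set_option autoImplicit false

namespace Cfsg.Agent.Helper86

open Cfsg Cfsg.FusionSystem Cfsg.Agent.Helper48 Cfsg.Agent.Helper87

variable {G : Type*} [Group G]

/-- `T` is a Sylow `p`-subgroup of the subgroup `H`, expressed by its order. -/
def IsSylowIn (p : ℕ) (T H : Subgroup G) : Prop :=
  T ≤ H ∧ Nat.card T = p ^ (Nat.card H).factorization p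

theorem conjSub_eq_of_mem_normalizer {g : G} {P : Subgroup G} (hg : g ∈ Subgroup.normalizer (P : Set G)) :
    conjSub g P = P := by
  ext x
  rw [mem_conjSub, Subgroup.mem_normalizer_iff.mp hg (g⁻¹ * x * g)]
  have : g * (g⁻¹ * x * g) * g⁻¹ = x := by group
  rw [this]

theorem conjSub_eq_of_mem {g : G} {H : Subgroup G} (hg : g ∈ H) : conjSub g H = H :=
  conjSub_eq_of_mem_normalizer (Subgroup.le_normalizer hg)

theorem conjSub_inf (g : G) (A B : Subgroup G) : conjSub g (A ⊓ B) = conjSub g A ⊓ conjSub g B :=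
  Subgroup.map_inf A B _ (MulAut.conj g).injective

theorem range_conjHom (P : Subgroup G) (g : G) : (conjHom P g).range = conjSub g P := by
  ext y
  constructor
  · rintro ⟨x, rfl⟩
    exact conj_mem_conjSub x.2
  · rintro ⟨x, hx, rfl⟩
    exact ⟨⟨x, hx⟩, rfl⟩

section sylow

variable [Finite G] {p : ℕ} [Fact p.Prime]

theorem IsSylowIn.isPGroup {T H : Subgroup G} (hT : IsSylowIn p T H) : IsPGroup p T :=
  IsPGroup.of_card hT.2

/-- Every `p`-subgroup of `H` is `H`-conjugate into a Sylow `p`-subgroup `T` of `H`. -/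
theorem IsSylowIn.exists_conj_le {T H : Subgroup G} (hT : IsSylowIn p T H) {Q : Subgroup G} (hQH : Q ≤ H)
    (hQ : IsPGroup p Q) : ∃ h ∈ H, conjSub h Q ≤ T := by
  have hcard' : Nat.card (T.subgroupOf H) = p ^ (Nat.card H).factorization p := by
    rw [← hT.2]
    exact Nat.card_congr (Subgroup.subgroupOfEquivOfLe hT.1).toEquiv
  obtain ⟨h, hh, hle⟩ := exists_conj_le_sylow' (Sylow.ofCard _ hcard') hQH hQ
  refine ⟨h, hh, hle.trans ?_⟩
  show (T.subgroupOf H).map H.subtype ≤ T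
  rw [Subgroup.subgroupOf_map_subtype]
  exact inf_le_left

/-- A `p`-subgroup of `H` of the right order. -/
theorem exists_isSylowIn (p : ℕ) [Fact p.Prime] (H : Subgroup G) : ∃ R : Subgroup G, IsSylowIn p R H := by
  obtain ⟨R⟩ : Nonempty (Sylow p H) := inferInstance
  refine ⟨(R : Subgroup H).map H.subtype, ?_, ?_⟩
  · rintro _ ⟨x, _, rfl⟩
    exact x.2
  · rw [Subgroup.card_map_of_injective (Subgroup.subtype_injective _)]
    exact R.card_eq_multiplicity

/-- A `p`-subgroup of `H` of order at least the `p`-part of `|H|` is a Sylow `p`-subgroup of `H`. -/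
theorem isSylowIn_of_le {T H : Subgroup G} (hTH : T ≤ H) (hT : IsPGroup p T)
    (hle : p ^ (Nat.card H).factorization p ≤ Nat.card T) : IsSylowIn p T H :=
  ⟨hTH, le_antisymm (S5076.card_le_of_isPGroup hT hTH) hle⟩

/-- The intersection of a Sylow `p`-subgroup of `X` with a normal subgroup `N` of `X` is a Sylow `p`-subgroup of `N`. -/
theorem IsSylowIn.inf_normal {S X N : Subgroup G} (hS : IsSylowIn p S X) (hNX : N ≤ X)
    (hnorm : X ≤ Subgroup.normalizer (N : Set G)) : IsSylowIn p (S ⊓ N) N := by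
  obtain ⟨R, hR⟩ := exists_isSylowIn p N
  obtain ⟨x, hxX, hx⟩ := hS.exists_conj_le (hR.1.trans hNX) hR.isPGroup
  apply isSylowIn_of_le inf_le_right (hS.isPGroup.to_le inf_le_left)
  rw [← hR.2, ← card_conjSub x R]
  apply Subgroup.card_le_of_le
  refine le_inf hx ?_
  have h1 : conjSub x R ≤ conjSub x N := Subgroup.map_mono hR.1
  rwa [conjSub_eq_of_mem_normalizer (hnorm hxX)] at h1

theorem isSylowIn_top (S : Sylow p G) : IsSylowIn p (S : Subgroup G) ⊤ := by
  refine ⟨le_top, ?_⟩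
  rw [Subgroup.card_top]
  exact S.card_eq_multiplicity

theorem IsSylowIn.conjSub {T H : Subgroup G} (hT : IsSylowIn p T H) (g : G) :
    IsSylowIn p (conjSub g T) (conjSub g H) :=
  ⟨Subgroup.map_mono hT.1, by rw [card_conjSub, card_conjSub]; exact hT.2⟩

/-- A Sylow `p`-subgroup of `H` is a Sylow `p`-subgroup of every intermediate subgroup. -/
theorem IsSylowIn.of_le {T H K : Subgroup G} (hT : IsSylowIn p T H) (hTK : T ≤ K) (hKH : K ≤ H) :
    IsSylowIn p T K := by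
  apply isSylowIn_of_le hTK hT.isPGroup
  rw [hT.2]
  apply Nat.pow_le_pow_right (Fact.out : p.Prime).pos
  exact (Nat.factorization_le_iff_dvd Nat.card_pos.ne' Nat.card_pos.ne').mpr (Subgroup.card_dvd_of_le hKH) p

end sylow

section saturated

variable [Finite G] {p : ℕ} [Fact p.Prime]

/-- Choice of a good `H`-conjugate: every `P ≤ T` has an `H`-conjugate `Q = gPg⁻¹ ≤ T` with `N_T(Q)` a Sylow
`p`-subgroup of `N_H(Q)`. -/
theorem exists_good_conj_sub {T H : Subgroup G} (hT : IsSylowIn p T H) (P : Subgroup G) (hP : P ≤ T) :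
    ∃ g ∈ H, conjSub g P ≤ T ∧
      IsSylowIn p (T ⊓ Subgroup.normalizer ((conjSub g P : Subgroup G) : Set G))
        (H ⊓ Subgroup.normalizer ((conjSub g P : Subgroup G) : Set G)) := by
  set N := H ⊓ Subgroup.normalizer (P : Set G) with hN
  obtain ⟨R, hR⟩ := exists_isSylowIn p N
  have hPN : P ≤ N := le_inf (hP.trans hT.1) Subgroup.le_normalizer
  have hPR : P ≤ R := by
    obtain ⟨n, hn, hle⟩ := hR.exists_conj_le hPN (hT.isPGroup.to_le hP)
    rwa [conjSub_eq_of_mem_normalizer hn.2] at hle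
  obtain ⟨g, hgH, hg⟩ := hT.exists_conj_le (hR.1.trans inf_le_left) hR.isPGroup
  refine ⟨g, hgH, (Subgroup.map_mono hPR).trans hg, ?_⟩
  have hNg : H ⊓ Subgroup.normalizer ((conjSub g P : Subgroup G) : Set G) = conjSub g N := by
    rw [hN, conjSub_inf, conjSub_eq_of_mem hgH, normalizer_conjSub]
  apply isSylowIn_of_le (inf_le_inf_right _ hT.1) (hT.isPGroup.to_le inf_le_left)
  rw [hNg, card_conjSub, ← hR.2, ← card_conjSub g R]
  apply Subgroup.card_le_of_le
  refine le_inf hg ?_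
  rw [normalizer_conjSub]
  exact Subgroup.map_mono (hR.1.trans inf_le_right)

/-- The homomorphism `N_H(Q) → Aut(Q)`. -/
def normHom (H Q : Subgroup G) : ↥(H ⊓ Subgroup.normalizer (Q : Set G)) →* MulAut Q :=
  Q.normalizerMonoidHom.comp (Subgroup.inclusion inf_le_right)

omit [Finite G] [Fact p.Prime] in
theorem normHom_apply (H Q : Subgroup G) (n : ↥(H ⊓ Subgroup.normalizer (Q : Set G))) (x : Q) :
    ((normHom H Q n x : Q) : G) = n * x * (n : G)⁻¹ := rfl

omit [Finite G] [Fact p.Prime] in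
theorem normHom_mem_autGroup {T H : Subgroup G} (hTH : T ≤ H) {Q : Subgroup G} (hQ : Q ≤ T)
    (n : ↥(H ⊓ Subgroup.normalizer (Q : Set G))) :
    normHom H Q n ∈ (fusionSystemOfSubgroup H T hTH).autGroup Q := by
  apply Subgroup.subset_closure
  exact ⟨hQ, fun x => hQ (normHom H Q n x).2, n, n.2.1, fun x => rfl⟩

/-- The homomorphism `N_H(Q) → Aut_E(Q)`, `E = F_T(H)`. -/
def normToAutSub {T H : Subgroup G} (hTH : T ≤ H) {Q : Subgroup G} (hQ : Q ≤ T) :
    ↥(H ⊓ Subgroup.normalizer (Q : Set G)) →* (fusionSystemOfSubgroup H T hTH).autGroup Q :=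
  (normHom H Q).codRestrict _ (normHom_mem_autGroup hTH hQ)

omit [Finite G] [Fact p.Prime] in
theorem exists_conj_of_mem_autGroup_sub {T H : Subgroup G} (hTH : T ≤ H) {Q : Subgroup G} (hQ : Q ≤ T)
    (α : MulAut Q) (hα : α ∈ (fusionSystemOfSubgroup H T hTH).autGroup Q) :
    ∃ g ∈ H, ∀ x : Q, ((α x : Q) : G) = g * x * g⁻¹ := by
  have h := (mem_autGroup_iff (fusionSystemOfSubgroup H T hTH) hQ α).mp hα
  obtain ⟨-, -, g, hgH, hg⟩ := h
  exact ⟨g, hgH, fun x => hg x⟩

omit [Finite G] [Fact p.Prime] in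
theorem normToAutSub_surjective {T H : Subgroup G} (hTH : T ≤ H) {Q : Subgroup G} (hQ : Q ≤ T) :
    Function.Surjective (normToAutSub hTH hQ) := by
  rintro ⟨α, hα⟩
  obtain ⟨g, hgH, hg⟩ := exists_conj_of_mem_autGroup_sub hTH hQ α hα
  refine ⟨⟨g, hgH, mem_normalizer_of_conj_eq α g hg⟩, ?_⟩
  apply Subtype.ext
  ext x
  rw [hg x]
  rfl

/-- If `N_T(Q)` is a Sylow `p`-subgroup of `N_H(Q)`, then `Q` is fully automized in `F_T(H)`. -/
theorem isFullyAutomized_sub {T H : Subgroup G} (hTH : T ≤ H) {Q : Subgroup G} (hQ : Q ≤ T)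
    (hsyl : IsSylowIn p (T ⊓ Subgroup.normalizer (Q : Set G)) (H ⊓ Subgroup.normalizer (Q : Set G))) :
    (fusionSystemOfSubgroup H T hTH).IsFullyAutomized p Q := by
  refine ⟨hQ, ?_⟩
  set N := H ⊓ Subgroup.normalizer (Q : Set G) with hN
  have hcard' : Nat.card ((T ⊓ Subgroup.normalizer (Q : Set G)).subgroupOf N) =
      p ^ (Nat.card N).factorization p := by
    rw [← hsyl.2]
    exact Nat.card_congr (Subgroup.subgroupOfEquivOfLe hsyl.1).toEquiv
  let R : Sylow p N := Sylow.ofCard _ hcard'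
  refine ⟨R.mapSurjective (normToAutSub_surjective hTH hQ), ?_⟩
  rw [Sylow.coe_mapSurjective]
  ext α
  rw [Subgroup.mem_subgroupOf, mem_autInducedBy_iff]
  constructor
  · rintro ⟨n, hn, rfl⟩
    have hnT : (n : G) ∈ T := by
      have : n ∈ (T ⊓ Subgroup.normalizer (Q : Set G)).subgroupOf N := hn
      rw [Subgroup.mem_subgroupOf] at this
      exact this.1
    exact ⟨n, hnT, fun x => rfl⟩
  · rintro ⟨g, hgT, hg⟩
    have hgN : g ∈ Subgroup.normalizer (Q : Set G) := mem_normalizer_of_conj_eq (α : MulAut Q) g hg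
    refine ⟨⟨g, hTH hgT, hgN⟩, ?_, ?_⟩
    · show (⟨g, hTH hgT, hgN⟩ : N) ∈ (T ⊓ Subgroup.normalizer (Q : Set G)).subgroupOf N
      rw [Subgroup.mem_subgroupOf]
      exact ⟨hgT, hgN⟩
    · apply Subtype.ext
      ext x
      rw [hg x]
      rfl

/-- If `N_T(Q)` is a Sylow `p`-subgroup of `N_H(Q)`, then `Q` is receptive in `F_T(H)`. -/
theorem isReceptive_sub {T H : Subgroup G} (hT : IsSylowIn p T H) {Q : Subgroup G} (hQ : Q ≤ T)
    (hsyl : IsSylowIn p (T ⊓ Subgroup.normalizer (Q : Set G)) (H ⊓ Subgroup.normalizer (Q : Set G))) :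
    (fusionSystemOfSubgroup H T hT.1).IsReceptive Q := by
  refine ⟨hQ, ?_⟩
  intro P φ hφ hrange
  obtain ⟨hPT, hφT, g, hgH, hg⟩ := hφ
  have hTH : T ≤ H := hT.1
  set N := H ⊓ Subgroup.normalizer (Q : Set G) with hN
  -- K: elements of N inducing on Q an automorphism induced by T
  set K : Subgroup G := ((autInducedBy T Q).comap (normHom H Q)).map N.subtype with hK
  have hK_mem : ∀ k, k ∈ K ↔ k ∈ N ∧ ∃ s ∈ T, ∀ y : Q, k * y * k⁻¹ = s * y * s⁻¹ := by
    intro k
    constructor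
    · rintro ⟨n, hn, rfl⟩
      rw [SetLike.mem_coe, Subgroup.mem_comap, mem_autInducedBy_iff] at hn
      obtain ⟨s, hs, hsx⟩ := hn
      exact ⟨n.2, s, hs, fun y => hsx y⟩
    · rintro ⟨hkN, s, hs, hsx⟩
      refine ⟨⟨k, hkN⟩, ?_, rfl⟩
      rw [SetLike.mem_coe, Subgroup.mem_comap, mem_autInducedBy_iff]
      exact ⟨s, hs, fun y => hsx y⟩
  have hKN : K ≤ N := fun k hk => ((hK_mem k).mp hk).1
  have hRK : T ⊓ Subgroup.normalizer (Q : Set G) ≤ K := by
    intro k hk
    exact (hK_mem k).mpr ⟨⟨hTH hk.1, hk.2⟩, k, hk.1, fun y => rfl⟩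
  have hQconj : conjSub g P = Q := by
    rw [← hrange]
    ext y
    constructor
    · rintro ⟨x, hx, rfl⟩
      exact ⟨⟨x, hx⟩, by rw [hg]; rfl⟩
    · rintro ⟨x, rfl⟩
      exact ⟨x, x.2, by rw [hg]; rfl⟩
  have hE_le : extender T P φ ≤ T := by
    intro x hx
    exact ((mem_extender_iff _ _ _ _).mp hx).1
  have hEK : conjSub g (extender T P φ) ≤ K := by
    rintro _ ⟨x, hx, rfl⟩
    obtain ⟨hxT, hxN, h, hhT, hh⟩ := (mem_extender_iff _ _ _ _).mp hx
    rw [hK_mem]
    constructor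
    · refine ⟨H.mul_mem (H.mul_mem hgH (hTH hxT)) (H.inv_mem hgH), ?_⟩
      rw [← hQconj, normalizer_conjSub]
      exact conj_mem_conjSub hxN
    · refine ⟨h, hhT, ?_⟩
      intro y'
      have hy' : (y' : G) ∈ conjSub g P := by rw [hQconj]; exact y'.2
      rw [mem_conjSub] at hy'
      have hxy : x * (g⁻¹ * (y' : G) * g) * x⁻¹ ∈ P := (hxN _).mp hy'
      have h1 := hh ⟨g⁻¹ * (y' : G) * g, hy'⟩ hxy
      rw [hg, hg] at h1
      simp only at h1
      have e1 : g * (g⁻¹ * (y' : G) * g) * g⁻¹ = y' := by group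
      rw [e1] at h1
      rw [← h1]
      show (MulAut.conj g x) * y' * (MulAut.conj g x)⁻¹ = _
      simp only [MulAut.conj_apply]
      group
  have hsylK : IsSylowIn p (T ⊓ Subgroup.normalizer (Q : Set G)) K := hsyl.of_le hRK hKN
  have hEp : IsPGroup p (conjSub g (extender T P φ)) := isPGroup_conjSub (hT.isPGroup.to_le hE_le)
  obtain ⟨k, hkK, hk⟩ := hsylK.exists_conj_le hEK hEp
  obtain ⟨hkN, s, hsT, hs⟩ := (hK_mem k).mp hkK
  have hsN : s ∈ Subgroup.normalizer (Q : Set G) :=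
    mem_normalizer_of_conj_eq (normHom H Q ⟨k, hkN⟩) s (fun y => hs y)
  have hc : ∀ y ∈ Q, (s⁻¹ * k) * y * (s⁻¹ * k)⁻¹ = y := by
    intro y hy
    have h1 := hs ⟨y, hy⟩
    simp only at h1
    have e1 : (s⁻¹ * k) * y * (s⁻¹ * k)⁻¹ = s⁻¹ * (k * y * k⁻¹) * s := by group
    rw [e1, h1]
    group
  have hcE : conjSub (s⁻¹ * k * g) (extender T P φ) ≤ T ⊓ Subgroup.normalizer (Q : Set G) := by
    have h1 : conjSub (s⁻¹ * k * g) (extender T P φ) =
        conjSub s⁻¹ (conjSub k (conjSub g (extender T P φ))) := by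
      rw [conjSub_conjSub, conjSub_conjSub, mul_assoc]
    rw [h1]
    have hsR : s⁻¹ ∈ T ⊓ Subgroup.normalizer (Q : Set G) := Subgroup.inv_mem _ ⟨hsT, hsN⟩
    exact (Subgroup.map_mono hk).trans (conjSub_le_of_mem le_rfl hsR)
  refine ⟨conjHom (extender T P φ) (s⁻¹ * k * g), ⟨hE_le, fun x => ?_, s⁻¹ * k * g, ?_, fun x => rfl⟩, ?_⟩
  · exact (hcE (conj_mem_conjSub x.2)).1
  · exact H.mul_mem (H.mul_mem (H.inv_mem (hTH hsT)) hkN.1) hgH
  · intro x hxP hxN
    show (s⁻¹ * k * g) * x * (s⁻¹ * k * g)⁻¹ = φ ⟨x, hxP⟩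
    have hφQ : φ ⟨x, hxP⟩ ∈ Q := by
      rw [← hrange]
      exact ⟨⟨x, hxP⟩, rfl⟩
    have h1 := hc _ hφQ
    rw [hg] at h1 ⊢
    simp only at h1 ⊢
    rw [← h1]
    group

/-- The fusion system of a subgroup `H` on a Sylow `p`-subgroup `T` of `H` is saturated. -/
theorem fusionSystemOfSubgroup_isSaturated {T H : Subgroup G} (hT : IsSylowIn p T H) :
    (fusionSystemOfSubgroup H T hT.1).IsSaturated p := by
  intro P hP
  obtain ⟨g, hgH, hgT, hsyl⟩ := exists_good_conj_sub hT P hP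
  refine ⟨conjSub g P, ?_, isFullyAutomized_sub hT.1 hgT hsyl, isReceptive_sub hT hgT hsyl⟩
  exact ⟨conjHom P g, ⟨hP, fun x => hgT (conj_mem_conjSub x.2), g, hgH, fun x => rfl⟩, range_conjHom P g⟩

end saturated

end Cfsg.Agent.Helper86
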