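import Cfsg.Agent.Helper86.WEDefs
import Cfsg.Agent.Helper63.Sect4A
import Cfsg.Agent.Helper25.PGroupBasic
import Cfsg.Agent.Helper87.FusionSolv
import Cfsg.Agent.Helper87.FusionSeries

set_option autoImplicit false
set_option linter.style.haveILetI false

/-! # A unique minimal strongly closed subgroup of order at least `p ^ 2` lies in the Frattini subgroup (S5271) -/

namespace Cfsg.Agent.Helper86.WE

open Cfsg Cfsg.FusionSystem Cfsg.Agent.Helper87

variable {Ω : Type*} [Group Ω] {S : Subgroup Ω}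

theorem card_map_subtype {G : Type*} [Group G] (H : Subgroup G) (K : Subgroup H) :
    Nat.card (K.map H.subtype) = Nat.card K :=
  Nat.card_congr (K.equivMapOfInjective H.subtype H.subtype_injective).symm.toEquiv

/-- (F) -/
theorem le_frattini_of_unique_min [Finite S] {p : ℕ} [Fact p.Prime] (hS : IsPGroup p S) (F : FusionSystem S) (k : ℕ)
    (hWE : WEmb p F k) (hkS : p ^ k < Nat.card S) {T : Subgroup Ω} (hT : F.StronglyClosed T)
    (hTk : Nat.card T ≤ p ^ k) (hT2 : p ^ 2 ≤ Nat.card T)
    (huniq : ∀ X : Subgroup Ω, F.StronglyClosed X → X ≠ ⊥ → T ≤ X) : T ≤ (frattini ↥S).map S.subtype := by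
  classical
  have hp : p.Prime := Fact.out
  have hp1 : 1 < p := hp.one_lt
  have hTS : T ≤ S := hT.1
  have hfin : ∀ {Q : Subgroup Ω}, Q ≤ S → Finite Q := fun hQ =>
    Finite.of_injective _ (Subgroup.inclusion_injective hQ)
  have hk2 : 2 ≤ k := by
    have := hT2.trans hTk
    exact (Nat.pow_le_pow_iff_right hp1).mp this
  have hT1 : T ≠ ⊥ := by
    intro h
    rw [h, Subgroup.card_bot] at hT2
    have : 1 < p ^ 2 := Nat.one_lt_pow (by norm_num) hp1
    omega
  -- (i) the dichotomy
  have dich : ∀ Q : Subgroup Ω, Q ≤ S → Nat.card Q = p ^ k → T ≤ Q ∨ Q ⊓ T = ⊥ := by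
    intro Q hQS hQ
    obtain ⟨P, hP, hQP, hQiP⟩ := hWE Q hQS hQ
    by_cases h1 : Q ⊓ P = ⊥
    · by_cases h2 : P = ⊥
      · left
        have h3 : Q ⊔ P = Q := by rw [h2, sup_bot_eq]
        rw [h3] at hQP
        apply huniq Q hQP
        intro h
        rw [h, Subgroup.card_bot] at hQ
        have : 1 < p ^ k := Nat.one_lt_pow (by omega) hp1
        omega
      · right
        have hTP := huniq P hP h2
        rw [eq_bot_iff, ← h1]
        exact inf_le_inf_left Q hTP
    · left
      exact (huniq _ hQiP h1).trans inf_le_left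
  -- a central subgroup of order `p` inside `T`
  have hZ : ∃ Z : Subgroup Ω, Z ≤ T ∧ Nat.card Z = p ∧ S ≤ Subgroup.normalizer (Z : Set Ω) := by
    haveI hTn : (T.subgroupOf S).Normal := normal_subgroupOf_of_stronglyClosed F hT
    have hne : T.subgroupOf S ≠ ⊥ := by
      intro h
      apply hT1
      rw [eq_bot_iff]
      intro x hx
      have : (⟨x, hTS hx⟩ : S) ∈ T.subgroupOf S := Subgroup.mem_subgroupOf.mpr hx
      rw [h, Subgroup.mem_bot] at this
      rw [Subgroup.mem_bot]
      exact congrArg Subtype.val this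
    obtain ⟨z, hzT, hz1, hzc⟩ := Cfsg.Agent.Helper25.exists_mem_center_of_normal_ne_bot hS (T.subgroupOf S) hne
    -- an element of order `p` in `⟨z⟩`
    have hzp : IsPGroup p (Subgroup.zpowers z) := hS.to_subgroup _
    have hznt : Nontrivial (Subgroup.zpowers z) := by
      rw [Subgroup.nontrivial_iff_ne_bot]
      intro h
      exact hz1 (Subgroup.zpowers_eq_bot.mp h)
    have hdvd : p ∣ Nat.card (Subgroup.zpowers z) := by
      obtain ⟨n, hn0, hn⟩ := hzp.nontrivial_iff_card.mp hznt
      rw [hn]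
      exact dvd_pow_self _ (ne_of_gt hn0)
    obtain ⟨c, hc⟩ := exists_prime_orderOf_dvd_card' p hdvd
    have hcz : (c : S) ∈ Subgroup.zpowers z := c.2
    have hcT : ((c : S) : Ω) ∈ T := by
      have : Subgroup.zpowers z ≤ T.subgroupOf S := by
        rw [Subgroup.zpowers_le]
        exact hzT
      exact Subgroup.mem_subgroupOf.mp (this hcz)
    have hcc : (c : S) ∈ Subgroup.center S := by
      have : Subgroup.zpowers z ≤ Subgroup.center S := by
        rw [Subgroup.zpowers_le]
        exact hzc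
      exact this hcz
    have hco : orderOf (((c : S) : Ω)) = p := by
      rw [← hc]
      rw [← Subgroup.orderOf_coe c, ← Subgroup.orderOf_coe (c : S)]
    refine ⟨Subgroup.zpowers (((c : S) : Ω)), ?_, ?_, ?_⟩
    · rw [Subgroup.zpowers_le]
      exact hcT
    · rw [Nat.card_zpowers, hco]
    · intro s hs
      rw [Subgroup.mem_normalizer_iff]
      have hcomm : s * ((c : S) : Ω) = ((c : S) : Ω) * s := by
        have := (Subgroup.mem_center_iff.mp hcc) ⟨s, hs⟩
        exact congrArg Subtype.val this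
      have hpow : ∀ n : ℤ, s * ((c : S) : Ω) ^ n * s⁻¹ = ((c : S) : Ω) ^ n := by
        intro n
        have h1 : Commute s (((c : S) : Ω)) := hcomm
        have h2 : Commute s ((((c : S) : Ω)) ^ n) := h1.zpow_right n
        rw [h2.eq, mul_inv_cancel_right]
      intro h
      constructor
      · rintro ⟨n, rfl⟩
        exact ⟨n, (hpow n).symm⟩
      · rintro ⟨n, hn⟩
        have hn' : ((c : S) : Ω) ^ n = s * h * s⁻¹ := hn
        have h3 : h = s⁻¹ * (((c : S) : Ω) ^ n) * s := by
          rw [hn']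
          group
        have h4 : s⁻¹ * (((c : S) : Ω) ^ n) * s = ((c : S) : Ω) ^ n := by
          have := hpow n
          calc s⁻¹ * (((c : S) : Ω) ^ n) * s = s⁻¹ * (s * ((c : S) : Ω) ^ n * s⁻¹) * s := by rw [this]
            _ = ((c : S) : Ω) ^ n := by group
        rw [h3, h4]
        exact ⟨n, rfl⟩
  obtain ⟨Z, hZT, hZc, hZn⟩ := hZ
  have hZ1 : Z ≠ ⊥ := by
    intro h
    rw [h, Subgroup.card_bot] at hZc
    omega
  -- (ii) every subgroup of order `p ^ k` contains `T`
  have all : ∀ Q : Subgroup Ω, Q ≤ S → Nat.card Q = p ^ k → T ≤ Q := by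
    intro Q hQS hQ
    rcases dich Q hQS hQ with h | h
    · exact h
    exfalso
    haveI := hfin hQS
    have hdvd : p ^ (k - 1) ∣ Nat.card Q := by
      rw [hQ]
      exact pow_dvd_pow p (Nat.sub_le k 1)
    obtain ⟨Y', hY'⟩ := Sylow.exists_subgroup_card_pow_prime p hdvd
    set Y : Subgroup Ω := Y'.map Q.subtype with hYdef
    have hYQ : Y ≤ Q := by
      rintro _ ⟨y, -, rfl⟩
      exact y.2
    have hYc : Nat.card Y = p ^ (k - 1) := by
      rw [hYdef, card_map_subtype, hY']
    have hYS : Y ≤ S := hYQ.trans hQS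
    have hYT : Y ⊓ T = ⊥ := by
      rw [eq_bot_iff, ← h]
      exact inf_le_inf_right T hYQ
    have hYZ : Y ⊓ Z = ⊥ := by
      rw [eq_bot_iff, ← hYT]
      exact inf_le_inf_left Y hZT
    have hcard1 := Cfsg.Agent.Helper63.SR4.card_sup_mul_card_inf Y Z (hYS.trans hZn)
    rw [hYZ, Subgroup.card_bot, mul_one, hYc, hZc] at hcard1
    have hcard1' : Nat.card ↥(Y ⊔ Z) = p ^ k := by
      rw [hcard1, ← pow_succ]
      congr 1
      omega
    have hYZS : Y ⊔ Z ≤ S := sup_le hYS (hZT.trans hTS)
    have hTYZ : T ≤ Y ⊔ Z := by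
      rcases dich (Y ⊔ Z) hYZS hcard1' with h' | h'
      · exact h'
      · exfalso
        apply hZ1
        rw [eq_bot_iff, ← h']
        exact le_inf le_sup_right hZT
    have hTn : S ≤ Subgroup.normalizer (T : Set Ω) := le_normalizer_of_stronglyClosed F hT
    have hcard2 := Cfsg.Agent.Helper63.SR4.card_sup_mul_card_inf Y T (hYS.trans hTn)
    rw [hYT, Subgroup.card_bot, mul_one, hYc] at hcard2
    have hle : Y ⊔ T ≤ Y ⊔ Z := sup_le le_sup_left hTYZ
    haveI := hfin hYZS
    have hcard3 : Nat.card ↥(Y ⊔ T) ≤ Nat.card ↥(Y ⊔ Z) := Subgroup.card_le_of_le hle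
    rw [hcard2, hcard1'] at hcard3
    have h5 : p ^ (k - 1) * p ^ 2 ≤ p ^ (k - 1) * Nat.card T := Nat.mul_le_mul_left _ hT2
    have h6 : p ^ (k - 1) * p ^ 2 = p ^ k * p := by
      rw [← pow_add, ← pow_succ]
      congr 1
      omega
    have h7 : p ^ k * p ≤ p ^ k * 1 := by
      rw [mul_one, ← h6]
      exact h5.trans hcard3
    have h8 : 0 < p ^ k := Nat.pos_of_ne_zero (pow_ne_zero _ hp.ne_zero)
    have := Nat.le_of_mul_le_mul_left h7 h8
    omega
  -- (iii) every maximal subgroup contains `T`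
  intro x hx
  refine ⟨⟨x, hTS hx⟩, ?_, rfl⟩
  unfold frattini Order.radical
  rw [SetLike.mem_coe, Subgroup.mem_iInf]
  intro M
  rw [Subgroup.mem_iInf]
  intro hM
  have hM : IsCoatom M := hM
  obtain ⟨s, hs⟩ := hS.exists_card_eq
  obtain ⟨m, hm⟩ := (hS.to_subgroup M).exists_card_eq
  have hks : k < s := by
    rw [hs] at hkS
    exact (Nat.pow_lt_pow_iff_right hp1).mp hkS
  have hkm : k ≤ m := by
    by_contra hlt
    push_neg at hlt
    have hdvd : p ^ k ∣ Nat.card S := by
      rw [hs]
      exact pow_dvd_pow p hks.le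
    obtain ⟨K, hK, hMK⟩ := Sylow.exists_subgroup_card_pow_prime_le p hdvd M hm hlt.le
    have hKtop : K ≠ ⊤ := by
      intro h
      rw [h, Subgroup.card_top, hs] at hK
      have := (Nat.pow_right_injective hp.two_le) hK
      omega
    have hMK' : M < K := by
      refine lt_of_le_of_ne hMK ?_
      intro h
      rw [← h, hm] at hK
      have := (Nat.pow_right_injective hp.two_le) hK
      omega
    exact hKtop (hM.2 K hMK')
  have hdvd : p ^ k ∣ Nat.card M := by
    rw [hm]
    exact pow_dvd_pow p hkm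
  obtain ⟨K', hK'⟩ := Sylow.exists_subgroup_card_pow_prime p hdvd
  set K : Subgroup Ω := (K'.map M.subtype).map S.subtype with hKdef
  have hKS : K ≤ S := by
    rintro _ ⟨y, -, rfl⟩
    exact y.2
  have hKc : Nat.card K = p ^ k := by
    rw [hKdef, card_map_subtype, card_map_subtype, hK']
  have hTK := all K hKS hKc
  obtain ⟨y, ⟨y', -, rfl⟩, hy⟩ := hTK hx
  have : (⟨x, hTS hx⟩ : S) = (y' : S) := Subtype.ext hy.symm
  rw [this]
  exact y'.2

end Cfsg.Agent.Helper86.WE
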