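import Cfsg.Agent.Helper86.WETate
import Cfsg.Agent.Helper62.WEE
import Cfsg.Agent.Helper86.WEF
import Cfsg.Agent.Helper4.WEC
import Cfsg.Agent.Helper69.WEB
import Cfsg.Agent.Helper31.WED
import Cfsg.Agent.Helper87.FusionSolv
import Cfsg.Agent.Helper87.FusionSolv2

set_option autoImplicit false
set_option linter.style.haveILetI false

/-! # The induction for the weakly embedded nilpotency criterion (S5271) -/

namespace Cfsg.Agent.Helper86.WE

open Cfsg Cfsg.FusionSystem Cfsg.Agent.Helper87 Cfsg.Agent.Helper85 Cfsg.Agent.Helper62.WE Cfsg.Agent.Helper4.WE Cfsg.Agent.Helper69.WE Cfsg.Agent.Helper31.WED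

universe u

/-- A finite `p`-group has order a power of `p`; a subgroup of `S` too. -/
theorem exists_card_eq_pow {Ω : Type*} [Group Ω] {S : Subgroup Ω} [Finite S] {p : ℕ} [Fact p.Prime]
    (hS : IsPGroup p S) {T : Subgroup Ω} (hT : T ≤ S) : ∃ t : ℕ, Nat.card T = p ^ t := by
  have hTp : IsPGroup p T := hS.of_injective (Subgroup.inclusion hT) (Subgroup.inclusion_injective hT)
  have : Finite T := Finite.of_injective _ (Subgroup.inclusion_injective hT)
  exact hTp.exists_card_eq

theorem card_top_factor {Ω : Type*} [Group Ω] {S : Subgroup Ω} [Finite S] {T : Subgroup Ω} (hT : T ≤ S)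
    [(T.subgroupOf S).Normal] :
    Nat.card S = Nat.card (⊤ : Subgroup (S ⧸ T.subgroupOf S)) * Nat.card T := by
  rw [Subgroup.card_top, Subgroup.card_eq_card_quotient_mul_card_subgroup (T.subgroupOf S)]
  congr 1
  exact Nat.card_congr (Subgroup.subgroupOfEquivOfLe hT).toEquiv

/-- **The induction.** -/
theorem inner_of_autP_wEmb (p : ℕ) [Fact p.Prime] : ∀ (n : ℕ) (Ω : Type u) [Group Ω] (S : Subgroup Ω) [Finite S]
    (_ : IsPGroup p S) (F : FusionSystem S) (_ : F.IsSaturated p) (k : ℕ), Nat.card S = n → p ^ k < Nat.card S →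
    AutP p F k → WEmb p F k → ∀ P : Subgroup Ω, F.Hom P = (innerFusionSystem S).Hom P := by
  intro n
  induction n using Nat.strong_induction_on with
  | _ n ih =>
  intro Ω _ S _ hS F hF k hn hkS hA hW
  have hp1 : 1 < p := (Fact.out : p.Prime).one_lt
  have hppos : 0 < p := (Fact.out : p.Prime).pos
  rcases Nat.eq_zero_or_pos k with hk0 | hk1
  · -- all automizers are `p`-groups
    subst hk0
    have hp : ∀ P : Subgroup Ω, P ≤ S → IsPGroup p (F.autGroup P) := by
      intro P hPS
      have : Finite P := Finite.of_injective _ (Subgroup.inclusion_injective hPS)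
      apply hA P hPS
      rw [pow_zero]
      exact Nat.card_pos
    have hfrob := frobenius_inner p hS F hF hp
    intro P
    apply Set.Subset.antisymm
    · intro φ hφ
      obtain ⟨g, hg, hgx⟩ := hfrob P φ hφ
      exact ⟨(F.le_of_mem hφ).1, g, hg, hgx⟩
    · exact inner_hom_subset F P
  -- the key consequence of the induction hypothesis, for every minimal strongly closed subgroup
  have key : ∀ T : Subgroup Ω, MinSC F T → Nat.card T ≤ p ^ k ∧ F.hyperfocalSubgroup p ≤ T ∧
      (T ≤ (frattini ↥S).map S.subtype → F.focalSubgroup ≤ (frattini ↥S).map S.subtype) := by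
    intro T hT
    have hTk : Nat.card T ≤ p ^ k := card_minSC_le hS F k hk1 hW hT
    have hTS : T ≤ S := hT.1.1
    obtain ⟨t, ht⟩ := exists_card_eq_pow hS hTS
    have htk : t ≤ k := by
      rw [ht] at hTk
      exact (Nat.pow_le_pow_iff_right hp1).mp hTk
    have ht1 : 1 < Nat.card T := by
      have : Finite T := Finite.of_injective _ (Subgroup.inclusion_injective hTS)
      rw [Finite.one_lt_card_iff_nontrivial, Subgroup.nontrivial_iff_ne_bot]
      exact hT.2.1
    haveI hTn : (T.subgroupOf S).Normal := normal_subgroupOf_of_stronglyClosed F hT.1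
    obtain ⟨E, hE⟩ := Cfsg.Agent.S5132.result p hS F T hT.1
    have hEsat := isSaturated_factor p hS F hF T hT.1 _ E hE
    have hcard := card_top_factor (S := S) hTS
    have hS'p : IsPGroup p (⊤ : Subgroup (S ⧸ T.subgroupOf S)) :=
      (hS.to_quotient (T.subgroupOf S)).to_subgroup ⊤
    have hlt : Nat.card (⊤ : Subgroup (S ⧸ T.subgroupOf S)) < n := by
      rw [← hn, hcard]
      have hpos : 0 < Nat.card (⊤ : Subgroup (S ⧸ T.subgroupOf S)) := Nat.card_pos
      calc Nat.card (⊤ : Subgroup (S ⧸ T.subgroupOf S))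
          = Nat.card (⊤ : Subgroup (S ⧸ T.subgroupOf S)) * 1 := (mul_one _).symm
        _ < Nat.card (⊤ : Subgroup (S ⧸ T.subgroupOf S)) * Nat.card T := Nat.mul_lt_mul_of_pos_left ht1 hpos
    have hk' : p ^ (k - t) < Nat.card (⊤ : Subgroup (S ⧸ T.subgroupOf S)) := by
      have h1 : p ^ k < Nat.card (⊤ : Subgroup (S ⧸ T.subgroupOf S)) * p ^ t := by
        rw [← ht, ← hcard]
        exact hkS
      have h2 : p ^ k = p ^ (k - t) * p ^ t := by
        rw [← pow_add, Nat.sub_add_cancel htk]
      rw [h2] at h1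
      exact lt_of_mul_lt_mul_right h1 (Nat.zero_le _)
    have hA' := autP_factor hS F hF hT.1 _ E hE k t ht htk hA
    have hW' := wEmb_factor hS F hF hT.1 _ E hE k t ht htk hW
    have hEin := ih _ hlt (S ⧸ T.subgroupOf S) ⊤ hS'p E hEsat (k - t) rfl hk' hA' hW'
    exact ⟨hTk, hyperfocal_le_of_factor_inner hS F hF hT.1 _ E hE hEin,
      focal_le_frattini_of_factor_inner hS F hF hT.1 _ E hE hEin⟩
  by_cases hhyp : F.hyperfocalSubgroup p = ⊥
  · exact inner_of_hyperfocal_eq_bot p hS F hF hhyp
  -- a minimal strongly closed subgroup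
  have hS1 : S ≠ ⊥ := by
    intro h
    have h1 : Nat.card S = 1 := by
      rw [h]
      exact Subgroup.card_bot
    rw [h1] at hkS
    exact absurd hkS (not_lt.mpr (Nat.one_le_pow _ _ hppos))
  obtain ⟨T, hT, -⟩ := exists_minSC_le F (stronglyClosed_self F) hS1
  obtain ⟨hTk, hTh, hTΦ⟩ := key T hT
  -- uniqueness
  have huniq : ∀ X : Subgroup Ω, F.StronglyClosed X → X ≠ ⊥ → T ≤ X := by
    intro X hX hX1
    obtain ⟨T', hT', hT'X⟩ := exists_minSC_le F hX hX1
    have hTh' := (key T' hT').2.1
    have hinf : F.StronglyClosed (T ⊓ T') := Cfsg.Agent.Helper87.stronglyClosed_inf F hT.1 hT'.1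
    rcases hT.2.2 (T ⊓ T') hinf inf_le_left with h | h
    · exfalso
      apply hhyp
      rw [eq_bot_iff, ← h]
      exact le_inf hTh hTh'
    · exact (inf_eq_left.mp h).trans hT'X
  have hTS : T ≤ S := hT.1.1
  obtain ⟨t, ht⟩ := exists_card_eq_pow hS hTS
  have ht0 : t ≠ 0 := by
    rintro rfl
    rw [pow_zero] at ht
    have : Finite T := Finite.of_injective _ (Subgroup.inclusion_injective hTS)
    exact hT.2.1 (Subgroup.card_eq_one.mp ht)
  rcases Nat.lt_or_ge t 2 with ht2 | ht2
  · have ht1 : t = 1 := by omega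
    rw [ht1, pow_one] at ht
    apply inner_of_card_eq_prime hS F hF hT.1 ht hTh
    exact hA S le_rfl hkS.le
  · have hT2 : p ^ 2 ≤ Nat.card T := by
      rw [ht]
      exact Nat.pow_le_pow_right hppos ht2
    have hΦ := le_frattini_of_unique_min hS F k hW hkS hT.1 hTk hT2 huniq
    exact inner_of_focal_le_frattini p hS F hF (hTΦ hΦ)

end Cfsg.Agent.Helper86.WE
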