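import Cfsg.Agent.Helper88.FrattiniInner
import Cfsg.Agent.Helper86.WEDefs

set_option autoImplicit false
set_option linter.style.haveILetI false

/-! # Tate's theorem in the form: focal subgroup inside the Frattini subgroup forces the inner system -/

namespace Cfsg.Agent.Helper86.WE

open Cfsg Cfsg.FusionSystem Cfsg.Agent.Helper87 Cfsg.Agent.Helper85 Cfsg.Agent.Helper88.Biset
  Cfsg.Agent.Helper88.ParkTate Cfsg.Agent.Helper88.FrattiniInner

variable {Ω : Type*} [Group Ω] {S : Subgroup Ω}

/-- A saturated fusion system with trivial hyperfocal subgroup is inner. -/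
theorem inner_of_hyperfocal_eq_bot [Finite S] (p : ℕ) [Fact p.Prime] (hS : IsPGroup p S) (F : FusionSystem S)
    (hF : F.IsSaturated p) (h2 : F.hyperfocalSubgroup p = ⊥) :
    ∀ P : Subgroup Ω, F.Hom P = (innerFusionSystem S).Hom P := by
  classical
  have hp : ∀ P : Subgroup Ω, P ≤ S → IsPGroup p (F.autGroup P) := by
    intro P hPS
    have : Finite (MulAut P) := finite_mulAut_of_le hPS
    have hres : pResidual p (F.autGroup P) = ⊥ := by
      rw [eq_bot_iff]
      intro α hα
      rw [Subgroup.mem_bot]
      apply Subtype.ext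
      ext x
      have h3 : (x : Ω)⁻¹ * (((α : MulAut P) x : P) : Ω) ∈ F.hyperfocalSubgroup p :=
        Subgroup.subset_closure ⟨P, α, x, hPS, hα, rfl⟩
      rw [h2, Subgroup.mem_bot, inv_mul_eq_one] at h3
      exact h3.symm
    intro α
    obtain ⟨k, hk⟩ := Cfsg.Agent.Lib.isPGroup_quotient_pResidual (G := F.autGroup P) p (QuotientGroup.mk α)
    refine ⟨k, ?_⟩
    rw [← QuotientGroup.mk_pow, QuotientGroup.eq_one_iff, hres, Subgroup.mem_bot] at hk
    exact hk
  have hfrob := frobenius_inner p hS F hF hp
  intro P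
  apply Set.Subset.antisymm
  · intro φ hφ
    obtain ⟨g, hg, hgx⟩ := hfrob P φ hφ
    exact ⟨(F.le_of_mem hφ).1, g, hg, hgx⟩
  · exact inner_hom_subset F P

/-- **Tate's theorem.** A saturated fusion system whose focal subgroup lies in the Frattini subgroup is inner. -/
theorem inner_of_focal_le_frattini [Finite S] (p : ℕ) [Fact p.Prime] (hS : IsPGroup p S) (F : FusionSystem S)
    (hF : F.IsSaturated p) (hfocF : F.focalSubgroup ≤ (frattini ↥S).map S.subtype) :
    ∀ P : Subgroup Ω, F.Hom P = (innerFusionSystem S).Hom P := by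
  have hHs : (innerFusionSystem S).IsSaturated p := Cfsg.Agent.Helper88.FS.inner_isSaturated hS
  have hHF : (innerFusionSystem S).IsSubsystemOf F := fun P => inner_hom_subset F P
  have hfocH : (innerFusionSystem S).focalSubgroup ≤ (frattini ↥S).map S.subtype :=
    (focalSubgroup_mono (innerFusionSystem S) F hHF).trans hfocF
  have hT := Cfsg.Agent.S5224.result p hS F hF (innerFusionSystem S) hHs hHF
  have h1 : F.focalSubgroup = (innerFusionSystem S).focalSubgroup := by
    apply hT.1.mp
    rw [sup_eq_left.mpr hfocF, sup_eq_left.mpr hfocH]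
  have h2 : F.hyperfocalSubgroup p = ⊥ := by
    rw [hT.2.mp h1, hyperfocal_inner hS]
  exact inner_of_hyperfocal_eq_bot p hS F hF h2

end Cfsg.Agent.Helper86.WE
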